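import Mathlib
import Cfsg.Agent.Lib.Helper39.OoDefs

/-! # S2547 hive, leaf OO-ROOTA: long root elements are isometries (helper85) -/

set_option autoImplicit false

namespace Cfsg.Agent.Lib.Helper39.OoBN

open Matrix Cfsg

variable {F : Type*} [Field F] {m : ℕ}

/-- the long root matrix -/
def roota_M (k k' : Fin m) (t : F) : Matrix (Idx m) (Idx m) F :=
  1 + t • Matrix.single (xi k) (xi k') (1 : F) - t • Matrix.single (yi k') (yi k) (1 : F)

theorem roota_mulVec (k k' : Fin m) (t : F) (v : Idx m → F) (a : Idx m) :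
    (roota_M k k' t *ᵥ v) a =
      v a + (if a = xi k then t * v (xi k') else 0) - (if a = yi k' then t * v (yi k) else 0) := by
  unfold roota_M
  rw [Matrix.sub_mulVec, Matrix.add_mulVec, Matrix.one_mulVec, Matrix.smul_mulVec, Matrix.smul_mulVec,
    Matrix.single_mulVec, Matrix.single_mulVec]
  simp only [Pi.sub_apply, Pi.add_apply, Pi.smul_apply, Function.update_apply, Pi.zero_apply, smul_eq_mul,
    one_mul, mul_ite, mul_zero]

theorem roota_sum (f g : Fin m → F) (k k' : Fin m) (hkk : k ≠ k') (b d : F) :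
    ∑ i, (f i + if i = k then b else 0) * (g i - if i = k' then d else 0) =
      ∑ i, f i * g i + b * g k - f k' * d := by
  have h : ∀ i, (f i + if i = k then b else 0) * (g i - if i = k' then d else 0) =
      f i * g i + (if i = k then b * g i else 0) - (if i = k' then f i * d else 0) := by
    intro i
    by_cases h1 : i = k
    · subst h1
      rw [if_pos rfl, if_neg hkk, if_pos rfl, if_neg hkk]; ring
    · by_cases h2 : i = k'
      · subst h2
        rw [if_neg h1, if_pos rfl, if_neg h1, if_pos rfl]; ring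
      · rw [if_neg h1, if_neg h2, if_neg h1, if_neg h2]; ring
  simp only [h, Finset.sum_add_distrib, Finset.sum_sub_distrib, Finset.sum_ite_eq', Finset.mem_univ, if_true]

theorem roota_isom (k k' : Fin m) (hkk : k ≠ k') (t : F) (v : Idx m → F) :
    Cfsg.quadFormOdd m F (roota_M k k' t *ᵥ v) = Cfsg.quadFormOdd m F v := by
  unfold Cfsg.quadFormOdd
  simp only [roota_mulVec]
  have e1 : ∀ i : Fin m, ((Sum.inr (Sum.inl i) : Idx m) = xi k) = (i = k) := by
    intro i; simp [xi]
  have e2 : ∀ i : Fin m, ((Sum.inr (Sum.inl i) : Idx m) = yi k') = False := by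
    intro i; simp [yi]
  have e3 : ∀ i : Fin m, ((Sum.inr (Sum.inr i) : Idx m) = xi k) = False := by
    intro i; simp [xi]
  have e4 : ∀ i : Fin m, ((Sum.inr (Sum.inr i) : Idx m) = yi k') = (i = k') := by
    intro i; simp [yi]
  have e5 : ((Sum.inl () : Idx m) = xi k) = False := by simp [xi]
  have e6 : ((Sum.inl () : Idx m) = yi k') = False := by simp [yi]
  simp only [e1, e2, e3, e4, e5, e6, if_false, add_zero, sub_zero]
  rw [roota_sum _ _ k k' hkk]
  show _ = v (Sum.inl ()) ^ 2 + ∑ i, v (xi i) * v (yi i)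
  show v (Sum.inl ()) ^ 2 + (∑ i, v (xi i) * v (yi i) + t * v (xi k') * v (yi k) - v (xi k') * (t * v (yi k))) = _
  ring

theorem roota_mul_neg (k k' : Fin m) (hkk : k ≠ k') (t : F) :
    roota_M k k' t * roota_M k k' (-t) = 1 := by
  have h1 : (xi k' : Idx m) ≠ xi k := by
    simp only [xi, ne_eq, Sum.inr.injEq, Sum.inl.injEq]; exact fun h => hkk h.symm
  have h2 : (xi k' : Idx m) ≠ yi k' := by simp [xi, yi]
  have h3 : (yi k : Idx m) ≠ xi k := by simp [xi, yi]
  have h4 : (yi k : Idx m) ≠ yi k' := by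
    simp only [yi, ne_eq, Sum.inr.injEq]; exact hkk
  have hN : (t • Matrix.single (xi k) (xi k') (1 : F) - t • Matrix.single (yi k') (yi k) (1 : F)) *
      (t • Matrix.single (xi k) (xi k') (1 : F) - t • Matrix.single (yi k') (yi k) (1 : F)) = 0 := by
    simp [sub_mul, mul_sub, h1, h2, h3, h4]
  have e1 : roota_M k k' t =
      1 + (t • Matrix.single (xi k) (xi k') (1 : F) - t • Matrix.single (yi k') (yi k) (1 : F)) := by
    unfold roota_M; abel
  have e2 : roota_M k k' (-t) =
      1 - (t • Matrix.single (xi k) (xi k') (1 : F) - t • Matrix.single (yi k') (yi k) (1 : F)) := by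
    unfold roota_M; rw [neg_smul, neg_smul]; abel
  rw [e1, e2]
  generalize (t • Matrix.single (xi k) (xi k') (1 : F) - t • Matrix.single (yi k') (yi k) (1 : F)) = N at hN ⊢
  rw [add_mul, mul_sub, mul_sub, hN, one_mul, mul_one, one_mul, sub_zero]
  abel

/-- LEAF ROOTA: long root elements are isometries. -/
theorem exists_xA (k k' : Fin m) (hkk : k ≠ k') (t : F) :
    ∃ g : OG F m, mat g = 1 + t • Matrix.single (xi k) (xi k') (1 : F)
      - t • Matrix.single (yi k') (yi k) (1 : F) := by
  refine ⟨mkOG (roota_M k k' t) (roota_M k k' (-t)) (roota_mul_neg k k' hkk t) ?_ (roota_isom k k' hkk t), rfl⟩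
  have := roota_mul_neg k k' hkk (-t)
  rwa [neg_neg] at this

end Cfsg.Agent.Lib.Helper39.OoBN
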