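import Mathlib
import Cfsg.Agent.Lib.Helper39.OoDefs

/-! # S2547 hive, leaf OO-ROOTB: short root elements are isometries (helper85) -/

set_option autoImplicit false

namespace Cfsg.Agent.Lib.Helper39.OoBN

open Matrix Cfsg

variable {F : Type*} [Field F] {m : ℕ}

/-- the general short root matrix, for a pair of opposite indices `a ≠ b` (both `≠ e0`) -/
def rootb_M (a b : Idx m) (t : F) : Matrix (Idx m) (Idx m) F :=
  1 + (2 * t) • Matrix.single a e0 (1 : F) - t • Matrix.single e0 b (1 : F)
    - (t ^ 2) • Matrix.single a b (1 : F)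

theorem rootb_mulVec (a b : Idx m) (t : F) (v : Idx m → F) (c : Idx m) :
    (rootb_M a b t *ᵥ v) c =
      v c + (if c = a then 2 * t * v e0 else 0) - (if c = e0 then t * v b else 0)
        - (if c = a then t ^ 2 * v b else 0) := by
  unfold rootb_M
  rw [Matrix.sub_mulVec, Matrix.sub_mulVec, Matrix.add_mulVec, Matrix.one_mulVec, Matrix.smul_mulVec,
    Matrix.smul_mulVec, Matrix.smul_mulVec, Matrix.single_mulVec, Matrix.single_mulVec, Matrix.single_mulVec]
  simp only [Pi.sub_apply, Pi.add_apply, Pi.smul_apply, Function.update_apply, Pi.zero_apply, smul_eq_mul,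
    one_mul, mul_ite, mul_zero]

theorem rootb_mul_neg (a b : Idx m) (ha : a ≠ e0) (hb : b ≠ e0) (hab : a ≠ b) (t : F) :
    rootb_M a b t * rootb_M a b (-t) = 1 := by
  have ha' : (e0 : Idx m) ≠ a := fun h => ha h.symm
  have hb' : (e0 : Idx m) ≠ b := fun h => hb h.symm
  have hba : b ≠ a := fun h => hab h.symm
  have hN : ((2 * t) • Matrix.single a e0 (1 : F) - t • Matrix.single e0 b (1 : F)) *
      ((2 * t) • Matrix.single a e0 (1 : F) - t • Matrix.single e0 b (1 : F)) =
      -((2 * t ^ 2) • Matrix.single a b (1 : F)) := by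
    simp [sub_mul, mul_sub, ha', hb, hba]
    ring_nf
  have hNE : ((2 * t) • Matrix.single a e0 (1 : F) - t • Matrix.single e0 b (1 : F)) *
      Matrix.single a b (1 : F) = 0 := by
    simp [sub_mul, ha', hba]
  have hEN : Matrix.single a b (1 : F) *
      ((2 * t) • Matrix.single a e0 (1 : F) - t • Matrix.single e0 b (1 : F)) = 0 := by
    simp [mul_sub, hba, hb]
  have hEE : Matrix.single a b (1 : F) * Matrix.single a b (1 : F) = 0 := by
    simp [hba]
  have e1 : rootb_M a b t =
      1 + ((2 * t) • Matrix.single a e0 (1 : F) - t • Matrix.single e0 b (1 : F))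
        - (t ^ 2) • Matrix.single a b (1 : F) := by
    unfold rootb_M; abel
  have e2 : rootb_M a b (-t) =
      1 - ((2 * t) • Matrix.single a e0 (1 : F) - t • Matrix.single e0 b (1 : F))
        - (t ^ 2) • Matrix.single a b (1 : F) := by
    unfold rootb_M
    rw [mul_neg, neg_smul, neg_smul, neg_sq]; abel
  rw [e1, e2]
  generalize ((2 * t) • Matrix.single a e0 (1 : F) - t • Matrix.single e0 b (1 : F)) = N at hN hNE hEN ⊢
  generalize Matrix.single a b (1 : F) = E at hN hNE hEN hEE ⊢
  simp only [add_mul, sub_mul, mul_sub, one_mul, mul_one, Matrix.smul_mul, Matrix.mul_smul, hN, hNE,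
    hEN, hEE, smul_zero, sub_zero]
  module

theorem rootb_sum (f g : Fin m → F) (k : Fin m) (b : F) :
    ∑ i, (f i + if i = k then b else 0) * g i = ∑ i, f i * g i + b * g k := by
  have h : ∀ i, (f i + if i = k then b else 0) * g i = f i * g i + (if i = k then b * g i else 0) := by
    intro i
    by_cases h1 : i = k
    · subst h1
      rw [if_pos rfl, if_pos rfl]; ring
    · rw [if_neg h1, if_neg h1]; ring
  simp only [h, Finset.sum_add_distrib, Finset.sum_ite_eq', Finset.mem_univ, if_true]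

theorem rootb_sum' (f g : Fin m → F) (k : Fin m) (b : F) :
    ∑ i, f i * (g i + if i = k then b else 0) = ∑ i, f i * g i + f k * b := by
  have h : ∀ i, f i * (g i + if i = k then b else 0) = f i * g i + (if i = k then f i * b else 0) := by
    intro i
    by_cases h1 : i = k
    · subst h1
      rw [if_pos rfl, if_pos rfl]; ring
    · rw [if_neg h1, if_neg h1]; ring
  simp only [h, Finset.sum_add_distrib, Finset.sum_ite_eq', Finset.mem_univ, if_true]

theorem rootb_isom_x (k : Fin m) (t : F) (v : Idx m → F) :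
    Cfsg.quadFormOdd m F (rootb_M (xi k) (yi k) t *ᵥ v) = Cfsg.quadFormOdd m F v := by
  unfold Cfsg.quadFormOdd
  simp only [rootb_mulVec]
  have e1 : ∀ i : Fin m, ((Sum.inr (Sum.inl i) : Idx m) = xi k) = (i = k) := by
    intro i; simp [xi]
  have e2 : ∀ i : Fin m, ((Sum.inr (Sum.inl i) : Idx m) = e0) = False := by
    intro i; simp [e0]
  have e3 : ∀ i : Fin m, ((Sum.inr (Sum.inr i) : Idx m) = xi k) = False := by
    intro i; simp [xi]
  have e4 : ∀ i : Fin m, ((Sum.inr (Sum.inr i) : Idx m) = e0) = False := by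
    intro i; simp [e0]
  have e5 : ((Sum.inl () : Idx m) = xi k) = False := by simp [xi]
  have e6 : ((Sum.inl () : Idx m) = e0) = True := by simp [e0]
  simp only [e1, e2, e3, e4, e5, e6, if_false, if_true, add_zero, sub_zero]
  have e7 : ∀ i : Fin m, (v (Sum.inr (Sum.inl i)) + (if i = k then 2 * t * v e0 else 0) -
      if i = k then t ^ 2 * v (yi k) else 0) =
      v (Sum.inr (Sum.inl i)) + (if i = k then 2 * t * v e0 - t ^ 2 * v (yi k) else 0) := by
    intro i
    by_cases h : i = k
    · rw [if_pos h, if_pos h, if_pos h]; ring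
    · rw [if_neg h, if_neg h, if_neg h]; ring
  simp only [e7]
  rw [rootb_sum]
  show (v e0 - t * v (yi k)) ^ 2 + (∑ i, v (xi i) * v (yi i) + (2 * t * v e0 - t ^ 2 * v (yi k)) * v (yi k)) =
    v e0 ^ 2 + ∑ i, v (xi i) * v (yi i)
  ring

theorem rootb_isom_y (k : Fin m) (t : F) (v : Idx m → F) :
    Cfsg.quadFormOdd m F (rootb_M (yi k) (xi k) t *ᵥ v) = Cfsg.quadFormOdd m F v := by
  unfold Cfsg.quadFormOdd
  simp only [rootb_mulVec]
  have e1 : ∀ i : Fin m, ((Sum.inr (Sum.inr i) : Idx m) = yi k) = (i = k) := by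
    intro i; simp [yi]
  have e2 : ∀ i : Fin m, ((Sum.inr (Sum.inl i) : Idx m) = e0) = False := by
    intro i; simp [e0]
  have e3 : ∀ i : Fin m, ((Sum.inr (Sum.inl i) : Idx m) = yi k) = False := by
    intro i; simp [yi]
  have e4 : ∀ i : Fin m, ((Sum.inr (Sum.inr i) : Idx m) = e0) = False := by
    intro i; simp [e0]
  have e5 : ((Sum.inl () : Idx m) = yi k) = False := by simp [yi]
  have e6 : ((Sum.inl () : Idx m) = e0) = True := by simp [e0]
  simp only [e1, e2, e3, e4, e5, e6, if_false, if_true, add_zero, sub_zero]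
  have e7 : ∀ i : Fin m, (v (Sum.inr (Sum.inr i)) + (if i = k then 2 * t * v e0 else 0) -
      if i = k then t ^ 2 * v (xi k) else 0) =
      v (Sum.inr (Sum.inr i)) + (if i = k then 2 * t * v e0 - t ^ 2 * v (xi k) else 0) := by
    intro i
    by_cases h : i = k
    · rw [if_pos h, if_pos h, if_pos h]; ring
    · rw [if_neg h, if_neg h, if_neg h]; ring
  simp only [e7]
  rw [rootb_sum']
  show (v e0 - t * v (xi k)) ^ 2 + (∑ i, v (xi i) * v (yi i) + v (xi k) * (2 * t * v e0 - t ^ 2 * v (xi k))) =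
    v e0 ^ 2 + ∑ i, v (xi i) * v (yi i)
  ring

/-- LEAF ROOTB: short root elements are isometries. -/
theorem exists_xB (k : Fin m) (t : F) :
    ∃ g : OG F m, mat g = 1 + (2 * t) • Matrix.single (xi k) e0 (1 : F)
      - t • Matrix.single e0 (yi k) (1 : F) - (t ^ 2) • Matrix.single (xi k) (yi k) (1 : F) := by
  have ha : (xi k : Idx m) ≠ e0 := by simp [xi, e0]
  have hb : (yi k : Idx m) ≠ e0 := by simp [yi, e0]
  have hab : (xi k : Idx m) ≠ yi k := by simp [xi, yi]
  refine ⟨mkOG (rootb_M (xi k) (yi k) t) (rootb_M (xi k) (yi k) (-t)) (rootb_mul_neg _ _ ha hb hab t) ?_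
    (rootb_isom_x k t), rfl⟩
  have := rootb_mul_neg (xi k) (yi k) ha hb hab (-t)
  rwa [neg_neg] at this

theorem exists_xBm (k : Fin m) (t : F) :
    ∃ g : OG F m, mat g = 1 + (2 * t) • Matrix.single (yi k) e0 (1 : F)
      - t • Matrix.single e0 (xi k) (1 : F) - (t ^ 2) • Matrix.single (yi k) (xi k) (1 : F) := by
  have ha : (xi k : Idx m) ≠ e0 := by simp [xi, e0]
  have hb : (yi k : Idx m) ≠ e0 := by simp [yi, e0]
  have hab : (yi k : Idx m) ≠ xi k := by simp [xi, yi]
  refine ⟨mkOG (rootb_M (yi k) (xi k) t) (rootb_M (yi k) (xi k) (-t)) (rootb_mul_neg _ _ hb ha hab t) ?_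
    (rootb_isom_y k t), rfl⟩
  have := rootb_mul_neg (yi k) (xi k) hb ha hab (-t)
  rwa [neg_neg] at this

end Cfsg.Agent.Lib.Helper39.OoBN
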