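import Cfsg.Agent.Lib.Helper37.D4O8Defs

/-! # Do hive (helper37, S1082), sub-hive Do-RED (helper13 skeleton), leaf DO-RED-S1B `red_s1b`. -/

set_option autoImplicit false
set_option linter.unusedSectionVars false
set_option linter.unusedVariables false

namespace Cfsg.Agent.Lib.Helper37.D4O8

open Matrix Module QuadraticMap
open Cfsg.Agent.Lib.Helper8 Cfsg.Agent.Lib.Helper13 Cfsg.Agent.Lib.Helper37

variable {F : Type*} [Field F]

/-- a singular vector with `cb1 ≠ 0` is moved to `cb1 • f₁` by six root elements fixing `e₁`. -/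
theorem s1b_kill (w : I8 → F) (hQ : Q8 F w = 0) (hb : cb1 w ≠ 0) :
    act (Q8 F) (X 20 (ca4 w / cb1 w) * X 22 (ca3 w / cb1 w) * X 23 (ca2 w / cb1 w) *
      X 21 (cb4 w / cb1 w) * X 19 (-(cb3 w / cb1 w)) * X 18 (cb2 w / cb1 w)) w =
      mk8 0 0 0 0 (cb1 w) 0 0 0 := by
  rw [Q8_apply] at hQ
  simp only [act_mul, act_X18, act_X19, act_X21, act_X23, act_X22, act_X20, ca1_mk8, ca2_mk8, ca3_mk8,
    ca4_mk8, cb1_mk8, cb2_mk8, cb3_mk8, cb4_mk8]
  apply ext8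
  · simp only [ca1_mk8]; field_simp; linear_combination hQ
  · simp only [ca2_mk8]; field_simp; ring
  · simp only [ca3_mk8]; field_simp; ring
  · simp only [ca4_mk8]; field_simp; ring
  · simp only [cb1_mk8]
  · simp only [cb2_mk8]; field_simp; ring
  · simp only [cb3_mk8]; field_simp; ring
  · simp only [cb4_mk8]; field_simp; ring

/-- the six root elements fix `e₁`. -/
theorem s1b_fix (a b c d e f : F) :
    act (Q8 F) (X 20 a * X 22 b * X 23 c * X 21 d * X 19 e * X 18 f) ve1 = ve1 := by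
  simp only [act_mul, act_X18, act_X19, act_X21, act_X23, act_X22, act_X20, ca1_mk8, ca2_mk8, ca3_mk8,
    ca4_mk8, cb1_mk8, cb2_mk8, cb3_mk8, cb4_mk8, ve1]
  apply ext8 <;> simp

/-- DO-RED-S1B. -/
theorem red_s1b (g : OG F) (c1 : F) (hc1 : c1 ≠ 0) (h1 : act (Q8 F) g ve1 = c1 • ve1) :
    ∃ h ∈ EE F, act (Q8 F) (h * g) ve1 = c1 • ve1 ∧ act (Q8 F) (h * g) vf1 = c1⁻¹ • vf1 := by
  set w := act (Q8 F) g vf1 with hw
  have hQ : Q8 F w = 0 := by
    rw [hw, Q_act, Q8_apply]; simp [vf1]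
  have hb1 : c1 * cb1 w = 1 := by
    have hp := polar_act (Q8 F) g ve1 vf1
    rw [h1, polar_Q8, polar_Q8, ← hw] at hp
    simpa [ve1, vf1] using hp
  have hb : cb1 w ≠ 0 := by
    intro h0
    rw [h0, mul_zero] at hb1
    exact zero_ne_one hb1
  have hb1' : cb1 w = c1⁻¹ := eq_inv_of_mul_eq_one_right hb1
  refine ⟨X 20 (ca4 w / cb1 w) * X 22 (ca3 w / cb1 w) * X 23 (ca2 w / cb1 w) *
      X 21 (cb4 w / cb1 w) * X 19 (-(cb3 w / cb1 w)) * X 18 (cb2 w / cb1 w), ?_, ?_, ?_⟩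
  · exact mul_mem (mul_mem (mul_mem (mul_mem (mul_mem (X_mem_EE _ _) (X_mem_EE _ _)) (X_mem_EE _ _))
      (X_mem_EE _ _)) (X_mem_EE _ _)) (X_mem_EE _ _)
  · rw [act_mul, h1, act_smul, s1b_fix]
  · rw [act_mul, ← hw, s1b_kill w hQ hb, hb1']
    apply ext8 <;> simp [vf1]

end Cfsg.Agent.Lib.Helper37.D4O8
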