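import Cfsg.Agent.Lib.Helper37.D4O8Defs

/-! # Do hive (helper37, S1082), sub-hive Do-RED (helper13 skeleton), leaf DO-RED-S3B `red_s3b`. -/

set_option autoImplicit false
set_option linter.unusedSectionVars false
set_option linter.unusedVariables false

namespace Cfsg.Agent.Lib.Helper37.D4O8

open Matrix Module QuadraticMap
open Cfsg.Agent.Lib.Helper8 Cfsg.Agent.Lib.Helper13 Cfsg.Agent.Lib.Helper37

variable {F : Type*} [Field F]

/-- a singular vector supported on the indices 3, 4 with `cb3 ≠ 0` is moved to `cb3 • f₃` by `X 12 * X 13`. -/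
theorem s3b_kill (w : I8 → F) (hQ : Q8 F w = 0) (ha1 : ca1 w = 0) (ha2 : ca2 w = 0) (hb1 : cb1 w = 0)
    (hb2 : cb2 w = 0) (hb : cb3 w ≠ 0) :
    act (Q8 F) (X 12 (ca4 w / cb3 w) * X 13 (cb4 w / cb3 w)) w = mk8 0 0 0 0 0 0 (cb3 w) 0 := by
  rw [Q8_apply, ha1, ha2, hb1, hb2] at hQ
  simp only [act_mul, act_X12, act_X13, ca1_mk8, ca2_mk8, ca3_mk8, ca4_mk8, cb1_mk8, cb2_mk8, cb3_mk8,
    cb4_mk8]
  apply ext8
  · simp only [ca1_mk8]; exact ha1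
  · simp only [ca2_mk8]; exact ha2
  · simp only [ca3_mk8]; field_simp; linear_combination hQ
  · simp only [ca4_mk8]; field_simp; ring
  · simp only [cb1_mk8]; exact hb1
  · simp only [cb2_mk8]; exact hb2
  · simp only [cb3_mk8]
  · simp only [cb4_mk8]; field_simp; ring

/-- `X 12 * X 13` fixes `e₁, f₁, e₂, f₂, e₃`. -/
theorem s3b_fix (a b : F) :
    act (Q8 F) (X 12 a * X 13 b) ve1 = ve1 ∧ act (Q8 F) (X 12 a * X 13 b) vf1 = vf1 ∧
      act (Q8 F) (X 12 a * X 13 b) ve2 = ve2 ∧ act (Q8 F) (X 12 a * X 13 b) vf2 = vf2 ∧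
      act (Q8 F) (X 12 a * X 13 b) ve3 = ve3 := by
  refine ⟨?_, ?_, ?_, ?_, ?_⟩ <;>
  · simp only [act_mul, act_X12, act_X13, ca1_mk8, ca2_mk8, ca3_mk8, ca4_mk8, cb1_mk8, cb2_mk8, cb3_mk8,
      cb4_mk8, ve1, vf1, ve2, vf2, ve3]
    apply ext8 <;> simp

/-- DO-RED-S3B. -/
theorem red_s3b (g : OG F) (c1 c2 c3 : F) (hc1 : c1 ≠ 0) (hc2 : c2 ≠ 0) (hc3 : c3 ≠ 0)
    (h1 : act (Q8 F) g ve1 = c1 • ve1) (h1' : act (Q8 F) g vf1 = c1⁻¹ • vf1)
    (h2 : act (Q8 F) g ve2 = c2 • ve2) (h2' : act (Q8 F) g vf2 = c2⁻¹ • vf2)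
    (h3 : act (Q8 F) g ve3 = c3 • ve3) :
    ∃ h ∈ EE F, act (Q8 F) (h * g) ve1 = c1 • ve1 ∧ act (Q8 F) (h * g) vf1 = c1⁻¹ • vf1 ∧
      act (Q8 F) (h * g) ve2 = c2 • ve2 ∧ act (Q8 F) (h * g) vf2 = c2⁻¹ • vf2 ∧
      act (Q8 F) (h * g) ve3 = c3 • ve3 ∧ act (Q8 F) (h * g) vf3 = c3⁻¹ • vf3 := by
  set w := act (Q8 F) g vf3 with hw
  have hQ : Q8 F w = 0 := by
    rw [hw, Q_act, Q8_apply]; simp [vf3]
  have hc1' : c1⁻¹ ≠ 0 := inv_ne_zero hc1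
  have hc2' : c2⁻¹ ≠ 0 := inv_ne_zero hc2
  have hb1 : cb1 w = 0 := by
    have hp := polar_act (Q8 F) g ve1 vf3
    rw [h1, polar_Q8, polar_Q8, ← hw] at hp
    have : c1 * cb1 w = 0 := by simpa [ve1, vf3] using hp
    exact (mul_eq_zero.mp this).resolve_left hc1
  have ha1 : ca1 w = 0 := by
    have hp := polar_act (Q8 F) g vf1 vf3
    rw [h1', polar_Q8, polar_Q8, ← hw] at hp
    have : c1⁻¹ * ca1 w = 0 := by simpa [vf1, vf3] using hp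
    exact (mul_eq_zero.mp this).resolve_left hc1'
  have hb2 : cb2 w = 0 := by
    have hp := polar_act (Q8 F) g ve2 vf3
    rw [h2, polar_Q8, polar_Q8, ← hw] at hp
    have : c2 * cb2 w = 0 := by simpa [ve2, vf3] using hp
    exact (mul_eq_zero.mp this).resolve_left hc2
  have ha2 : ca2 w = 0 := by
    have hp := polar_act (Q8 F) g vf2 vf3
    rw [h2', polar_Q8, polar_Q8, ← hw] at hp
    have : c2⁻¹ * ca2 w = 0 := by simpa [vf2, vf3] using hp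
    exact (mul_eq_zero.mp this).resolve_left hc2'
  have hb3 : c3 * cb3 w = 1 := by
    have hp := polar_act (Q8 F) g ve3 vf3
    rw [h3, polar_Q8, polar_Q8, ← hw] at hp
    simpa [ve3, vf3] using hp
  have hb : cb3 w ≠ 0 := by
    intro h0
    rw [h0, mul_zero] at hb3
    exact zero_ne_one hb3
  have hb3' : cb3 w = c3⁻¹ := eq_inv_of_mul_eq_one_right hb3
  obtain ⟨f1, f2, f3, f4, f5⟩ := s3b_fix (F := F) (ca4 w / cb3 w) (cb4 w / cb3 w)
  refine ⟨X 12 (ca4 w / cb3 w) * X 13 (cb4 w / cb3 w), mul_mem (X_mem_EE _ _) (X_mem_EE _ _),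
    ?_, ?_, ?_, ?_, ?_, ?_⟩
  · rw [act_mul, h1, act_smul, f1]
  · rw [act_mul, h1', act_smul, f2]
  · rw [act_mul, h2, act_smul, f3]
  · rw [act_mul, h2', act_smul, f4]
  · rw [act_mul, h3, act_smul, f5]
  · rw [act_mul, ← hw, s3b_kill w hQ ha1 ha2 hb1 hb2 hb, hb3']
    apply ext8 <;> simp [vf3]

end Cfsg.Agent.Lib.Helper37.D4O8
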