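import Cfsg.Agent.Lib.Helper41.PsDefs
import Cfsg.Agent.Lib.Helper54.CgCG8

/-!
# Ps hive (S4321, helper41): leaf PS7 `ps_mix`.
Product of a nontrivial `p`-element and a commuting `p'`-element.
-/

set_option autoImplicit false

namespace Cfsg.Agent.Lib.Helper41.Ps

open Subgroup
open Cfsg.Agent.Lib.Helper22.Cg

universe u

/-- PS7. product of a nontrivial `p`-element and a commuting `p'`-element. (cg8) -/
theorem ps_mix {G : Type u} [Group G] [Finite G] (p : ℕ) [Fact p.Prime] (α φ : G)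
    (hαφ : α * φ = φ * α) (hα1 : α ≠ 1) (hα : ∃ n : ℕ, orderOf α = p ^ n)
    (hφ : ¬ p ∣ orderOf φ) :
    p ∣ orderOf (α * φ) ∧ cs α ∣ cs (α * φ) ∧ cs φ ∣ cs (α * φ) := by
  have hp : p.Prime := Fact.out
  obtain ⟨n, hn⟩ := hα
  have hn0 : n ≠ 0 := by
    intro h0
    rw [h0, pow_zero, orderOf_eq_one_iff] at hn
    exact hα1 hn
  have hcop : (orderOf α).Coprime (orderOf φ) := by
    rw [hn]
    exact Nat.Coprime.pow_left n ((Nat.Prime.coprime_iff_not_dvd hp).mpr hφ)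
  have hord : orderOf (α * φ) = orderOf α * orderOf φ :=
    Commute.orderOf_mul_eq_mul_orderOf_of_coprime hαφ hcop
  refine ⟨?_, cg8 α φ hαφ hcop⟩
  rw [hord, hn]
  exact Dvd.dvd.mul_right (dvd_pow_self p hn0) _

end Cfsg.Agent.Lib.Helper41.Ps
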