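import Mathlib
import Cfsg.Agent.Lib.Helper65.QeDefs
import Cfsg.Agent.Lib.Helper65.QeLayer

/-!
# Qe hive (S5988, owner helper65), leaf QE-ASM3 `plusQ_fix_iff` (helper85)

`dim V = dim Fix f + s c` and the type of the fixed space of a semisimple isometry of odd prime order:
`V = Fix f ⟂ W₁` with `W₁` a sum of `s` blocks (`q_blocks` with `N = ⊤`), type of the orthogonal sum
(`plusQ_sup`) and of the fixed-point-free part (`plusQ_fpf`).
-/

set_option autoImplicit false

namespace Cfsg.Agent.Lib.Helper65.Qe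

open Polynomial Module
open Cfsg.Agent.Lib.Helper2.BG Cfsg.Agent.Lib.Helper99 Cfsg.Agent.Lib.Helper48.Ti
open Cfsg.Agent.Lib.Helper5.Hy

section abstract

variable {F V : Type*} [Field F] [Fintype F] [AddCommGroup V] [Module F V] [FiniteDimensional F V]
variable {Q : QuadraticForm F V}

section semisimple

variable {f : Module.End F V} (r : ℕ) [Fact r.Prime]

/-- QE-ASM3: `dim V = dim Fix f + s c` and the type of the fixed space -/
theorem plusQ_fix_iff (hV : Nd (pol Q) ⊤) (hf : IsomQ Q f) (hr2 : r ≠ 2)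
    (hrq : ¬ r ∣ Fintype.card F) (hfr : f ^ r = 1) (i c : ℕ)
    (hi : i = orderOf ((Fintype.card F : ℕ) : ZMod r)) (hc : c = if Even i then i else 2 * i)
    (he : Even (finrank F V)) :
    Nd (pol Q) (Fix f) ∧ (∃ s : ℕ, finrank F V = finrank F ↥(Fix f) + s * c) ∧
      (PlusQ Q (Fix f) ↔ (PlusQ Q ⊤ ↔ tp F r (finrank F V - finrank F ↥(Fix f)))) := by
  have hinv : Inv f (⊤ : Submodule F V) := fun v _ => Submodule.mem_top
  obtain ⟨hnd, s, hs, hblocks⟩ := q_blocks hf r hr2 hrq hfr i c hi hc hinv hV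
  rw [top_inf_eq] at hnd hs
  rw [finrank_top] at hs
  obtain ⟨W₁, -, hW₁i, hW₁nd, hW₁fix, hW₁orth, hW₁dim⟩ := hblocks s le_rfl
  -- parities
  have hceven : Even c := by
    rw [hc]
    split_ifs with h
    · exact h
    · exact even_two_mul i
  have hW₁even : Even (finrank F W₁) := by
    rw [hW₁dim]
    exact hceven.mul_left s
  have hFixeven : Even (finrank F ↥(Fix f)) := by
    have h1 : Even (finrank F ↥(Fix f) + s * c) := by rw [← hs]; exact he
    exact (Nat.even_add.mp h1).mpr (hceven.mul_left s)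
  -- `V = Fix f ⊔ W₁`
  have hsup : Fix f ⊔ W₁ = ⊤ := by
    apply Submodule.eq_top_of_finrank_eq
    have h1 := Submodule.finrank_sup_add_finrank_inf_eq (Fix f) W₁
    have h2 : Fix f ⊓ W₁ = ⊥ := by rw [inf_comm]; exact hW₁fix
    rw [h2, finrank_bot, add_zero] at h1
    rw [h1, hs, hW₁dim]
  have h1 := plusQ_sup hnd hW₁nd hW₁orth hFixeven hW₁even
  rw [hsup] at h1
  have h2 := plusQ_fpf hf r hr2 hrq hfr hW₁i hW₁nd hW₁fix
  have h3 : finrank F V - finrank F ↥(Fix f) = finrank F W₁ := by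
    rw [hs, hW₁dim]
    omega
  refine ⟨hnd, ⟨s, hs⟩, ?_⟩
  rw [h3]
  unfold tp
  rw [← h2]
  tauto

end semisimple

end abstract

end Cfsg.Agent.Lib.Helper65.Qe
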