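import Mathlib
import Cfsg.Prelude.Def_ClassicalGeometry
import Cfsg.Prelude.Def_GeometricClasses
import Cfsg.Prelude.Def_Classical
import Cfsg.Agent.Lib.Helper14.QmDefs
import Cfsg.Agent.Lib.Helper43.ZeroCount
import Cfsg.Agent.Lib.Helper13.LagQ

/-!
# Qm hive (S5990, owner helper14), leaf QM-RANK `rank_le_minus` (helper85)

For an involutive isometry `t` of the standard minus form in characteristic two the image of `t - 1`
is totally isotropic, so of dimension at most `d`; in the alternating case it is totally singular, of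
even dimension (helper8's alternating frame) and of dimension at most `d - 1` (no Lagrangian in a
space of minus type, helper13 `LagQ`).
-/

set_option autoImplicit false

namespace Cfsg.Agent.Lib.Helper14.Qm

open Module
open Cfsg.Agent.Lib.Helper2.BG Cfsg.Agent.Lib.Helper99 Cfsg.Agent.Lib.Helper48.Ti
open Cfsg.Agent.Lib.Helper5.Hy (Plus Fixes Fix Orth)
open Cfsg.Agent.Lib.Helper65.Qe (pol PlusQ IsomQ FixesQ tp)
open Cfsg.Agent.Lib.Helper8 (minusForm IsInvIso nilPart)

/-- a totally isotropic subspace of a nondegenerate bilinear space has at most half the dimension -/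
theorem rank_iso_half {K V : Type*} [Field K] [AddCommGroup V] [Module K V] [FiniteDimensional K V]
    {B : LinearMap.BilinForm K V} (hB : B.Nondegenerate) {R : Submodule K V}
    (hR : ∀ x ∈ R, ∀ y ∈ R, B x y = 0) : 2 * finrank K R ≤ finrank K V := by
  have hle : R ≤ B.orthogonal R := by
    intro y hy
    rw [LinearMap.BilinForm.mem_orthogonal_iff]
    intro x hx
    exact hR x hx y hy
  have h1 := Submodule.finrank_mono hle
  have h2 := LinearMap.BilinForm.finrank_orthogonal hB R
  have h3 : finrank K R ≤ finrank K V := Submodule.finrank_le R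
  omega

section char2

variable {F : Type*} [Field F]

/-- QM-RANK -/
theorem rank_le_minus [Fintype F] (h2 : (2 : F) = 0) (d : ℕ) (hd : 1 ≤ d) (a b : F)
    (hab : ∀ x y : F, x ^ 2 + a * x * y + b * y ^ 2 = 0 → x = 0 ∧ y = 0)
    {t : (VM d F) →ₗ[F] (VM d F)} (ht : IsInvIso (QM d F a b) t) :
    finrank F (LinearMap.range (nilPart t)) ≤ d ∧
      ((∀ z, QM d F a b (nilPart t z) = 0) →
        Even (finrank F (LinearMap.range (nilPart t))) ∧
          finrank F (LinearMap.range (nilPart t)) + 1 ≤ d) := by
  have hnd : (QuadraticMap.polarBilin (QM d F a b)).Nondegenerate :=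
    Cfsg.Agent.Lib.Helper43.ZeroCount.minusForm_nondeg F a b hab (d - 1)
  have hV : finrank F (VM d F) = 2 * d := by
    rw [Module.finrank_fintype_fun_eq_card]
    simp only [Fintype.card_sum, Fintype.card_fin]
    omega
  have h1 := rank_iso_half hnd (R := LinearMap.range (nilPart t)) (by
    rintro x ⟨x', rfl⟩ y ⟨y', rfl⟩
    exact ht.polar_nil_nil h2 x' y')
  refine ⟨by omega, fun hA => ?_⟩
  obtain ⟨r, w, hw⟩ := Cfsg.Agent.Lib.Helper8.exists_frame_alt h2 hnd ht hA
  have hr := hw.finrank_range
  have hne := Cfsg.Agent.Lib.Helper13.LagQ.minusForm_no_lagrangian a b hab (d - 1)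
    (LinearMap.range (nilPart t)) (by
      rintro _ ⟨z, rfl⟩
      exact hA z)
  have hle : finrank F (LinearMap.range (nilPart t)) ≤ d := by omega
  have hne' : finrank F (LinearMap.range (nilPart t)) ≠ d := by
    intro h
    apply hne
    rw [h]
    omega
  refine ⟨⟨r, ?_⟩, by omega⟩
  rw [hr]
  simp

end char2

end Cfsg.Agent.Lib.Helper14.Qm
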