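import Mathlib.GroupTheory.Sylow
import Cfsg.Prelude.Def_FusionSystem

set_option autoImplicit false

namespace Cfsg.Agent.Lib.Helper85

open Subgroup
open scoped Pointwise

variable {G : Type*} [Group G]

/-- Conjugation by `g` as a monoid hom. -/
abbrev cj (g : G) : G →* G := (MulAut.conj g).toMonoidHom

theorem cj_apply (g x : G) : cj g x = g * x * g⁻¹ := rfl

theorem cj_injective (g : G) : Function.Injective (cj g) := (MulAut.conj g).injective

theorem mem_map_cj {g y : G} {H : Subgroup G} : y ∈ H.map (cj g) ↔ g⁻¹ * y * g ∈ H := by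
  constructor
  · rintro ⟨x, hx, rfl⟩
    have : g⁻¹ * (cj g x) * g = x := by rw [cj_apply]; group
    rwa [this]
  · intro h
    exact ⟨g⁻¹ * y * g, h, by rw [cj_apply]; group⟩

theorem map_cj_map_cj (g h : G) (H : Subgroup G) : (H.map (cj h)).map (cj g) = H.map (cj (g * h)) := by
  rw [Subgroup.map_map]
  congr 1
  ext x
  simp [mul_assoc]

theorem map_cj_one (H : Subgroup G) : H.map (cj (1 : G)) = H := by
  ext y
  rw [mem_map_cj]
  simp

theorem card_map_cj (g : G) (H : Subgroup G) : Nat.card (H.map (cj g)) = Nat.card H :=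
  Subgroup.card_map_of_injective (cj_injective g)

theorem normalizer_le_normalizer_centralizer (s : Set G) :
    normalizer s ≤ normalizer (centralizer s : Set G) :=
  (normal_subgroupOf_iff_le_normalizer (centralizer_le_normalizer s)).mp inferInstance

/-- `K` is a Sylow `p`-subgroup of `H` (both subgroups of `G`), in the form used by the statements. -/
def SylIn (p : ℕ) (K H : Subgroup G) : Prop :=
  ∃ R : Sylow p H, (R : Subgroup H) = K.subgroupOf H

section Finite

variable [Finite G] {p : ℕ} [Fact p.Prime]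

omit [Finite G] in
theorem card_subgroupOf_of_le {K H : Subgroup G} (hKH : K ≤ H) :
    Nat.card (K.subgroupOf H) = Nat.card K :=
  Nat.card_congr (Subgroup.subgroupOfEquivOfLe hKH).toEquiv

theorem sylIn_iff_card {K H : Subgroup G} (hKH : K ≤ H) :
    SylIn p K H ↔ Nat.card K = p ^ (Nat.card H).factorization p := by
  constructor
  · rintro ⟨R, hR⟩
    rw [← card_subgroupOf_of_le hKH, ← hR]
    exact R.card_eq_multiplicity
  · intro h
    have h' : Nat.card (K.subgroupOf H) = p ^ (Nat.card H).factorization p := by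
      rw [card_subgroupOf_of_le hKH, h]
    exact ⟨Sylow.ofCard (K.subgroupOf H) h', Sylow.coe_ofCard _ h'⟩

theorem card_le_of_isPGroup {L H : Subgroup G} (hLH : L ≤ H) (hL : IsPGroup p L) :
    Nat.card L ≤ p ^ (Nat.card H).factorization p := by
  obtain ⟨n, hn⟩ := IsPGroup.iff_card.mp hL
  have hdvd : p ^ n ∣ Nat.card H := hn ▸ Subgroup.card_dvd_of_le hLH
  have hle : n ≤ (Nat.card H).factorization p :=
    (Nat.Prime.pow_dvd_iff_le_factorization Fact.out (Nat.card_pos.ne')).mp hdvd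
  rw [hn]
  exact Nat.pow_le_pow_right (Nat.Prime.pos Fact.out) hle

omit [Finite G] [Fact p.Prime] in
theorem SylIn.isPGroup {K H : Subgroup G} (hK : SylIn p K H) (hKH : K ≤ H) : IsPGroup p K := by
  obtain ⟨R, hR⟩ := hK
  have h1 : IsPGroup p (K.subgroupOf H) := hR ▸ R.isPGroup'
  exact h1.of_equiv (Subgroup.subgroupOfEquivOfLe hKH)

theorem SylIn.of_card_ge {K H : Subgroup G} (hKH : K ≤ H) (hK : IsPGroup p K)
    (h : p ^ (Nat.card H).factorization p ≤ Nat.card K) : SylIn p K H :=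
  (sylIn_iff_card hKH).mpr (le_antisymm (card_le_of_isPGroup hKH hK) h)

theorem SylIn.of_map_cj_le {K H R : Subgroup G} (hKH : K ≤ H) (hK : IsPGroup p K)
    (hR : SylIn p R H) (hRH : R ≤ H) (g : G) (hRK : R.map (cj g) ≤ K) : SylIn p K H := by
  apply SylIn.of_card_ge hKH hK
  rw [← (sylIn_iff_card hRH).mp hR, ← card_map_cj g R]
  exact Subgroup.card_le_of_le hRK

theorem sylIn_top (S : Sylow p G) : SylIn p (S : Subgroup G) ⊤ := by
  rw [sylIn_iff_card le_top, Subgroup.card_top]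
  exact S.card_eq_multiplicity

theorem SylIn.of_le {K H M : Subgroup G} (hK : SylIn p K H) (hKM : K ≤ M) (hMH : M ≤ H) :
    SylIn p K M := by
  have hKH := hKM.trans hMH
  apply SylIn.of_card_ge hKM (hK.isPGroup hKH)
  rw [(sylIn_iff_card hKH).mp hK]
  apply Nat.pow_le_pow_right (Nat.Prime.pos Fact.out)
  exact (Nat.factorization_le_iff_dvd (Nat.card_pos.ne') (Nat.card_pos.ne')).mpr
    (Subgroup.card_dvd_of_le hMH) p

/-- Relative Sylow theorem: a `p`-subgroup of `H` is `H`-conjugate into a given Sylow subgroup of `H`. -/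
theorem SylIn.exists_conj_le {K H L : Subgroup G} (hK : SylIn p K H) (hLH : L ≤ H)
    (hL : IsPGroup p L) : ∃ h ∈ H, L.map (cj h) ≤ K := by
  obtain ⟨R, hR⟩ := hK
  have hL' : IsPGroup p (L.subgroupOf H) := hL.comap_subtype
  obtain ⟨Q, hQ⟩ := hL'.exists_le_sylow
  obtain ⟨h, hh⟩ := MulAction.exists_smul_eq H Q R
  refine ⟨h, h.2, ?_⟩
  rintro _ ⟨x, hx, rfl⟩
  have hxQ : (⟨x, hLH hx⟩ : H) ∈ (Q : Subgroup H) := hQ (mem_subgroupOf.mpr hx)
  have h1 : MulAut.conj h • (⟨x, hLH hx⟩ : H) ∈ MulAut.conj h • (Q : Subgroup H) :=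
    Subgroup.smul_mem_pointwise_smul _ _ _ hxQ
  rw [← Sylow.coe_subgroup_smul, hh, hR, mem_subgroupOf] at h1
  exact h1

omit [Finite G] in
theorem mem_sup_of_le_normalizer {A C : Subgroup G} (hAC : A ≤ normalizer (C : Set G)) {y : G}
    (hy : y ∈ A ⊔ C) : ∃ a ∈ A, ∃ c ∈ C, y = a * c := by
  let T : Subgroup G :=
    { carrier := {y | ∃ a ∈ A, ∃ c ∈ C, y = a * c}
      one_mem' := ⟨1, A.one_mem, 1, C.one_mem, by simp⟩
      mul_mem' := by
        rintro _ _ ⟨a, ha, c, hc, rfl⟩ ⟨a', ha', c', hc', rfl⟩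
        have h1 : a'⁻¹ * c * a'⁻¹⁻¹ ∈ C := (mem_normalizer_iff.mp (hAC (A.inv_mem ha')) c).mp hc
        refine ⟨a * a', A.mul_mem ha ha', (a'⁻¹ * c * a'⁻¹⁻¹) * c', C.mul_mem h1 hc', by group⟩
      inv_mem' := by
        rintro _ ⟨a, ha, c, hc, rfl⟩
        have h1 : a * c⁻¹ * a⁻¹ ∈ C := (mem_normalizer_iff.mp (hAC ha) c⁻¹).mp (C.inv_mem hc)
        exact ⟨a⁻¹, A.inv_mem ha, a * c⁻¹ * a⁻¹, h1, by group⟩ }
  have hle : A ⊔ C ≤ T := by
    refine sup_le ?_ ?_
    · intro a ha
      exact ⟨a, ha, 1, C.one_mem, by simp⟩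
    · intro c hc
      exact ⟨1, A.one_mem, c, hc, by simp⟩
  exact hle hy

omit [Finite G] [Fact p.Prime] in
theorem sylow_map_subtype_sylIn {N : Subgroup G} (R : Sylow p N) :
    SylIn p ((R : Subgroup N).map N.subtype) N := by
  refine ⟨R, ?_⟩
  ext x
  rw [mem_subgroupOf]
  constructor
  · intro hx
    exact ⟨x, hx, rfl⟩
  · rintro ⟨y, hy, hyx⟩
    have : y = x := Subtype.ext hyx
    rwa [← this]

/-- Sylow intersected with a subgroup normalized by the overgroup is Sylow there. -/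
theorem SylIn.inf_normal {K H N : Subgroup G} (hK : SylIn p K H) (hKH : K ≤ H) (hNH : N ≤ H)
    (hN : H ≤ normalizer (N : Set G)) : SylIn p (K ⊓ N) N := by
  obtain ⟨R₁⟩ : Nonempty (Sylow p N) := Sylow.nonempty
  have hR₁ := sylow_map_subtype_sylIn R₁
  set R' := (R₁ : Subgroup N).map N.subtype with hR'
  have hR'N : R' ≤ N := map_subtype_le _
  have hR'p : IsPGroup p R' := R₁.isPGroup'.map _
  obtain ⟨h, hh, hle⟩ := hK.exists_conj_le (hR'N.trans hNH) hR'p
  refine SylIn.of_map_cj_le inf_le_right (hK.isPGroup hKH).to_inf_left hR₁ hR'N h ?_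
  refine le_inf hle ?_
  rintro _ ⟨x, hx, rfl⟩
  exact (mem_normalizer_iff.mp (hN hh) x).mp (hR'N hx)

end Finite

end Cfsg.Agent.Lib.Helper85
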