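import Cfsg.Agent.Lib.Helper85.GroupFusion
import Cfsg.Agent.S5123

set_option autoImplicit false

namespace Cfsg.Agent.Lib.Helper85

open Subgroup
open scoped Pointwise

variable {G : Type*} [Group G]

theorem mem_groupFusionSystem_hom {S P : Subgroup G} {φ : P →* G} :
    φ ∈ (Cfsg.groupFusionSystem S).Hom P ↔
      P ≤ S ∧ (∀ x : P, φ x ∈ S) ∧ ∃ g : G, ∀ x : P, φ x = g * (x : G) * g⁻¹ := Iff.rfl

/-- `Aut_F(Q)` for `F = F_S(G)` and `Q ≤ S` is `Aut_G(Q)`. -/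
theorem autGroup_groupFusionSystem {S Q : Subgroup G} (hQ : Q ≤ S) :
    (Cfsg.groupFusionSystem S).autGroup Q = Cfsg.autInducedBy ⊤ Q := by
  unfold Cfsg.FusionSystem.autGroup Cfsg.autInducedBy
  congr 1
  ext α
  constructor
  · rintro ⟨-, -, g, hg⟩
    exact ⟨g, mem_top g, fun x => hg x⟩
  · rintro ⟨g, -, hg⟩
    exact ⟨hQ, fun x => hQ (α x).2, g, fun x => hg x⟩

section Finite

variable [Finite G] {p : ℕ} [Fact p.Prime]

theorem isFullyAutomized_of_sylIn {S Q : Subgroup G} (hQ : Q ≤ S)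
    (hN : SylIn p (Cfsg.FusionSystem.normalizerIn S Q) (normalizer (Q : Set G))) :
    (Cfsg.groupFusionSystem S).IsFullyAutomized p Q := by
  refine ⟨hQ, ?_⟩
  rw [autGroup_groupFusionSystem hQ]
  exact SylIn.autInducedBy hN

theorem extender_le_of_conj {S P Q : Subgroup G} (φ : P →* G) (g : G)
    (hg : ∀ x : P, φ x = g * (x : G) * g⁻¹) (hPQ : P.map (cj g) = Q) :
    Cfsg.FusionSystem.extender S P φ ≤
      Cfsg.FusionSystem.normalizerIn S P ⊓
        (Cfsg.FusionSystem.normalizerIn S Q ⊔ centralizer (Q : Set G)).comap (cj g) := by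
  unfold Cfsg.FusionSystem.extender
  rw [closure_le]
  rintro x ⟨hxS, hxN, h, hhS, hh⟩
  refine ⟨⟨hxS, hxN⟩, ?_⟩
  show cj g x ∈ Cfsg.FusionSystem.normalizerIn S Q ⊔ centralizer (Q : Set G)
  have hxP : ∀ y : P, x * (y : G) * x⁻¹ ∈ P := fun y => (mem_normalizer_iff.mp hxN y).mp y.2
  -- c = h⁻¹ * (g x g⁻¹) centralizes Q
  have hc : h⁻¹ * cj g x ∈ centralizer (Q : Set G) := by
    rw [mem_centralizer_iff]
    intro q hq
    rw [← hPQ] at hq
    obtain ⟨y, hy, rfl⟩ := hq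
    have h1 := hh ⟨y, hy⟩ (hxP ⟨y, hy⟩)
    rw [hg, hg] at h1
    simp only [cj_apply] at h1 ⊢
    have h2 : h⁻¹ * (g * x * g⁻¹) * (g * y * g⁻¹) = h⁻¹ * (g * (x * y * x⁻¹) * g⁻¹) * h * (h⁻¹ * (g * x * g⁻¹)) := by
      group
    have h3 : g * y * g⁻¹ * (h⁻¹ * (g * x * g⁻¹)) = h⁻¹ * (h * (g * y * g⁻¹) * h⁻¹) * h * (h⁻¹ * (g * x * g⁻¹)) := by
      group
    rw [h2, h3, h1]
  have hxQ : cj g x ∈ normalizer (Q : Set G) := by
    rw [← hPQ, normalizer_map_cj]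
    exact ⟨x, hxN, rfl⟩
  have hhN : h ∈ normalizer (Q : Set G) := by
    have h1 : h = cj g x * (h⁻¹ * cj g x)⁻¹ := by group
    rw [h1]
    exact mul_mem hxQ (inv_mem (centralizer_le_normalizer _ hc))
  have h1 : cj g x = h * (h⁻¹ * cj g x) := by group
  rw [h1]
  exact mul_mem_sup ⟨hhS, hhN⟩ hc

theorem isReceptive_of_sylIn (S : Sylow p G) {Q : Subgroup G} (hQ : Q ≤ S)
    (hN : SylIn p (Cfsg.FusionSystem.normalizerIn (S : Subgroup G) Q) (normalizer (Q : Set G))) :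
    (Cfsg.groupFusionSystem (S : Subgroup G)).IsReceptive Q := by
  refine ⟨hQ, ?_⟩
  rintro P φ ⟨hP, hφS, g, hg⟩ hr
  have hPQ : P.map (cj g) = Q := by
    rw [← hr]
    ext y
    constructor
    · rintro ⟨x, hx, rfl⟩
      exact ⟨⟨x, hx⟩, hg _⟩
    · rintro ⟨x, rfl⟩
      exact ⟨x, x.2, (hg x).symm⟩
  have hext := extender_le_of_conj (S := (S : Subgroup G)) φ g hg hPQ
  obtain ⟨h, hh, hle⟩ := Cfsg.Agent.S5123.result p S P Q hP hQ g hPQ hN
  have hextS : Cfsg.FusionSystem.extender (S : Subgroup G) P φ ≤ S :=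
    hext.trans (inf_le_left.trans inf_le_left)
  refine ⟨Cfsg.conjHom _ (h * g), ⟨hextS, fun x => ?_, h * g, fun _ => rfl⟩, ?_⟩
  · exact hle ⟨x, hext x.2, rfl⟩
  · intro x hxP _
    show h * g * x * (h * g)⁻¹ = φ ⟨x, hxP⟩
    rw [hg]
    have hq : g * x * g⁻¹ ∈ Q := hPQ ▸ ⟨x, hxP, rfl⟩
    have h1 := (mem_centralizer_iff.mp hh) _ hq
    calc h * g * x * (h * g)⁻¹ = h * (g * x * g⁻¹) * h⁻¹ := by group
      _ = (g * x * g⁻¹) * h * h⁻¹ := by rw [← h1]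
      _ = g * x * g⁻¹ := by group

/-- The fusion system of a finite group on a Sylow `p`-subgroup is saturated. -/
theorem groupFusionSystem_isSaturated (S : Sylow p G) :
    (Cfsg.groupFusionSystem (S : Subgroup G)).IsSaturated p := by
  intro P hP
  obtain ⟨g, hQS, hN⟩ := exists_conj_normalizer_sylIn S hP
  exact ⟨P.map (cj g), isConj_groupFusionSystem_iff.mpr ⟨hP, hQS, g, rfl⟩,
    isFullyAutomized_of_sylIn hQS hN, isReceptive_of_sylIn S hQS hN⟩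

end Finite

end Cfsg.Agent.Lib.Helper85
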