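import Mathlib

/-! We hive (S2347, owner helper14), leaf WE-LIFT: the core, with the conclusions of `commute_parity` (WE-COMMP) and
`exists_beta` (WE-DETQ) as hypotheses.  Mathlib only. -/

set_option autoImplicit false

namespace Cfsg.Agent.Lib.Helper14.We

variable {W : Type*} [AddCommGroup W] [Module ℂ W] [FiniteDimensional ℂ W]

omit [FiniteDimensional ℂ W] in
/-- two linear automorphisms conjugating `R v` to `R (γ v)` differ by a non-zero scalar -/
theorem lift_scalar {V : Type*} (R : V → Module.End ℂ W)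
    (hschur : ∀ S : Module.End ℂ W, (∀ v, S * R v = R v * S) → ∃ c : ℂ, S = c • (1 : Module.End ℂ W))
    (γ : V → V) (A B : W ≃ₗ[ℂ] W)
    (hA : ∀ v, A.toLinearMap * R v = R (γ v) * A.toLinearMap)
    (hB : ∀ v, B.toLinearMap * R v = R (γ v) * B.toLinearMap) :
    ∃ c : ℂ, c ≠ 0 ∧ B.toLinearMap = c • A.toLinearMap := by
  have hAi : A.symm.toLinearMap * A.toLinearMap = 1 := by ext x; simp
  have hAi' : A.toLinearMap * A.symm.toLinearMap = 1 := by ext x; simp
  obtain ⟨c, hc⟩ := hschur (A.symm.toLinearMap * B.toLinearMap) (by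
    intro v
    have h1 : A.symm.toLinearMap * R (γ v) = R v * A.symm.toLinearMap := by
      calc A.symm.toLinearMap * R (γ v)
          = A.symm.toLinearMap * (R (γ v) * A.toLinearMap) * A.symm.toLinearMap := by
            rw [mul_assoc, mul_assoc, hAi', mul_one]
        _ = A.symm.toLinearMap * (A.toLinearMap * R v) * A.symm.toLinearMap := by rw [hA]
        _ = R v * A.symm.toLinearMap := by rw [← mul_assoc, hAi, one_mul]
    rw [mul_assoc, hB, ← mul_assoc, h1, mul_assoc])
  have hBA : B.toLinearMap = c • A.toLinearMap := by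
    calc B.toLinearMap = A.toLinearMap * (A.symm.toLinearMap * B.toLinearMap) := by
          rw [← mul_assoc, hAi', one_mul]
      _ = c • A.toLinearMap := by rw [hc, mul_smul_comm, mul_one]
  by_cases hc0 : c = 0
  · have hsub : Subsingleton W := by
      refine ⟨fun x y => ?_⟩
      apply B.injective
      have h0 : ∀ z, B z = 0 := by
        intro z
        have := LinearMap.congr_fun hBA z
        simpa [hc0] using this
      rw [h0 x, h0 y]
    refine ⟨1, one_ne_zero, ?_⟩
    ext x
    exact Subsingleton.elim _ _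
  · exact ⟨c, hc0, hBA⟩

omit [FiniteDimensional ℂ W] in
/-- WE-LIFT core: `M g = (β (T g))⁻¹ • T g`. -/
theorem lift_core {G V : Type*} [Group G] [MulAction G V] (R : V → Module.End ℂ W)
    (hschur : ∀ S : Module.End ℂ W, (∀ v, S * R v = R v * S) → ∃ c : ℂ, S = c • (1 : Module.End ℂ W))
    (T : G → (W ≃ₗ[ℂ] W)) (hT : ∀ g v, (T g).toLinearMap * R v = R (g • v) * (T g).toLinearMap)
    (P : Module.End ℂ W)
    (hcomm : ∀ g, (T g).toLinearMap * P = P * (T g).toLinearMap)
    (hbeta : ∃ β : Module.End ℂ W → ℂ,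
      (∀ S S' : Module.End ℂ W, S * P = P * S → S' * P = P * S' → β (S * S') = β S * β S') ∧
      (∀ (c : ℂ) (S : Module.End ℂ W), c ≠ 0 → S * P = P * S → β (c • S) = c * β S) ∧
      (∀ S : Module.End ℂ W, IsUnit S → S * P = P * S → β S ≠ 0)) :
    ∃ M : Representation ℂ G W, (∀ g v, M g * R v = R (g • v) * M g) ∧ ∀ g, M g * P = P * M g := by
  obtain ⟨β, hβmul, hβsmul, hβunit⟩ := hbeta
  have hunit : ∀ g, IsUnit (T g).toLinearMap := fun g =>
    ⟨⟨(T g).toLinearMap, (T g).symm.toLinearMap, by ext x; simp, by ext x; simp⟩, rfl⟩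
  have hβne : ∀ g, β (T g).toLinearMap ≠ 0 := fun g => hβunit _ (hunit g) (hcomm g)
  have hβ1 : β 1 = 1 := by
    have h1 := hβmul 1 1 (by simp) (by simp)
    have h2 : β 1 ≠ 0 := hβunit 1 isUnit_one (by simp)
    rw [mul_one] at h1
    exact mul_left_cancel₀ h2 (h1.symm.trans (mul_one _).symm)
  have hM1 : (β (T 1).toLinearMap)⁻¹ • (T 1).toLinearMap = (1 : Module.End ℂ W) := by
    obtain ⟨c, hc0, hB⟩ := lift_scalar R hschur (fun v => v) (LinearEquiv.refl ℂ W) (T 1)
      (fun v => by
        have : (LinearEquiv.refl ℂ W).toLinearMap = (1 : Module.End ℂ W) := rfl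
        rw [this, one_mul, mul_one])
      (fun v => by have := hT 1 v; rwa [one_smul] at this)
    have h1 : (LinearEquiv.refl ℂ W).toLinearMap = (1 : Module.End ℂ W) := rfl
    rw [h1] at hB
    rw [hB, hβsmul c 1 hc0 (by simp), hβ1, mul_one, smul_smul, inv_mul_cancel₀ hc0, one_smul]
  have hMmul : ∀ g h, (β (T (g * h)).toLinearMap)⁻¹ • (T (g * h)).toLinearMap =
      ((β (T g).toLinearMap)⁻¹ • (T g).toLinearMap) * ((β (T h).toLinearMap)⁻¹ • (T h).toLinearMap) := by
    intro g h
    have hA : ((T h).trans (T g)).toLinearMap = (T g).toLinearMap * (T h).toLinearMap := rfl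
    obtain ⟨c, hc0, hB⟩ := lift_scalar R hschur (fun v => (g * h) • v) ((T h).trans (T g)) (T (g * h))
      (fun v => by
        rw [hA, mul_assoc, hT h v, ← mul_assoc, hT g (h • v), mul_assoc, mul_smul])
      (fun v => hT (g * h) v)
    rw [hA] at hB
    have hcP : (T g).toLinearMap * (T h).toLinearMap * P = P * ((T g).toLinearMap * (T h).toLinearMap) := by
      rw [mul_assoc, hcomm h, ← mul_assoc, hcomm g, mul_assoc]
    rw [hB, hβsmul c _ hc0 hcP, hβmul _ _ (hcomm g) (hcomm h), smul_smul, smul_mul_smul_comm]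
    congr 1
    have := hβne g
    have := hβne h
    field_simp
  refine ⟨⟨⟨fun g => (β (T g).toLinearMap)⁻¹ • (T g).toLinearMap, hM1⟩, hMmul⟩, ?_, ?_⟩
  · intro g v
    change ((β (T g).toLinearMap)⁻¹ • (T g).toLinearMap) * R v =
      R (g • v) * ((β (T g).toLinearMap)⁻¹ • (T g).toLinearMap)
    rw [smul_mul_assoc, hT g v, mul_smul_comm]
  · intro g
    change ((β (T g).toLinearMap)⁻¹ • (T g).toLinearMap) * P =
      P * ((β (T g).toLinearMap)⁻¹ • (T g).toLinearMap)
    rw [smul_mul_assoc, hcomm g, mul_smul_comm]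

end Cfsg.Agent.Lib.Helper14.We
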