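import Cfsg.Agent.Lib.Helper85.Sylow

set_option autoImplicit false

namespace Cfsg.Agent.Lib.Helper85

open Subgroup
open scoped Pointwise

variable {G : Type*} [Group G]

theorem normalizerMonoidHom_coe (Q : Subgroup G) (n : normalizer (Q : Set G)) (x : Q) :
    ((Q.normalizerMonoidHom n x : Q) : G) = (n : G) * x * (n : G)⁻¹ := rfl

/-- The automorphisms of `Q` induced by `K` are the image of `K ∩ N(Q)`. -/
theorem autInducedBy_eq (K Q : Subgroup G) :
    Cfsg.autInducedBy K Q = (K.subgroupOf (normalizer (Q : Set G))).map Q.normalizerMonoidHom := by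
  unfold Cfsg.autInducedBy
  have hset : {α : MulAut Q | ∃ g ∈ K, ∀ x : Q, ((α x : Q) : G) = g * (x : G) * g⁻¹} =
      ((K.subgroupOf (normalizer (Q : Set G))).map Q.normalizerMonoidHom : Set (MulAut Q)) := by
    ext α
    constructor
    · rintro ⟨g, hgK, hg⟩
      have hgN : g ∈ normalizer (Q : Set G) := by
        rw [mem_normalizer_iff]
        intro h
        constructor
        · intro hh
          rw [← hg ⟨h, hh⟩]
          exact (α ⟨h, hh⟩).2
        · intro hh
          obtain ⟨x, hx⟩ := α.surjective ⟨g * h * g⁻¹, hh⟩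
          have h1 : g * (x : G) * g⁻¹ = g * h * g⁻¹ := by
            rw [← hg x, hx]
          have h2 : (x : G) = h := mul_left_cancel (mul_right_cancel h1)
          rw [← h2]
          exact x.2
      refine ⟨⟨g, hgN⟩, mem_subgroupOf.mpr hgK, ?_⟩
      ext x
      rw [normalizerMonoidHom_coe, hg]
    · rintro ⟨n, hn, rfl⟩
      exact ⟨n, mem_subgroupOf.mp hn, fun x => rfl⟩
  rw [hset, closure_eq]

theorem autInducedBy_top_eq (Q : Subgroup G) :
    Cfsg.autInducedBy ⊤ Q = Q.normalizerMonoidHom.range := by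
  rw [autInducedBy_eq, Subgroup.subgroupOf_eq_top.mpr le_top, ← MonoidHom.range_eq_map]

theorem mem_autInducedBy_iff {K Q : Subgroup G} {α : MulAut Q} :
    α ∈ Cfsg.autInducedBy K Q ↔ ∃ g ∈ K, ∀ x : Q, ((α x : Q) : G) = g * (x : G) * g⁻¹ := by
  rw [autInducedBy_eq]
  constructor
  · rintro ⟨n, hn, rfl⟩
    exact ⟨n, mem_subgroupOf.mp hn, fun x => rfl⟩
  · intro h
    have : α ∈ Cfsg.autInducedBy K Q := Subgroup.subset_closure h
    rwa [autInducedBy_eq] at this

theorem centralizer_map_cj (P : Subgroup G) (g : G) :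
    centralizer ((P.map (cj g) : Subgroup G) : Set G) = (centralizer (P : Set G)).map (cj g) := by
  ext y
  rw [mem_map_cj, mem_centralizer_iff, mem_centralizer_iff]
  constructor
  · intro h x hx
    have h1 := h (cj g x) ⟨x, hx, rfl⟩
    rw [cj_apply] at h1
    have h2 : x * (g⁻¹ * y * g) = g⁻¹ * (g * x * g⁻¹ * y) * g := by group
    rw [h2, h1]
    group
  · rintro h _ ⟨x, hx, rfl⟩
    have h1 := h x hx
    rw [cj_apply]
    have h2 : g * x * g⁻¹ * y = g * (x * (g⁻¹ * y * g)) * g⁻¹ := by group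
    rw [h2, h1]
    group

theorem normalizer_map_cj (P : Subgroup G) (g : G) :
    normalizer ((P.map (cj g) : Subgroup G) : Set G) = (normalizer (P : Set G)).map (cj g) :=
  (map_equiv_normalizer_eq P (MulAut.conj g)).symm

theorem range_conjHom (P : Subgroup G) (g : G) : (Cfsg.conjHom P g).range = P.map (cj g) := by
  ext y
  constructor
  · rintro ⟨x, rfl⟩
    exact ⟨x, x.2, rfl⟩
  · rintro ⟨x, hx, rfl⟩
    exact ⟨⟨x, hx⟩, rfl⟩

theorem conjHom_mem_groupFusionSystem {S P : Subgroup G} (hP : P ≤ S) (g : G)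
    (hg : P.map (cj g) ≤ S) : Cfsg.conjHom P g ∈ (Cfsg.groupFusionSystem S).Hom P :=
  ⟨hP, fun x => hg ⟨x, x.2, rfl⟩, g, fun _ => rfl⟩

theorem isConj_groupFusionSystem_iff {S P Q : Subgroup G} :
    (Cfsg.groupFusionSystem S).IsConj P Q ↔ P ≤ S ∧ Q ≤ S ∧ ∃ g : G, P.map (cj g) = Q := by
  constructor
  · rintro ⟨φ, ⟨hP, hφS, g, hg⟩, rfl⟩
    refine ⟨hP, ?_, g, ?_⟩
    · rintro _ ⟨x, rfl⟩
      exact hφS x
    · ext y
      constructor
      · rintro ⟨x, hx, rfl⟩
        exact ⟨⟨x, hx⟩, hg _⟩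
      · rintro ⟨x, rfl⟩
        exact ⟨x, x.2, (hg x).symm⟩
  · rintro ⟨hP, hQ, g, rfl⟩
    exact ⟨Cfsg.conjHom P g, conjHom_mem_groupFusionSystem hP g hQ, range_conjHom P g⟩

section Finite

variable [Finite G] {p : ℕ} [Fact p.Prime]

/-- Every `P ≤ S` has a conjugate in `S` whose normalizer in `S` is Sylow in its normalizer. -/
theorem exists_conj_normalizer_sylIn (S : Sylow p G) {P : Subgroup G} (hP : P ≤ S) :
    ∃ g : G, P.map (cj g) ≤ S ∧
      SylIn p (Cfsg.FusionSystem.normalizerIn (S : Subgroup G) (P.map (cj g)))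
        (normalizer ((P.map (cj g) : Subgroup G) : Set G)) := by
  obtain ⟨R₀⟩ : Nonempty (Sylow p (normalizer (P : Set G))) := Sylow.nonempty
  have hR := sylow_map_subtype_sylIn R₀
  set R := (R₀ : Subgroup (normalizer (P : Set G))).map (normalizer (P : Set G)).subtype with hRdef
  have hRH : R ≤ normalizer (P : Set G) := map_subtype_le _
  have hRp : IsPGroup p R := R₀.isPGroup'.map _
  have hPp : IsPGroup p (P.subgroupOf (normalizer (P : Set G))) :=
    (S.isPGroup'.to_le hP).comap_subtype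
  have hPR₀ : P.subgroupOf (normalizer (P : Set G)) ≤ R₀ := hPp.le_sylow_of_normal R₀
  have hPR : P ≤ R := by
    intro x hx
    exact ⟨⟨x, le_normalizer hx⟩, hPR₀ (mem_subgroupOf.mpr hx), rfl⟩
  obtain ⟨g, -, hg⟩ := (sylIn_top S).exists_conj_le le_top hRp
  refine ⟨g, (Subgroup.map_mono hPR).trans hg, ?_⟩
  have hnorm : normalizer ((P.map (cj g) : Subgroup G) : Set G) = (normalizer (P : Set G)).map (cj g) :=
    (map_equiv_normalizer_eq P (MulAut.conj g)).symm
  have hle : R.map (cj g) ≤ Cfsg.FusionSystem.normalizerIn (S : Subgroup G) (P.map (cj g)) := by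
    refine le_inf hg ?_
    rw [hnorm]
    exact Subgroup.map_mono hRH
  apply SylIn.of_card_ge inf_le_right (S.isPGroup'.to_le inf_le_left)
  have hcard : Nat.card (normalizer ((P.map (cj g) : Subgroup G) : Set G)) =
      Nat.card (normalizer (P : Set G)) := by rw [hnorm, card_map_cj]
  rw [hcard, ← (sylIn_iff_card hRH).mp hR, ← card_map_cj g R]
  exact Subgroup.card_le_of_le hle

theorem SylIn.centralizerIn {S Q : Subgroup G}
    (hN : SylIn p (Cfsg.FusionSystem.normalizerIn S Q) (normalizer (Q : Set G))) :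
    SylIn p (Cfsg.FusionSystem.centralizerIn S Q) (centralizer (Q : Set G)) := by
  have h := hN.inf_normal inf_le_right (centralizer_le_normalizer _)
    (normalizer_le_normalizer_centralizer _)
  have heq : Cfsg.FusionSystem.normalizerIn S Q ⊓ centralizer (Q : Set G) =
      Cfsg.FusionSystem.centralizerIn S Q := by
    unfold Cfsg.FusionSystem.normalizerIn Cfsg.FusionSystem.centralizerIn
    rw [inf_assoc, inf_eq_right.mpr (centralizer_le_normalizer _)]
  rwa [heq] at h

theorem SylIn.autInducedBy {S Q : Subgroup G}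
    (hN : SylIn p (Cfsg.FusionSystem.normalizerIn S Q) (normalizer (Q : Set G))) :
    SylIn p (Cfsg.autInducedBy S Q) (Cfsg.autInducedBy ⊤ Q) := by
  obtain ⟨R, hR⟩ := hN
  unfold SylIn
  rw [autInducedBy_top_eq]
  have hsurj : Function.Surjective Q.normalizerMonoidHom.rangeRestrict :=
    MonoidHom.rangeRestrict_surjective _
  refine ⟨R.mapSurjective hsurj, ?_⟩
  rw [Sylow.coe_mapSurjective, hR]
  unfold Cfsg.FusionSystem.normalizerIn
  rw [inf_subgroupOf_right, autInducedBy_eq]
  ext ⟨α, hα⟩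
  rw [mem_subgroupOf]
  constructor
  · rintro ⟨n, hn, hnα⟩
    exact ⟨n, hn, congrArg Subtype.val hnα⟩
  · rintro ⟨n, hn, hnα⟩
    exact ⟨n, hn, Subtype.ext hnα⟩

end Finite

end Cfsg.Agent.Lib.Helper85
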