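import Cfsg.Agent.S5160
import Cfsg.Agent.Lib.Helper85.GroupFusion
import Cfsg.Agent.Lib.Helper85.Saturated
import Cfsg.Agent.Lib.Helper87.Alperin
import Cfsg.Agent.Lib.Helper87.EssentialCrit
import Cfsg.Agent.Lib.Helper22.Fitting

set_option autoImplicit false

/-!
# A group-theoretic form of the simplicity criterion S5160

For a finite group `G` with Sylow `p`-subgroup `S`: if `S` has no nontrivial proper strongly closed
subgroup and the automorphisms of `S` induced by `N_G(S)` are generated by those induced by elements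
of `N_G(S) ∩ O^{p'}(N_G(R))`, for `R` in a family of subgroups normal in `S` with `C_G(R) ≤ R` and
`R = O_p(N_G(R))`, then the fusion system of `G` on `S` is simple.
-/

namespace Cfsg.Agent.Lib.Helper85.SGC

open Cfsg Cfsg.FusionSystem Subgroup
open Cfsg.Agent.Lib.Helper85

variable {G : Type*} [Group G]

/-- a subgroup containing its centralizer in `G` is centric in the fusion system of `G` -/
theorem isCentric_of_centralizer_le {S R : Subgroup G} (hRS : R ≤ S)
    (hC : centralizer (R : Set G) ≤ R) : (groupFusionSystem S).IsCentric R := by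
  refine ⟨hRS, fun Q hQ => ?_⟩
  obtain ⟨-, -, g, rfl⟩ := isConj_groupFusionSystem_iff.mp hQ
  intro x hx
  have hx2 : x ∈ centralizer ((R.map (cj g) : Subgroup G) : Set G) := hx.2
  rw [centralizer_map_cj] at hx2
  obtain ⟨c, hc, rfl⟩ := hx2
  exact ⟨c, hC hc, rfl⟩

/-- the strongly closed subgroups of the fusion system of `G`, in terms of elements -/
theorem conj_mem_of_stronglyClosed {S T : Subgroup G} (hT : (groupFusionSystem S).StronglyClosed T)
    {x : G} (hx : x ∈ T) {g : G} (hg : g * x * g⁻¹ ∈ S) : g * x * g⁻¹ ∈ T := by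
  have hP : zpowers x ≤ T := (zpowers_le).mpr hx
  have hPS : zpowers x ≤ S := hP.trans hT.1
  have hmap : (zpowers x).map (cj g) ≤ S := by
    rw [MonoidHom.map_zpowers, zpowers_le]
    exact hg
  have hφ := conjHom_mem_groupFusionSystem hPS g hmap
  exact hT.2 _ hP _ hφ ⟨x, mem_zpowers x⟩

section Radical

variable [Finite G] {p : ℕ} [Fact p.Prime]

/-- `C_G(R) ≤ R` and `R = O_p(N_G(R))` make `R` radical in the fusion system of `G` -/
theorem isRadical_of_pCore {S R : Subgroup G} (hS : IsPGroup p S) (hRS : R ≤ S)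
    (hC : centralizer (R : Set G) ≤ R)
    (hO : ∀ K : Subgroup G, K ≤ normalizer (R : Set G) →
      normalizer (R : Set G) ≤ normalizer (K : Set G) → IsPGroup p K → K ≤ R) :
    (groupFusionSystem S).IsRadical p R := by
  set F := groupFusionSystem S with hF
  refine ⟨hRS, le_antisymm ?_ (Cfsg.Agent.Lib.Helper87.inn_le_pCore hS F hRS)⟩
  have hA : F.autGroup R = R.normalizerMonoidHom.range := by
    rw [hF, autGroup_groupFusionSystem hRS, autInducedBy_top_eq]
  set Kbar : Subgroup (MulAut R) := (pCore p (F.autGroup R)).map (F.autGroup R).subtype with hKbar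
  have hKle : Kbar ≤ F.autGroup R := by
    rintro _ ⟨a, -, rfl⟩
    exact a.2
  have hKp : IsPGroup p Kbar :=
    (Cfsg.Agent.Lib.Helper22.pCore_isPGroup' p (F.autGroup R)).map _
  have hKn : ∀ γ ∈ F.autGroup R, ∀ β ∈ Kbar, γ * β * γ⁻¹ ∈ Kbar := by
    rintro γ hγ _ ⟨b, hb, rfl⟩
    have hn := Cfsg.Agent.Lib.Helper22.pCore_normal' p (F.autGroup R)
    exact ⟨⟨γ, hγ⟩ * b * ⟨γ, hγ⟩⁻¹, hn.conj_mem b hb ⟨γ, hγ⟩, rfl⟩
  -- the preimage in `G`
  set K : Subgroup G := (Kbar.comap R.normalizerMonoidHom).map (normalizer (R : Set G)).subtype with hK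
  have hK1 : K ≤ normalizer (R : Set G) := by
    rintro _ ⟨n, -, rfl⟩
    exact n.2
  have hK2 : normalizer (R : Set G) ≤ normalizer (K : Set G) := by
    intro n hn
    have key : ∀ (m : G), m ∈ normalizer (R : Set G) → ∀ k ∈ K, m * k * m⁻¹ ∈ K := by
      rintro m hm _ ⟨k, hk, rfl⟩
      refine ⟨⟨m, hm⟩ * k * ⟨m, hm⟩⁻¹, ?_, rfl⟩
      show R.normalizerMonoidHom (⟨m, hm⟩ * k * ⟨m, hm⟩⁻¹) ∈ Kbar
      rw [map_mul, map_mul, map_inv]
      apply hKn _ _ _ hk
      rw [hA]
      exact ⟨_, rfl⟩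
    rw [mem_normalizer_iff]
    intro k
    constructor
    · exact key n hn k
    · intro hk
      have := key n⁻¹ (inv_mem hn) _ hk
      have e : n⁻¹ * (n * k * n⁻¹) * n⁻¹⁻¹ = k := by group
      rwa [e] at this
  have hK3 : IsPGroup p K := by
    rintro ⟨_, ⟨k, hk, rfl⟩⟩
    obtain ⟨a, ha⟩ := hKp ⟨R.normalizerMonoidHom k, hk⟩
    have ha' : R.normalizerMonoidHom (k ^ p ^ a) = 1 := by
      rw [map_pow]
      exact congrArg Subtype.val ha
    -- `k ^ p ^ a` centralizes `R`
    have hcent : ((k ^ p ^ a : normalizer (R : Set G)) : G) ∈ centralizer (R : Set G) := by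
      rw [mem_centralizer_iff]
      intro r hr
      have h1 := congrArg (fun α : MulAut R => ((α ⟨r, hr⟩ : R) : G)) ha'
      simp only [normalizerMonoidHom_coe, MulAut.one_apply] at h1
      have h2 : ((k ^ p ^ a : normalizer (R : Set G)) : G) * r =
          r * ((k ^ p ^ a : normalizer (R : Set G)) : G) := by
        conv_rhs => rw [← h1]
        group
      exact h2.symm
    obtain ⟨b, hb⟩ := hS ⟨_, hRS (hC hcent)⟩
    refine ⟨a + b, ?_⟩
    apply Subtype.ext
    have hb' : (((k ^ p ^ a : normalizer (R : Set G)) : G)) ^ p ^ b = 1 :=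
      congrArg Subtype.val hb
    show ((k : G)) ^ p ^ (a + b) = 1
    rw [pow_add, pow_mul]
    exact hb'
  have hKR := hO K hK1 hK2 hK3
  -- conclusion
  intro β hβ
  have hβA := hKle hβ
  rw [hA] at hβA
  obtain ⟨n, rfl⟩ := hβA
  have hnK : (n : G) ∈ K := ⟨n, hβ, rfl⟩
  have hnR : (n : G) ∈ R := hKR hnK
  refine ⟨⟨n, hnR⟩, ?_⟩
  ext x
  rfl

/-- **Group-theoretic form of the simplicity criterion.** -/
theorem isSimple_of_family (S : Sylow p G) (hS1 : (S : Subgroup G) ≠ ⊥)
    (hA : ∀ T : Subgroup G, T ≤ (S : Subgroup G) → T ≠ ⊥ →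
      (∀ x ∈ T, ∀ g : G, g * x * g⁻¹ ∈ (S : Subgroup G) → g * x * g⁻¹ ∈ T) → T = (S : Subgroup G))
    (ℛ : Set (Subgroup G))
    (hℛ : ∀ R ∈ ℛ, R ≤ (S : Subgroup G) ∧ (S : Subgroup G) ≤ normalizer (R : Set G) ∧
      centralizer (R : Set G) ≤ R ∧
      ∀ K : Subgroup G, K ≤ normalizer (R : Set G) →
        normalizer (R : Set G) ≤ normalizer (K : Set G) → IsPGroup p K → K ≤ R)
    (hB : ∀ n ∈ normalizer ((S : Subgroup G) : Set G),
      ∃ m ∈ Subgroup.closure {g : G | g ∈ normalizer ((S : Subgroup G) : Set G) ∧ ∃ R ∈ ℛ,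
          g ∈ Subgroup.closure {h : G | h ∈ normalizer (R : Set G) ∧ ∃ k : ℕ, orderOf h = p ^ k}},
        ∀ x ∈ (S : Subgroup G), n * x * n⁻¹ = m * x * m⁻¹) :
    (groupFusionSystem (S : Subgroup G)).IsSimple p := by
  have hSp : IsPGroup p (S : Subgroup G) := S.isPGroup'
  set F := groupFusionSystem (S : Subgroup G) with hF
  apply Cfsg.Agent.S5160.result p S hS1
  · intro T hT
    by_cases h0 : T = ⊥
    · exact Or.inl h0
    · exact Or.inr (hA T hT.1 h0 fun x hx g hg => conj_mem_of_stronglyClosed hT hx hg)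
  · apply le_antisymm
    · -- the family generates
      set Sig : Subgroup (MulAut (S : Subgroup G)) :=
        ⨆ (R : Subgroup G) (_ : F.IsFullyNormalized R ∧ F.IsRadical p R ∧ F.IsCentric R),
          Cfsg.autInducedBy (Subgroup.closure {g : G | g ∈ normalizer (R : Set G) ∧
            ∃ k : ℕ, orderOf g = p ^ k}) (S : Subgroup G) with hSig
      intro α hα
      rw [autInducedBy_top_eq] at hα
      obtain ⟨n, rfl⟩ := hα
      obtain ⟨m, hm, hnm⟩ := hB n n.2
      have key : ∀ m' ∈ Subgroup.closure {g : G | g ∈ normalizer ((S : Subgroup G) : Set G) ∧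
          ∃ R ∈ ℛ, g ∈ Subgroup.closure {h : G | h ∈ normalizer (R : Set G) ∧
            ∃ k : ℕ, orderOf h = p ^ k}},
          ∃ hm' : m' ∈ normalizer ((S : Subgroup G) : Set G),
            (S : Subgroup G).normalizerMonoidHom ⟨m', hm'⟩ ∈ Sig := by
        intro m' hm'
        induction hm' using Subgroup.closure_induction with
        | mem g hg =>
          obtain ⟨hgN, R, hR, hgR⟩ := hg
          refine ⟨hgN, ?_⟩
          obtain ⟨h1, h2, h3, h4⟩ := hℛ R hR
          have hfrc : F.IsFullyNormalized R ∧ F.IsRadical p R ∧ F.IsCentric R :=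
            ⟨Cfsg.Agent.Lib.Helper87.fullyNormalized_of_le_normalizer F h1 h2,
              isRadical_of_pCore hSp h1 h3 h4, isCentric_of_centralizer_le h1 h3⟩
          have hle : Cfsg.autInducedBy (Subgroup.closure {g : G | g ∈ normalizer (R : Set G) ∧
              ∃ k : ℕ, orderOf g = p ^ k}) (S : Subgroup G) ≤ Sig :=
            le_iSup₂ (f := fun (R : Subgroup G)
              (_ : F.IsFullyNormalized R ∧ F.IsRadical p R ∧ F.IsCentric R) =>
              Cfsg.autInducedBy (Subgroup.closure {g : G | g ∈ normalizer (R : Set G) ∧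
                ∃ k : ℕ, orderOf g = p ^ k}) (S : Subgroup G)) R hfrc
          apply hle
          rw [mem_autInducedBy_iff]
          exact ⟨g, hgR, fun x => rfl⟩
        | one =>
          refine ⟨one_mem _, ?_⟩
          have e : (⟨1, one_mem _⟩ : normalizer ((S : Subgroup G) : Set G)) = 1 := rfl
          rw [e, map_one]
          exact one_mem _
        | mul a b _ _ ha hb =>
          obtain ⟨ha1, ha2⟩ := ha
          obtain ⟨hb1, hb2⟩ := hb
          refine ⟨mul_mem ha1 hb1, ?_⟩
          have e : (⟨a * b, mul_mem ha1 hb1⟩ : normalizer ((S : Subgroup G) : Set G)) =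
              ⟨a, ha1⟩ * ⟨b, hb1⟩ := rfl
          rw [e, map_mul]
          exact mul_mem ha2 hb2
        | inv a _ ha =>
          obtain ⟨ha1, ha2⟩ := ha
          refine ⟨inv_mem ha1, ?_⟩
          have e : (⟨a⁻¹, inv_mem ha1⟩ : normalizer ((S : Subgroup G) : Set G)) =
              (⟨a, ha1⟩)⁻¹ := rfl
          rw [e, map_inv]
          exact inv_mem ha2
      obtain ⟨hmN, hmSig⟩ := key m hm
      have e : (S : Subgroup G).normalizerMonoidHom n =
          (S : Subgroup G).normalizerMonoidHom ⟨m, hmN⟩ := by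
        ext x
        rw [normalizerMonoidHom_coe, normalizerMonoidHom_coe]
        exact hnm x x.2
      rw [e]
      exact hmSig
    · apply iSup₂_le
      intro R _ α hα
      rw [mem_autInducedBy_iff] at hα ⊢
      obtain ⟨g, -, hg⟩ := hα
      exact ⟨g, mem_top g, hg⟩

end Radical

end Cfsg.Agent.Lib.Helper85.SGC
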