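import Mathlib
import Cfsg.Agent.Lib.Helper20.SuClosedDefs
import Cfsg.Agent.Lib.Helper43.SuD
import Cfsg.Agent.Lib.Helper53.CenterMeet

set_option autoImplicit false
set_option linter.style.haveILetI false
set_option linter.unusedSimpArgs false
set_option linter.unusedSectionVars false

/-!
# SU-G0: a strongly closed nontrivial subgroup contains a long root element at the first index
-/

namespace Cfsg.Agent.Lib.Helper20.SuF

open Matrix Subgroup Cfsg.Agent.Lib.Helper20.PslF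

variable {n : ℕ} {K : Type*} [Field K] [Fintype K] {F : Inv K} {T : Subgroup (SLn n K)}
  (hn : 4 ≤ n)

/-- a nontrivial element of `T` commuting with all of `UU ⊓ SUJ` -/
theorem g0_exists_central [NeZero n] (p : ℕ) [Fact p.Prime] [CharP K p] (h : SC F T)
    (hT0 : T ≠ ⊥) :
    ∃ b ∈ T, b ≠ 1 ∧ ∀ u ∈ (UU : Subgroup (SLn n K)), u ∈ SUJ F → b * u = u * b := by
  set P : Subgroup (SLn n K) := UU ⊓ SUJ F with hP
  have hTP : T ≤ P := le_inf h.leU h.leS
  haveI hN : (T.subgroupOf P).Normal := by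
    refine ⟨fun x hx g => ?_⟩
    rw [mem_subgroupOf] at hx ⊢
    have e : ((g * x * g⁻¹ : P) : SLn n K) =
        (g : SLn n K) * (x : SLn n K) * (g : SLn n K)⁻¹ := rfl
    rw [e]
    apply h.closed _ hx _ g.2.2
    rw [← e]
    exact (g * x * g⁻¹).2.1
  have hN0 : T.subgroupOf P ≠ ⊥ := by
    intro h0
    apply hT0
    rw [eq_bot_iff]
    intro t ht
    have : (⟨t, hTP ht⟩ : P) ∈ T.subgroupOf P := by
      rw [mem_subgroupOf]; exact ht
    rw [h0, mem_bot] at this
    exact mem_bot.mpr (congrArg Subtype.val this)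
  have hPp : IsPGroup p P := (UU_isPGroup (n := n) (K := K) p).to_le inf_le_left
  obtain ⟨b', hb'N, hb'1, hb'c⟩ := Cfsg.Agent.Lib.Helper53.normal_meets_center hPp
    (T.subgroupOf P) hN0
  refine ⟨(b' : SLn n K), mem_subgroupOf.mp hb'N, ?_, ?_⟩
  · intro h1
    apply hb'1
    exact Subtype.ext h1
  · intro u hu huS
    have := (mem_center_iff.mp hb'c) ⟨u, ⟨hu, huS⟩⟩
    exact (congrArg Subtype.val this).symm

/-- the `c`-coordinate of an Eichler element at the first index can be read off -/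
theorem g0_SgT_corner {w : Fin n → K} (c : K) (hw : w (Fin.rev (y0 hn)) = 0)
    (hw0 : w (y0 hn) = 0) :
    mt (SgT F (eb (y0 hn)) w c) (y0 hn) (Fin.rev (y0 hn)) = c := by
  have h1 := hf_y0 F hn
  have h2 : hf F w (eb (y0 hn)) = 0 := by rw [hf_eb_right]; exact hw
  rw [mt_SgT F c h1 h2, Sm_apply, Matrix.one_apply_ne (y0_ne_rev hn), Fin.rev_rev, eb_same, hw0,
    map_zero, map_one]
  ring

/-- SU-G0 -/
theorem exists_long_root (p : ℕ) [Fact p.Prime] [CharP K p] (h : SC F T) (hT0 : T ≠ ⊥) :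
    ∃ c0 : K, c0 ≠ 0 ∧ SgT F (eb (y0 hn)) 0 c0 ∈ T := by
  haveI : NeZero n := ⟨by omega⟩
  obtain ⟨b, hbT, hb1, hbc⟩ := g0_exists_central p h hT0
  have hbS : b ∈ SUJ F := h.leS hbT
  have hbU : b ∈ (UU : Subgroup (SLn n K)) := h.leU hbT
  have hk : 2 * 1 ≤ n := by omega
  obtain ⟨lam, hlam, -, r, hr, hbr⟩ := centralizer_QJ (F := F) hn (le_refl 1) (by norm_num) hbS
    (fun r hr hrS => hbc r (QJ_le_UU 1 hk hr) hrS)
  -- lam = 1
  have hrU : r ∈ (UU : Subgroup (SLn n K)) := QJ_le_UU 1 hk hr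
  have hlam1 : lam = 1 := by
    have e1 := ((mem_UU b).mp hbU).2 (y0 hn)
    have e2 := ((mem_UU r).mp hrU).2 (y0 hn)
    rw [hbr, mt_mul, mt_scal, Matrix.scalar_apply, Matrix.diagonal_mul, e2, mul_one] at e1
    exact e1
  have hscal : scal lam hlam = (1 : SLn n K) := by
    apply mt_ext
    rw [mt_scal, mt_one, hlam1]
    exact map_one _
  have hbr' : b = r := by rw [hbr, hscal, one_mul]
  have hbQ : b ∈ (QJ 1 : Subgroup (SLn n K)) := by rw [hbr']; exact hr
  have hform := QJ1_eq_SgT F hn hbQ hbS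
  set w : Fin n → K := wv hn b with hw
  set c : K := mt b (y0 hn) (Fin.rev (y0 hn)) with hc
  have h1 := hf_y0 F hn
  have hwl : w (Fin.rev (y0 hn)) = 0 := wv_rev_y0 hn b
  have hw0 : w (y0 hn) = 0 := wv_y0 hn b
  have h2 : hf F w (eb (y0 hn)) = 0 := by rw [hf_eb_right]; exact hwl
  -- w = 0
  have hwz : w = 0 := by
    by_contra hne
    obtain ⟨j, hj⟩ : ∃ j, w j ≠ 0 := by
      by_contra hall
      exact hne (funext fun x => by
        by_contra hx
        exact hall ⟨x, hx⟩)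
    have hj0 : j ≠ y0 hn := fun e => hj (e ▸ hw0)
    have hjl : j ≠ Fin.rev (y0 hn) := fun e => hj (e ▸ hwl)
    have hrj0 : Fin.rev j ≠ y0 hn := fun e => hjl (by rw [← e, Fin.rev_rev])
    have hrjl : Fin.rev j ≠ Fin.rev (y0 hn) := fun e => hj0 (Fin.rev_injective e)
    obtain ⟨a0, ha0⟩ := F.nontriv
    set a : K := a0 / F.sg (w j) with ha
    have hsj : F.sg (w j) ≠ 0 := F.sg_ne_zero hj
    set w' : Fin n → K := a • (eb (Fin.rev j) : Fin n → K) with hw'
    have hw'l : w' (Fin.rev (y0 hn)) = 0 := by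
      rw [hw', Pi.smul_apply, eb_ne hrjl.symm, smul_zero]
    have h2' : hf F w' (eb (y0 hn)) = 0 := by rw [hf_eb_right]; exact hw'l
    have hfix : F.sg (-(hf F w' w')) = -(hf F w' w') := by
      rw [map_neg, hf_conj]
    obtain ⟨c', hc'⟩ := F.tr_surj _ hfix
    have hu' : c' + F.sg c' + hf F w' w' = 0 := by rw [hc']; ring
    have hr'S : SgT F (eb (y0 hn)) w' c' ∈ SUJ F := SgT_mem_SUJ F h1 h2' hu'
    have hr'U : SgT F (eb (y0 hn)) w' c' ∈ (UU : Subgroup (SLn n K)) :=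
      SgT0_mem_UU F hn c' hw'l
    have hcomm := hbc _ hr'U hr'S
    rw [hform, SgT_mul F c c' h1 h2 h2', SgT_mul F c' c h1 h2' h2] at hcomm
    have e1 : mt (SgT F (eb (y0 hn)) (w + w') (c + c' - hf F w' w)) (y0 hn) (Fin.rev (y0 hn)) =
        mt (SgT F (eb (y0 hn)) (w' + w) (c' + c - hf F w w')) (y0 hn) (Fin.rev (y0 hn)) := by
      rw [hcomm]
    rw [g0_SgT_corner hn _ (by rw [Pi.add_apply, hwl, hw'l, add_zero])
        (by rw [Pi.add_apply, hw0, hw', Pi.smul_apply, eb_ne hrj0.symm, smul_zero, add_zero]),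
      g0_SgT_corner hn _ (by rw [Pi.add_apply, hwl, hw'l, add_zero])
        (by rw [Pi.add_apply, hw0, hw', Pi.smul_apply, eb_ne hrj0.symm, smul_zero, add_zero])]
      at e1
    have e2 : hf F w' w = hf F w w' := by linear_combination -e1
    have e3 : hf F w' w = a0 := by
      rw [hw', hf_smul_left, hf_eb_left, Fin.rev_rev, ha]
      field_simp
    have e4 : hf F w w' = F.sg a0 := by
      rw [← hf_conj, e3]
    rw [e3, e4] at e2
    exact ha0 e2.symm
  refine ⟨c, ?_, ?_⟩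
  · intro hc0
    apply hb1
    rw [hform, hwz, hc0, SgT_zero]
  · rw [← hwz, ← hform]
    exact hbT

end Cfsg.Agent.Lib.Helper20.SuF
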