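import Cfsg.Agent.Lib.Helper21.Lq.Defs
import Cfsg.Agent.Lib.Helper13.SpParabolic
import Cfsg.Agent.Lib.Helper6.SzLS1

/-!
# Lq hive (S2333, helper21), leaf AB-ORB `orb_bound` (helper85)

Clone of helper88's AB-HEIS (`Lib/Helper88/LsABHEIS.lean`): a common `Q1`-eigenvector `v` in the
`lam`-eigenspace of `Z`, `μ` = its `Q1`-character; `horb` gives `N` elements `y i` normalising `Q1`,
centralising `Z`, with pairwise distinct conjugate characters; the vectors `ρ (y i) v` lie in the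
eigenspace and are linearly independent.
-/

set_option autoImplicit false
set_option linter.style.haveILetI false

namespace Cfsg.Agent.Lib.Helper21.Lq

open Module Cfsg.Agent.Lib.Helper6.Ls Cfsg.Agent.Lib.Helper13

section abstract

variable {G : Type*} [Group G] [Finite G] {W : Type*} [AddCommGroup W] [Module ℂ W]
  [FiniteDimensional ℂ W]

omit [Finite G] [FiniteDimensional ℂ W] in
theorem aborb_mem_eigIn (ρ : Representation ℂ G W) (Z : Subgroup G) (lam : G → ℂ)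
    (U : Submodule ℂ W) (w : W) :
    w ∈ eigIn ρ Z lam U ↔ w ∈ U ∧ ∀ z ∈ Z, ρ z w = lam z • w := by
  unfold eigIn
  simp only [Submodule.mem_inf, Submodule.mem_iInf, LinearMap.mem_ker, LinearMap.sub_apply,
    LinearMap.smul_apply, Module.End.one_apply, sub_eq_zero, Subtype.forall]

omit [Finite G] [FiniteDimensional ℂ W] in
theorem aborb_rho_inv (ρ : Representation ℂ G W) (g : G) (w : W) : ρ g⁻¹ (ρ g w) = w := by
  rw [← Module.End.mul_apply, ← map_mul, inv_mul_cancel, map_one, Module.End.one_apply]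

/-- AB-ORB -/
theorem orb_bound (ρ : Representation ℂ G W) (Z Q1 : Subgroup G) (hZQ : Z ≤ Q1)
    (hQ1 : ∀ a ∈ Q1, ∀ b ∈ Q1, a * b = b * a) (N : ℕ)
    (horb : ∀ μ : G → ℂ, μ 1 = 1 → (∀ a ∈ Q1, ∀ b ∈ Q1, μ (a * b) = μ a * μ b) → (∃ z ∈ Z, μ z ≠ 1) →
      ∃ (ι : Type) (_ : Fintype ι) (y : ι → G), Fintype.card ι = N ∧
        (∀ i, ∀ a ∈ Q1, (y i)⁻¹ * a * y i ∈ Q1) ∧ (∀ i, ∀ z ∈ Z, (y i)⁻¹ * z * y i = z) ∧
        (∀ i j, i ≠ j → ∃ a ∈ Q1, μ ((y i)⁻¹ * a * y i) ≠ μ ((y j)⁻¹ * a * y j)))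
    (lam : G → ℂ) (hlam : ∃ z ∈ Z, lam z ≠ 1) (hne : eigIn ρ Z lam ⊤ ≠ ⊥) :
    N ≤ finrank ℂ (eigIn ρ Z lam ⊤) := by
  classical
  set E := eigIn ρ Z lam ⊤ with hE
  -- stability of `E` under `Q1`
  have hEQ : ∀ a ∈ Q1, ∀ w ∈ E, ρ a w ∈ E := by
    intro a ha w hw
    rw [hE, aborb_mem_eigIn] at hw ⊢
    refine ⟨Submodule.mem_top, fun z hz => ?_⟩
    rw [← Module.End.mul_apply, ← map_mul, hQ1 z (hZQ hz) a ha, map_mul, Module.End.mul_apply,
      hw.2 z hz, map_smul]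
  -- a common eigenvector
  haveI : Fintype Q1 := Fintype.ofFinite _
  obtain ⟨v, hvE, hv0, hv⟩ := Cfsg.Agent.Lib.Helper6.SzLS.exists_common_eigenvector
    (fun a : Q1 => (ρ (a : G) : End ℂ W))
    (fun a b => by
      show ρ (a : G) * ρ (b : G) = ρ (b : G) * ρ (a : G)
      rw [← map_mul, ← map_mul, hQ1 a a.2 b b.2])
    Finset.univ E hne (fun a w hw => hEQ a a.2 w hw)
  have hv' : ∀ a : Q1, ∃ μ : ℂ, ρ (a : G) v = μ • v := fun a => hv a (Finset.mem_univ a)
  choose μ0 hμ0 using hv'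
  have hvE' := (aborb_mem_eigIn ρ Z lam ⊤ v).mp hvE
  -- the character `μ` of `Q1` (zero off `Q1`)
  set μ : G → ℂ := fun g => if h : g ∈ Q1 then μ0 ⟨g, h⟩ else 0 with hμdef
  have hμQ : ∀ a (ha : a ∈ Q1), μ a = μ0 ⟨a, ha⟩ := by
    intro a ha
    simp only [hμdef, dif_pos ha]
  have hμv : ∀ a ∈ Q1, ρ a v = μ a • v := by
    intro a ha
    rw [hμQ a ha]
    exact hμ0 ⟨a, ha⟩
  have hμ1 : μ 1 = 1 := by
    have h1 := hμv 1 Q1.one_mem
    rw [map_one, Module.End.one_apply] at h1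
    have h2 : (μ 1 - 1) • v = 0 := by rw [sub_smul, one_smul, ← h1, sub_self]
    rcases smul_eq_zero.mp h2 with h3 | h3
    · exact sub_eq_zero.mp h3
    · exact absurd h3 hv0
  have hμmul : ∀ a ∈ Q1, ∀ b ∈ Q1, μ (a * b) = μ a * μ b := by
    intro a ha b hb
    have h1 := hμv (a * b) (Q1.mul_mem ha hb)
    rw [map_mul, Module.End.mul_apply, hμv b hb, map_smul, hμv a ha, smul_smul] at h1
    have h2 : (μ b * μ a - μ (a * b)) • v = 0 := by rw [sub_smul, h1, sub_self]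
    rcases smul_eq_zero.mp h2 with h3 | h3
    · rw [mul_comm]; exact (sub_eq_zero.mp h3).symm
    · exact absurd h3 hv0
  have hμZ : ∀ z ∈ Z, μ z = lam z := by
    intro z hz
    have h1 := hμv z (hZQ hz)
    rw [hvE'.2 z hz] at h1
    have h2 : (lam z - μ z) • v = 0 := by rw [sub_smul, h1, sub_self]
    rcases smul_eq_zero.mp h2 with h3 | h3
    · exact (sub_eq_zero.mp h3).symm
    · exact absurd h3 hv0
  have hμnt : ∃ z ∈ Z, μ z ≠ 1 := by
    obtain ⟨z0, hz0, hz01⟩ := hlam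
    exact ⟨z0, hz0, by rw [hμZ z0 hz0]; exact hz01⟩
  obtain ⟨ι, hι, y, hcard, hyQ, hyZ, hsep⟩ := horb μ hμ1 hμmul hμnt
  -- the translates
  set χ : ι → (Q1 → ℂ) := fun i a => μ ((y i)⁻¹ * (a : G) * y i) with hχ
  have hvi : ∀ i, ∀ a : Q1, ρ (a : G) (ρ (y i) v) = χ i a • ρ (y i) v := by
    intro i a
    have e1 : (a : G) * y i = y i * ((y i)⁻¹ * (a : G) * y i) := by group
    rw [← Module.End.mul_apply, ← map_mul, e1, map_mul, Module.End.mul_apply,
      hμv _ (hyQ i a a.2), map_smul]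
  have hvi0 : ∀ i, ρ (y i) v ≠ 0 := by
    intro i h0
    have h2 := aborb_rho_inv ρ (y i) v
    rw [h0, map_zero] at h2
    exact hv0 h2.symm
  have hEy : ∀ i, ρ (y i) v ∈ E := by
    intro i
    rw [hE, aborb_mem_eigIn]
    refine ⟨Submodule.mem_top, fun z hz => ?_⟩
    have e1 : z * y i = y i * ((y i)⁻¹ * z * y i) := by group
    rw [← Module.End.mul_apply, ← map_mul, e1, hyZ i z hz, map_mul, Module.End.mul_apply,
      hvE'.2 z hz, map_smul]
  have hχinj : Function.Injective χ := by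
    intro i j hij
    by_contra hne'
    obtain ⟨a, ha, hsa⟩ := hsep i j hne'
    have h1 := congrFun hij ⟨a, ha⟩
    simp only [hχ] at h1
    exact hsa h1
  -- independence
  have hind := Module.End.independent_iInf_maxGenEigenspace_of_forall_mapsTo
    (fun a : Q1 => (ρ (a : G) : End ℂ W))
    (fun a b φ => Module.End.mapsTo_maxGenEigenspace_of_comm
      (show Commute (ρ (b : G)) (ρ (a : G)) by
        show ρ (b : G) * ρ (a : G) = ρ (a : G) * ρ (b : G)
        rw [← map_mul, ← map_mul, hQ1 a a.2 b b.2]) φ)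
  have hind' := hind.comp hχinj
  have hli : LinearIndependent ℂ (fun i => ρ (y i) v) := by
    refine iSupIndep.linearIndependent _ hind' (fun i => ?_) hvi0
    simp only [Function.comp_apply, Submodule.mem_iInf]
    intro a
    refine (Module.End.genEigenspace (ρ (a : G)) (χ i a)).monotone (le_top : (1 : ℕ∞) ≤ ⊤) ?_
    rw [Module.End.mem_genEigenspace_one]
    exact hvi i a
  have hspan : Submodule.span ℂ (Set.range fun i => ρ (y i) v) ≤ E := by
    rw [Submodule.span_le]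
    rintro _ ⟨i, rfl⟩
    exact hEy i
  calc N = Fintype.card ι := hcard.symm
    _ = finrank ℂ (Submodule.span ℂ (Set.range fun i => ρ (y i) v)) :=
        (finrank_span_eq_card hli).symm
    _ ≤ finrank ℂ E := Submodule.finrank_mono hspan

end abstract

end Cfsg.Agent.Lib.Helper21.Lq
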