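import Cfsg.Agent.Lib.Helper21.Lo.Defs
import Cfsg.Agent.Lib.Helper70.LsABNT
import Cfsg.Agent.Lib.Helper85.LqABORB

/-!
# Lo sub-hive (half B of the We hive S2347, helper21), leaf AB-ORB2 `orb2_bound` (helper85)

Variant of `Lq.orb_bound`: `A` abelian acting non-trivially has a common eigenvector `v` with a non-trivial
character `μ`; `horb` gives `N` elements `y i` normalising `A` with pairwise distinct conjugate characters; the
vectors `ρ (y i) v` are linearly independent.
-/

set_option autoImplicit false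
set_option linter.style.haveILetI false

namespace Cfsg.Agent.Lib.Helper21.Lo

open Module Cfsg.Agent.Lib.Helper6.Ls Cfsg.Agent.Lib.Helper13 Cfsg.Agent.Lib.Helper21.Lq

section abstract

variable {G : Type*} [Group G] [Finite G] {W : Type*} [AddCommGroup W] [Module ℂ W]
  [FiniteDimensional ℂ W]

/-- AB-ORB2 -/
theorem orb2_bound (ρ : Representation ℂ G W) (A : Subgroup G)
    (hA : ∀ a ∈ A, ∀ b ∈ A, a * b = b * a) (N : ℕ)
    (horb : ∀ μ : G → ℂ, μ 1 = 1 → (∀ a ∈ A, ∀ b ∈ A, μ (a * b) = μ a * μ b) → (∃ a ∈ A, μ a ≠ 1) →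
      ∃ (ι : Type) (_ : Fintype ι) (y : ι → G), Fintype.card ι = N ∧
        (∀ i, ∀ a ∈ A, (y i)⁻¹ * a * y i ∈ A) ∧
        (∀ i j, i ≠ j → ∃ a ∈ A, μ ((y i)⁻¹ * a * y i) ≠ μ ((y j)⁻¹ * a * y j)))
    (hnt : ActsNontriv ρ A ⊤) :
    N ≤ finrank ℂ W := by
  classical
  obtain ⟨lam, hlam, hne⟩ := exists_eig_of_actsNontriv ρ A hA ⊤
    (fun z _ w _ => Submodule.mem_top) hnt
  obtain ⟨v, hvE, hv0⟩ := Submodule.exists_mem_ne_zero_of_ne_bot hne
  have hvE' := (aborb_mem_eigIn ρ A lam ⊤ v).mp hvE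
  set μ : G → ℂ := fun g => if g = 1 then 1 else lam g with hμdef
  have hμv : ∀ a ∈ A, ρ a v = μ a • v := by
    intro a ha
    by_cases h1 : a = 1
    · subst h1
      simp [hμdef]
    · simp only [hμdef, if_neg h1]
      exact hvE'.2 a ha
  have hμ1 : μ 1 = 1 := by simp [hμdef]
  have hμmul : ∀ a ∈ A, ∀ b ∈ A, μ (a * b) = μ a * μ b := by
    intro a ha b hb
    have h1 := hμv (a * b) (A.mul_mem ha hb)
    rw [map_mul, Module.End.mul_apply, hμv b hb, map_smul, hμv a ha, smul_smul] at h1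
    have h2 : (μ b * μ a - μ (a * b)) • v = 0 := by rw [sub_smul, h1, sub_self]
    rcases smul_eq_zero.mp h2 with h3 | h3
    · rw [mul_comm]; exact (sub_eq_zero.mp h3).symm
    · exact absurd h3 hv0
  have hμnt : ∃ a ∈ A, μ a ≠ 1 := by
    obtain ⟨z0, hz0, hz01⟩ := hlam
    refine ⟨z0, hz0, ?_⟩
    by_cases h1 : z0 = 1
    · exfalso
      subst h1
      have h2 := hvE'.2 1 A.one_mem
      rw [map_one, Module.End.one_apply] at h2
      have h3 : (lam 1 - 1) • v = 0 := by rw [sub_smul, one_smul, ← h2, sub_self]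
      rcases smul_eq_zero.mp h3 with h4 | h4
      · exact hz01 (sub_eq_zero.mp h4)
      · exact hv0 h4
    · simp only [hμdef, if_neg h1]
      exact hz01
  obtain ⟨ι, hι, y, hcard, hyA, hsep⟩ := horb μ hμ1 hμmul hμnt
  set χ : ι → (A → ℂ) := fun i a => μ ((y i)⁻¹ * (a : G) * y i) with hχ
  have hvi : ∀ i, ∀ a : A, ρ (a : G) (ρ (y i) v) = χ i a • ρ (y i) v := by
    intro i a
    have e1 : (a : G) * y i = y i * ((y i)⁻¹ * (a : G) * y i) := by group
    rw [← Module.End.mul_apply, ← map_mul, e1, map_mul, Module.End.mul_apply,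
      hμv _ (hyA i a a.2), map_smul]
  have hvi0 : ∀ i, ρ (y i) v ≠ 0 := by
    intro i h0
    have h2 := aborb_rho_inv ρ (y i) v
    rw [h0, map_zero] at h2
    exact hv0 h2.symm
  have hχinj : Function.Injective χ := by
    intro i j hij
    by_contra hne'
    obtain ⟨a, ha, hsa⟩ := hsep i j hne'
    have h1 := congrFun hij ⟨a, ha⟩
    simp only [hχ] at h1
    exact hsa h1
  have hind := Module.End.independent_iInf_maxGenEigenspace_of_forall_mapsTo
    (fun a : A => (ρ (a : G) : End ℂ W))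
    (fun a b φ => Module.End.mapsTo_maxGenEigenspace_of_comm
      (show Commute (ρ (b : G)) (ρ (a : G)) by
        show ρ (b : G) * ρ (a : G) = ρ (a : G) * ρ (b : G)
        rw [← map_mul, ← map_mul, hA a a.2 b b.2]) φ)
  have hind' := hind.comp hχinj
  have hli : LinearIndependent ℂ (fun i => ρ (y i) v) := by
    refine iSupIndep.linearIndependent _ hind' (fun i => ?_) hvi0
    simp only [Function.comp_apply, Submodule.mem_iInf]
    intro a
    refine (Module.End.genEigenspace (ρ (a : G)) (χ i a)).monotone (le_top : (1 : ℕ∞) ≤ ⊤) ?_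
    rw [Module.End.mem_genEigenspace_one]
    exact hvi i a
  calc N = Fintype.card ι := hcard.symm
    _ = finrank ℂ (Submodule.span ℂ (Set.range fun i => ρ (y i) v)) :=
        (finrank_span_eq_card hli).symm
    _ ≤ finrank ℂ W := Submodule.finrank_le _

end abstract

end Cfsg.Agent.Lib.Helper21.Lo
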