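import Mathlib
import Cfsg.Prelude.Def_Balance
import Cfsg.Agent.S1301

/-! # MC hive (S1305, architect helper18): leaf MC-LBAL `le_pLayer` (helper85)

L-balance (S1301) with `T = zpowers a`. -/

set_option autoImplicit false

open Cfsg

namespace Cfsg.Agent.Lib.Helper18.Mc

open Subgroup

theorem mclbal_isPGroup {X : Type*} [Group X] (a : X) (ha : a * a = 1) : IsPGroup 2 ↥(zpowers a) := by
  rintro ⟨g, hg⟩
  refine ⟨1, ?_⟩
  obtain ⟨n, rfl⟩ := Subgroup.mem_zpowers_iff.1 hg
  apply Subtype.ext
  simp only [pow_one, Subgroup.coe_pow, Subgroup.coe_one]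
  rw [← zpow_natCast, ← zpow_mul, mul_comm, zpow_mul, zpow_natCast, pow_two, ha, one_zpow]

theorem mclbal_centralizer {X : Type*} [Group X] (a : X) :
    centralizer ((zpowers a : Subgroup X) : Set X) = centralizer ({a} : Set X) := by
  ext x
  rw [Subgroup.mem_centralizer_iff, Subgroup.mem_centralizer_singleton_iff]
  constructor
  · intro h
    exact (h a (Subgroup.mem_zpowers a)).symm
  · intro h g hg
    obtain ⟨n, rfl⟩ := Subgroup.mem_zpowers_iff.1 hg
    have hc : Commute a x := h.symm
    exact (hc.zpow_left n).eq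

theorem mclbal_transport {X : Type*} [Group X] (C₁ C₂ : Subgroup X) (h : C₁ = C₂) :
    (pLayer 2 ↥C₁).map C₁.subtype = (pLayer 2 ↥C₂).map C₂.subtype := by
  subst h
  rfl

/-- MC-LBAL. -/
theorem le_pLayer {X : Type*} [Group X] [Finite X] (a : X) (ha : a * a = 1) (K : Subgroup X)
    (hKa : K ≤ centralizer ({a} : Set X)) (hK : IsPComponent 2 (K.subgroupOf (centralizer ({a} : Set X)))) :
    K ≤ pLayer 2 X := by
  have h1 : K.subgroupOf (centralizer ({a} : Set X)) ≤ pLayer 2 ↥(centralizer ({a} : Set X)) :=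
    le_sSup hK
  have h2 : K = (K.subgroupOf (centralizer ({a} : Set X))).map (centralizer ({a} : Set X)).subtype := by
    rw [Subgroup.map_subgroupOf_eq_of_le hKa]
  have h3 : K ≤ (pLayer 2 ↥(centralizer ({a} : Set X))).map (centralizer ({a} : Set X)).subtype := by
    rw [h2]
    exact Subgroup.map_mono h1
  have h4 := Cfsg.Agent.S1301.result (zpowers a) (mclbal_isPGroup a ha)
  rw [mclbal_transport _ _ (mclbal_centralizer a)] at h4
  exact le_trans h3 h4

end Cfsg.Agent.Lib.Helper18.Mc
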