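import Mathlib
import Cfsg.Agent.Lib.Helper45.SpAutSylow2
import Cfsg.Agent.Lib.Helper41.PSLnDefs
import Cfsg.Agent.Lib.Helper95.FusionTransport

set_option autoImplicit false

/-!
# Definitions for the `p`-fusion system of `PSp_{2m}(F)` in the defining characteristic (S5171)

On top of `Lib/Helper45/SpAutSylow*.lean` (`SpG m F`, `US = DS ⊔ NS`, `dHom : SL_m → Sp`,
`nElt S = [1 S; 0 1]`, transvections `T v c`, basis vectors `eV i`, `fV i`, form `B`):
the diagonal torus elements `tor d`, `torAt i t`, and the unipotent radical `QS` of the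
stabiliser of the point `⟨e_0⟩`.
-/

namespace Cfsg.Agent.Lib.Helper85.PSp

open Matrix Cfsg.Agent.Lib.Helper45.SpAut Cfsg.Agent.Lib.Helper41.PSLn

variable {F : Type*} [Field F] {m : ℕ}

/-- the matrix `diag(d, d⁻¹)` -/
def torMat (d : Fin m → Fˣ) : Matrix (Fin m ⊕ Fin m) (Fin m ⊕ Fin m) F :=
  fromBlocks (diagonal fun i => ((d i : Fˣ) : F)) 0 0 (diagonal fun i => (((d i)⁻¹ : Fˣ) : F))

theorem torMat_mem (d : Fin m → Fˣ) : torMat d ∈ symplecticGroup (Fin m) F := by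
  rw [SymplecticGroup.mem_iff, Matrix.J, torMat, fromBlocks_transpose, fromBlocks_multiply,
    fromBlocks_multiply]
  have h1 : (diagonal fun i => ((d i : Fˣ) : F)) * (diagonal fun i => (((d i)⁻¹ : Fˣ) : F)) = 1 := by
    rw [diagonal_mul_diagonal]
    have : (fun i => ((d i : Fˣ) : F) * (((d i)⁻¹ : Fˣ) : F)) = fun _ => (1 : F) := by
      funext i
      rw [← Units.val_mul, mul_inv_cancel, Units.val_one]
    rw [this, diagonal_one]
  have h2 : (diagonal fun i => (((d i)⁻¹ : Fˣ) : F)) * (diagonal fun i => ((d i : Fˣ) : F)) = 1 := by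
    rw [diagonal_mul_diagonal]
    have : (fun i => (((d i)⁻¹ : Fˣ) : F) * ((d i : Fˣ) : F)) = fun _ => (1 : F) := by
      funext i
      rw [← Units.val_mul, inv_mul_cancel, Units.val_one]
    rw [this, diagonal_one]
  simp only [Matrix.mul_zero, Matrix.zero_mul, add_zero, zero_add, Matrix.mul_one, Matrix.mul_neg,
    transpose_zero, diagonal_transpose, Matrix.neg_mul, h1, h2, neg_zero]

/-- the torus element `diag(d, d⁻¹)` of `Sp_{2m}(F)` -/
def tor (d : Fin m → Fˣ) : SpG m F := ⟨torMat d, torMat_mem d⟩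

theorem tor_coe (d : Fin m → Fˣ) :
    (tor d : SpG m F).1 = fromBlocks (diagonal fun i => ((d i : Fˣ) : F)) 0 0
      (diagonal fun i => (((d i)⁻¹ : Fˣ) : F)) := rfl

/-- the torus element with `t` at `e_i`, `t⁻¹` at `f_i`, `1` elsewhere -/
def torAt (i : Fin m) (t : Fˣ) : SpG m F := tor (Function.update (fun _ => (1 : Fˣ)) i t)

/-- `c (E_ij + E_ji)` -/
def offS (i j : Fin m) (c : F) : Matrix (Fin m) (Fin m) F := single i j c + single j i c

theorem offS_symm (i j : Fin m) (c : F) : (offS i j c : Matrix (Fin m) (Fin m) F)ᵀ = offS i j c := by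
  unfold offS
  rw [transpose_add, transpose_single, transpose_single, add_comm]

theorem single_symm (i : Fin m) (c : F) :
    (single i i c : Matrix (Fin m) (Fin m) F)ᵀ = single i i c := transpose_single i i c

/-- the unipotent radical of the stabiliser of the point `⟨e_0⟩`: the elements fixing `e_0` and
acting trivially on `e_0^⊥ / ⟨e_0⟩` -/
def QS (m : ℕ) (F : Type*) [Field F] [NeZero m] : Subgroup (SpG m F) where
  carrier := {g | g.1 *ᵥ (eV 0 : Vec m F) = eV 0 ∧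
    ∀ x : Vec m F, B x (eV 0) = 0 → ∃ c : F, g.1 *ᵥ x = x + c • (eV 0 : Vec m F)}
  one_mem' := ⟨one_mulVec' _, fun x _ => ⟨0, by rw [one_mulVec', zero_smul, add_zero]⟩⟩
  mul_mem' := by
    rintro g h ⟨hg0, hg⟩ ⟨hh0, hh⟩
    refine ⟨by rw [mul_mulVec, hh0, hg0], fun x hx => ?_⟩
    obtain ⟨c, hc⟩ := hh x hx
    obtain ⟨c', hc'⟩ := hg x hx
    refine ⟨c' + c, ?_⟩
    rw [mul_mulVec, hc, mulVec_add, mulVec_smul, hg0, hc', add_smul, add_assoc]
  inv_mem' := by
    rintro g ⟨hg0, hg⟩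
    have hi0 : (g⁻¹).1 *ᵥ (eV 0 : Vec m F) = eV 0 := by
      nth_rewrite 1 [← hg0]
      exact inv_mulVec_mulVec g _
    refine ⟨hi0, fun x hx => ?_⟩
    obtain ⟨c, hc⟩ := hg x hx
    refine ⟨-c, ?_⟩
    have h1 : (g⁻¹).1 *ᵥ (g.1 *ᵥ x) = x := inv_mulVec_mulVec g x
    rw [hc, mulVec_add, mulVec_smul, hi0] at h1
    rw [neg_smul]
    exact eq_add_neg_of_add_eq h1

theorem mem_QS [NeZero m] {g : SpG m F} : g ∈ QS m F ↔ g.1 *ᵥ (eV 0 : Vec m F) = eV 0 ∧
    ∀ x : Vec m F, B x (eV 0) = 0 → ∃ c : F, g.1 *ᵥ x = x + c • (eV 0 : Vec m F) := Iff.rfl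

end Cfsg.Agent.Lib.Helper85.PSp
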