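import Mathlib
import Cfsg.Agent.Lib.Helper30.L34.Defs
import Cfsg.Agent.Lib.Helper38.SLCard
import Cfsg.Agent.S0243

/-!
# L34 hive (S2088, owner helper30), leaf L34-PI (helper85)

The projection `SL₃(4) → PSL₃(4)`, the orders of both groups, and the transfer of `PSL₃` to an arbitrary
field with four elements.
-/

set_option autoImplicit false

namespace Cfsg.Agent.Lib.Helper30.L34

open Cfsg.Agent.Lib.Helper28.Sp44F4

universe u

theorem pi0_surjective : Function.Surjective pi0 :=
  QuotientGroup.mk'_surjective _

theorem pi_Mg4_mem_center : Mg 4 ∈ Subgroup.center S3 := by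
  rw [Matrix.SpecialLinearGroup.mem_center_iff]
  refine ⟨F4.w, by decide, ?_⟩
  ext r c
  fin_cases r <;> fin_cases c <;> decide

theorem pi0_scalar : pi0 (Mg 4) = 1 := by
  unfold pi0
  rw [QuotientGroup.mk'_apply, QuotientGroup.eq_one_iff]
  exact pi_Mg4_mem_center

theorem card_S3 : Nat.card S3 = 60480 := by
  have h := Cfsg.Agent.Lib.Helper38.card_SL_mul (F := K) 3 (by norm_num)
  rw [Matrix.card_GL_field, F4.card_eq, Fin.prod_univ_three] at h
  norm_num at h
  show Nat.card (Matrix.SpecialLinearGroup (Fin 3) K) = 60480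
  rw [Nat.card_eq_fintype_card]
  omega

theorem card_G0 : Nat.card G0 = 20160 := by
  have hcard := Cfsg.Agent.S0243.result (F := K) (q := 4) F4.card_eq 3 (by norm_num)
  rw [Fin.prod_univ_three] at hcard
  norm_num at hcard
  show Nat.card (Matrix.ProjectiveSpecialLinearGroup (Fin 3) K) = 20160
  rw [Nat.card_eq_fintype_card]
  omega

/-- an isomorphism maps the centre onto the centre -/
theorem pi_map_center {G H : Type*} [Group G] [Group H] (e : G ≃* H) :
    (Subgroup.center G).map (e : G →* H) = Subgroup.center H := by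
  ext x
  constructor
  · rintro ⟨y, hy, rfl⟩
    rw [Subgroup.mem_center_iff]
    intro h
    obtain ⟨g, rfl⟩ := e.surjective h
    show e g * e y = e y * e g
    rw [← map_mul, ← map_mul, Subgroup.mem_center_iff.mp hy g]
  · intro hx
    refine ⟨e.symm x, ?_, by simp⟩
    show e.symm x ∈ Subgroup.center G
    rw [Subgroup.mem_center_iff]
    intro g
    apply e.injective
    rw [map_mul, map_mul, MulEquiv.apply_symm_apply]
    exact Subgroup.mem_center_iff.mp hx (e g)

/-- a ring isomorphism induces an isomorphism of special linear groups -/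
noncomputable def pi_slEquiv {R S : Type*} [CommRing R] [CommRing S] (n : Type*) [Fintype n]
    [DecidableEq n] (ψ : R ≃+* S) :
    Matrix.SpecialLinearGroup n R ≃* Matrix.SpecialLinearGroup n S where
  toFun := Matrix.SpecialLinearGroup.map (ψ : R →+* S)
  invFun := Matrix.SpecialLinearGroup.map (ψ.symm : S →+* R)
  left_inv A := by
    apply Subtype.ext
    ext i j
    show ψ.symm (ψ (A.1 i j)) = A.1 i j
    simp
  right_inv A := by
    apply Subtype.ext
    ext i j
    show ψ (ψ.symm (A.1 i j)) = A.1 i j
    simp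
  map_mul' A B := map_mul _ A B

theorem exists_mulEquiv_G0 {F : Type u} [Field F] [Fintype F] (hF : Fintype.card F = 4) :
    Nonempty (Matrix.ProjectiveSpecialLinearGroup (Fin 3) F ≃* G0) := by
  have hcard : Fintype.card F = Fintype.card K := by rw [hF, F4.card_eq]
  let ψ : F ≃+* K := FiniteField.ringEquivOfCardEq hcard
  let e : Matrix.SpecialLinearGroup (Fin 3) F ≃* Matrix.SpecialLinearGroup (Fin 3) K :=
    pi_slEquiv (Fin 3) ψ
  exact ⟨QuotientGroup.congr _ _ e (pi_map_center e)⟩

end Cfsg.Agent.Lib.Helper30.L34
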