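import Mathlib.GroupTheory.Sylow
import Mathlib.Algebra.Group.End

set_option autoImplicit false

namespace Cfsg.Agent.Lib.Helper85

variable {A B : Type*} [Group A] [Group B]

/-- The endomorphism of `B` induced by an automorphism of `A` preserving `ker f`, for a surjective
`f : A →* B`. -/
noncomputable def inducedHom (f : A →* B) (hf : Function.Surjective f) (β : MulAut A)
    (hβ : ∀ x, f x = 1 → f (β x) = 1) : B →* B :=
  f.liftOfSurjective hf ⟨f.comp β.toMonoidHom, fun x hx => hβ x hx⟩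

theorem inducedHom_apply (f : A →* B) (hf : Function.Surjective f) (β : MulAut A)
    (hβ : ∀ x, f x = 1 → f (β x) = 1) (x : A) : inducedHom f hf β hβ (f x) = f (β x) :=
  MonoidHom.liftOfRightInverse_comp_apply _ _ _ ⟨f.comp β.toMonoidHom, fun x hx => hβ x hx⟩ x

/-- The automorphism of `B` induced by an automorphism of `A` preserving `ker f`. -/
noncomputable def inducedAut (f : A →* B) (hf : Function.Surjective f) (β : MulAut A)
    (hβ : ∀ x, f x = 1 → f (β x) = 1) (hβ' : ∀ x, f x = 1 → f (β.symm x) = 1) : MulAut B :=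
  MonoidHom.toMulEquiv (inducedHom f hf β hβ) (inducedHom f hf β.symm hβ')
    (by
      ext y
      obtain ⟨x, rfl⟩ := hf y
      simp [inducedHom_apply])
    (by
      ext y
      obtain ⟨x, rfl⟩ := hf y
      simp [inducedHom_apply])

theorem inducedAut_apply (f : A →* B) (hf : Function.Surjective f) (β : MulAut A)
    (hβ : ∀ x, f x = 1 → f (β x) = 1) (hβ' : ∀ x, f x = 1 → f (β.symm x) = 1) (x : A) :
    inducedAut f hf β hβ hβ' (f x) = f (β x) :=
  inducedHom_apply f hf β hβ x

/-- The homomorphism `𝒜 → Aut(B)` for a subgroup `𝒜 ≤ Aut(A)` preserving `ker f`. -/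
noncomputable def inducedAutHom (f : A →* B) (hf : Function.Surjective f)
    (𝒜 : Subgroup (MulAut A)) (h𝒜 : ∀ β ∈ 𝒜, ∀ x, f x = 1 → f (β x) = 1) : 𝒜 →* MulAut B :=
  MonoidHom.mk'
    (fun β => inducedAut f hf β.1 (h𝒜 β.1 β.2) (h𝒜 β.1⁻¹ (𝒜.inv_mem β.2)))
    (by
      intro β γ
      ext y
      obtain ⟨x, rfl⟩ := hf y
      rw [MulAut.mul_apply, inducedAut_apply, inducedAut_apply, inducedAut_apply]
      rfl)

theorem inducedAutHom_apply (f : A →* B) (hf : Function.Surjective f)
    (𝒜 : Subgroup (MulAut A)) (h𝒜 : ∀ β ∈ 𝒜, ∀ x, f x = 1 → f (β x) = 1) (β : 𝒜) (x : A) :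
    inducedAutHom f hf 𝒜 h𝒜 β (f x) = f ((β : MulAut A) x) :=
  inducedAut_apply f hf β.1 _ _ x

end Cfsg.Agent.Lib.Helper85
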