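import Cfsg.Agent.Lib.Helper87.Alperin

set_option autoImplicit false

namespace Cfsg.Agent.Lib.Helper85

open Cfsg Cfsg.FusionSystem Cfsg.Agent.Lib.Helper87

/-- the `p`-residual is a normal subgroup (after helper20) -/
theorem pResidual_normal' (p : ℕ) (G : Type*) [Group G] : (Cfsg.pResidual p G).Normal := by
  constructor
  intro n hn g
  unfold Cfsg.pResidual at hn ⊢
  induction hn using Subgroup.closure_induction with
  | mem x hx =>
    apply Subgroup.subset_closure
    show Nat.Coprime (orderOf (g * x * g⁻¹)) p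
    have : orderOf (g * x * g⁻¹) = orderOf x := by
      have := orderOf_injective (MulAut.conj g).toMonoidHom (MulAut.conj g).injective x
      simpa using this
    rw [this]; exact hx
  | one => simp
  | mul _ _ _ _ IHa IHb => simpa using mul_mem IHa IHb
  | inv _ _ IH => simpa [mul_assoc] using inv_mem IH

/-- the quotient by the `p`-residual is a `p`-group (finite case; after helper20) -/
theorem pResidual_quotient_isPGroup' (p : ℕ) [Fact p.Prime] (G : Type*) [Group G] [Finite G]
    (N : Subgroup G) [N.Normal] (hN : Cfsg.pResidual p G ≤ N) : IsPGroup p (G ⧸ N) := by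
  intro x
  obtain ⟨g, rfl⟩ := QuotientGroup.mk_surjective x
  have hpos : orderOf g ≠ 0 := (orderOf_pos g).ne'
  obtain ⟨k, m, hm, hkm⟩ := Nat.exists_eq_pow_mul_and_not_dvd hpos p (Fact.out : p.Prime).ne_one
  refine ⟨k, ?_⟩
  rw [← QuotientGroup.mk_pow, QuotientGroup.eq_one_iff]
  apply hN
  apply Subgroup.subset_closure
  show Nat.Coprime (orderOf (g ^ p ^ k)) p
  have h1 : orderOf (g ^ p ^ k) = m := by
    rw [orderOf_pow' g (pow_ne_zero k (Fact.out : p.Prime).ne_zero), hkm]
    have : Nat.gcd (p ^ k * m) (p ^ k) = p ^ k := Nat.gcd_eq_right (dvd_mul_right _ _)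
    rw [this, Nat.mul_div_cancel_left _ (pow_pos (Fact.out : p.Prime).pos k)]
  rw [h1]
  exact ((Fact.out : p.Prime).coprime_iff_not_dvd.mpr hm).symm

/-- A finite group is the product of a Sylow `p`-subgroup and its `p`-residual. -/
theorem exists_sylow_mul_pResidual {p : ℕ} [Fact p.Prime] {A : Type*} [Group A] [Finite A]
    (P : Sylow p A) (a : A) : ∃ t ∈ (P : Subgroup A), ∃ b ∈ Cfsg.pResidual p A, a = t * b := by
  haveI := pResidual_normal' p A
  have hq : IsPGroup p (A ⧸ Cfsg.pResidual p A) := pResidual_quotient_isPGroup' p A _ le_rfl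
  have hsurj : Function.Surjective (QuotientGroup.mk' (Cfsg.pResidual p A)) :=
    QuotientGroup.mk'_surjective _
  have htop : ((P.mapSurjective hsurj : Sylow p (A ⧸ Cfsg.pResidual p A)) :
      Subgroup (A ⧸ Cfsg.pResidual p A)) = ⊤ :=
    ((P.mapSurjective hsurj).is_maximal' (hq.to_subgroup ⊤) le_top).symm
  have hmem : QuotientGroup.mk' (Cfsg.pResidual p A) a ∈
      ((P.mapSurjective hsurj : Sylow p (A ⧸ Cfsg.pResidual p A)) :
        Subgroup (A ⧸ Cfsg.pResidual p A)) := by
    rw [htop]; exact Subgroup.mem_top _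
  rw [Sylow.coe_mapSurjective] at hmem
  obtain ⟨t, ht, hta⟩ := hmem
  refine ⟨t, ht, t⁻¹ * a, ?_, by group⟩
  have : (QuotientGroup.mk t : A ⧸ Cfsg.pResidual p A) = QuotientGroup.mk a := hta
  exact QuotientGroup.eq.mp this

theorem map_pResidual_le {p : ℕ} {A B : Type*} [Group A] [Group B] (f : A →* B)
    (hf : Function.Injective f) : (Cfsg.pResidual p A).map f ≤ Cfsg.pResidual p B := by
  rw [Subgroup.map_le_iff_le_comap]
  unfold Cfsg.pResidual
  rw [Subgroup.closure_le]
  intro g hg
  apply Subgroup.subset_closure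
  show Nat.Coprime (orderOf (f g)) p
  rw [orderOf_injective f hf g]
  exact hg

variable {Ω : Type*} [Group Ω] {S : Subgroup Ω}

theorem hyperfocal_le (F : FusionSystem S) (p : ℕ) : F.hyperfocalSubgroup p ≤ S := by
  unfold FusionSystem.hyperfocalSubgroup
  rw [Subgroup.closure_le]
  rintro y ⟨P, α, x, hPS, -, rfl⟩
  exact S.mul_mem (S.inv_mem (hPS x.2)) (hPS ((α : MulAut P) x).2)

theorem hyperfocal_gen_mem (F : FusionSystem S) (p : ℕ) {P : Subgroup Ω} (hPS : P ≤ S)
    (α : F.autGroup P) (hα : α ∈ Cfsg.pResidual p (F.autGroup P)) (x : P) :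
    (x : Ω)⁻¹ * ((α : MulAut P) x : P) ∈ F.hyperfocalSubgroup p :=
  Subgroup.subset_closure ⟨P, α, x, hPS, hα, rfl⟩

/-- The hyperfocal subgroup is normalized by `S`. -/
theorem hyperfocal_conj_mem (F : FusionSystem S) (p : ℕ) {s : Ω} (hs : s ∈ S) {y : Ω}
    (hy : y ∈ F.hyperfocalSubgroup p) : s * y * s⁻¹ ∈ F.hyperfocalSubgroup p := by
  have hle : F.hyperfocalSubgroup p ≤
      (F.hyperfocalSubgroup p).comap (MulAut.conj s).toMonoidHom := by
    conv_lhs => unfold FusionSystem.hyperfocalSubgroup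
    rw [Subgroup.closure_le]
    rintro y ⟨P, α, x, hPS, hα, rfl⟩
    show s * ((x : Ω)⁻¹ * ((α : MulAut P) x : P)) * s⁻¹ ∈ F.hyperfocalSubgroup p
    have hφ : conjHom P s ∈ F.Hom P := F.conj_mem hPS hs
    have hinj := F.injective_of_mem hφ
    let e : P ≃* (conjHom P s).range := isoOfHom (conjHom P s) hinj rfl
    have he : ∀ z : P, ((e z : (conjHom P s).range) : Ω) = conjHom P s z := fun z => rfl
    have hP'S : (conjHom P s).range ≤ S := range_le F hφ
    have hmap := autGroup_map_congr F hφ rfl e he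
    let Ψ : F.autGroup P →* F.autGroup (conjHom P s).range :=
      ((MulAut.congr e).toMonoidHom.comp (F.autGroup P).subtype).codRestrict _
        (fun a => hmap ▸ ⟨a, a.2, rfl⟩)
    have hΨinj : Function.Injective Ψ := by
      intro a b hab
      have h1 : MulAut.congr e (a : MulAut P) = MulAut.congr e (b : MulAut P) :=
        congrArg Subtype.val hab
      exact Subtype.ext ((MulAut.congr e).injective h1)
    have hα' : Ψ α ∈ Cfsg.pResidual p (F.autGroup (conjHom P s).range) :=
      map_pResidual_le Ψ hΨinj ⟨α, hα, rfl⟩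
    have hgen := hyperfocal_gen_mem F p hP'S (Ψ α) hα' (e x)
    have h1 : ((Ψ α : MulAut (conjHom P s).range) (e x)) = e ((α : MulAut P) x) := by
      show MulAut.congr e (α : MulAut P) (e x) = _
      simp [MulAut.congr]
    rw [h1, he, he] at hgen
    have h2 : s * ((x : Ω)⁻¹ * ((α : MulAut P) x : P)) * s⁻¹ =
        (conjHom P s x)⁻¹ * conjHom P s ((α : MulAut P) x) := by
      show _ = (s * (x : Ω) * s⁻¹)⁻¹ * (s * ((α : MulAut P) x : P) * s⁻¹)
      group
    rw [h2]
    exact hgen
  exact hle hy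

/-- In a saturated fusion system the hyperfocal subgroup is strongly closed. -/
theorem hyperfocal_stronglyClosed [Finite S] {p : ℕ} [Fact p.Prime] (hS : IsPGroup p S)
    (F : FusionSystem S) (hF : F.IsSaturated p) : F.StronglyClosed (F.hyperfocalSubgroup p) := by
  have key : ∀ (P : Subgroup Ω) (φ : P →* Ω), AlpGen F p P φ →
      ∀ x : P, (x : Ω) ∈ F.hyperfocalSubgroup p → φ x ∈ F.hyperfocalSubgroup p := by
    intro P φ h
    induction h with
    | @aut P R hR α hα hPR =>
      intro x hx
      obtain ⟨⟨hRS, Syl, hSyl⟩, -, -, -⟩ := hR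
      have hfinR : Finite R := finite_of_le hRS
      haveI : Finite (F.autGroup R) := inferInstance
      obtain ⟨t, ht, b, hb, hab⟩ := exists_sylow_mul_pResidual Syl ⟨α, hα⟩
      rw [hSyl, Subgroup.mem_subgroupOf] at ht
      obtain ⟨s, hs, hst⟩ := (Helper87.mem_autInducedBy_iff S R _).mp ht
      show ((α (Subgroup.inclusion hPR x) : R) : Ω) ∈ _
      have hα' : α = (t : MulAut R) * (b : MulAut R) := congrArg Subtype.val hab
      rw [hα', MulAut.mul_apply, hst]
      apply hyperfocal_conj_mem F p hs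
      have hgen := hyperfocal_gen_mem F p hRS b hb (Subgroup.inclusion hPR x)
      have e : (((b : MulAut R) (Subgroup.inclusion hPR x) : R) : Ω) =
          (x : Ω) * ((x : Ω)⁻¹ * (((b : MulAut R) (Subgroup.inclusion hPR x) : R) : Ω)) := by group
      rw [e]
      exact Subgroup.mul_mem _ hx hgen
    | @comp P Q φ ψ _ _ h ih1 ih2 =>
      intro x hx
      exact ih2 ⟨φ x, h x⟩ (ih1 x hx)
  refine ⟨hyperfocal_le F p, fun R hR φ hφ x => ?_⟩
  exact key R φ (alperin hS F hF R φ hφ) x (hR x.2)

end Cfsg.Agent.Lib.Helper85
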