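import Cfsg.Agent.Lib.Helper85.ResLimit2
import Cfsg.Agent.S5092

/-!
# Subsystems of `p`-power index: from the index-`p` step to the general case, and uniqueness

Given the "index-`p` step" (a saturated subsystem of `p`-power index over every subgroup `T` of index `p`
in `S` containing the focal subgroup), we obtain a saturated subsystem of `p`-power index over every
`T` with `hyp(F) ≤ T ≤ S`, and we show that such a subsystem is unique.
-/

set_option autoImplicit false

namespace Cfsg.Agent.Lib.Helper85.PPI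

open Cfsg Cfsg.FusionSystem Cfsg.Agent.Lib.Helper87 Cfsg.Agent.Lib.Helper85.RL

universe u

variable {Ω : Type u} [Group Ω]

/-- The index-`p` step, as a hypothesis. -/
def Step (Ω : Type u) [Group Ω] (p : ℕ) : Prop :=
  ∀ (S : Subgroup Ω) [Finite S], IsPGroup p S → ∀ F : FusionSystem S, F.IsSaturated p →
    ∀ T : Subgroup Ω, T ≤ S → (T.subgroupOf S).index = p → F.focalSubgroup ≤ T →
      ∃ E : FusionSystem T, E.IsSaturated p ∧ E.HasPPowerIndexIn F p

/-- Uniqueness: two saturated subsystems over `T` of `p`-power index in `F` are equal. -/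
theorem ppower_unique {S : Subgroup Ω} [Finite S] {p : ℕ} [Fact p.Prime] (hS : IsPGroup p S)
    (F : FusionSystem S) {T : Subgroup Ω} (E E' : FusionSystem T)
    (hE : E.IsSaturated p) (hEi : E.HasPPowerIndexIn F p)
    (hE' : E'.IsSaturated p) (hEi' : E'.HasPPowerIndexIn F p) : E' = E :=
  fs_ext (SameSys.of_sub
    (Cfsg.Agent.S5199.sub_of_pPowerIndex hS F E' hE' hEi'.1 E le_rfl hEi.2.2)
    (Cfsg.Agent.S5199.sub_of_pPowerIndex hS F E hE hEi.1 E' le_rfl hEi'.2.2))

/-- `p`-power index is transitive. -/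
theorem ppower_trans {S T₁ T : Subgroup Ω} {p : ℕ} (F : FusionSystem S) (E₁ : FusionSystem T₁)
    (E : FusionSystem T) (hTT₁ : T ≤ T₁) (h₁ : E₁.HasPPowerIndexIn F p)
    (h : E.HasPPowerIndexIn E₁ p) (hT : F.hyperfocalSubgroup p ≤ T) : E.HasPPowerIndexIn F p := by
  refine ⟨fun P => (h.1 P).trans (h₁.1 P), hT, fun P hPT => ?_⟩
  have h1 := h₁.2.2 P (hPT.trans hTT₁)
  have h2 := h.2.2 P hPT
  rw [Subgroup.map_le_iff_le_comap]
  unfold pResidual
  rw [Subgroup.closure_le]
  intro g hg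
  have hgE₁ : (g : MulAut P) ∈ E₁.autGroup P :=
    h1 ⟨g, Subgroup.subset_closure hg, rfl⟩
  apply h2
  refine ⟨⟨(g : MulAut P), hgE₁⟩, Subgroup.subset_closure ?_, rfl⟩
  show Nat.Coprime (orderOf (⟨(g : MulAut P), hgE₁⟩ : E₁.autGroup P)) p
  have e1 : orderOf (⟨(g : MulAut P), hgE₁⟩ : E₁.autGroup P) = orderOf (g : MulAut P) :=
    (Subgroup.orderOf_coe (⟨(g : MulAut P), hgE₁⟩ : E₁.autGroup P)).symm
  have e2 : orderOf (g : MulAut P) = orderOf g := Subgroup.orderOf_coe g
  rw [e1, e2]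
  exact hg

/-- A proper subgroup of a finite `p`-group lies in a subgroup of index `p` containing the
derived subgroup. -/
theorem exists_index_prime_ge {S : Subgroup Ω} [Finite S] {p : ℕ} [hp : Fact p.Prime]
    (hS : IsPGroup p S) {T : Subgroup Ω} (hTS : T ≤ S) (hne : T ≠ S) :
    ∃ T₁ : Subgroup Ω, T ≤ T₁ ∧ T₁ ≤ S ∧ (T₁.subgroupOf S).index = p ∧ ⁅S, S⁆ ≤ T₁ := by
  obtain ⟨N, hN⟩ := hS.exists_card_eq
  have hH : IsPGroup p (T.subgroupOf S) := hS.to_subgroup _
  obtain ⟨n, hn⟩ := hH.exists_card_eq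
  have hHne : T.subgroupOf S ≠ ⊤ := by
    intro h
    apply hne
    apply le_antisymm hTS
    intro x hx
    have : (⟨x, hx⟩ : S) ∈ T.subgroupOf S := by rw [h]; trivial
    exact this
  have hlt : n < N := by
    by_contra hcon
    push_neg at hcon
    apply hHne
    apply Subgroup.eq_top_of_card_eq
    apply le_antisymm (Subgroup.card_le_card_group _)
    rw [hN, hn]
    exact Nat.pow_le_pow_right hp.out.pos hcon
  have hN0 : 0 < N := Nat.lt_of_le_of_lt (Nat.zero_le _) hlt
  have hdvd : p ^ (N - 1) ∣ Nat.card S := by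
    rw [hN]; exact pow_dvd_pow p (Nat.sub_le _ _)
  obtain ⟨K, hKcard, hHK⟩ := Sylow.exists_subgroup_card_pow_prime_le p hdvd (T.subgroupOf S) hn
    (Nat.le_sub_one_of_lt hlt)
  have hKidx : K.index = p := by
    have h := K.card_mul_index
    rw [hKcard, hN] at h
    have hN' : p ^ N = p ^ (N - 1) * p := by
      rw [← pow_succ, Nat.sub_add_cancel hN0]
    rw [hN'] at h
    exact Nat.eq_of_mul_eq_mul_left (pow_pos hp.out.pos _) h
  have hKn : K.Normal := by
    apply Subgroup.normal_of_index_eq_minFac_card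
    rw [hKidx, hN, Nat.Prime.pow_minFac hp.out (Nat.ne_of_gt hN0)]
  have hcardQ : Nat.card (S ⧸ K) = p := by
    rw [← Subgroup.index_eq_card]; exact hKidx
  have hcyc : IsCyclic (S ⧸ K) := isCyclic_of_prime_card hcardQ
  have hcomm : IsMulCommutative (S ⧸ K) := hcyc.commutative
  have hcomK : _root_.commutator S ≤ K :=
    Subgroup.Normal.quotient_commutative_iff_commutator_le.mp hcomm
  refine ⟨K.map S.subtype, ?_, ?_, ?_, ?_⟩
  · intro x hx
    exact ⟨⟨x, hTS hx⟩, hHK (show (⟨x, hTS hx⟩ : S) ∈ T.subgroupOf S from hx), rfl⟩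
  · rintro _ ⟨y, _, rfl⟩
    exact y.2
  · have e : (K.map S.subtype).subgroupOf S = K := by
      ext x
      constructor
      · rintro ⟨y, hy, hxy⟩
        have : y = x := Subtype.ext hxy
        exact this ▸ hy
      · intro hx
        exact ⟨x, hx, rfl⟩
    rw [e]; exact hKidx
  · rw [← Subgroup.map_subtype_commutator]
    exact Subgroup.map_mono hcomK

/-- From the index-`p` step to arbitrary `T ≥ hyp(F)`. -/
theorem exists_of_step {p : ℕ} [hp : Fact p.Prime] (hstep : Step Ω p) :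
    ∀ (n : ℕ) (S : Subgroup Ω) [Finite S], Nat.card S = n → IsPGroup p S →
      ∀ F : FusionSystem S, F.IsSaturated p → ∀ T : Subgroup Ω, T ≤ S →
        F.hyperfocalSubgroup p ≤ T →
          ∃ E : FusionSystem T, E.IsSaturated p ∧ E.HasPPowerIndexIn F p := by
  intro n
  induction n using Nat.strong_induction_on with
  | _ n ih =>
    intro S _ hcard hS F hF T hTS hT
    by_cases hne : T = S
    · subst hne
      exact ⟨F, hF, fun _ _ h => h, hT, fun P _ => Subgroup.map_subtype_le _⟩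
    · obtain ⟨T₁, hTT₁, hT₁S, hidx, hcomm⟩ := exists_index_prime_ge hS hTS hne
      have hfoc : F.focalSubgroup ≤ T₁ := by
        rw [Cfsg.Agent.S5092.result p hS F hF]
        exact sup_le (hT.trans hTT₁) hcomm
      obtain ⟨E₁, hE₁sat, hE₁i⟩ := hstep S hS F hF T₁ hT₁S hidx hfoc
      have hfin₁ : Finite T₁ := finite_of_le hT₁S
      have hT₁p : IsPGroup p T₁ := hS.to_le hT₁S
      have hhyp : E₁.hyperfocalSubgroup p = F.hyperfocalSubgroup p :=
        le_antisymm (hyperfocal_mono E₁ F p hE₁i.1) (hyperfocal_le_of_pPowerIndex hS E₁ F hE₁i)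
      have hlt : Nat.card T₁ < n := by
        have h1 : Nat.card (T₁.subgroupOf S) = Nat.card T₁ :=
          Nat.card_congr (Subgroup.subgroupOfEquivOfLe hT₁S).toEquiv
        have h2 := (T₁.subgroupOf S).card_mul_index
        rw [h1, hidx, hcard] at h2
        rw [← h2]
        have hpos : 0 < Nat.card T₁ := Nat.card_pos
        have : 1 < p := hp.out.one_lt
        nlinarith
      obtain ⟨E, hEsat, hEi⟩ := ih (Nat.card T₁) hlt T₁ rfl hT₁p E₁ hE₁sat T hTT₁ (hhyp ▸ hT)
      exact ⟨E, hEsat, ppower_trans F E₁ E hTT₁ hE₁i hEi hT⟩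

/-- Existence and uniqueness of the subsystem of `p`-power index over `T ≥ hyp(F)`, from the
index-`p` step. -/
theorem exists_unique_of_step {p : ℕ} [Fact p.Prime] (hstep : Step Ω p) {S : Subgroup Ω} [Finite S]
    (hS : IsPGroup p S) (F : FusionSystem S) (hF : F.IsSaturated p) (T : Subgroup Ω) (hTS : T ≤ S)
    (hT : F.hyperfocalSubgroup p ≤ T) :
    ∃ E : FusionSystem T, (E.IsSaturated p ∧ E.HasPPowerIndexIn F p) ∧
      ∀ E' : FusionSystem T, E'.IsSaturated p → E'.HasPPowerIndexIn F p → E' = E := by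
  obtain ⟨E, hE, hEi⟩ := exists_of_step hstep _ S rfl hS F hF T hTS hT
  exact ⟨E, ⟨hE, hEi⟩, fun E' hE' hEi' => ppower_unique hS F E E' hE hEi hE' hEi'⟩

end Cfsg.Agent.Lib.Helper85.PPI
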