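import Cfsg.Agent.Lib.Helper85.DirectFactor2

set_option autoImplicit false

/-!
The subsystem `C_F(S₂)|_{S₁}` for `S = S₁ × S₂` with both factors strongly closed:
invariance, Frattini property and the extension condition.
-/

namespace Cfsg.Agent.Lib.Helper85

open Cfsg Cfsg.FusionSystem

variable {Ω : Type*} [Group Ω] {S : Subgroup Ω}

/-- Witness form of `conj_by_aut`. -/
theorem conj_by_aut' (F : FusionSystem S) {δ : MulAut S} (hδ : δ ∈ F.autGroup S)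
    {P P' : Subgroup Ω} {φ : P →* Ω} (hφ : φ ∈ F.Hom P) (hP' : P' ≤ S)
    (hPP' : ∀ (y : Ω) (hy : y ∈ P'), ((δ⁻¹ ⟨y, hP' hy⟩ : S) : Ω) ∈ P) :
    ∃ χ ∈ F.Hom P', ∀ (y : P') (w : S) (hwP : (w : Ω) ∈ P), ((δ w : S) : Ω) = y →
      χ y = ((δ ⟨φ ⟨w, hwP⟩, Helper87.hom_mem_S F hφ _⟩ : S) : Ω) := by
  obtain ⟨χ, hχ, hχe⟩ := conj_by_aut F hδ hφ hP' hPP'
  refine ⟨χ, hχ, fun y w hwP hw => ?_⟩
  rw [hχe y]
  have hu : δ⁻¹ ⟨y, hP' y.2⟩ = w := by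
    have : (⟨y, hP' y.2⟩ : S) = δ w := Subtype.ext hw.symm
    rw [this, MulAut.inv_apply_self]
  have key : ∀ (u : S) (hu : (u : Ω) ∈ P), u = w →
      ((δ ⟨φ ⟨u, hu⟩, Helper87.hom_mem_S F hφ _⟩ : S) : Ω) =
        ((δ ⟨φ ⟨w, hwP⟩, Helper87.hom_mem_S F hφ _⟩ : S) : Ω) := by
    rintro u hu rfl
    rfl
  exact key _ _ hu

theorem le_centralizerIn_of_comm {S₁ S₂ : Subgroup Ω} (hS₁ : S₁ ≤ S)
    (hcomm : ∀ a ∈ S₁, ∀ b ∈ S₂, a * b = b * a) : S₁ ≤ centralizerIn S S₂ := fun a ha =>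
  ⟨hS₁ ha, Subgroup.mem_centralizer_iff.mpr (fun b hb => (hcomm a ha b hb).symm)⟩

/-- Frattini property for `C_F(S₂)|_{S₁}`. -/
theorem frattini_centralizerHom [Finite S] {p : ℕ} [Fact p.Prime] (hS : IsPGroup p S)
    (F : FusionSystem S) (hF : F.IsSaturated p) {S₁ S₂ : Subgroup Ω}
    (h₁ : F.StronglyClosed S₁) (h₂ : F.StronglyClosed S₂)
    (hcomm : ∀ a ∈ S₁, ∀ b ∈ S₂, a * b = b * a) (hdec₂ : DecompCentral S S₂)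
    {P : Subgroup Ω} (hP : P ≤ S₁) {φ : P →* Ω} (hφ : φ ∈ F.Hom P) :
    ∃ α ∈ F.autGroup S₁, ∃ φ₀ ∈ F.centralizerHom S₂ P,
      ∀ (x : P) (hx : φ₀ x ∈ S₁), φ x = ((α ⟨φ₀ x, hx⟩ : S₁) : Ω) := by
  obtain ⟨φh, hφh, hφhe⟩ := extend_to_sup hS F hF h₁ h₂ hcomm hP hφ
  haveI : Finite S₂ := Finite.of_injective _ (Subgroup.inclusion_injective h₂.1)
  have hres : φh.comp (Subgroup.inclusion le_sup_right) ∈ F.Hom S₂ :=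
    Helper87.restrict_mem F hφh le_sup_right
  obtain ⟨γ, hγ, hγe⟩ := Helper87.exists_aut_of_hom F hres (fun z => h₂.2 S₂ le_rfl _ hres z)
  obtain ⟨δ, hδ, hδe⟩ := extend_aut_of_decomp hS F hF h₂ hdec₂ hγ
  obtain ⟨α, hα, hαe⟩ := restrict_aut F h₁ hδ
  have hδ' : δ⁻¹ ∈ F.autGroup S := inv_mem hδ
  obtain ⟨φ₀, hφ₀, hφ₀e⟩ := Helper87.comp_mem' F hφ (subtype_aut_mem F le_rfl hδ')
    (fun x => Helper87.hom_mem_S F hφ x)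
  obtain ⟨ψ, hψ, hψe⟩ := Helper87.comp_mem' F hφh (subtype_aut_mem F le_rfl hδ')
    (fun y => Helper87.hom_mem_S F hφh y)
  have hS₁c : S₁ ≤ centralizerIn S S₂ := le_centralizerIn_of_comm h₁.1 hcomm
  refine ⟨α, hα, φ₀, ⟨hφ₀, hP.trans hS₁c, fun x => hS₁c (h₁.2 P hP φ₀ hφ₀ x), ψ, hψ, ?_, ?_⟩, ?_⟩
  · intro x
    rw [hψe, hφ₀e]
    congr 1
    exact Subtype.ext (hφhe x)
  · intro z
    rw [hψe]
    have e : (⟨φh (Subgroup.inclusion le_sup_right z), Helper87.hom_mem_S F hφh _⟩ : S) =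
        δ ⟨z, h₂.1 z.2⟩ := by
      apply Subtype.ext
      rw [hδe]
      exact (hγe z).symm
    rw [e]
    show ((δ⁻¹ (δ ⟨z, h₂.1 z.2⟩) : S) : Ω) = _
    rw [MulAut.inv_apply_self]
  · intro x hx
    rw [hαe]
    have e : (⟨φ₀ x, h₁.1 hx⟩ : S) = δ⁻¹ ⟨φ x, Helper87.hom_mem_S F hφ x⟩ :=
      Subtype.ext (hφ₀e x)
    rw [e, MulAut.apply_inv_self]

/-- Invariance of `C_F(S₂)|_{S₁}` under `Aut_F(S₁)`. -/
theorem invariance_centralizerHom [Finite S] {p : ℕ} [Fact p.Prime] (hS : IsPGroup p S)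
    (F : FusionSystem S) (hF : F.IsSaturated p) {S₁ S₂ : Subgroup Ω}
    (h₁ : F.StronglyClosed S₁) (h₂ : F.StronglyClosed S₂)
    (hcomm : ∀ a ∈ S₁, ∀ b ∈ S₂, a * b = b * a) (hdec₁ : DecompCentral S S₁)
    {P : Subgroup Ω} (hP : P ≤ S₁) {φ : P →* Ω} (hφ : φ ∈ F.centralizerHom S₂ P)
    {α : MulAut S₁} (hα : α ∈ F.autGroup S₁) :
    ∃ χ ∈ F.centralizerHom S₂ ((P.subgroupOf S₁).map (S₁.subtype.comp α.toMonoidHom)),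
      ∀ (x : P) (hφx : φ x ∈ S₁)
        (hαx : ((α ⟨x, hP x.2⟩ : S₁) : Ω) ∈
          (P.subgroupOf S₁).map (S₁.subtype.comp α.toMonoidHom)),
        χ ⟨(α ⟨x, hP x.2⟩ : S₁), hαx⟩ = ((α ⟨φ x, hφx⟩ : S₁) : Ω) := by
  obtain ⟨hφF, -, -, φh, hφh, hφhe, hφhz⟩ := hφ
  obtain ⟨δ, hδ, hδe⟩ := extend_aut_of_decomp hS F hF h₁ hdec₁ hα
  obtain ⟨P', hP'def⟩ : ∃ P' : Subgroup Ω,
      P' = (P.subgroupOf S₁).map (S₁.subtype.comp α.toMonoidHom) := ⟨_, rfl⟩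
  rw [← hP'def]
  have hmemP' : ∀ y : Ω, y ∈ P' ↔ ∃ x : S₁, (x : Ω) ∈ P ∧ ((α x : S₁) : Ω) = y := by
    intro y
    rw [hP'def, Subgroup.mem_map]
    constructor
    · rintro ⟨x, hx, rfl⟩
      exact ⟨x, Subgroup.mem_subgroupOf.mp hx, rfl⟩
    · rintro ⟨x, hx, rfl⟩
      exact ⟨x, Subgroup.mem_subgroupOf.mpr hx, rfl⟩
  have hP'S₁ : P' ≤ S₁ := by
    intro y hy
    obtain ⟨x, -, rfl⟩ := (hmemP' y).mp hy
    exact (α x).2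
  have hP'S : P' ≤ S := hP'S₁.trans h₁.1
  have hδα : ∀ x : S₁, (⟨((α x : S₁) : Ω), h₁.1 (α x).2⟩ : S) = δ ⟨x, h₁.1 x.2⟩ :=
    fun x => Subtype.ext (hδe x).symm
  have hPP' : ∀ (y : Ω) (hy : y ∈ P'), ((δ⁻¹ ⟨y, hP'S hy⟩ : S) : Ω) ∈ P := by
    intro y hy
    obtain ⟨x, hx, rfl⟩ := (hmemP' y).mp hy
    rw [hδα x, MulAut.inv_apply_self]
    exact hx
  obtain ⟨χ, hχ, hχe⟩ := conj_by_aut' F hδ hφF hP'S hPP'
  have hδ' : δ⁻¹ ∈ F.autGroup S := inv_mem hδ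
  have hδS₂ : ∀ (z : Ω) (hz : z ∈ S₂), ((δ⁻¹ ⟨z, h₂.1 hz⟩ : S) : Ω) ∈ S₂ := by
    intro z hz
    have hres : (S.subtype.comp (δ⁻¹).toMonoidHom).comp (Subgroup.inclusion h₂.1) ∈ F.Hom S₂ :=
      Helper87.restrict_mem F (subtype_aut_mem F le_rfl hδ') h₂.1
    exact h₂.2 S₂ le_rfl _ hres ⟨z, hz⟩
  have hsupS : P' ⊔ S₂ ≤ S := sup_le hP'S h₂.1
  have hPP'' : ∀ (y : Ω) (hy : y ∈ P' ⊔ S₂), ((δ⁻¹ ⟨y, hsupS hy⟩ : S) : Ω) ∈ P ⊔ S₂ := by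
    have hle : P' ⊔ S₂ ≤ ((P ⊔ S₂).subgroupOf S).map (S.subtype.comp δ.toMonoidHom) := by
      apply sup_le
      · intro y hy
        obtain ⟨x, hx, rfl⟩ := (hmemP' y).mp hy
        refine ⟨⟨x, h₁.1 x.2⟩, Subgroup.mem_subgroupOf.mpr ((le_sup_left : P ≤ P ⊔ S₂) hx), ?_⟩
        exact hδe x
      · intro z hz
        refine ⟨δ⁻¹ ⟨z, h₂.1 hz⟩,
          Subgroup.mem_subgroupOf.mpr ((le_sup_right : S₂ ≤ P ⊔ S₂) (hδS₂ z hz)), ?_⟩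
        show ((δ (δ⁻¹ ⟨z, h₂.1 hz⟩) : S) : Ω) = z
        rw [MulAut.apply_inv_self]
    intro y hy
    obtain ⟨w, hw, hwy⟩ := hle hy
    have e : (⟨y, hsupS hy⟩ : S) = δ w := Subtype.ext hwy.symm
    rw [e, MulAut.inv_apply_self]
    exact Subgroup.mem_subgroupOf.mp hw
  obtain ⟨χh, hχh, hχhe⟩ := conj_by_aut' F hδ hφh hsupS hPP''
  have hS₁c : S₁ ≤ centralizerIn S S₂ := le_centralizerIn_of_comm h₁.1 hcomm
  refine ⟨χ, ⟨hχ, hP'S₁.trans hS₁c, fun y => hS₁c (h₁.2 P' hP'S₁ χ hχ y), χh, hχh, ?_, ?_⟩, ?_⟩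
  · intro y
    obtain ⟨x, hx, hxy⟩ := (hmemP' y).mp y.2
    have hw : ((δ ⟨x, h₁.1 x.2⟩ : S) : Ω) = y := by rw [hδe]; exact hxy
    rw [hχhe (Subgroup.inclusion le_sup_left y) ⟨x, h₁.1 x.2⟩
      ((le_sup_left : P ≤ P ⊔ S₂) hx) hw, hχe y ⟨x, h₁.1 x.2⟩ hx hw]
    congr 2
    apply Subtype.ext
    exact hφhe ⟨x, hx⟩
  · intro z
    have hw : ((δ (δ⁻¹ ⟨z, h₂.1 z.2⟩) : S) : Ω) = z := by rw [MulAut.apply_inv_self]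
    rw [hχhe (Subgroup.inclusion le_sup_right z) (δ⁻¹ ⟨z, h₂.1 z.2⟩)
      ((le_sup_right : S₂ ≤ P ⊔ S₂) (hδS₂ z z.2)) hw]
    have e : (⟨φh ⟨((δ⁻¹ ⟨z, h₂.1 z.2⟩ : S) : Ω), (le_sup_right : S₂ ≤ P ⊔ S₂) (hδS₂ z z.2)⟩,
        Helper87.hom_mem_S F hφh _⟩ : S) = δ⁻¹ ⟨z, h₂.1 z.2⟩ := by
      apply Subtype.ext
      exact hφhz ⟨_, hδS₂ z z.2⟩
    rw [e, MulAut.apply_inv_self]
  · intro x hφx hαx
    have hw : ((δ ⟨x, h₁.1 (hP x.2)⟩ : S) : Ω) = ((α ⟨x, hP x.2⟩ : S₁) : Ω) := hδe ⟨x, hP x.2⟩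
    rw [hχe ⟨_, hαx⟩ ⟨x, h₁.1 (hP x.2)⟩ x.2 hw]
    exact hδe ⟨φ x, hφx⟩

/-- Invariance of the full subsystem on `S₁` under `Aut_F(S₁)`. -/
theorem invariance_full [Finite S] {p : ℕ} [Fact p.Prime] (hS : IsPGroup p S)
    (F : FusionSystem S) (hF : F.IsSaturated p) {S₁ : Subgroup Ω}
    (h₁ : F.StronglyClosed S₁) (hdec₁ : DecompCentral S S₁)
    {P : Subgroup Ω} (hP : P ≤ S₁) {φ : P →* Ω} (hφF : φ ∈ F.Hom P)
    {α : MulAut S₁} (hα : α ∈ F.autGroup S₁) :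
    ∃ χ ∈ F.Hom ((P.subgroupOf S₁).map (S₁.subtype.comp α.toMonoidHom)),
      ∀ (x : P) (hφx : φ x ∈ S₁)
        (hαx : ((α ⟨x, hP x.2⟩ : S₁) : Ω) ∈
          (P.subgroupOf S₁).map (S₁.subtype.comp α.toMonoidHom)),
        χ ⟨(α ⟨x, hP x.2⟩ : S₁), hαx⟩ = ((α ⟨φ x, hφx⟩ : S₁) : Ω) := by
  obtain ⟨δ, hδ, hδe⟩ := extend_aut_of_decomp hS F hF h₁ hdec₁ hα
  obtain ⟨P', hP'def⟩ : ∃ P' : Subgroup Ω,
      P' = (P.subgroupOf S₁).map (S₁.subtype.comp α.toMonoidHom) := ⟨_, rfl⟩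
  rw [← hP'def]
  have hmemP' : ∀ y : Ω, y ∈ P' ↔ ∃ x : S₁, (x : Ω) ∈ P ∧ ((α x : S₁) : Ω) = y := by
    intro y
    rw [hP'def, Subgroup.mem_map]
    constructor
    · rintro ⟨x, hx, rfl⟩
      exact ⟨x, Subgroup.mem_subgroupOf.mp hx, rfl⟩
    · rintro ⟨x, hx, rfl⟩
      exact ⟨x, Subgroup.mem_subgroupOf.mpr hx, rfl⟩
  have hP'S₁ : P' ≤ S₁ := by
    intro y hy
    obtain ⟨x, -, rfl⟩ := (hmemP' y).mp hy
    exact (α x).2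
  have hP'S : P' ≤ S := hP'S₁.trans h₁.1
  have hδα : ∀ x : S₁, (⟨((α x : S₁) : Ω), h₁.1 (α x).2⟩ : S) = δ ⟨x, h₁.1 x.2⟩ :=
    fun x => Subtype.ext (hδe x).symm
  have hPP' : ∀ (y : Ω) (hy : y ∈ P'), ((δ⁻¹ ⟨y, hP'S hy⟩ : S) : Ω) ∈ P := by
    intro y hy
    obtain ⟨x, hx, rfl⟩ := (hmemP' y).mp hy
    rw [hδα x, MulAut.inv_apply_self]
    exact hx
  obtain ⟨χ, hχ, hχe⟩ := conj_by_aut' F hδ hφF hP'S hPP'
  refine ⟨χ, hχ, ?_⟩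
  intro x hφx hαx
  have hw : ((δ ⟨x, h₁.1 (hP x.2)⟩ : S) : Ω) = ((α ⟨x, hP x.2⟩ : S₁) : Ω) := hδe ⟨x, hP x.2⟩
  rw [hχe ⟨_, hαx⟩ ⟨x, h₁.1 (hP x.2)⟩ x.2 hw]
  exact hδe ⟨φ x, hφx⟩

/-- Automorphisms of a subgroup preserve its centre. -/
theorem aut_mem_centralizer {T : Subgroup Ω} (α : MulAut T) {a : T}
    (ha : (a : Ω) ∈ Subgroup.centralizer (T : Set Ω)) :
    ((α a : T) : Ω) ∈ Subgroup.centralizer (T : Set Ω) := by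
  rw [Subgroup.mem_centralizer_iff] at ha ⊢
  intro y hy
  have h1 : α⁻¹ ⟨y, hy⟩ * a = a * α⁻¹ ⟨y, hy⟩ := Subtype.ext (ha _ (α⁻¹ ⟨y, hy⟩).2)
  have h2 := congrArg α h1
  rw [map_mul, map_mul, MulAut.apply_inv_self] at h2
  exact congrArg (fun z : T => (z : Ω)) h2

theorem prod_decomp {S₁ S₂ : Subgroup Ω} (hprod : IsInternalDirectProduct S₁ S₂ S) :
    ∀ g ∈ S, ∃ a ∈ S₁, ∃ b ∈ S₂, g = a * b := by
  obtain ⟨-, -, hcomm, -, hsup⟩ := hprod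
  intro g hg
  rw [← hsup] at hg
  have hn : S₁ ≤ Subgroup.normalizer (S₂ : Set Ω) := by
    intro a ha
    rw [Subgroup.mem_normalizer_iff]
    intro b
    constructor
    · intro hb
      have : a * b * a⁻¹ = b := by rw [hcomm a ha b hb]; group
      rw [this]; exact hb
    · intro hb
      have h := hcomm a ha _ hb
      have : a * b * a⁻¹ = b := by
        have h' : a * (a * b * a⁻¹) = a * b := by rw [h]; group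
        exact mul_left_cancel h'
      rw [← this]; exact hb
  exact mem_sup_of_le_normalizer hn hg

theorem decomp_left_of_prod {S₁ S₂ : Subgroup Ω} (hprod : IsInternalDirectProduct S₁ S₂ S) :
    DecompCentral S S₁ := by
  intro g hg
  obtain ⟨a, ha, c, hc, hy⟩ := prod_decomp hprod g hg
  exact ⟨a, ha, c, Subgroup.mem_centralizer_iff.mpr (fun x hx => hprod.2.2.1 x hx c hc), hy⟩

theorem decomp_right_of_prod {S₁ S₂ : Subgroup Ω} (hprod : IsInternalDirectProduct S₁ S₂ S) :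
    DecompCentral S S₂ := by
  intro g hg
  obtain ⟨a, ha, c, hc, rfl⟩ := prod_decomp hprod g hg
  exact ⟨c, hc, a, Subgroup.mem_centralizer_iff.mpr (fun x hx => (hprod.2.2.1 a ha x hx).symm),
    hprod.2.2.1 a ha c hc⟩

end Cfsg.Agent.Lib.Helper85
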