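import Cfsg.Agent.Lib.Helper85.PPowerNormal3
import Cfsg.Agent.Lib.Helper85.DirectFactor3

set_option autoImplicit false

/-!
The extension condition for a saturated subsystem of `p`-power index over a normal subgroup.
-/

namespace Cfsg.Agent.Lib.Helper85

open Cfsg Cfsg.FusionSystem Cfsg.Agent.Lib.Helper87 Cfsg.Agent.Lib.Helper88

variable {Ω : Type*} [Group Ω] {S T : Subgroup Ω}

/-- A homomorphism on `M ⊇ T` restricting to an automorphism of `T` maps elements centralizing `T`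
to elements centralizing `T`. -/
theorem map_mem_centralizer {M : Subgroup Ω} (hTM : T ≤ M) (f : M →* Ω) (α : MulAut T)
    (hf : ∀ x : T, f (Subgroup.inclusion hTM x) = ((α x : T) : Ω)) {c : M}
    (hc : (c : Ω) ∈ Subgroup.centralizer (T : Set Ω)) :
    f c ∈ Subgroup.centralizer (T : Set Ω) := by
  rw [Subgroup.mem_centralizer_iff] at hc ⊢
  intro u hu
  have h1 := hc _ (α⁻¹ ⟨u, hu⟩).2
  have h2 : Subgroup.inclusion hTM (α⁻¹ ⟨u, hu⟩) * c = c * Subgroup.inclusion hTM (α⁻¹ ⟨u, hu⟩) :=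
    Subtype.ext h1
  have h3 := congrArg f h2
  rw [map_mul, map_mul, hf, MulAut.apply_inv_self] at h3
  exact h3

/-- The automorphisms of `T` satisfying the extension condition of `IsNormalIn`. -/
def extSub (F : FusionSystem S) (hTS : T ≤ S) : Subgroup (MulAut T) where
  carrier := {α | ∃ β ∈ F.autGroup (T ⊔ centralizerIn S T),
      (∀ x : T, ((β (Subgroup.inclusion le_sup_left x) : ↥(T ⊔ centralizerIn S T)) : Ω) =
        ((α x : T) : Ω)) ∧
      ∀ c : ↥(T ⊔ centralizerIn S T), (c : Ω) ∈ centralizerIn S T →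
        (c : Ω)⁻¹ * ((β c : ↥(T ⊔ centralizerIn S T)) : Ω) ∈
          T ⊓ Subgroup.centralizer (T : Set Ω)}
  one_mem' := ⟨1, one_mem _, fun x => rfl, fun c _ => by
    show (c : Ω)⁻¹ * (c : Ω) ∈ _
    rw [inv_mul_cancel]; exact one_mem _⟩
  mul_mem' := by
    rintro α₁ α₂ ⟨β₁, hβ₁, h1, h1'⟩ ⟨β₂, hβ₂, h2, h2'⟩
    refine ⟨β₁ * β₂, mul_mem hβ₁ hβ₂, fun x => ?_, fun c hc => ?_⟩
    · rw [MulAut.mul_apply, MulAut.mul_apply]
      have e : β₂ (Subgroup.inclusion le_sup_left x) = Subgroup.inclusion le_sup_left (α₂ x) :=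
        Subtype.ext (h2 x)
      rw [e, h1]
    · rw [MulAut.mul_apply]
      have hz₂ := h2' c hc
      have e : β₂ c = c * Subgroup.inclusion le_sup_left
          (⟨(c : Ω)⁻¹ * ((β₂ c : ↥(T ⊔ centralizerIn S T)) : Ω), hz₂.1⟩ : T) := by
        apply Subtype.ext
        show ((β₂ c : ↥(T ⊔ centralizerIn S T)) : Ω) =
          (c : Ω) * ((c : Ω)⁻¹ * ((β₂ c : ↥(T ⊔ centralizerIn S T)) : Ω))
        group
      rw [e, map_mul]
      have e2 : (c : Ω)⁻¹ * (((β₁ c * β₁ (Subgroup.inclusion le_sup_left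
          (⟨(c : Ω)⁻¹ * ((β₂ c : ↥(T ⊔ centralizerIn S T)) : Ω), hz₂.1⟩ : T)) :
            ↥(T ⊔ centralizerIn S T)) : Ω)) =
          ((c : Ω)⁻¹ * ((β₁ c : ↥(T ⊔ centralizerIn S T)) : Ω)) *
            ((α₁ ⟨(c : Ω)⁻¹ * ((β₂ c : ↥(T ⊔ centralizerIn S T)) : Ω), hz₂.1⟩ : T) : Ω) := by
        rw [Subgroup.coe_mul, h1, mul_assoc]
      rw [e2]
      exact Subgroup.mul_mem _ (h1' c hc)
        ⟨(α₁ _).2, aut_mem_centralizer α₁ (a := ⟨_, hz₂.1⟩) hz₂.2⟩
  inv_mem' := by
    rintro α ⟨β, hβ, h1, h1'⟩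
    have hinv : ∀ x : T, β⁻¹ (Subgroup.inclusion le_sup_left x) =
        Subgroup.inclusion le_sup_left (α⁻¹ x) := by
      intro x
      have e : β (Subgroup.inclusion le_sup_left (α⁻¹ x)) = Subgroup.inclusion le_sup_left x := by
        apply Subtype.ext
        rw [h1, MulAut.apply_inv_self]
        rfl
      rw [← e, MulAut.inv_apply_self]
    refine ⟨β⁻¹, inv_mem hβ, fun x => by rw [hinv x]; rfl, fun c hc => ?_⟩
    have hMS : T ⊔ centralizerIn S T ≤ S := sup_le hTS (centralizerIn_le S T)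
    have hd : ((β⁻¹ c : ↥(T ⊔ centralizerIn S T)) : Ω) ∈ centralizerIn S T := by
      refine ⟨hMS (β⁻¹ c).2, ?_⟩
      exact map_mem_centralizer le_sup_left
        ((T ⊔ centralizerIn S T).subtype.comp (β⁻¹).toMonoidHom) α⁻¹
        (fun x => by
          show ((β⁻¹ (Subgroup.inclusion le_sup_left x) : ↥(T ⊔ centralizerIn S T)) : Ω) = _
          rw [hinv x]; rfl) hc.2
    have hw := h1' (β⁻¹ c) hd
    rw [MulAut.apply_inv_self] at hw
    have e : (c : Ω)⁻¹ * ((β⁻¹ c : ↥(T ⊔ centralizerIn S T)) : Ω) =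
        (((β⁻¹ c : ↥(T ⊔ centralizerIn S T)) : Ω)⁻¹ * (c : Ω))⁻¹ := by group
    rw [e]
    exact Subgroup.inv_mem _ hw

theorem inn_le_extSub (F : FusionSystem S) (hTS : T ≤ S) [Finite S] :
    autInducedBy T T ≤ extSub F hTS := by
  intro α hα
  obtain ⟨g, hg, h⟩ := (Helper87.mem_autInducedBy_iff T T α).mp hα
  have hMS : T ⊔ centralizerIn S T ≤ S := sup_le hTS (centralizerIn_le S T)
  haveI : Finite ↥(T ⊔ centralizerIn S T) := finite_of_le hMS
  have hgM : g ∈ T ⊔ centralizerIn S T := (le_sup_left : T ≤ _) hg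
  have hc : conjHom (T ⊔ centralizerIn S T) g ∈ F.Hom (T ⊔ centralizerIn S T) :=
    F.conj_mem hMS (hTS hg)
  obtain ⟨β, hβ, hβe⟩ := exists_aut_of_hom F hc (fun z =>
    Subgroup.mul_mem _ (Subgroup.mul_mem _ hgM z.2) (Subgroup.inv_mem _ hgM))
  refine ⟨β, hβ, fun x => ?_, fun c hc' => ?_⟩
  · rw [hβe, h x]
    rfl
  · rw [hβe]
    show (c : Ω)⁻¹ * (g * (c : Ω) * g⁻¹) ∈ _
    have hcomm := Subgroup.mem_centralizer_iff.mp hc'.2 g hg
    have e : (c : Ω)⁻¹ * (g * (c : Ω) * g⁻¹) = 1 := by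
      rw [hcomm]; group
    rw [e]
    exact one_mem _

theorem coprime_mem_extSub [Finite S] {p : ℕ} [Fact p.Prime] (hS : IsPGroup p S)
    (F : FusionSystem S) (hF : F.IsSaturated p) (hTsc : F.StronglyClosed T)
    (hT : F.hyperfocalSubgroup p ≤ T) {α : MulAut T} (hα : α ∈ F.autGroup T)
    (hcop : (orderOf α).Coprime p) : α ∈ extSub F hTsc.1 := by
  have hTS := hTsc.1
  have hMS : T ⊔ centralizerIn S T ≤ S := sup_le hTS (centralizerIn_le S T)
  haveI : Finite ↥(T ⊔ centralizerIn S T) := finite_of_le hMS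
  have hrec : F.IsReceptive T :=
    receptive_of_fullyNormalized hS F hF (fullyNormalized_of_stronglyClosed' F hTsc)
  have hφ : T.subtype.comp α.toMonoidHom ∈ F.Hom T := subtype_aut_mem F hTS hα
  have hr : (T.subtype.comp α.toMonoidHom).range = T :=
    (weaklyClosed_of_stronglyClosed F hTsc).2 _ hφ
  have hM : T ⊔ centralizerIn S T ≤ extender S T (T.subtype.comp α.toMonoidHom) :=
    sup_le (self_le_extender F hφ) (centralizerIn_le_extender' T _)
  obtain ⟨ψ, hψ, hψe⟩ := extend_to_sub F hφ hr hrec hM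
  have hψT : ∀ x : T, ψ (Subgroup.inclusion le_sup_left x) = ((α x : T) : Ω) :=
    fun x => hψe x x.2 _
  have hψM : ∀ z : ↥(T ⊔ centralizerIn S T), ψ z ∈ T ⊔ centralizerIn S T := by
    intro z
    have hz : (z : Ω) ∈ centralizerIn S T ⊔ T := by rw [sup_comm]; exact z.2
    have hn : centralizerIn S T ≤ Subgroup.normalizer (T : Set Ω) :=
      inf_le_right.trans (Subgroup.centralizer_le_normalizer _)
    obtain ⟨c, hc, t, ht, hzct⟩ := mem_sup_of_le_normalizer hn hz
    have e : z = Subgroup.inclusion le_sup_right (⟨c, hc⟩ : centralizerIn S T) *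
        Subgroup.inclusion le_sup_left (⟨t, ht⟩ : T) := Subtype.ext hzct
    rw [e, map_mul]
    apply Subgroup.mul_mem
    · apply (le_sup_right : centralizerIn S T ≤ T ⊔ centralizerIn S T)
      exact ⟨hom_mem_S F hψ _, map_mem_centralizer le_sup_left ψ α hψT hc.2⟩
    · rw [hψT]
      exact (le_sup_left : T ≤ T ⊔ centralizerIn S T) (α ⟨t, ht⟩).2
  obtain ⟨γ, hγ, hγe⟩ := exists_aut_of_hom F hψ hψM
  obtain ⟨k, hk1, hk2⟩ := exists_pow_coprime (p := p) α hcop γ
  have hγT : ∀ x : T, ((γ ⟨x, (le_sup_left : T ≤ T ⊔ centralizerIn S T) x.2⟩ :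
      ↥(T ⊔ centralizerIn S T)) : Ω) = ((α x : T) : Ω) := fun x => by
    rw [hγe]; exact hψT x
  have hβT : ∀ x : T, (((γ ^ k) (Subgroup.inclusion le_sup_left x) :
      ↥(T ⊔ centralizerIn S T)) : Ω) = ((α x : T) : Ω) := by
    intro x
    have := pow_restrict (le_sup_left : T ≤ T ⊔ centralizerIn S T) γ α hγT k x
    rw [hk1] at this
    exact this
  refine ⟨γ ^ k, pow_mem hγ k, hβT, fun c hc => ⟨?_, ?_⟩⟩
  · exact hT (hyperfocal_mem_of_coprime F hMS (pow_mem hγ k) hk2 c)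
  · apply Subgroup.mul_mem _ (Subgroup.inv_mem _ hc.2)
    exact map_mem_centralizer le_sup_left
      ((T ⊔ centralizerIn S T).subtype.comp (γ ^ k).toMonoidHom) α hβT hc.2

/-- The extension condition for a saturated subsystem of `p`-power index. -/
theorem autGroup_le_extSub [Finite S] {p : ℕ} [Fact p.Prime] (hS : IsPGroup p S)
    (F : FusionSystem S) (hF : F.IsSaturated p) {E : FusionSystem T}
    (hTsc : F.StronglyClosed T) (hT : F.hyperfocalSubgroup p ≤ T) (hEsat : E.IsSaturated p)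
    (hEF : E.IsSubsystemOf F) : E.autGroup T ≤ extSub F hTsc.1 := by
  have hTS := hTsc.1
  haveI : Finite T := finite_of_le hTS
  have hTp : IsPGroup p T :=
    hS.of_injective (Subgroup.inclusion hTS) (Subgroup.inclusion_injective hTS)
  have hfa : E.IsFullyAutomized p T := (top_isAlperin hTp E hEsat).1
  apply autGroup_le_of_gen E hfa
  · exact inn_le_extSub F hTS
  · intro β hβ hcop
    exact coprime_mem_extSub hS F hF hTsc hT (autGroup_le_of_subsystem hEF T hβ) hcop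

end Cfsg.Agent.Lib.Helper85
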