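import Cfsg.Agent.Lib.Helper37.D4O8Defs

/-! # Do hive (S1082, helper37), leaf DO-PSIR `psi_range`: the range of `ψ` is the subgroup generated by the
root elements (clone of `Bo_PSIR`). -/

set_option autoImplicit false
set_option linter.unusedSectionVars false
set_option linter.unusedVariables false

namespace Cfsg.Agent.Lib.Helper37.D4O8

open Matrix Module QuadraticMap
open Cfsg.Agent.Lib.Helper8 Cfsg.Agent.Lib.Helper13 Cfsg.Agent.Lib.Helper37

variable {F : Type*} [Field F]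

/-- DO-PSIR -/
theorem psi_range (ψ : Cfsg.Lie.chevD4.SteinbergGroup F →* OG F)
    (hψ : ∀ (r : ℕ) (t : F), ψ (Cfsg.Lie.chevD4.stGen F r t) = Xn r t) : ψ.range = EE F := by
  have hof : ∀ (p : Fin Cfsg.Lie.chevD4.nroots × F),
      ψ (PresentedGroup.of p) = X ⟨p.1.1, p.1.2⟩ p.2 := by
    rintro ⟨⟨r, hr⟩, t⟩
    have h1 : Cfsg.Lie.chevD4.stGen F r t = PresentedGroup.of (⟨r, hr⟩, t) := by
      unfold Cfsg.Lie.ChevalleyDatum.stGen Cfsg.Lie.ChevalleyDatum.stX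
      rw [dif_pos hr]
      rfl
    rw [← h1, hψ, Xn_of_lt (show r < 24 from hr)]
  rw [MonoidHom.range_eq_map, ← PresentedGroup.closure_range_of, MonoidHom.map_closure]
  unfold EE
  congr 1
  ext g
  constructor
  · rintro ⟨_, ⟨p, rfl⟩, rfl⟩
    exact ⟨⟨p.1.1, p.1.2⟩, p.2, hof p⟩
  · rintro ⟨r, t, rfl⟩
    exact ⟨PresentedGroup.of (⟨r.1, r.2⟩, t), ⟨_, rfl⟩, hof _⟩

end Cfsg.Agent.Lib.Helper37.D4O8
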