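import Mathlib
import Cfsg.Agent.Lib.Helper37.MBalDefs
import Cfsg.Agent.Lib.Helper25.MBalNC

/-!
# S2733 hive (helper37), leaf MB-G1S: `odd_normal_invol`
-/

set_option autoImplicit false

namespace Cfsg.Agent.Lib.Helper37.MBal

universe u v

section g1s

variable {K : Type u} [Field K] {V : Type v} [AddCommGroup V] [Module K V]

theorem g1s_apply_inv (a : V ≃ₗ[K] V) (x : V) : a (a⁻¹ x) = x :=
  LinearEquiv.apply_symm_apply a x

theorem g1s_inv_apply (a : V ≃ₗ[K] V) (x : V) : a⁻¹ (a x) = x :=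
  LinearEquiv.symm_apply_apply a x

/-- the subgroup of isometries -/
def g1s_iso (B : LinearMap.BilinForm K V) : Subgroup (V ≃ₗ[K] V) where
  carrier := {y | ∀ u w, B (y u) (y w) = B u w}
  mul_mem' := by
    intro a b ha hb u w
    rw [LinearEquiv.mul_apply, LinearEquiv.mul_apply, ha, hb]
  one_mem' := by intro u w; rfl
  inv_mem' := by
    intro a ha u w
    have := ha (a⁻¹ u) (a⁻¹ w)
    rw [g1s_apply_inv, g1s_apply_inv] at this
    exact this.symm

theorem g1s_mem_iso (B : LinearMap.BilinForm K V) (y : V ≃ₗ[K] V) :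
    y ∈ g1s_iso B ↔ ∀ u w, B (y u) (y w) = B u w := Iff.rfl

/-- the subgroup of isometries commuting with `t` -/
def g1s_cent (B : LinearMap.BilinForm K V) (t : V ≃ₗ[K] V) : Subgroup (V ≃ₗ[K] V) :=
  g1s_iso B ⊓ Subgroup.centralizer {t}

theorem g1s_mem_cent (B : LinearMap.BilinForm K V) (t y : V ≃ₗ[K] V) :
    y ∈ g1s_cent B t ↔ (∀ u w, B (y u) (y w) = B u w) ∧ y * t = t * y := by
  rw [g1s_cent, Subgroup.mem_inf, g1s_mem_iso, Subgroup.mem_centralizer_iff]
  constructor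
  · rintro ⟨h1, h2⟩
    exact ⟨h1, (h2 t rfl).symm⟩
  · rintro ⟨h1, h2⟩
    refine ⟨h1, fun h hh => ?_⟩
    rw [Set.mem_singleton_iff] at hh
    subst hh
    exact h2.symm

theorem g1s_comm_apply {t y : V ≃ₗ[K] V} (h : y * t = t * y) (x : V) : y (t x) = t (y x) := by
  have := congrArg (fun f : V ≃ₗ[K] V => f x) h
  simpa [LinearEquiv.mul_apply] using this

/-- an element with `f w = -w` and odd order forces `w = 0` -/
theorem g1s_neg_fix (h2 : (2 : K) ≠ 0) (f : V ≃ₗ[K] V) (k : ℕ) (hk : Odd k) (hf : f ^ k = 1)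
    (w : V) (hw : f w = -w) : w = 0 := by
  have h1 : ∀ n : ℕ, (f ^ n) w = (-1 : K) ^ n • w := by
    intro n
    induction n with
    | zero => simp
    | succ n ih =>
      rw [pow_succ, LinearEquiv.mul_apply, hw, map_neg, ih, pow_succ]
      simp
  have h3 := h1 k
  rw [hf, hk.neg_one_pow] at h3
  have h4 : (2 : K) • w = 0 := by
    have : w = -w := by simpa using h3
    rw [two_smul]
    nth_rewrite 1 [this]
    simp
  rcases smul_eq_zero.mp h4 with h | h
  · exact absurd h h2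
  · exact h

theorem g1s_mem_W (t : V ≃ₗ[K] V) (w : V) :
    w ∈ LinearMap.ker ((t : V →ₗ[K] V) - 1) ↔ t w = w := by
  rw [LinearMap.mem_ker, LinearMap.sub_apply, sub_eq_zero]
  rfl

theorem g1s_tt {t : V ≃ₗ[K] V} (htt : t * t = 1) (x : V) : t (t x) = x := by
  have := congrArg (fun f : V ≃ₗ[K] V => f x) htt
  simpa [LinearEquiv.mul_apply] using this

/-- projection to the fixed space of `t`, as a linear map -/
noncomputable def g1s_P (t : V ≃ₗ[K] V) (htt : t * t = 1) :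
    V →ₗ[K] LinearMap.ker ((t : V →ₗ[K] V) - 1) :=
  LinearMap.codRestrict _ ((2⁻¹ : K) • (LinearMap.id + (t : V →ₗ[K] V))) (by
    intro x
    rw [g1s_mem_W]
    simp only [LinearMap.smul_apply, LinearMap.add_apply, LinearMap.id_coe, id_eq,
      LinearEquiv.coe_coe, map_smul, map_add, g1s_tt htt]
    rw [add_comm])

theorem g1s_P_apply (t : V ≃ₗ[K] V) (htt : t * t = 1) (x : V) :
    ((g1s_P t htt x : LinearMap.ker ((t : V →ₗ[K] V) - 1)) : V) = (2⁻¹ : K) • (x + t x) := rfl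

/-- the extension (by the identity on the `-1`-eigenspace) of an endomorphism of the fixed space -/
noncomputable def g1s_extL (t : V ≃ₗ[K] V) (htt : t * t = 1)
    (h : LinearMap.ker ((t : V →ₗ[K] V) - 1) →ₗ[K] LinearMap.ker ((t : V →ₗ[K] V) - 1)) :
    V →ₗ[K] V :=
  (LinearMap.ker ((t : V →ₗ[K] V) - 1)).subtype ∘ₗ h ∘ₗ g1s_P t htt +
    (2⁻¹ : K) • (LinearMap.id - (t : V →ₗ[K] V))

theorem g1s_extL_apply (t : V ≃ₗ[K] V) (htt : t * t = 1)
    (h : LinearMap.ker ((t : V →ₗ[K] V) - 1) →ₗ[K] LinearMap.ker ((t : V →ₗ[K] V) - 1)) (x : V) :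
    g1s_extL t htt h x = (h (g1s_P t htt x) : V) + (2⁻¹ : K) • (x - t x) := rfl

theorem g1s_P_of_mem (h2 : (2 : K) ≠ 0) (t : V ≃ₗ[K] V) (htt : t * t = 1)
    (w : LinearMap.ker ((t : V →ₗ[K] V) - 1)) : g1s_P t htt (w : V) = w := by
  apply Subtype.ext
  rw [g1s_P_apply, (g1s_mem_W t _).mp w.2, ← two_smul K (w : V), smul_smul, inv_mul_cancel₀ h2,
    one_smul]

theorem g1s_decomp (h2 : (2 : K) ≠ 0) (t : V ≃ₗ[K] V) (htt : t * t = 1) (x : V) :
    x = (g1s_P t htt x : V) + (2⁻¹ : K) • (x - t x) := by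
  rw [g1s_P_apply, ← smul_add]
  have : x + t x + (x - t x) = (2 : K) • x := by rw [two_smul]; abel
  rw [this, smul_smul, inv_mul_cancel₀ h2, one_smul]

theorem g1s_t_P' (t : V ≃ₗ[K] V) (htt : t * t = 1) (x : V) :
    t ((2⁻¹ : K) • (x - t x)) = -((2⁻¹ : K) • (x - t x)) := by
  rw [map_smul, map_sub, g1s_tt htt, ← smul_neg, neg_sub]

theorem g1s_orth (h2 : (2 : K) ≠ 0) (B : LinearMap.BilinForm K V) (t : V ≃ₗ[K] V)
    (ht : ∀ u w, B (t u) (t w) = B u w) (a b : V) (ha : t a = a) (hb : t b = -b) :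
    B a b = 0 := by
  have h1 := ht a b
  rw [ha, hb, map_neg] at h1
  have h3 : (2 : K) * B a b = 0 := by
    rw [two_mul]
    nth_rewrite 1 [← h1]
    simp
  rcases mul_eq_zero.mp h3 with h | h
  · exact absurd h h2
  · exact h

theorem g1s_ext_iso (h2 : (2 : K) ≠ 0) (B : LinearMap.BilinForm K V) (hs : B.IsSymm)
    (t : V ≃ₗ[K] V) (ht : ∀ u w, B (t u) (t w) = B u w) (htt : t * t = 1)
    (h : LinearMap.ker ((t : V →ₗ[K] V) - 1) →ₗ[K] LinearMap.ker ((t : V →ₗ[K] V) - 1))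
    (hh : ∀ a b, B (h a : V) (h b : V) = B (a : V) (b : V)) (x y : V) :
    B (g1s_extL t htt h x) (g1s_extL t htt h y) = B x y := by
  have hm : ∀ w : LinearMap.ker ((t : V →ₗ[K] V) - 1), t (w : V) = w :=
    fun w => (g1s_mem_W t _).mp w.2
  have e1 : B (h (g1s_P t htt x) : V) ((2⁻¹ : K) • (y - t y)) = 0 :=
    g1s_orth h2 B t ht _ _ (hm _) (g1s_t_P' t htt y)
  have e2 : B ((2⁻¹ : K) • (x - t x)) (h (g1s_P t htt y) : V) = 0 := by
    rw [hs.eq]
    exact g1s_orth h2 B t ht _ _ (hm _) (g1s_t_P' t htt x)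
  have e3 : B (g1s_P t htt x : V) ((2⁻¹ : K) • (y - t y)) = 0 :=
    g1s_orth h2 B t ht _ _ (hm _) (g1s_t_P' t htt y)
  have e4 : B ((2⁻¹ : K) • (x - t x)) (g1s_P t htt y : V) = 0 := by
    rw [hs.eq]
    exact g1s_orth h2 B t ht _ _ (hm _) (g1s_t_P' t htt x)
  rw [g1s_extL_apply, g1s_extL_apply]
  conv_rhs => rw [g1s_decomp h2 t htt x, g1s_decomp h2 t htt y]
  simp only [map_add, LinearMap.add_apply, e1, e2, e3, e4, hh, add_zero, zero_add]

theorem g1s_ext_comm (t : V ≃ₗ[K] V) (htt : t * t = 1)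
    (h : LinearMap.ker ((t : V →ₗ[K] V) - 1) →ₗ[K] LinearMap.ker ((t : V →ₗ[K] V) - 1)) (x : V) :
    g1s_extL t htt h (t x) = t (g1s_extL t htt h x) := by
  have hm : ∀ w : LinearMap.ker ((t : V →ₗ[K] V) - 1), t (w : V) = w :=
    fun w => (g1s_mem_W t _).mp w.2
  have hP : g1s_P t htt (t x) = g1s_P t htt x := by
    apply Subtype.ext
    rw [g1s_P_apply, g1s_P_apply, g1s_tt htt, add_comm]
  rw [g1s_extL_apply, g1s_extL_apply, hP, map_add, hm, g1s_t_P' t htt x, g1s_tt htt,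
    ← smul_neg, neg_sub]

theorem g1s_ext_of_mem (h2 : (2 : K) ≠ 0) (t : V ≃ₗ[K] V) (htt : t * t = 1)
    (h : LinearMap.ker ((t : V →ₗ[K] V) - 1) →ₗ[K] LinearMap.ker ((t : V →ₗ[K] V) - 1))
    (w : LinearMap.ker ((t : V →ₗ[K] V) - 1)) : g1s_extL t htt h (w : V) = (h w : V) := by
  rw [g1s_extL_apply, g1s_P_of_mem h2, (g1s_mem_W t _).mp w.2, sub_self, smul_zero, add_zero]

theorem g1s_restrict_nondeg (h2 : (2 : K) ≠ 0) (B : LinearMap.BilinForm K V) (hs : B.IsSymm)
    (hnd : B.Nondegenerate) (t : V ≃ₗ[K] V) (ht : ∀ u w, B (t u) (t w) = B u w)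
    (htt : t * t = 1) :
    (B.restrict (LinearMap.ker ((t : V →ₗ[K] V) - 1))).Nondegenerate := by
  have hm : ∀ w : LinearMap.ker ((t : V →ₗ[K] V) - 1), t (w : V) = w :=
    fun w => (g1s_mem_W t _).mp w.2
  have key : ∀ m : LinearMap.ker ((t : V →ₗ[K] V) - 1),
      (∀ n : LinearMap.ker ((t : V →ₗ[K] V) - 1), B (m : V) (n : V) = 0) → m = 0 := by
    intro m hmn
    apply Subtype.ext
    apply hnd.1
    intro y
    rw [g1s_decomp h2 t htt y, map_add, hmn, zero_add]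
    exact g1s_orth h2 B t ht _ _ (hm _) (g1s_t_P' t htt y)
  constructor
  · intro m hmn
    exact key m (fun n => by simpa using hmn n)
  · intro m hmn
    exact key m (fun n => by rw [hs.eq]; simpa using hmn n)

/-- the group of restrictions to the fixed space of `t` -/
def g1s_res (t : V ≃ₗ[K] V) (N : Subgroup (V ≃ₗ[K] V)) :
    Subgroup (LinearMap.ker ((t : V →ₗ[K] V) - 1) ≃ₗ[K] LinearMap.ker ((t : V →ₗ[K] V) - 1)) where
  carrier := {e | ∃ f ∈ N, ∀ w, (e w : V) = f (w : V)}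
  mul_mem' := by
    rintro a b ⟨f, hf, hfa⟩ ⟨g, hg, hgb⟩
    refine ⟨f * g, N.mul_mem hf hg, fun w => ?_⟩
    rw [LinearEquiv.mul_apply, LinearEquiv.mul_apply, hfa, hgb]
  one_mem' := ⟨1, N.one_mem, fun w => rfl⟩
  inv_mem' := by
    rintro a ⟨f, hf, hfa⟩
    refine ⟨f⁻¹, N.inv_mem hf, fun w => ?_⟩
    have := hfa (a⁻¹ w)
    rw [g1s_apply_inv] at this
    rw [this, g1s_inv_apply]

theorem g1s_mem_res (t : V ≃ₗ[K] V) (N : Subgroup (V ≃ₗ[K] V))
    (e : LinearMap.ker ((t : V →ₗ[K] V) - 1) ≃ₗ[K] LinearMap.ker ((t : V →ₗ[K] V) - 1)) :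
    e ∈ g1s_res t N ↔ ∃ f ∈ N, ∀ w, (e w : V) = f (w : V) := Iff.rfl

theorem g1s_res_pow (t : V ≃ₗ[K] V) (f : V ≃ₗ[K] V)
    (e : LinearMap.ker ((t : V →ₗ[K] V) - 1) ≃ₗ[K] LinearMap.ker ((t : V →ₗ[K] V) - 1))
    (h : ∀ w, (e w : V) = f (w : V)) (n : ℕ) (w : LinearMap.ker ((t : V →ₗ[K] V) - 1)) :
    ((e ^ n) w : V) = (f ^ n) (w : V) := by
  induction n generalizing w with
  | zero => simp
  | succ n ih =>
    rw [pow_succ, pow_succ, LinearEquiv.mul_apply, LinearEquiv.mul_apply, ih, h]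

variable [FiniteDimensional K V]

theorem g1s_exists_ext (h2 : (2 : K) ≠ 0) (B : LinearMap.BilinForm K V) (hs : B.IsSymm)
    (hnd : B.Nondegenerate) (t : V ≃ₗ[K] V) (ht : ∀ u w, B (t u) (t w) = B u w)
    (htt : t * t = 1)
    (h : LinearMap.ker ((t : V →ₗ[K] V) - 1) ≃ₗ[K] LinearMap.ker ((t : V →ₗ[K] V) - 1))
    (hh : ∀ a b, B (h a : V) (h b : V) = B (a : V) (b : V)) :
    ∃ y : V ≃ₗ[K] V, (∀ u w, B (y u) (y w) = B u w) ∧ y * t = t * y ∧
      ∀ w : LinearMap.ker ((t : V →ₗ[K] V) - 1), y (w : V) = (h w : V) := by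
  have hinj : Function.Injective (g1s_extL t htt h.toLinearMap) := by
    rw [← LinearMap.ker_eq_bot, LinearMap.ker_eq_bot']
    intro x hx
    apply hnd.1
    intro y
    rw [← g1s_ext_iso h2 B hs t ht htt h.toLinearMap hh x y, hx, map_zero, LinearMap.zero_apply]
  refine ⟨LinearEquiv.ofInjectiveEndo _ hinj, ?_, ?_, ?_⟩
  · intro u w
    exact g1s_ext_iso h2 B hs t ht htt h.toLinearMap hh u w
  · apply LinearEquiv.ext
    intro x
    rw [LinearEquiv.mul_apply, LinearEquiv.mul_apply]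
    exact g1s_ext_comm t htt h.toLinearMap x
  · intro w
    exact g1s_ext_of_mem h2 t htt h.toLinearMap w

theorem g1s_fix (h2 : (2 : K) ≠ 0) (B : LinearMap.BilinForm K V) (hs : B.IsSymm)
    (hnd : B.Nondegenerate)
    (horth : ∀ W : Submodule K V, 3 ≤ Module.finrank K W → (B.restrict W).Nondegenerate →
      OrthQ K W (B.restrict W))
    (t : V ≃ₗ[K] V) (ht : ∀ u w, B (t u) (t w) = B u w) (htt : t * t = 1)
    (hp : Module.finrank K (LinearMap.ker ((t : V →ₗ[K] V) - 1)) ≠ 2)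
    (N : Subgroup (V ≃ₗ[K] V))
    (hNi : ∀ f ∈ N, ∀ u w, B (f u) (f w) = B u w) (hNt : ∀ f ∈ N, f * t = t * f)
    (hNn : ∀ y : V ≃ₗ[K] V, (∀ u w, B (y u) (y w) = B u w) → y * t = t * y →
      ∀ f ∈ N, y * f * y⁻¹ ∈ N)
    (hodd : ∀ f ∈ N, ∃ k : ℕ, Odd k ∧ f ^ k = 1) :
    ∀ f ∈ N, ∀ w : V, t w = w → f w = w := by
  have hnW := g1s_restrict_nondeg h2 B hs hnd t ht htt
  have hpres : ∀ f ∈ N, ∀ w : V, t w = w → t (f w) = f w := by
    intro f hf w hw
    rw [← g1s_comm_apply (hNt f hf) w, hw]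
  have hsuff : ∀ f ∈ N, ∀ w : V, (f w = w ∨ f w = -w) → f w = w := by
    intro f hf w h
    rcases h with h | h
    · exact h
    · obtain ⟨k, hk, hfk⟩ := hodd f hf
      have := g1s_neg_fix h2 f k hk hfk w h
      rw [this, map_zero]
  intro f hf w hw
  apply hsuff f hf
  by_cases h3 : 3 ≤ Module.finrank K (LinearMap.ker ((t : V →ₗ[K] V) - 1))
  · have hO := horth _ h3 hnW
    -- the restriction of `f`
    have hfW : ∀ x ∈ LinearMap.ker ((t : V →ₗ[K] V) - 1),
        (f : V →ₗ[K] V) x ∈ LinearMap.ker ((t : V →ₗ[K] V) - 1) := by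
      intro x hx
      rw [g1s_mem_W] at hx ⊢
      exact hpres f hf x hx
    have hinj : Function.Injective ((f : V →ₗ[K] V).restrict hfW) := by
      intro a b hab
      apply Subtype.ext
      have := congrArg Subtype.val hab
      rw [LinearMap.coe_restrict_apply, LinearMap.coe_restrict_apply] at this
      exact f.injective this
    have he : LinearEquiv.ofInjectiveEndo _ hinj ∈ g1s_res t N :=
      ⟨f, hf, fun x => rfl⟩
    have hres := hO (g1s_res t N) ?_ ?_ ?_ _ he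
    · have hwW : w ∈ LinearMap.ker ((t : V →ₗ[K] V) - 1) := (g1s_mem_W t w).mpr hw
      rcases hres with h | h
      · left
        have := congrArg (fun e : LinearMap.ker ((t : V →ₗ[K] V) - 1) ≃ₗ[K]
          LinearMap.ker ((t : V →ₗ[K] V) - 1) => ((e ⟨w, hwW⟩ : _) : V)) h
        exact this
      · right
        have := congrArg (fun e : LinearMap.ker ((t : V →ₗ[K] V) - 1) ≃ₗ[K]
          LinearMap.ker ((t : V →ₗ[K] V) - 1) => ((e ⟨w, hwW⟩ : _) : V)) h
        exact this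
    · rintro e ⟨g, hg, hge⟩ a b
      show B (e a : V) (e b : V) = B (a : V) (b : V)
      rw [hge, hge, hNi g hg]
    · rintro h hh e ⟨g, hg, hge⟩
      have hh' : ∀ a b, B (h a : V) (h b : V) = B (a : V) (b : V) := hh
      obtain ⟨y, hyi, hyt, hyw⟩ := g1s_exists_ext h2 B hs hnd t ht htt h hh'
      refine ⟨y * g * y⁻¹, hNn y hyi hyt g hg, fun x => ?_⟩
      have h1 : y⁻¹ (x : V) = ((h⁻¹ x : _) : V) := by
        have := hyw (h⁻¹ x)
        rw [g1s_apply_inv] at this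
        rw [← this, g1s_inv_apply]
      rw [LinearEquiv.mul_apply, LinearEquiv.mul_apply, LinearEquiv.mul_apply,
        LinearEquiv.mul_apply, h1, ← hge, hyw]
    · rintro e ⟨g, hg, hge⟩
      obtain ⟨k, hk, hgk⟩ := hodd g hg
      refine ⟨k, hk, Or.inl ?_⟩
      apply LinearEquiv.ext
      intro x
      apply Subtype.ext
      rw [g1s_res_pow t g e hge k x, hgk]
      rfl
  · have h01 : Module.finrank K (LinearMap.ker ((t : V →ₗ[K] V) - 1)) = 0 ∨
        Module.finrank K (LinearMap.ker ((t : V →ₗ[K] V) - 1)) = 1 := by omega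
    rcases h01 with h0 | h1
    · have hbot : LinearMap.ker ((t : V →ₗ[K] V) - 1) = ⊥ := Submodule.finrank_eq_zero.mp h0
      have hw0 : w = 0 := by
        have : w ∈ LinearMap.ker ((t : V →ₗ[K] V) - 1) := (g1s_mem_W t w).mpr hw
        rw [hbot] at this
        exact (Submodule.mem_bot K).mp this
      left
      rw [hw0, map_zero]
    · obtain ⟨v0, hv0, hspan⟩ := finrank_eq_one_iff'.mp h1
      have hB0 : B (v0 : V) (v0 : V) ≠ 0 := by
        intro h0
        apply hv0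
        apply hnW.1
        intro n
        obtain ⟨c, rfl⟩ := hspan n
        show B (v0 : V) ((c • v0 : _) : V) = 0
        rw [Submodule.coe_smul, map_smul, h0, smul_zero]
      have hfv0 : f (v0 : V) ∈ LinearMap.ker ((t : V →ₗ[K] V) - 1) := by
        rw [g1s_mem_W]
        exact hpres f hf _ ((g1s_mem_W t _).mp v0.2)
      obtain ⟨d, hd⟩ := hspan ⟨_, hfv0⟩
      have hd' : f (v0 : V) = d • (v0 : V) := by
        have := congrArg Subtype.val hd
        rw [Submodule.coe_smul] at this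
        exact this.symm
      have hdd : d * d = 1 := by
        have := hNi f hf (v0 : V) (v0 : V)
        rw [hd', map_smul, map_smul, LinearMap.smul_apply, smul_eq_mul, smul_eq_mul,
          ← mul_assoc] at this
        exact mul_right_cancel₀ hB0 (by rw [this, one_mul])
      obtain ⟨c, hc⟩ := hspan ⟨w, (g1s_mem_W t w).mpr hw⟩
      have hc' : w = c • (v0 : V) := by
        have := congrArg Subtype.val hc
        rw [Submodule.coe_smul] at this
        exact this.symm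
      rcases mul_self_eq_one_iff.mp hdd with h | h
      · left
        rw [hc', map_smul, hd', h, one_smul]
      · right
        rw [hc', map_smul, hd', h, neg_smul, one_smul, smul_neg]

theorem g1s_finite [Finite K] : Finite (V ≃ₗ[K] V) := by
  have : Finite V := Module.finite_of_finite K
  exact Finite.of_injective (fun f : V ≃ₗ[K] V => (f : V → V))
    (fun a b h => LinearEquiv.ext (congrFun h))

end g1s

section invol

variable {K : Type u} [Field K] [Finite K] {V : Type v} [AddCommGroup V] [Module K V]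
  [FiniteDimensional K V]

/-- (MB-G1S) odd-order subgroups of the centralizer of an isometry involution `t`, normalized
by the part of the centralizer inside a normal subgroup `O'` of the isometry group, are trivial,
if no eigenspace of `t` has dimension 2. -/
theorem odd_normal_invol (h2 : (2 : K) ≠ 0) (B : LinearMap.BilinForm K V)
    (hs : B.IsSymm) (hnd : B.Nondegenerate)
    (horth : ∀ W : Submodule K V, 3 ≤ Module.finrank K W → (B.restrict W).Nondegenerate →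
      OrthQ K W (B.restrict W))
    (t : V ≃ₗ[K] V) (ht : ∀ u w, B (t u) (t w) = B u w) (htt : t * t = 1)
    (hp : Module.finrank K (LinearMap.ker ((t : V →ₗ[K] V) - 1)) ≠ 2)
    (hm : Module.finrank K (LinearMap.ker ((t : V →ₗ[K] V) + 1)) ≠ 2)
    (O' : Subgroup (V ≃ₗ[K] V))
    (hO'n : ∀ h : V ≃ₗ[K] V, (∀ u w, B (h u) (h w) = B u w) → ∀ f ∈ O', h * f * h⁻¹ ∈ O')
    (X : Subgroup (V ≃ₗ[K] V)) (hXO : X ≤ O')
    (hXi : ∀ f ∈ X, ∀ u w, B (f u) (f w) = B u w) (hXt : ∀ f ∈ X, f * t = t * f)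
    (hXn : ∀ y ∈ O', (∀ u w, B (y u) (y w) = B u w) → y * t = t * y →
      ∀ f ∈ X, y * f * y⁻¹ ∈ X)
    (hodd : ∀ f ∈ X, ∃ k : ℕ, Odd k ∧ f ^ k = 1) : X = ⊥ := by
  have : Finite (V ≃ₗ[K] V) := g1s_finite
  have hXodd : Odd (Nat.card X) := by
    rw [← Nat.not_even_iff_odd]
    intro hev
    have : Fact (Nat.Prime 2) := ⟨Nat.prime_two⟩
    obtain ⟨x, hx⟩ := exists_prime_orderOf_dvd_card' 2 hev.two_dvd
    obtain ⟨k, hk, hxk⟩ := hodd x x.2
    have h1 : x ^ k = 1 := Subtype.ext (by simpa using hxk)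
    have h3 := orderOf_dvd_of_pow_eq_one h1
    rw [hx] at h3
    exact (Nat.not_even_iff_odd.mpr hk) (even_iff_two_dvd.mpr h3)
  obtain ⟨N, hXN, hNR, hNn, hNodd⟩ := nc_odd (g1s_cent B t) (g1s_cent B t ⊓ O') X inf_le_left
    (by
      intro c hc r hr
      refine ⟨(g1s_cent B t).mul_mem ((g1s_cent B t).mul_mem hc hr.1)
        ((g1s_cent B t).inv_mem hc), ?_⟩
      exact hO'n c ((g1s_mem_cent B t c).mp hc).1 r hr.2)
    (by
      intro x hx
      exact ⟨(g1s_mem_cent B t x).mpr ⟨hXi x hx, hXt x hx⟩, hXO hx⟩)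
    (by
      intro r hr x hx
      have := (g1s_mem_cent B t r).mp hr.1
      exact hXn r hr.2 this.1 this.2 x hx)
    hXodd
  have hNi : ∀ f ∈ N, ∀ u w, B (f u) (f w) = B u w :=
    fun f hf => ((g1s_mem_cent B t f).mp (hNR hf).1).1
  have hNt : ∀ f ∈ N, f * t = t * f :=
    fun f hf => ((g1s_mem_cent B t f).mp (hNR hf).1).2
  have hNn' : ∀ y : V ≃ₗ[K] V, (∀ u w, B (y u) (y w) = B u w) → y * t = t * y →
      ∀ f ∈ N, y * f * y⁻¹ ∈ N :=
    fun y hy1 hy2 f hf => hNn y ((g1s_mem_cent B t y).mpr ⟨hy1, hy2⟩) f hf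
  have hNo : ∀ f ∈ N, ∃ k : ℕ, Odd k ∧ f ^ k = 1 := by
    intro f hf
    refine ⟨Nat.card N, hNodd, ?_⟩
    have h1 : (⟨f, hf⟩ : N) ^ Nat.card N = 1 := pow_card_eq_one'
    have h3 : (((⟨f, hf⟩ : N) ^ Nat.card N : N) : V ≃ₗ[K] V) = f ^ Nat.card N := rfl
    rw [← h3, h1]
    rfl
  have hplus := g1s_fix h2 B hs hnd horth t ht htt hp N hNi hNt hNn' hNo
  -- the involution `-t`
  obtain ⟨t', hta⟩ : ∃ t' : V ≃ₗ[K] V, ∀ x, t' x = -(t x) :=
    ⟨LinearEquiv.neg K * t, fun x => rfl⟩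
  have htt' : t' * t' = 1 := by
    apply LinearEquiv.ext
    intro x
    rw [LinearEquiv.mul_apply, hta, hta, map_neg, neg_neg, g1s_tt htt]
    rfl
  have ht' : ∀ u w, B (t' u) (t' w) = B u w := by
    intro u w
    rw [hta, hta, map_neg, map_neg, LinearMap.neg_apply, neg_neg, ht]
  have hker : LinearMap.ker ((t' : V →ₗ[K] V) - 1) =
      LinearMap.ker ((t : V →ₗ[K] V) + 1) := by
    ext w
    rw [g1s_mem_W, hta, LinearMap.mem_ker, LinearMap.add_apply, neg_eq_iff_add_eq_zero]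
    rfl
  have hm' : Module.finrank K
      (LinearMap.ker ((t' : V →ₗ[K] V) - 1)) ≠ 2 := by
    rw [hker]
    exact hm
  have hNt' : ∀ f ∈ N, f * t' = t' * f := by
    intro f hf
    apply LinearEquiv.ext
    intro x
    rw [LinearEquiv.mul_apply, LinearEquiv.mul_apply, hta, hta, map_neg,
      g1s_comm_apply (hNt f hf)]
  have hNn'' : ∀ y : V ≃ₗ[K] V, (∀ u w, B (y u) (y w) = B u w) →
      y * t' = t' * y → ∀ f ∈ N, y * f * y⁻¹ ∈ N := by
    intro y hy1 hy2 f hf
    refine hNn' y hy1 ?_ f hf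
    apply LinearEquiv.ext
    intro x
    have := g1s_comm_apply hy2 x
    rw [hta, hta, map_neg, neg_inj] at this
    rw [LinearEquiv.mul_apply, LinearEquiv.mul_apply, this]
  have hminus := g1s_fix h2 B hs hnd horth t' ht' htt' hm' N hNi hNt'
    hNn'' hNo
  rw [eq_bot_iff]
  intro f hfX
  have hf := hXN hfX
  rw [Subgroup.mem_bot]
  apply LinearEquiv.ext
  intro x
  have e1 : f (g1s_P t htt x : V) = (g1s_P t htt x : V) :=
    hplus f hf _ ((g1s_mem_W t _).mp (g1s_P t htt x).2)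
  have e2 : f ((2⁻¹ : K) • (x - t x)) = (2⁻¹ : K) • (x - t x) := by
    apply hminus f hf
    rw [hta, g1s_t_P' t htt x, neg_neg]
  have e3 : f x = f ((g1s_P t htt x : V) + (2⁻¹ : K) • (x - t x)) := by
    rw [← g1s_decomp h2 t htt x]
  rw [e3, map_add, e1, e2, ← g1s_decomp h2 t htt x]
  rfl

end invol

end Cfsg.Agent.Lib.Helper37.MBal
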