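import Cfsg.Agent.Lib.Helper38.RhDefsB

/-! # Rh hive (helper38), PART B leaf RH-C1A `c1_basic`: a `(q+1)`-torus is abelian of order `q + 1` and is the
centraliser of each of its non-identity elements of odd order. -/

set_option autoImplicit false

namespace Cfsg.Agent.Lib.Helper38.Rh

open Cfsg.Agent.Lib.Helper12.Rt

section partB
variable {K : Type*} [Field K] [Fintype K] {G : Type*} [Group G] {m : ℕ} (D : RtData K G m)

include D

/-- RH-C1A -/
theorem c1_basic {C : Subgroup G} (hC : IsC1 m C) :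
    Nat.card ↥C = qq m + 1 ∧ (∀ x ∈ C, ∀ z ∈ C, x * z = z * x) ∧
      ∀ g ∈ C, g ≠ 1 → Odd (orderOf g) → Subgroup.centralizer ({g} : Set G) = C := by
  have hfin : Finite G := D.finite
  obtain ⟨y, ℓ, hℓ, hℓ2, hℓq, hoy, rfl⟩ := hC
  obtain ⟨hcard, hcomm⟩ := D.cent_nonsplit y ℓ hℓ hℓ2 hℓq hoy
  refine ⟨hcard, hcomm, ?_⟩
  intro g hg hg1 hodd
  -- `o(g) ∣ q + 1`
  have hog : orderOf g ∣ qq m + 1 := by
    have h1 : orderOf (⟨g, hg⟩ : ↥(Subgroup.centralizer ({y} : Set G))) ∣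
        Nat.card ↥(Subgroup.centralizer ({y} : Set G)) := orderOf_dvd_natCard _
    rw [Subgroup.orderOf_mk, hcard] at h1
    exact h1
  have hog1 : orderOf g ≠ 1 := fun h1 => hg1 (orderOf_eq_one_iff.mp h1)
  obtain ⟨ℓ', hℓ', hℓ'g⟩ := Nat.exists_prime_and_dvd hog1
  have hℓ'2 : ℓ' ≠ 2 := by
    rintro rfl
    exact (Nat.not_even_iff_odd.mpr hodd) (even_iff_two_dvd.mpr hℓ'g)
  set y' := g ^ (orderOf g / ℓ') with hy'
  have hoy' : orderOf y' = ℓ' := orderOf_pow_orderOf_div (orderOf_pos g).ne' hℓ'g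
  obtain ⟨hcard', hcomm'⟩ := D.cent_nonsplit y' ℓ' hℓ' hℓ'2 (hℓ'g.trans hog) hoy'
  have hy'C : y' ∈ Subgroup.centralizer ({y} : Set G) := Subgroup.pow_mem _ hg _
  -- `C ≤ C(y')`, same order
  have hle : Subgroup.centralizer ({y} : Set G) ≤ Subgroup.centralizer ({y'} : Set G) := by
    intro x hx
    rw [Subgroup.mem_centralizer_singleton_iff]
    exact hcomm x hx y' hy'C
  have heq : Subgroup.centralizer ({y} : Set G) = Subgroup.centralizer ({y'} : Set G) :=
    Subgroup.eq_of_le_of_card_ge hle (by rw [hcard, hcard'])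
  apply le_antisymm
  · intro x hx
    rw [heq, Subgroup.mem_centralizer_singleton_iff]
    rw [Subgroup.mem_centralizer_singleton_iff] at hx
    have hc : Commute x g := hx
    exact (hc.pow_right _).eq
  · intro x hx
    rw [Subgroup.mem_centralizer_singleton_iff]
    exact hcomm x hx g hg

end partB

end Cfsg.Agent.Lib.Helper38.Rh
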