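import Mathlib
import Cfsg.Agent.Lib.Helper38.RhDefs

/-! # Rh hive (helper38), leaf RH-SUM: core with RH-T3 / RH-T6 / RH-T1' as hypotheses. -/

set_option autoImplicit false

namespace Cfsg.Agent.Lib.Helper38.Rh

section abstract
variable {G : Type*} [Group G] [Finite G] {N : ℕ}

omit [Finite G] in
theorem sum_map_map (T : Subgroup G) (a b : G) :
    (T.map (MulAut.conj a).toMonoidHom).map (MulAut.conj b).toMonoidHom =
      T.map (MulAut.conj (b * a)).toMonoidHom := by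
  rw [Subgroup.map_map]
  congr 1
  ext x
  simp [MulAut.conj_apply, mul_assoc]

omit [Finite G] in
theorem sum_map_one (T : Subgroup G) : T.map (MulAut.conj (1 : G)).toMonoidHom = T := by
  ext x
  simp

/-- RH-SUM core -/
theorem sum_core
    (hT3 : ∀ T : Subgroup G, IsTorus N T → ∀ g : G, IsTorus N (T.map (MulAut.conj g).toMonoidHom))
    (hT6 : ∀ g : G, g ≠ 1 → (orderOf g ∣ N ↔ ∃ T : Subgroup G, IsTorus N T ∧ g ∈ T))
    (hT1 : ∀ T₁ T₂ : Subgroup G, IsTorus N T₁ → IsTorus N T₂ → ∀ y : G, y ∈ T₁ → y ∈ T₂ → y ≠ 1 → T₁ = T₂)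
    {R : Finset (Subgroup G)} (hR : IsReps N R) :
    Nat.card {y : G // y ≠ 1 ∧ orderOf y ∣ N} = ∑ T ∈ R, Nat.card ↥(conjUnion T) := by
  classical
  have : Fintype G := Fintype.ofFinite G
  have hc : ∀ T : Subgroup G, Nat.card ↥(conjUnion T) =
      (Finset.univ.filter (fun y : G => y ∈ conjUnion T)).card := by
    intro T
    rw [Nat.card_eq_fintype_card]
    exact Fintype.card_subtype _
  rw [Nat.card_eq_fintype_card, Fintype.card_subtype, Finset.sum_congr rfl (fun T _ => hc T),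
    ← Finset.card_biUnion]
  · congr 1
    ext y
    simp only [Finset.mem_filter, Finset.mem_univ, true_and, Finset.mem_biUnion]
    constructor
    · rintro ⟨hy1, hyN⟩
      obtain ⟨T₀, hT₀, hyT₀⟩ := (hT6 y hy1).mp hyN
      obtain ⟨T', hT'R, g, rfl⟩ := hR.cover T₀ hT₀
      exact ⟨T', hT'R, hy1, g, hyT₀⟩
    · rintro ⟨T, hTR, hy1, g, hyg⟩
      exact ⟨hy1, (hT6 y hy1).mpr ⟨_, hT3 T (hR.torus T hTR) g, hyg⟩⟩
  · intro T₁ hT₁ T₂ hT₂ hne
    rw [Function.onFun, Finset.disjoint_left]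
    intro y hy1 hy2
    simp only [Finset.mem_filter, Finset.mem_univ, true_and] at hy1 hy2
    obtain ⟨hyne, g₁, hg₁⟩ := hy1
    obtain ⟨-, g₂, hg₂⟩ := hy2
    have hT₁R : T₁ ∈ R := hT₁
    have hT₂R : T₂ ∈ R := hT₂
    have heq := hT1 _ _ (hT3 T₁ (hR.torus T₁ hT₁R) g₁) (hT3 T₂ (hR.torus T₂ hT₂R) g₂) y hg₁ hg₂ hyne
    apply hne
    apply hR.distinct T₁ hT₁R T₂ hT₂R
    refine ⟨g₂⁻¹ * g₁, ?_⟩
    rw [← sum_map_map, heq, sum_map_map, inv_mul_cancel, sum_map_one]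

end abstract

end Cfsg.Agent.Lib.Helper38.Rh
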