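import Mathlib
import Cfsg.Agent.Lib.Helper38.RhDefs
import Cfsg.Agent.Lib.Helper2.RhT3
import Cfsg.Agent.Lib.Helper69.RhT6
import Cfsg.Agent.Lib.Helper40.RhT1
import Cfsg.Agent.Lib.Helper85.RhSUMcore

/-! # Rh hive (helper38), leaf RH-SUM `card_order_dvd` (exact skeleton statement). -/

set_option autoImplicit false

namespace Cfsg.Agent.Lib.Helper38.Rh

section abstract
variable {G : Type*} [Group G] [Finite G] {N : ℕ}

/-- RH-SUM -/
theorem card_order_dvd (h : TorusHyp G N) {R : Finset (Subgroup G)} (hR : IsReps N R) :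
    Nat.card {y : G // y ≠ 1 ∧ orderOf y ∣ N} = ∑ T ∈ R, Nat.card ↥(conjUnion T) :=
  sum_core (fun _ hT g => torus_map_conj hT g) (fun g hg => mem_torus_iff h g hg)
    (fun _ _ hT₁ hT₂ _ h1 h2 hy1 => torus_eq_of_mem h hT₁ hT₂ h1 h2 hy1) hR

end abstract

end Cfsg.Agent.Lib.Helper38.Rh
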