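import Cfsg.Agent.Lib.Helper38.StnBruDefs

set_option autoImplicit false

namespace Cfsg.Agent.Lib.Helper41.Stn

open Matrix

variable {K : Type*} [Field K] {n : ℕ}

theorem brunx85_mu_ne_zero (i j : Fin n) {t : K} (ht : t ≠ 0) (a : Fin n) : mu i j t a ≠ 0 := by
  unfold mu
  split_ifs
  · exact neg_ne_zero.mpr (inv_ne_zero ht)
  · exact ht
  · exact one_ne_zero

/-- BRU-NX core (statement of the UPDATED skeleton, 22:08): `ww_conj_xx` (STN-W-ALL, without `hn`)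
as a hypothesis. -/
theorem brunx85_core2
    (hwall : ∀ {i j : Fin n}, i ≠ j → ∀ {t : K}, t ≠ 0 → ∀ {k l : Fin n}, k ≠ l → ∀ (u : K),
      ww i j t * xx k l u * (ww i j t)⁻¹ =
        xx (Equiv.swap i j k) (Equiv.swap i j l) (mu i j t k / mu i j t l * u))
    {ν : St K n} (hν : ν ∈ NN K n) :
    ∃ (σ : Equiv.Perm (Fin n)) (m : Fin n → K), (∀ a, m a ≠ 0) ∧
      ∀ k l : Fin n, k ≠ l → ∀ u : K, ν * xx k l u * ν⁻¹ = xx (σ k) (σ l) (m k / m l * u) := by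
  unfold NN at hν
  induction hν using Subgroup.closure_induction with
  | mem x hx =>
    obtain ⟨i, j, t, hij, ht, rfl⟩ := hx
    refine ⟨Equiv.swap i j, mu i j t, brunx85_mu_ne_zero i j ht, ?_⟩
    intro k l hkl u
    exact hwall hij ht hkl u
  | one =>
    refine ⟨1, fun _ => 1, fun _ => one_ne_zero, ?_⟩
    intro k l _ u
    simp
  | mul x y _ _ ihx ihy =>
    obtain ⟨σ₁, m₁, hm₁, h₁⟩ := ihx
    obtain ⟨σ₂, m₂, hm₂, h₂⟩ := ihy
    refine ⟨σ₁ * σ₂, fun a => m₁ (σ₂ a) * m₂ a, ?_, ?_⟩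
    · intro a
      exact mul_ne_zero (hm₁ _) (hm₂ _)
    · intro k l hkl u
      have hne : σ₂ k ≠ σ₂ l := fun h => hkl (σ₂.injective h)
      have e : x * y * xx k l u * (x * y)⁻¹ = x * (y * xx k l u * y⁻¹) * x⁻¹ := by group
      rw [e, h₂ k l hkl u, h₁ _ _ hne, Equiv.Perm.mul_apply, Equiv.Perm.mul_apply]
      congr 1
      have := hm₁ (σ₂ l)
      have := hm₂ l
      field_simp
  | inv x _ ih =>
    obtain ⟨σ, m, hm, h⟩ := ih
    refine ⟨σ⁻¹, fun a => (m (σ⁻¹ a))⁻¹, ?_, ?_⟩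
    · intro a
      exact inv_ne_zero (hm _)
    · intro k l hkl u
      have hne : σ⁻¹ k ≠ σ⁻¹ l := fun h => hkl (σ⁻¹.injective h)
      have h' := h (σ⁻¹ k) (σ⁻¹ l) hne ((m (σ⁻¹ k))⁻¹ / (m (σ⁻¹ l))⁻¹ * u)
      have ek : σ (σ⁻¹ k) = k := by simp
      have el : σ (σ⁻¹ l) = l := by simp
      have hk := hm (σ⁻¹ k)
      have hl := hm (σ⁻¹ l)
      have ec : m (σ⁻¹ k) / m (σ⁻¹ l) * ((m (σ⁻¹ k))⁻¹ / (m (σ⁻¹ l))⁻¹ * u) = u := by
        field_simp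
      rw [ek, el, ec] at h'
      rw [← h']
      group

end Cfsg.Agent.Lib.Helper41.Stn
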