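import Cfsg.Agent.Lib.Helper38.StnBruDefs

set_option autoImplicit false

namespace Cfsg.Agent.Lib.Helper41.Stn

open Matrix

variable {K : Type*} [Field K] {n : ℕ}

/-- BRU-R1 core (lower): `xx_add`, `xx_zero` as hypotheses. -/
theorem brur185_lower
    (hadd : ∀ (i j : Fin n) (t u : K), xx i j t * xx i j u = xx i j (t + u))
    (hzero : ∀ (i j : Fin n), xx i j (0 : K) = 1)
    (i j : Fin n) {t : K} (_ht : t ≠ 0) :
    xx j i t = xx i j t⁻¹ * ww i j (-t⁻¹) * xx i j t⁻¹ := by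
  have e1 : -(-t⁻¹)⁻¹ = t := by
    rw [inv_neg, neg_neg, inv_inv]
  unfold ww
  rw [e1]
  have e2 : xx i j t⁻¹ * (xx i j (-t⁻¹) * xx j i t * xx i j (-t⁻¹)) * xx i j t⁻¹ =
      (xx i j t⁻¹ * xx i j (-t⁻¹)) * xx j i t * (xx i j (-t⁻¹) * xx i j t⁻¹) := by group
  rw [e2, hadd, hadd, add_neg_cancel, neg_add_cancel, hzero, one_mul, mul_one]

/-- BRU-R1 core (upper): additionally `ww_symm` (without `hn`) as a hypothesis. -/
theorem brur185_upper
    (hadd : ∀ (i j : Fin n) (t u : K), xx i j t * xx i j u = xx i j (t + u))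
    (hzero : ∀ (i j : Fin n), xx i j (0 : K) = 1)
    (hsymm : ∀ {i j : Fin n}, i ≠ j → ∀ {t : K}, t ≠ 0 → ww j i t = ww i j (-t⁻¹))
    {i j : Fin n} (hij : i ≠ j) {u : K} (hu : u ≠ 0) :
    xx i j u = xx j i u⁻¹ * ww i j u * xx j i u⁻¹ := by
  have h := brur185_lower hadd hzero j i hu
  have hne : -u⁻¹ ≠ 0 := neg_ne_zero.mpr (inv_ne_zero hu)
  have e1 : -(-u⁻¹)⁻¹ = u := by
    rw [inv_neg, neg_neg, inv_inv]
  rw [hsymm hij hne, e1] at h
  exact h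

end Cfsg.Agent.Lib.Helper41.Stn
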