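import Mathlib
import Cfsg.Agent.Lib.Helper40.OpBNDefs
import Cfsg.Agent.Lib.Helper40.OpBN_ROOT
import Cfsg.Agent.Lib.Helper85.OpBN_CONJS

/-!
# S2548 hive (OpBN, owner helper40), leaf OPBN-CONJNE `So_conj_ne` (helper85)

For a simple reflection `s` the root element `b = x_S(1)` resp. `x_D(1)` lies in `B` but `s b s` does not.
-/

set_option autoImplicit false

namespace Cfsg.Agent.Lib.Helper40.OpBN

open Matrix Cfsg Cfsg.Agent.Lib.Helper13 Cfsg.Agent.Lib.Helper41.SpBN

variable {F : Type*} [Field F] {m : ℕ}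

/-- **LEAF CONJNE**. -/
theorem So_conj_ne : ∀ s ∈ So F m,
    (fun b : OG F m => s * b * s) '' (Bo F m : Set (OG F m)) ≠ (Bo F m : Set (OG F m)) := by
  rintro s ⟨σ, hσ, hs⟩ heq
  have hsmono : IsMono (mt s) σ (fun _ => 1) := by rw [hs]; exact permMat_isMono σ
  -- it suffices to find `b ∈ B` with `s b s ∉ B`
  suffices h : ∃ b ∈ Bo F m, s * b * s ∉ Bo F m by
    obtain ⟨b, hb, hsb⟩ := h
    apply hsb
    have : s * b * s ∈ (fun b : OG F m => s * b * s) '' (Bo F m : Set (OG F m)) := ⟨b, hb, rfl⟩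
    rw [heq] at this
    exact this
  have hentry : ∀ (b : OG F m) (u v : Idx m), mt (s * b * s) u v = mt b (σ.symm u) (σ v) := by
    intro b u v
    rw [mt_mul, mt_mul, conjs_mul_mul_apply hsmono hsmono, one_mul, mul_one]
  rcases hσ with ⟨k, k', hkk, rfl⟩ | ⟨k, k', hkk, hk', rfl⟩
  · have hne : k ≠ k' := by
      intro h; rw [h] at hkk; omega
    obtain ⟨b, hb⟩ := exists_xS (F := F) k k' hne 1
    have hne' : (Sum.inl k : Idx m) ≠ Sum.inl k' := by
      intro h; exact hne (Sum.inl.inj h)
    have hσ1 : (simpleShort k k').symm (Sum.inl k') = Sum.inl k := by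
      rw [Equiv.symm_apply_eq]
      simp [simpleShort, Equiv.swap_apply_def]
    have hσ2 : (simpleShort k k') (Sum.inl k) = Sum.inl k' := by
      simp [simpleShort, Equiv.swap_apply_def]
    refine ⟨b, ?_, ?_⟩
    · rw [conjs_mem_Bo_iff]
      intro u v huv
      rw [hb]
      apply conjs_root_apply_eq_zero
      · exact conjs_bad_ne huv
      · rintro ⟨rfl, rfl⟩
        simp only [conjs_bad] at huv
        omega
      · rintro ⟨rfl, rfl⟩
        simp only [conjs_bad] at huv
    · intro hmem
      rw [conjs_mem_Bo_iff] at hmem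
      have h1 := hmem (Sum.inl k') (Sum.inl k) (by simp only [conjs_bad]; omega)
      rw [hentry, hσ1, hσ2, hb] at h1
      have e1 : (Matrix.single (Sum.inl k : Idx m) (Sum.inl k' : Idx m) (1 : F)) (Sum.inl k) (Sum.inl k') = 1 :=
        Matrix.single_apply_same _ _ _
      have e2 : (Matrix.single (Sum.inr k' : Idx m) (Sum.inr k : Idx m) (1 : F)) (Sum.inl k) (Sum.inl k') = 0 := by
        rw [Matrix.single_apply, if_neg]
        rintro ⟨h, -⟩
        exact absurd h (by simp)
      rw [Matrix.sub_apply, Matrix.add_apply, Matrix.one_apply_ne hne', Matrix.smul_apply,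
        Matrix.smul_apply, e1, e2] at h1
      simp at h1
  · have hne : k ≠ k' := by
      intro h; rw [h] at hkk; omega
    obtain ⟨b, hb⟩ := exists_xD (F := F) k k' hne 1
    have hne' : (Sum.inl k : Idx m) ≠ Sum.inr k' := Sum.inl_ne_inr
    have hσ1 : (simpleD k k').symm (Sum.inr k') = Sum.inl k := by
      rw [Equiv.symm_apply_eq]
      simp [simpleD, Equiv.swap_apply_def, hne]
    have hσ2 : (simpleD k k') (Sum.inl k) = Sum.inr k' := by
      simp [simpleD, Equiv.swap_apply_def, hne]
    refine ⟨b, ?_, ?_⟩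
    · rw [conjs_mem_Bo_iff]
      intro u v huv
      rw [hb]
      apply conjs_root_apply_eq_zero
      · exact conjs_bad_ne huv
      · rintro ⟨rfl, rfl⟩
        simp only [conjs_bad] at huv
      · rintro ⟨rfl, rfl⟩
        simp only [conjs_bad] at huv
    · intro hmem
      rw [conjs_mem_Bo_iff] at hmem
      have h1 := hmem (Sum.inr k') (Sum.inl k) (by simp only [conjs_bad])
      rw [hentry, hσ1, hσ2, hb] at h1
      have e1 : (Matrix.single (Sum.inl k : Idx m) (Sum.inr k' : Idx m) (1 : F)) (Sum.inl k) (Sum.inr k') = 1 :=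
        Matrix.single_apply_same _ _ _
      have e2 : (Matrix.single (Sum.inl k' : Idx m) (Sum.inr k : Idx m) (1 : F)) (Sum.inl k) (Sum.inr k') = 0 := by
        rw [Matrix.single_apply, if_neg]
        rintro ⟨h, -⟩
        exact hne (Sum.inl.inj h).symm
      rw [Matrix.sub_apply, Matrix.add_apply, Matrix.one_apply_ne hne', Matrix.smul_apply,
        Matrix.smul_apply, e1, e2] at h1
      simp at h1

end Cfsg.Agent.Lib.Helper40.OpBN
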