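import Cfsg.Agent.Lib.Helper87.Saturation
import Cfsg.Agent.Lib.Helper87.Lemma26
import Cfsg.Agent.Lib.Helper88.CentricSub

set_option autoImplicit false

namespace Cfsg.Agent.Lib.Helper85

open Cfsg Cfsg.FusionSystem Cfsg.Agent.Lib.Helper87

variable {Ω : Type*} [Group Ω] {S : Subgroup Ω}

/-- The strong invariance property of a subsystem `E` over `T` in `F`. -/
def StrongInv {T : Subgroup Ω} (E : FusionSystem T) (F : FusionSystem S) : Prop :=
  ∀ (P Q : Subgroup Ω) (hPQ : P ≤ Q) (_ : Q ≤ T) (φ : P →* Ω) (_ : φ ∈ E.Hom P)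
    (hφQ : ∀ x : P, φ x ∈ Q) (ψ : Q →* Ω) (_ : ψ ∈ F.Hom Q),
    ∃ χ ∈ E.Hom ((P.subgroupOf Q).map ψ),
      ∀ (x : P) (hx : ψ (Subgroup.inclusion hPQ x) ∈ (P.subgroupOf Q).map ψ),
        χ ⟨ψ (Subgroup.inclusion hPQ x), hx⟩ = ψ ⟨φ x, hφQ x⟩

/-- Under strong invariance `Aut_E(R)` is normalized by `Aut_F(R)`. -/
theorem autE_conj_mem {T : Subgroup Ω} (E : FusionSystem T) (F : FusionSystem S) (hTS : T ≤ S)
    (hinv : StrongInv E F) {R : Subgroup Ω} (hRT : R ≤ T) {δ γ : MulAut R}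
    (hδ : δ ∈ E.autGroup R) (hγ : γ ∈ F.autGroup R) : γ * δ * γ⁻¹ ∈ E.autGroup R := by
  have hφ := (mem_autGroup_iff E hRT δ).mp hδ
  have hψ := (mem_autGroup_iff F (hRT.trans hTS) γ).mp hγ
  obtain ⟨χ, hχ, hχx⟩ := hinv R R le_rfl hRT _ hφ (fun x => (δ x).2) _ hψ
  have heq : (R.subgroupOf R).map (R.subtype.comp γ.toMonoidHom) = R := by
    ext y
    constructor
    · rintro ⟨x, -, rfl⟩
      exact (γ x).2
    · intro hy
      refine ⟨γ⁻¹ ⟨y, hy⟩, Subgroup.mem_subgroupOf.mpr (γ⁻¹ ⟨y, hy⟩).2, ?_⟩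
      show ((γ (γ⁻¹ ⟨y, hy⟩) : R) : Ω) = y
      rw [MulAut.apply_inv_self]
  have h1 := cast_mem E heq hχ
  rw [mem_autGroup_iff E hRT]
  have h2 : R.subtype.comp (γ * δ * γ⁻¹).toMonoidHom = χ.comp (Subgroup.inclusion heq.ge) := by
    ext y
    have hy : (R.subtype.comp γ.toMonoidHom) (Subgroup.inclusion (le_refl R) (γ⁻¹ y)) ∈
        (R.subgroupOf R).map (R.subtype.comp γ.toMonoidHom) := by
      rw [heq]
      exact (γ _).2
    have h3 := hχx (γ⁻¹ y) hy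
    have h4 : (⟨(R.subtype.comp γ.toMonoidHom) (Subgroup.inclusion (le_refl R) (γ⁻¹ y)), hy⟩ :
        ↥((R.subgroupOf R).map (R.subtype.comp γ.toMonoidHom))) =
        Subgroup.inclusion heq.ge y := by
      apply Subtype.ext
      show ((γ (γ⁻¹ y) : R) : Ω) = y
      rw [MulAut.apply_inv_self]
    rw [h4] at h3
    show ((γ (δ (γ⁻¹ y)) : R) : Ω) = χ (Subgroup.inclusion heq.ge y)
    rw [h3]
    rfl
  rw [h2]
  exact h1

/-- Under strong invariance, the `p`-elements of `Aut_F(R)` lie in `Aut_E(R)` (`E`, `F` over the same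
`S`, and `R` fully automized in `F`). -/
theorem pElement_mem_autE [Finite S] {p : ℕ} [Fact p.Prime] (E F : FusionSystem S)
    (hinv : StrongInv E F) {R : Subgroup Ω} (hfa : F.IsFullyAutomized p R) {β : MulAut R}
    (hβ : β ∈ F.autGroup R) (k : ℕ) (hk : β ^ (p ^ k) = 1) : β ∈ E.autGroup R := by
  have hRS : R ≤ S := hfa.1
  have hT : Subgroup.zpowers β ≤ F.autGroup R := by
    rw [Subgroup.zpowers_le]
    exact hβ
  have hTp : IsPGroup p (Subgroup.zpowers β) := by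
    rintro ⟨g, hg⟩
    obtain ⟨n, rfl⟩ := Subgroup.mem_zpowers_iff.mp hg
    refine ⟨k, Subtype.ext ?_⟩
    show (β ^ n) ^ (p ^ k) = 1
    rw [← zpow_natCast, ← zpow_mul, mul_comm, zpow_mul, zpow_natCast, hk, one_zpow]
  obtain ⟨γ, hγ, hconj⟩ := exists_conj_into_autS F hfa _ hT hTp
  have h1 : γ * β * γ⁻¹ ∈ E.autGroup R :=
    autInducedBy_le_autGroup E hRS (hconj β (Subgroup.mem_zpowers β))
  have h2 := autE_conj_mem E F le_rfl hinv hRS h1 ((F.autGroup R).inv_mem hγ)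
  have e1 : γ⁻¹ * (γ * β * γ⁻¹) * γ⁻¹⁻¹ = β := by group
  rwa [e1] at h2

/-- Under strong invariance, conjugation by an element of the subgroup generated by the `p`-elements
of `N_G(R)`... abstractly: a subgroup of `N(R)` generated by elements of `p`-power order acts on `R`
through `Aut_E(R)`, as soon as it acts through `Aut_F(R)`. -/
theorem conjAut_mem_autE_of_closure [Finite S] {p : ℕ} [Fact p.Prime] (E F : FusionSystem S)
    (hinv : StrongInv E F) {R : Subgroup Ω} (hfa : F.IsFullyAutomized p R)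
    (hF : ∀ (g : Ω) (hg : g ∈ Subgroup.normalizer (R : Set Ω)), conjAut R g hg ∈ F.autGroup R)
    {g : Ω} (hg : g ∈ Subgroup.closure {g : Ω | g ∈ Subgroup.normalizer (R : Set Ω) ∧
      ∃ k : ℕ, orderOf g = p ^ k}) :
    ∃ hgN : g ∈ Subgroup.normalizer (R : Set Ω), conjAut R g hgN ∈ E.autGroup R := by
  have hle : Subgroup.closure {g : Ω | g ∈ Subgroup.normalizer (R : Set Ω) ∧
      ∃ k : ℕ, orderOf g = p ^ k} ≤
      ((E.autGroup R).comap R.normalizerMonoidHom).map (Subgroup.normalizer (R : Set Ω)).subtype := by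
    rw [Subgroup.closure_le]
    rintro g ⟨hgN, k, hk⟩
    refine ⟨⟨g, hgN⟩, ?_, rfl⟩
    show R.normalizerMonoidHom ⟨g, hgN⟩ ∈ E.autGroup R
    apply pElement_mem_autE E F hinv hfa (hF g hgN) k
    show R.normalizerMonoidHom ⟨g, hgN⟩ ^ (p ^ k) = 1
    rw [← map_pow]
    have : (⟨g, hgN⟩ : Subgroup.normalizer (R : Set Ω)) ^ (p ^ k) = 1 := by
      apply Subtype.ext
      show g ^ (p ^ k) = 1
      rw [← hk]
      exact pow_orderOf_eq_one g
    rw [this, map_one]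
  obtain ⟨⟨g', hg'N⟩, hmem, rfl⟩ := hle hg
  exact ⟨hg'N, hmem⟩

end Cfsg.Agent.Lib.Helper85
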