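import Mathlib
import Cfsg.Agent.Lib.Helper41.PSLnDefs

set_option autoImplicit false

/-! Leaf T9 of the S5163 skeleton (`tools/helper41/PSLnSkel.lean.txt`): the six
normalizer / inclusion lemmas for `UU`, `PRow`, `RRow`, `PCol`, `RCol`. -/

namespace Cfsg.Agent.Lib.Helper41.PSLn

open Matrix

variable {n : ℕ} {K : Type*} [Field K] [Fintype K]

/-- matrix form of "`PRow a` normalises `RRow a`" -/
theorem t9_conj_RRow_aux (a : Fin n) (A B X : Matrix (Fin n) (Fin n) K) (hAB : A * B = 1)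
    (hA : ∀ i, i ≠ a → A i a = 0) (hB : ∀ i, i ≠ a → B i a = 0)
    (hX : ∀ i, i ≠ a → ∀ j, X i j = (1 : Matrix (Fin n) (Fin n) K) i j) (hXa : X a a = 1) :
    (∀ i, i ≠ a → ∀ j, (A * X * B) i j = (1 : Matrix (Fin n) (Fin n) K) i j) ∧
      (A * X * B) a a = 1 := by
  have hN : A * X * B = 1 + A * (X - 1) * B := by
    rw [Matrix.mul_sub, Matrix.sub_mul, Matrix.mul_one, hAB]
    abel
  have hN1 : ∀ k, k ≠ a → ∀ l, (X - 1) k l = 0 := fun k hk l => by
    rw [Matrix.sub_apply, hX k hk l, sub_self]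
  have hNa : (X - 1) a a = 0 := by
    rw [Matrix.sub_apply, hXa, Matrix.one_apply_eq, sub_self]
  have hAN : ∀ i l, (A * (X - 1)) i l = A i a * (X - 1) a l := by
    intro i l
    rw [Matrix.mul_apply, Finset.sum_eq_single a]
    · intro k _ hk
      rw [hN1 k hk l, mul_zero]
    · intro h
      exact absurd (Finset.mem_univ a) h
  constructor
  · intro i hi j
    rw [hN, Matrix.add_apply, Matrix.mul_apply]
    have h0 : ∑ l, (A * (X - 1)) i l * B l j = 0 := by
      apply Finset.sum_eq_zero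
      intro l _
      rw [hAN, hA i hi, zero_mul, zero_mul]
    rw [h0, add_zero]
  · rw [hN, Matrix.add_apply, Matrix.one_apply_eq, Matrix.mul_apply]
    have h0 : ∑ l, (A * (X - 1)) a l * B l a = 0 := by
      apply Finset.sum_eq_zero
      intro l _
      rw [hAN]
      by_cases hl : l = a
      · rw [hl, hNa, mul_zero, zero_mul]
      · rw [hB l hl, mul_zero]
    rw [h0, add_zero]

/-- matrix form of "`PCol b` normalises `RCol b`" -/
theorem t9_conj_RCol_aux (b : Fin n) (A B X : Matrix (Fin n) (Fin n) K) (hAB : A * B = 1)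
    (hA : ∀ j, j ≠ b → A b j = 0) (hB : ∀ j, j ≠ b → B b j = 0)
    (hX : ∀ j, j ≠ b → ∀ i, X i j = (1 : Matrix (Fin n) (Fin n) K) i j) (hXb : X b b = 1) :
    (∀ j, j ≠ b → ∀ i, (A * X * B) i j = (1 : Matrix (Fin n) (Fin n) K) i j) ∧
      (A * X * B) b b = 1 := by
  have hN : A * X * B = 1 + A * ((X - 1) * B) := by
    rw [Matrix.sub_mul, Matrix.mul_sub, Matrix.one_mul, hAB, Matrix.mul_assoc]
    abel
  have hN1 : ∀ l, l ≠ b → ∀ k, (X - 1) k l = 0 := fun l hl k => by
    rw [Matrix.sub_apply, hX l hl k, sub_self]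
  have hNb : (X - 1) b b = 0 := by
    rw [Matrix.sub_apply, hXb, Matrix.one_apply_eq, sub_self]
  have hNB : ∀ k j, ((X - 1) * B) k j = (X - 1) k b * B b j := by
    intro k j
    rw [Matrix.mul_apply, Finset.sum_eq_single b]
    · intro l _ hl
      rw [hN1 l hl k, zero_mul]
    · intro h
      exact absurd (Finset.mem_univ b) h
  constructor
  · intro j hj i
    rw [hN, Matrix.add_apply, Matrix.mul_apply]
    have h0 : ∑ k, A i k * ((X - 1) * B) k j = 0 := by
      apply Finset.sum_eq_zero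
      intro k _
      rw [hNB, hB j hj, mul_zero, mul_zero]
    rw [h0, add_zero]
  · rw [hN, Matrix.add_apply, Matrix.one_apply_eq, Matrix.mul_apply]
    have h0 : ∑ k, A b k * ((X - 1) * B) k b = 0 := by
      apply Finset.sum_eq_zero
      intro k _
      rw [hNB]
      by_cases hk : k = b
      · rw [hk, hNb, zero_mul, mul_zero]
      · rw [hA k hk, zero_mul]
    rw [h0, add_zero]

theorem t9_coe_mul_inv_eq_one (g : SLn n K) :
    (g : Matrix (Fin n) (Fin n) K) * ((g⁻¹ : SLn n K) : Matrix (Fin n) (Fin n) K) = 1 := by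
  rw [← Matrix.SpecialLinearGroup.coe_mul, mul_inv_cancel, Matrix.SpecialLinearGroup.coe_one]

theorem t9_conj_mem_RRow {a : Fin n} {g r : SLn n K} (hg : g ∈ PRow n K a) (hr : r ∈ RRow n K a) :
    g * r * g⁻¹ ∈ RRow n K a := by
  have hgi : g⁻¹ ∈ PRow n K a := (PRow n K a).inv_mem hg
  rw [mem_RRow]
  have h := t9_conj_RRow_aux a (g : Matrix (Fin n) (Fin n) K)
    ((g⁻¹ : SLn n K) : Matrix (Fin n) (Fin n) K) (r : Matrix (Fin n) (Fin n) K)
    (t9_coe_mul_inv_eq_one g) (mem_PRow.mp hg) (mem_PRow.mp hgi) (mem_RRow.mp hr).1 (mem_RRow.mp hr).2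
  simpa [Matrix.SpecialLinearGroup.coe_mul] using h

theorem t9_conj_mem_RCol {b : Fin n} {g r : SLn n K} (hg : g ∈ PCol n K b) (hr : r ∈ RCol n K b) :
    g * r * g⁻¹ ∈ RCol n K b := by
  have hgi : g⁻¹ ∈ PCol n K b := (PCol n K b).inv_mem hg
  rw [mem_RCol]
  have h := t9_conj_RCol_aux b (g : Matrix (Fin n) (Fin n) K)
    ((g⁻¹ : SLn n K) : Matrix (Fin n) (Fin n) K) (r : Matrix (Fin n) (Fin n) K)
    (t9_coe_mul_inv_eq_one g) (mem_PCol.mp hg) (mem_PCol.mp hgi) (mem_RCol.mp hr).1 (mem_RCol.mp hr).2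
  simpa [Matrix.SpecialLinearGroup.coe_mul] using h

/-- T9. -/
theorem PRow_le_normalizer_RRow (a : Fin n) :
    PRow n K a ≤ Subgroup.normalizer (RRow n K a : Set (SLn n K)) := by
  intro g hg
  rw [Subgroup.mem_normalizer_iff]
  intro r
  constructor
  · exact fun hr => t9_conj_mem_RRow hg hr
  · intro hr
    have h := t9_conj_mem_RRow ((PRow n K a).inv_mem hg) hr
    have e : g⁻¹ * (g * r * g⁻¹) * g⁻¹⁻¹ = r := by group
    rwa [e] at h

theorem PCol_le_normalizer_RCol (b : Fin n) :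
    PCol n K b ≤ Subgroup.normalizer (RCol n K b : Set (SLn n K)) := by
  intro g hg
  rw [Subgroup.mem_normalizer_iff]
  intro r
  constructor
  · exact fun hr => t9_conj_mem_RCol hg hr
  · intro hr
    have h := t9_conj_mem_RCol ((PCol n K b).inv_mem hg) hr
    have e : g⁻¹ * (g * r * g⁻¹) * g⁻¹⁻¹ = r := by group
    rwa [e] at h

theorem UU_le_PRow {a : Fin n} (ha : ∀ i, a ≤ i) : UU n K ≤ PRow n K a := by
  intro g hg
  rw [mem_PRow]
  intro i hi
  exact (mem_UU.mp hg).1 i a (lt_of_le_of_ne (ha i) (Ne.symm hi))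

theorem RRow_le_UU {a : Fin n} (ha : ∀ i, a ≤ i) : RRow n K a ≤ UU n K := by
  intro g hg
  obtain ⟨h1, h2⟩ := mem_RRow.mp hg
  rw [mem_UU]
  constructor
  · intro i j hji
    have hia : i ≠ a := fun h => absurd (ha j) (not_le.mpr (h ▸ hji))
    rw [h1 i hia j, Matrix.one_apply_ne (ne_of_gt hji)]
  · intro i
    by_cases hia : i = a
    · rw [hia, h2]
    · rw [h1 i hia i, Matrix.one_apply_eq]

theorem UU_le_PCol {b : Fin n} (hb : ∀ i, i ≤ b) : UU n K ≤ PCol n K b := by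
  intro g hg
  rw [mem_PCol]
  intro j hj
  exact (mem_UU.mp hg).1 b j (lt_of_le_of_ne (hb j) hj)

theorem RCol_le_UU {b : Fin n} (hb : ∀ i, i ≤ b) : RCol n K b ≤ UU n K := by
  intro g hg
  obtain ⟨h1, h2⟩ := mem_RCol.mp hg
  rw [mem_UU]
  constructor
  · intro i j hji
    have hjb : j ≠ b := fun h => absurd (hb i) (not_le.mpr (h ▸ hji))
    rw [h1 j hjb i, Matrix.one_apply_ne (ne_of_gt hji)]
  · intro i
    by_cases hib : i = b
    · rw [hib, h2]
    · rw [h1 i hib i, Matrix.one_apply_eq]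

end Cfsg.Agent.Lib.Helper41.PSLn
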