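import Mathlib
import Cfsg.Agent.S2429

/-!
# Rs hive (S2361, helper45), leaf RS-PSL `psl2_cent_invol` (helper85)

In `PSL₂(K)`, `|K| ≡ 3 (mod 4)`: the centralizer of an involution has exactly one subgroup of each odd prime
order `l ∣ q + 1`.
-/

set_option autoImplicit false
set_option linter.style.haveILetI false

namespace Cfsg.Agent.Lib.Helper45.Rs

open Matrix

section aux

variable {K : Type*} [Field K]

/-- the centre of `SL₂(K)` is `{±1}` -/
theorem psl_center_cases (z : SpecialLinearGroup (Fin 2) K)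
    (hz : z ∈ Subgroup.center (SpecialLinearGroup (Fin 2) K)) :
    (z : Matrix (Fin 2) (Fin 2) K) = 1 ∨ (z : Matrix (Fin 2) (Fin 2) K) = -1 := by
  rw [Matrix.SpecialLinearGroup.mem_center_iff] at hz
  obtain ⟨r, hr, hrz⟩ := hz
  simp only [Fintype.card_fin] at hr
  have h1 : r = 1 ∨ r = -1 := by
    have : r * r = 1 := by rw [← sq]; exact hr
    exact mul_self_eq_one_iff.mp this
  rcases h1 with rfl | rfl
  · left; rw [← hrz]; simp
  · right
    rw [← hrz]
    ext i j
    fin_cases i <;> fin_cases j <;> simp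

theorem psl_neg_one_mem_center :
    (-1 : SpecialLinearGroup (Fin 2) K) ∈ Subgroup.center (SpecialLinearGroup (Fin 2) K) := by
  rw [Matrix.SpecialLinearGroup.mem_center_iff]
  refine ⟨-1, by simp, ?_⟩
  ext i j
  fin_cases i <;> fin_cases j <;> simp

/-- a square root of `1` in `SL₂(K)`, `char K ≠ 2`, is `±1` -/
theorem psl_sq_one (h2 : (2 : K) ≠ 0) (M : Matrix (Fin 2) (Fin 2) K) (hdet : M.det = 1)
    (hM : M * M = 1) : M = 1 ∨ M = -1 := by
  rw [Matrix.det_fin_two] at hdet
  have h00 := congrFun (congrFun hM 0) 0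
  have h01 := congrFun (congrFun hM 0) 1
  have h10 := congrFun (congrFun hM 1) 0
  have h11 := congrFun (congrFun hM 1) 1
  simp only [Matrix.mul_apply, Fin.sum_univ_two, Matrix.one_apply_eq, Matrix.one_apply_ne,
    ne_eq, Fin.reduceEq, not_false_eq_true] at h00 h01 h10 h11
  have hs : M 0 0 * (M 0 0 + M 1 1) = 2 := by linear_combination h00 + hdet
  have hs0 : M 0 0 + M 1 1 ≠ 0 := by
    intro h0
    rw [h0, mul_zero] at hs
    exact h2 hs.symm
  have hb : M 0 1 = 0 := by
    have : M 0 1 * (M 0 0 + M 1 1) = 0 := by linear_combination h01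
    exact (mul_eq_zero.mp this).resolve_right hs0
  have hc : M 1 0 = 0 := by
    have : M 1 0 * (M 0 0 + M 1 1) = 0 := by linear_combination h10
    exact (mul_eq_zero.mp this).resolve_right hs0
  have ha : M 0 0 * M 0 0 = 1 := by rw [hb] at h00; linear_combination h00
  have had : M 0 0 * M 1 1 = 1 := by rw [hb] at hdet; linear_combination hdet
  rcases mul_self_eq_one_iff.mp ha with ha1 | ha1
  · left
    have hd : M 1 1 = 1 := by rw [ha1] at had; linear_combination had
    ext i j
    fin_cases i <;> fin_cases j <;> simp [ha1, hb, hc, hd]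
  · right
    have hd : M 1 1 = -1 := by rw [ha1] at had; linear_combination -had
    ext i j
    fin_cases i <;> fin_cases j <;> simp [ha1, hb, hc, hd]

theorem psl_neg_one_ne_one (h2 : (2 : K) ≠ 0) : (-1 : Matrix (Fin 2) (Fin 2) K) ≠ 1 := by
  intro h
  have := congrFun (congrFun h 0) 0
  simp at this
  apply h2
  linear_combination -this

/-- in a finite cyclic group, the elements with `c ^ l = 1` are the powers of any element of order `l` -/
theorem psl_cyclic_mem_zpowers {T : Type*} [Group T] [Finite T] [IsCyclic T] (l : ℕ) (hl : 0 < l)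
    (a b : T) (ha : orderOf a = l) (hb : b ^ l = 1) : b ∈ Subgroup.zpowers a := by
  classical
  haveI : Fintype T := Fintype.ofFinite T
  by_contra hbn
  have hS : (Finset.univ.filter (fun c : T => c ^ l = 1)).card ≤ l :=
    IsCyclic.card_pow_eq_one_le hl
  set Z : Finset T := Finset.univ.filter (fun c : T => c ∈ Subgroup.zpowers a) with hZ
  have hZcard : Z.card = l := by
    rw [hZ, ← Fintype.card_subtype, ← Nat.card_eq_fintype_card]
    have := Nat.card_zpowers a
    rw [ha] at this
    exact this
  have hsub : insert b Z ⊆ Finset.univ.filter (fun c : T => c ^ l = 1) := by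
    intro c hc
    rw [Finset.mem_filter]
    refine ⟨Finset.mem_univ _, ?_⟩
    rcases Finset.mem_insert.mp hc with rfl | hc
    · exact hb
    · rw [hZ, Finset.mem_filter] at hc
      obtain ⟨k, rfl⟩ := Subgroup.mem_zpowers_iff.mp hc.2
      rw [← zpow_natCast, ← _root_.zpow_mul, mul_comm, _root_.zpow_mul, zpow_natCast, ← ha, pow_orderOf_eq_one,
        _root_.one_zpow]
  have hbZ : b ∉ Z := by
    rw [hZ, Finset.mem_filter]
    exact fun h => hbn h.2
  have hcard : (insert b Z).card = l + 1 := by
    rw [Finset.card_insert_of_notMem hbZ, hZcard]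
  have := Finset.card_le_card hsub
  omega

end aux

/-- RS-PSL -/
theorem psl2_cent_invol {K : Type*} [Field K] [Fintype K] (hq : Fintype.card K % 4 = 3)
    (v₀ : Matrix.ProjectiveSpecialLinearGroup (Fin 2) K) (hv1 : v₀ ≠ 1) (hv2 : v₀ * v₀ = 1)
    (l : ℕ) (hl : l.Prime) (hl2 : l ≠ 2) (hdvd : l ∣ Fintype.card K + 1) :
    ∃ X : Subgroup (Matrix.ProjectiveSpecialLinearGroup (Fin 2) K), Nat.card X = l ∧
      X ≤ Subgroup.centralizer ({v₀} : Set (Matrix.ProjectiveSpecialLinearGroup (Fin 2) K)) ∧
      ∀ x ∈ Subgroup.centralizer ({v₀} : Set (Matrix.ProjectiveSpecialLinearGroup (Fin 2) K)), orderOf x = l → x ∈ X := by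
  classical
  have hodd : Odd (Fintype.card K) := by rw [Nat.odd_iff]; omega
  have hlodd : Odd l := hl.odd_of_ne_two hl2
  have h2 : (2 : K) ≠ 0 := by
    apply Ring.two_ne_zero
    intro hch
    rw [FiniteField.even_card_iff_char_two] at hch
    omega
  have hnsq : ¬ IsSquare (-1 : K) := by
    rw [FiniteField.isSquare_neg_one_iff]
    simp [hq]
  have hneg1 : (-1 : Matrix (Fin 2) (Fin 2) K) ≠ 1 := psl_neg_one_ne_one h2
  -- the quotient map
  set π : Matrix.SpecialLinearGroup (Fin 2) K →* Matrix.ProjectiveSpecialLinearGroup (Fin 2) K :=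
    QuotientGroup.mk' (Subgroup.center (Matrix.SpecialLinearGroup (Fin 2) K)) with hπ
  have hker : ∀ g : Matrix.SpecialLinearGroup (Fin 2) K,
      π g = 1 ↔ g ∈ Subgroup.center (Matrix.SpecialLinearGroup (Fin 2) K) := by
    intro g
    rw [← MonoidHom.mem_ker, hπ, QuotientGroup.ker_mk']
  have hsurj : Function.Surjective π := QuotientGroup.mk'_surjective _
  have hcen : ∀ g : Matrix.SpecialLinearGroup (Fin 2) K,
      g ∈ Subgroup.center (Matrix.SpecialLinearGroup (Fin 2) K) → g = 1 ∨ g = -1 := by
    intro g hg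
    rcases psl_center_cases g hg with h | h
    · left; exact Subtype.ext h
    · right; exact Subtype.ext (by rw [h]; simp)
  have hπneg : π (-1) = 1 := (hker _).mpr psl_neg_one_mem_center
  -- odd powers of `-1`
  have hnegpow : ((-1 : Matrix.SpecialLinearGroup (Fin 2) K)) ^ l = -1 := by
    apply Subtype.ext
    rw [Matrix.SpecialLinearGroup.coe_pow]
    simp [hlodd.neg_one_pow]
  have hneg_ne : (-1 : Matrix.SpecialLinearGroup (Fin 2) K) ≠ 1 := by
    intro h
    apply hneg1
    have := congrArg (fun g : Matrix.SpecialLinearGroup (Fin 2) K => (g : Matrix (Fin 2) (Fin 2) K)) h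
    simpa using this
  -- lift of `v₀`
  obtain ⟨y, hy⟩ := hsurj v₀
  have hyc : y ∉ Subgroup.center (Matrix.SpecialLinearGroup (Fin 2) K) := by
    intro h
    apply hv1
    rw [← hy]
    exact (hker y).mpr h
  have hyy : y * y = -1 := by
    have h1 : y * y ∈ Subgroup.center (Matrix.SpecialLinearGroup (Fin 2) K) := by
      rw [← hker, map_mul, hy, hv2]
    rcases hcen _ h1 with h | h
    · exfalso
      have hM : (y : Matrix (Fin 2) (Fin 2) K) * (y : Matrix (Fin 2) (Fin 2) K) = 1 := by
        have := congrArg (fun g : Matrix.SpecialLinearGroup (Fin 2) K => (g : Matrix (Fin 2) (Fin 2) K)) h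
        simpa using this
      rcases psl_sq_one h2 _ y.2 hM with h3 | h3
      · apply hyc
        have : y = 1 := Subtype.ext h3
        rw [this]
        exact Subgroup.one_mem _
      · apply hyc
        have : y = -1 := Subtype.ext (by rw [h3]; simp)
        rw [this]
        exact psl_neg_one_mem_center
    · exact h
  -- `y` has no eigenvector
  have hnoeig : ∀ (c : K) (v : Fin 2 → K), v ≠ 0 →
      (y : Matrix (Fin 2) (Fin 2) K).mulVec v ≠ c • v := by
    intro c v hv hyv
    have hM : (y : Matrix (Fin 2) (Fin 2) K) * (y : Matrix (Fin 2) (Fin 2) K) = -1 := by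
      have := congrArg (fun g : Matrix.SpecialLinearGroup (Fin 2) K => (g : Matrix (Fin 2) (Fin 2) K)) hyy
      simpa using this
    have h1 : ((y : Matrix (Fin 2) (Fin 2) K) * (y : Matrix (Fin 2) (Fin 2) K)).mulVec v = (c * c) • v := by
      rw [← Matrix.mulVec_mulVec, hyv, Matrix.mulVec_smul, hyv, smul_smul]
    rw [hM, Matrix.neg_mulVec, Matrix.one_mulVec] at h1
    obtain ⟨i, hi⟩ : ∃ i, v i ≠ 0 := by
      by_contra hall
      apply hv
      funext i
      by_contra hi
      exact hall ⟨i, hi⟩
    have h2' := congrFun h1 i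
    simp only [Pi.neg_apply, Pi.smul_apply, smul_eq_mul] at h2'
    have h3 : (c * c + 1) * v i = 0 := by linear_combination -h2'
    have h4 := (mul_eq_zero.mp h3).resolve_right hi
    exact hnsq ⟨c, by linear_combination -h4⟩
  -- the torus
  obtain ⟨T', hcyc, hcard, -, hcentelt, hconj, -, -, -⟩ := Cfsg.Agent.S2429.result hodd (F := K)
  obtain ⟨h, hh⟩ := hconj y hnoeig
  set y' := h * y * h⁻¹ with hy'
  have hy'c : y' ∉ Subgroup.center (Matrix.SpecialLinearGroup (Fin 2) K) := by
    intro hc
    apply hyc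
    have := (inferInstance : (Subgroup.center (Matrix.SpecialLinearGroup (Fin 2) K)).Normal).conj_mem y' hc h⁻¹
    have e : h⁻¹ * y' * h⁻¹⁻¹ = y := by rw [hy']; group
    rwa [e] at this
  have hne1 : (y' : Matrix (Fin 2) (Fin 2) K) ≠ 1 := by
    intro h1
    apply hy'c
    have : y' = 1 := Subtype.ext h1
    rw [this]
    exact Subgroup.one_mem _
  have hneg1' : (y' : Matrix (Fin 2) (Fin 2) K) ≠ -1 := by
    intro h1
    apply hy'c
    have : y' = -1 := Subtype.ext (by rw [h1]; simp)
    rw [this]
    exact psl_neg_one_mem_center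
  have hcent : Subgroup.centralizer ({y'} : Set (Matrix.SpecialLinearGroup (Fin 2) K)) = T' :=
    hcentelt y' hh hne1 hneg1'
  have hmap : (Subgroup.centralizer ({y} : Set (Matrix.SpecialLinearGroup (Fin 2) K))).map
      (MulAut.conj h).toMonoidHom = T' := by
    rw [← hcent]
    ext w
    rw [Subgroup.mem_map_equiv, Subgroup.mem_centralizer_singleton_iff,
      Subgroup.mem_centralizer_singleton_iff, MulAut.conj_symm_apply, hy']
    constructor
    · intro hw
      have : w * (h * y * h⁻¹) = h * ((h⁻¹ * w * h) * y) * h⁻¹ := by group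
      rw [this, hw]
      group
    · intro hw
      have : h⁻¹ * w * h * y = h⁻¹ * (w * (h * y * h⁻¹)) * h := by group
      rw [this, hw]
      group
  have e : ↥(Subgroup.centralizer ({y} : Set (Matrix.SpecialLinearGroup (Fin 2) K))) ≃* ↥T' :=
    (Subgroup.equivMapOfInjective _ _ (MulAut.conj h).injective).trans (MulEquiv.subgroupCongr hmap)
  haveI : IsCyclic ↥T' := hcyc
  haveI hTcyc : IsCyclic ↥(Subgroup.centralizer ({y} : Set (Matrix.SpecialLinearGroup (Fin 2) K))) :=
    isCyclic_of_surjective e.symm.toMonoidHom e.symm.surjective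
  have hTcard : Nat.card ↥(Subgroup.centralizer ({y} : Set (Matrix.SpecialLinearGroup (Fin 2) K))) =
      Fintype.card K + 1 := by
    rw [Nat.card_congr e.toEquiv, hcard]
  -- an element of order `l` in the torus
  haveI : Fact l.Prime := ⟨hl⟩
  obtain ⟨a, ha⟩ := exists_prime_orderOf_dvd_card' (G := ↥(Subgroup.centralizer
    ({y} : Set (Matrix.SpecialLinearGroup (Fin 2) K)))) l (by rw [hTcard]; exact hdvd)
  have ha0 : orderOf (a : Matrix.SpecialLinearGroup (Fin 2) K) = l := by
    rw [Subgroup.orderOf_coe]; exact ha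
  have hal : (a : Matrix.SpecialLinearGroup (Fin 2) K) ^ l = 1 := by
    rw [← ha0]; exact pow_orderOf_eq_one _
  have hay : (a : Matrix.SpecialLinearGroup (Fin 2) K) * y = y * a := by
    have := a.2
    rw [Subgroup.mem_centralizer_singleton_iff] at this
    exact this
  -- `π a` has order `l`
  have hπa1 : π a ≠ 1 := by
    intro h1
    rcases hcen _ ((hker _).mp h1) with h3 | h3
    · rw [h3, orderOf_one] at ha0
      exact hl.one_lt.ne ha0
    · rw [h3, hnegpow] at hal
      exact hneg_ne hal
  have hπal : π a ^ l = 1 := by rw [← map_pow, hal, map_one]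
  have hπord : orderOf (π a) = l := orderOf_eq_prime hπal hπa1
  refine ⟨Subgroup.zpowers (π a), ?_, ?_, ?_⟩
  · rw [Nat.card_zpowers, hπord]
  · rw [Subgroup.zpowers_le, Subgroup.mem_centralizer_singleton_iff, ← hy, ← map_mul, ← map_mul, hay]
  · intro x hx hxl
    rw [Subgroup.mem_centralizer_singleton_iff] at hx
    obtain ⟨x₁, hx₁⟩ := hsurj x
    -- a lift with `x₂ ^ l = 1`
    obtain ⟨x₂, hx₂, hx₂l⟩ : ∃ x₂ : Matrix.SpecialLinearGroup (Fin 2) K, π x₂ = x ∧ x₂ ^ l = 1 := by
      have h1 : x₁ ^ l ∈ Subgroup.center (Matrix.SpecialLinearGroup (Fin 2) K) := by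
        rw [← hker, map_pow, hx₁, ← hxl, pow_orderOf_eq_one]
      rcases hcen _ h1 with h3 | h3
      · exact ⟨x₁, hx₁, h3⟩
      · refine ⟨-1 * x₁, by rw [map_mul, hπneg, one_mul, hx₁], ?_⟩
        have hcomm : Commute (-1 : Matrix.SpecialLinearGroup (Fin 2) K) x₁ :=
          (Subgroup.mem_center_iff.mp psl_neg_one_mem_center x₁).symm
        rw [hcomm.mul_pow, hnegpow, h3]
        apply Subtype.ext
        simp
    -- `x₂` commutes with `y`
    have hc : x₂ * y * x₂⁻¹ * y⁻¹ ∈ Subgroup.center (Matrix.SpecialLinearGroup (Fin 2) K) := by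
      rw [← hker, map_mul, map_mul, map_mul, map_inv, map_inv, hx₂, hy, hx]
      group
    have hxy : x₂ * y = y * x₂ := by
      rcases hcen _ hc with h3 | h3
      · have : x₂ * y = (x₂ * y * x₂⁻¹ * y⁻¹) * (y * x₂) := by group
        rw [this, h3, one_mul]
      · exfalso
        have hstep : x₂ * y = -1 * (y * x₂) := by
          have : x₂ * y = (x₂ * y * x₂⁻¹ * y⁻¹) * (y * x₂) := by group
          rw [this, h3]
        have hcz : ∀ g : Matrix.SpecialLinearGroup (Fin 2) K,
            g * (-1 : Matrix.SpecialLinearGroup (Fin 2) K) = -1 * g :=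
          fun g => Subgroup.mem_center_iff.mp psl_neg_one_mem_center g
        have hpow : ∀ k : ℕ, x₂ ^ k * y = (-1) ^ k * (y * x₂ ^ k) := by
          intro k
          induction k with
          | zero => simp
          | succ k ih =>
            calc x₂ ^ (k + 1) * y = x₂ ^ k * (x₂ * y) := by rw [pow_succ, mul_assoc]
              _ = x₂ ^ k * (-1 * (y * x₂)) := by rw [hstep]
              _ = -1 * (x₂ ^ k * y) * x₂ := by
                    rw [← mul_assoc, hcz, mul_assoc, mul_assoc, mul_assoc]
              _ = -1 * ((-1) ^ k * (y * x₂ ^ k)) * x₂ := by rw [ih]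
              _ = (-1) ^ (k + 1) * (y * x₂ ^ (k + 1)) := by
                    rw [pow_succ (-1 : Matrix.SpecialLinearGroup (Fin 2) K) k, pow_succ x₂ k]
                    have hc2 : (-1 : Matrix.SpecialLinearGroup (Fin 2) K) ^ k * -1 =
                        -1 * (-1) ^ k := hcz _
                    rw [hc2]
                    simp only [mul_assoc]
        have := hpow l
        rw [hx₂l, one_mul, mul_one, hnegpow] at this
        have h5 : (-1 : Matrix.SpecialLinearGroup (Fin 2) K) = 1 := by
          have : (-1 : Matrix.SpecialLinearGroup (Fin 2) K) * y = 1 * y := by rw [one_mul]; exact this.symm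
          exact mul_right_cancel this
        exact hneg_ne h5
    have hx₂T : x₂ ∈ Subgroup.centralizer ({y} : Set (Matrix.SpecialLinearGroup (Fin 2) K)) := by
      rw [Subgroup.mem_centralizer_singleton_iff]
      exact hxy
    have hmem := psl_cyclic_mem_zpowers l hl.pos a ⟨x₂, hx₂T⟩ ha (Subtype.ext (by simpa using hx₂l))
    obtain ⟨k, hk⟩ := Subgroup.mem_zpowers_iff.mp hmem
    rw [Subgroup.mem_zpowers_iff]
    refine ⟨k, ?_⟩
    have hk' : (a : Matrix.SpecialLinearGroup (Fin 2) K) ^ k = x₂ := by
      have := congrArg Subtype.val hk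
      simpa using this
    rw [← hx₂, ← hk', map_zpow]

end Cfsg.Agent.Lib.Helper45.Rs
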