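import Mathlib
import Cfsg.Agent.Lib.Helper81.OnDefs

/-!
# S5989 hive "On" (owner helper81), core of the leaf ON-TOP `not_dvd_card_top` (helper85)

Orbit-stabiliser + Cauchy: if the isometry group `G` of `(V, B)` is transitive on the copies of `W₀`
(Witt, leaf ON-WITT) and contains no element of order `r` (leaf ON-NOELT), then `r` does not divide the
number of copies of `W₀`.  The two leaves enter as hypotheses `hwitt`, `hsmall`.
-/

set_option autoImplicit false

namespace Cfsg.Agent.Lib.Helper81.On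

open Module
open Cfsg.Agent.Lib.Helper2.BG Cfsg.Agent.Lib.Helper99 Cfsg.Agent.Lib.Helper48.Ti

variable {F V : Type*} [Field F] [AddCommGroup V] [Module F V]

/-- the isometry group of `B` as a subgroup of `V ≃ₗ[F] V` -/
def top_G (B : V →ₗ[F] V →ₗ[F] F) : Subgroup (V ≃ₗ[F] V) where
  carrier := {g | ∀ u v, B (g u) (g v) = B u v}
  one_mem' := fun _ _ => rfl
  mul_mem' := fun {a b} ha hb u v => by
    show B (a (b u)) (a (b v)) = B u v
    rw [ha, hb]
  inv_mem' := fun {a} ha u v => by
    show B (a.symm u) (a.symm v) = B u v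
    have h := ha (a.symm u) (a.symm v)
    rw [LinearEquiv.apply_symm_apply, LinearEquiv.apply_symm_apply] at h
    exact h.symm

theorem top_mem_G {B : V →ₗ[F] V →ₗ[F] F} {g : V ≃ₗ[F] V} :
    g ∈ top_G B ↔ ∀ u v, B (g u) (g v) = B u v := Iff.rfl

/-- the image of a subspace under an isometry has the same type -/
theorem top_sameType_map {B : V →ₗ[F] V →ₗ[F] F} {g : V ≃ₗ[F] V} (hg : ∀ u v, B (g u) (g v) = B u v)
    (W : Submodule F V) : SameType B (W.map (g : V →ₗ[F] V)) W := by
  refine ⟨(g.submoduleMap W).symm, ?_⟩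
  intro u v
  have h := hg (((g.submoduleMap W).symm u : W) : V) (((g.submoduleMap W).symm v : W) : V)
  have e1 : g (((g.submoduleMap W).symm u : W) : V) = (u : V) := by
    simp
  have e2 : g (((g.submoduleMap W).symm v : W) : V) = (v : V) := by
    simp
  rw [e1, e2] at h
  exact h.symm

theorem top_sameType_symm {B : V →ₗ[F] V →ₗ[F] F} {W W' : Submodule F V} (h : SameType B W W') :
    SameType B W' W := by
  obtain ⟨e, he⟩ := h
  refine ⟨e.symm, fun u v => ?_⟩
  have := he (e.symm u) (e.symm v)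
  rw [LinearEquiv.apply_symm_apply, LinearEquiv.apply_symm_apply] at this
  exact this.symm

theorem top_sameType_trans {B : V →ₗ[F] V →ₗ[F] F} {W W' W'' : Submodule F V}
    (h : SameType B W W') (h' : SameType B W' W'') : SameType B W W'' := by
  obtain ⟨e, he⟩ := h
  obtain ⟨e', he'⟩ := h'
  refine ⟨e.trans e', fun u v => ?_⟩
  show B (e' (e u) : V) (e' (e v) : V) = _
  rw [he', he]

/-- nondegeneracy is an isometry invariant -/
theorem top_nd_of_sameType {B : V →ₗ[F] V →ₗ[F] F} {W W' : Submodule F V} (h : SameType B W W')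
    (hW : Nd B W) : Nd B W' := by
  obtain ⟨e, he⟩ := h
  intro u hu hu0
  have h1 : ((e.symm ⟨u, hu⟩ : W) : V) = 0 := by
    apply hW _ (e.symm ⟨u, hu⟩).2
    intro v hv
    have h2 := he (e.symm ⟨u, hu⟩) ⟨v, hv⟩
    rw [LinearEquiv.apply_symm_apply] at h2
    rw [← h2]
    exact hu0 _ (e ⟨v, hv⟩).2
  have h3 : e.symm ⟨u, hu⟩ = 0 := Subtype.ext h1
  have h4 : (⟨u, hu⟩ : W') = 0 := by
    have := congrArg e h3
    rwa [LinearEquiv.apply_symm_apply, map_zero] at this
  exact congrArg Subtype.val h4

open Pointwise in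
/-- **core of ON-TOP**: orbit-stabiliser + Cauchy -/
theorem top_core [Finite F] [FiniteDimensional F V] {B : V →ₗ[F] V →ₗ[F] F} {r : ℕ} [Fact r.Prime]
    (hwitt : ∀ W W' : Submodule F V, SameType B W W' →
      ∃ g : V ≃ₗ[F] V, (∀ u v, B (g u) (g v) = B u v) ∧ W.map (g : V →ₗ[F] V) = W')
    (hsmall : ∀ f : Module.End F V, Isom B f → f ^ r = 1 → f = 1)
    {W₀ : Submodule F V} (hW₀ : Nd B W₀) :
    ¬ r ∣ Nat.card {W : Submodule F V // Nd B W ∧ SameType B W W₀} := by
  classical
  have : Finite V := Module.finite_of_finite F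
  have : Finite (V ≃ₗ[F] V) := DFunLike.finite (V ≃ₗ[F] V)
  -- the orbit of `W₀` is the family
  have hsmul : ∀ (g : top_G B) (W : Submodule F V), g • W = W.map ((g : V ≃ₗ[F] V) : V →ₗ[F] V) := by
    intro g W
    rfl
  have horb : ∀ W : Submodule F V, W ∈ MulAction.orbit (top_G B) W₀ ↔ (Nd B W ∧ SameType B W W₀) := by
    intro W
    constructor
    · rintro ⟨g, rfl⟩
      have hs : SameType B (g • W₀) W₀ := by
        rw [hsmul]
        exact top_sameType_map g.2 W₀
      exact ⟨top_nd_of_sameType (top_sameType_symm hs) hW₀, hs⟩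
    · rintro ⟨-, hs⟩
      obtain ⟨g, hg, hgW⟩ := hwitt W₀ W (top_sameType_symm hs)
      refine ⟨⟨g, top_mem_G.2 hg⟩, ?_⟩
      show (⟨g, top_mem_G.2 hg⟩ : top_G B) • W₀ = W
      rw [hsmul]
      exact hgW
  have hcard : Nat.card {W : Submodule F V // Nd B W ∧ SameType B W W₀} =
      (MulAction.stabilizer (top_G B) W₀).index := by
    rw [MulAction.index_stabilizer, ← Nat.card_coe_set_eq]
    exact Nat.card_congr (Equiv.subtypeEquivRight (fun W => (horb W).symm))
  intro hdvd
  rw [hcard] at hdvd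
  have hdvd' : r ∣ Nat.card (top_G B) := hdvd.trans (Subgroup.index_dvd_card _)
  obtain ⟨g, hg⟩ := exists_prime_orderOf_dvd_card' r hdvd'
  -- the element of order `r` as an endomorphism
  have hf1 : ((g : V ≃ₗ[F] V) : Module.End F V) = 1 := by
    apply hsmall
    · exact g.2
    · have h1 : (g : V ≃ₗ[F] V) ^ r = 1 := by
        have := pow_orderOf_eq_one g
        rw [hg] at this
        have h2 := congrArg (Subtype.val) this
        simpa using h2
      have h3 := congrArg (LinearEquiv.automorphismGroup.toLinearMapMonoidHom (R := F) (M := V)) h1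
      rw [map_pow, map_one] at h3
      exact h3
  have hg1 : g = 1 := by
    apply Subtype.ext
    apply LinearEquiv.toLinearMap_injective
    exact hf1
  rw [hg1, orderOf_one] at hg
  exact (Fact.out : r.Prime).one_lt.ne hg

end Cfsg.Agent.Lib.Helper81.On
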