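import Mathlib

/-! # A5c hive (S3278, owner helper47): leaf A5c-CARD4 `card_four_of_no_odd`. -/

set_option autoImplicit false
set_option linter.unusedVariables false

universe u

namespace Cfsg.Agent.Lib.Helper47.A5c

open Subgroup

/-- LEAF A5c-CARD4. -/
theorem card_four_of_no_odd {G : Type u} [Group G] [Finite G] (C S₀ : Subgroup G) (hle : S₀ ≤ C)
    (hcard : Nat.card S₀ = 4) (hodd : ¬ 2 ∣ S₀.relIndex C)
    (hK : ∀ r ∈ C, Odd (orderOf r) → r = 1) : Nat.card C = 4 := by
  have h1 : Nat.card (S₀.subgroupOf C) = 4 := by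
    rw [Nat.card_congr (Subgroup.subgroupOfEquivOfLe hle).toEquiv, hcard]
  have h2 : Nat.card (S₀.subgroupOf C) * (S₀.subgroupOf C).index = Nat.card C :=
    Subgroup.card_mul_index _
  have hrel : S₀.relIndex C = (S₀.subgroupOf C).index := rfl
  rw [h1, ← hrel] at h2
  by_cases hm : S₀.relIndex C = 1
  · rw [hm] at h2; omega
  · exfalso
    obtain ⟨p, hp, hpd⟩ := Nat.exists_prime_and_dvd hm
    have : Fact p.Prime := ⟨hp⟩
    have hpC : p ∣ Nat.card C := by rw [← h2]; exact Dvd.dvd.mul_left hpd 4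
    obtain ⟨x, hx⟩ := exists_prime_orderOf_dvd_card' (G := ↥C) p hpC
    have hp2 : p ≠ 2 := by
      rintro rfl
      exact hodd hpd
    have hoddp : Odd p := hp.odd_of_ne_two hp2
    have hx' : orderOf (x : G) = p := by rw [Subgroup.orderOf_coe, hx]
    have h1' := hK (x : G) x.2 (hx' ▸ hoddp)
    rw [h1', orderOf_one] at hx'
    exact hp.one_lt.ne hx'

end Cfsg.Agent.Lib.Helper47.A5c
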