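import Mathlib
import Cfsg.Agent.Lib.Helper47.G42Defs

/-!
# G42 hive (S2553, helper47), leaf G42-S7ORB `orbit_seven`: a subgroup of `Perm (Fin 8)` of order divisible by `7`
fixes a point or is transitive.  Also the shared cycle lemma `s7orb_cycle_of_prime`.
-/

set_option autoImplicit false

namespace Cfsg.Agent.Lib.Helper47.G42

open Equiv

/-- an element of prime order `p` with `2 p > 8` of `Perm (Fin 8)` is a `p`-cycle -/
theorem s7orb_cycle_of_prime (g : Perm (Fin 8)) (p : ℕ) (hp : p.Prime) (hog : orderOf g = p)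
    (h8 : 8 < 2 * p) : g.IsCycle ∧ g.support.card = p := by
  obtain ⟨n, hn⟩ := Equiv.Perm.cycleType_prime_order (σ := g) (by rw [hog]; exact hp)
  have hsum : g.cycleType.sum = g.support.card := Equiv.Perm.sum_cycleType g
  have hle : g.support.card ≤ 8 := by
    have := Finset.card_le_univ g.support
    simpa using this
  rw [hn, hog, Multiset.sum_replicate, smul_eq_mul] at hsum
  have hn0 : n = 0 := by
    by_contra hne
    have h2 : 2 ≤ n + 1 := by omega
    have h3 : 2 * p ≤ (n + 1) * p := Nat.mul_le_mul_right p h2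
    omega
  subst hn0
  refine ⟨?_, by omega⟩
  rw [← Equiv.Perm.card_cycleType_eq_one, hn]
  simp

/-- LEAF G42-S7ORB. -/
theorem orbit_seven (H : Subgroup (Perm (Fin 8))) (h7 : 7 ∣ Nat.card H) :
    (∃ c : Fin 8, ∀ h ∈ H, h c = c) ∨ (∀ x y : Fin 8, ∃ h ∈ H, h x = y) := by
  classical
  have : Fact (Nat.Prime 7) := ⟨by norm_num⟩
  obtain ⟨g0, hg0⟩ := exists_prime_orderOf_dvd_card' 7 h7
  have hgH : (g0 : Perm (Fin 8)) ∈ H := g0.2
  have hog : orderOf (g0 : Perm (Fin 8)) = 7 := by rw [Subgroup.orderOf_coe]; exact hg0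
  obtain ⟨hcyc, hsupp⟩ := s7orb_cycle_of_prime (g0 : Perm (Fin 8)) 7 (by norm_num) hog (by norm_num)
  set g : Perm (Fin 8) := (g0 : Perm (Fin 8)) with hgdef
  -- the fixed point
  have hcompl : (g.support)ᶜ.card = 1 := by
    rw [Finset.card_compl, hsupp]
    simp
  obtain ⟨c, hc⟩ := Finset.card_eq_one.mp hcompl
  have hmov : ∀ x, x ≠ c → g x ≠ x := by
    intro x hx hgx
    have h1 : x ∈ (g.support)ᶜ := by
      rw [Finset.mem_compl, Equiv.Perm.mem_support]
      exact fun h => h hgx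
    rw [hc, Finset.mem_singleton] at h1
    exact hx h1
  by_cases hfix : ∀ h ∈ H, h c = c
  · exact Or.inl ⟨c, hfix⟩
  · right
    rw [not_forall] at hfix
    obtain ⟨h, hh⟩ := hfix
    rw [Classical.not_imp] at hh
    obtain ⟨hhH, hhc⟩ := hh
    have key : ∀ x y, x ≠ c → y ≠ c → ∃ k ∈ H, k x = y := by
      intro x y hx hy
      obtain ⟨i, hi⟩ := hcyc.exists_pow_eq (hmov x hx) (hmov y hy)
      exact ⟨g ^ i, H.pow_mem hgH i, hi⟩
    intro x y
    by_cases hx : x = c
    · by_cases hy : y = c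
      · exact ⟨1, H.one_mem, by rw [hx, hy]; rfl⟩
      · subst hx
        obtain ⟨k, hk, hkx⟩ := key (h x) y hhc hy
        exact ⟨k * h, H.mul_mem hk hhH, by simpa using hkx⟩
    · by_cases hy : y = c
      · subst hy
        obtain ⟨k, hk, hkx⟩ := key x (h y) hx hhc
        refine ⟨h⁻¹ * k, H.mul_mem (H.inv_mem hhH) hk, ?_⟩
        simp [hkx]
      · exact key x y hx hy

end Cfsg.Agent.Lib.Helper47.G42
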