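import Cfsg.Agent.Lib.Helper85.Transport

set_option autoImplicit false

namespace Cfsg.Agent.Lib.Helper85

open Cfsg Cfsg.FusionSystem

variable {Ω G : Type*} [Group Ω] [Group G] {S : Subgroup Ω} {T : Subgroup G}

/-- `F` over `S` corresponds to `F'` over `T` under the isomorphism `e : S ≃* T`. -/
def Corresp (e : S ≃* T) (F : FusionSystem S) (F' : FusionSystem T) : Prop :=
  ∀ (P : Subgroup Ω) (hP : P ≤ S) (φ : P →* Ω) (hφ : ∀ x, φ x ∈ S),
    φ ∈ F.Hom P ↔ pushE e hP φ hφ ∈ F'.Hom (imE e P)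

variable {e : S ≃* T} {F : FusionSystem S} {F' : FusionSystem T}

theorem Corresp.pullE_mem (hC : Corresp e F F') {P : Subgroup Ω} (hP : P ≤ S)
    {φ' : imE e P →* G} (hφ' : φ' ∈ F'.Hom (imE e P)) :
    pullE e hP φ' (Helper87.hom_mem_S F' hφ') ∈ F.Hom P := by
  rw [hC P hP _ (Helper85.pullE_mem e hP φ' _), pushE_pullE]
  exact hφ'

theorem imE_range_pullE (e : S ≃* T) {P : Subgroup Ω} (hP : P ≤ S) (φ' : imE e P →* G)
    (hφ' : ∀ y, φ' y ∈ T) : imE e (pullE e hP φ' hφ').range = φ'.range := by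
  rw [← range_pushE e hP _ (Helper85.pullE_mem e hP φ' hφ'), pushE_pullE]

theorem Corresp.mem_autGroup_iff (hC : Corresp e F F') {Q : Subgroup Ω} (hQ : Q ≤ S)
    (α : MulAut Q) :
    α ∈ F.autGroup Q ↔ MulAut.congr (isoE e hQ) α ∈ F'.autGroup (imE e Q) := by
  rw [Helper87.mem_autGroup_iff F hQ, Helper87.mem_autGroup_iff F' (imE_le e Q),
    hC Q hQ _ (fun x => hQ (α x).2)]
  have : (imE e Q).subtype.comp (MulAut.congr (isoE e hQ) α).toMonoidHom =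
      pushE e hQ (Q.subtype.comp α.toMonoidHom) (fun x => hQ (α x).2) := by
    apply eq_pushE
    intro x
    show (((MulAut.congr (isoE e hQ) α) (isoE e hQ x) : imE e Q) : G) = _
    have : (MulAut.congr (isoE e hQ) α) (isoE e hQ x) = isoE e hQ (α x) := by
      simp [MulAut.congr]
    rw [this]
    rfl
  rw [this]

theorem mem_autInducedBy_congr_iff (e : S ≃* T) {Q : Subgroup Ω} (hQ : Q ≤ S) (α : MulAut Q) :
    α ∈ autInducedBy S Q ↔ MulAut.congr (isoE e hQ) α ∈ autInducedBy T (imE e Q) := by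
  rw [Helper87.mem_autInducedBy_iff, Helper87.mem_autInducedBy_iff]
  have hcongr : ∀ x : Q, (MulAut.congr (isoE e hQ) α) (isoE e hQ x) = isoE e hQ (α x) := by
    intro x
    simp [MulAut.congr]
  constructor
  · rintro ⟨s, hs, h⟩
    refine ⟨e ⟨s, hs⟩, (e _).2, fun y => ?_⟩
    obtain ⟨x, rfl⟩ := (isoE e hQ).surjective y
    rw [hcongr, isoE_coe, isoE_coe]
    have : (⟨((α x : Q) : Ω), hQ (α x).2⟩ : S) = ⟨s, hs⟩ * ⟨x, hQ x.2⟩ * ⟨s, hs⟩⁻¹ :=
      Subtype.ext (h x)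
    rw [this, map_mul, map_mul, map_inv]
    rfl
  · rintro ⟨t, ht, h⟩
    refine ⟨e.symm ⟨t, ht⟩, (e.symm _).2, fun x => ?_⟩
    have h1 := h (isoE e hQ x)
    rw [hcongr, isoE_coe, isoE_coe] at h1
    have h2 : e ⟨((α x : Q) : Ω), hQ (α x).2⟩ =
        e (e.symm ⟨t, ht⟩ * ⟨x, hQ x.2⟩ * (e.symm ⟨t, ht⟩)⁻¹) := by
      apply Subtype.ext
      rw [h1, map_mul, map_mul, map_inv, MulEquiv.apply_symm_apply]
      rfl
    have h3 := e.injective h2
    exact congrArg (fun z : S => (z : Ω)) h3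

theorem Corresp.isFullyAutomized [Finite S] {p : ℕ} [Fact p.Prime] (hC : Corresp e F F')
    {Q : Subgroup Ω} (hQ : Q ≤ S) (h : F'.IsFullyAutomized p (imE e Q)) :
    F.IsFullyAutomized p Q := by
  refine ⟨hQ, ?_⟩
  haveI : Finite Q := Finite.of_injective _ (Subgroup.inclusion_injective hQ)
  haveI : Finite (imE e Q) := Finite.of_equiv _ (isoE e hQ).toEquiv
  have h' : SylIn p (autInducedBy T (imE e Q)) (F'.autGroup (imE e Q)) := h.2
  show SylIn p (autInducedBy S Q) (F.autGroup Q)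
  have hle : autInducedBy S Q ≤ F.autGroup Q := Helper87.autInducedBy_le_autGroup F hQ
  have hle' : autInducedBy T (imE e Q) ≤ F'.autGroup (imE e Q) :=
    Helper87.autInducedBy_le_autGroup F' (imE_le e Q)
  set c := MulAut.congr (isoE e hQ) with hc
  have hA : (F.autGroup Q).map c.toMonoidHom = F'.autGroup (imE e Q) := by
    ext β
    constructor
    · rintro ⟨α, hα, rfl⟩
      exact (hC.mem_autGroup_iff hQ α).mp hα
    · intro hβ
      refine ⟨c.symm β, (hC.mem_autGroup_iff hQ _).mpr ?_, by simp⟩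
      have : MulAut.congr (isoE e hQ) (c.symm β) = β := by rw [← hc]; simp
      rw [this]
      exact hβ
  have hAS : (autInducedBy S Q).map c.toMonoidHom = autInducedBy T (imE e Q) := by
    ext β
    constructor
    · rintro ⟨α, hα, rfl⟩
      exact (mem_autInducedBy_congr_iff e hQ α).mp hα
    · intro hβ
      refine ⟨c.symm β, (mem_autInducedBy_congr_iff e hQ _).mpr ?_, by simp⟩
      have : MulAut.congr (isoE e hQ) (c.symm β) = β := by rw [← hc]; simp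
      rw [this]
      exact hβ
  rw [sylIn_iff_card hle]
  rw [sylIn_iff_card hle'] at h'
  rw [← hA, ← hAS, Subgroup.card_map_of_injective c.injective,
    Subgroup.card_map_of_injective c.injective] at h'
  exact h'

theorem e_conj_mem_imE (e : S ≃* T) {R : Subgroup Ω} (hR : R ≤ S) {g : Ω} (hgS : g ∈ S)
    (hgN : g ∈ Subgroup.normalizer (R : Set Ω)) :
    ((e ⟨g, hgS⟩ : T) : G) ∈ Subgroup.normalizer ((imE e R : Subgroup G) : Set G) := by
  have key : ∀ (g : Ω) (hgS : g ∈ S), g ∈ Subgroup.normalizer (R : Set Ω) →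
      ∀ y ∈ imE e R, ((e ⟨g, hgS⟩ : T) : G) * y * ((e ⟨g, hgS⟩ : T) : G)⁻¹ ∈ imE e R := by
    intro g hgS hgN y hy
    obtain ⟨x, hx, rfl⟩ := mem_imE.mp hy
    have hmem : g * (x : Ω) * g⁻¹ ∈ R := (Subgroup.mem_normalizer_iff.mp hgN _).mp hx
    refine mem_imE.mpr ⟨⟨g, hgS⟩ * x * ⟨g, hgS⟩⁻¹, hmem, ?_⟩
    rw [map_mul, map_mul, map_inv]
    rfl
  rw [Subgroup.mem_normalizer_iff]
  intro y
  constructor
  · exact key g hgS hgN y
  · intro hy
    have := key g⁻¹ (S.inv_mem hgS) (Subgroup.inv_mem _ hgN) _ hy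
    have e1 : (⟨g⁻¹, S.inv_mem hgS⟩ : S) = ⟨g, hgS⟩⁻¹ := rfl
    rw [e1, map_inv] at this
    have e2 : (((e ⟨g, hgS⟩)⁻¹ : T) : G) * (((e ⟨g, hgS⟩ : T) : G) * y * ((e ⟨g, hgS⟩ : T) : G)⁻¹) *
        (((e ⟨g, hgS⟩)⁻¹ : T) : G)⁻¹ = y := by
      simp only [Subgroup.coe_inv]
      group
    rwa [e2] at this

theorem extender_le_preE (e : S ≃* T) {R : Subgroup Ω} (hR : R ≤ S) (φ : R →* Ω)
    (hφ : ∀ x, φ x ∈ S) :
    extender S R φ ≤ preE e (extender T (imE e R) (pushE e hR φ hφ)) := by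
  unfold extender
  rw [Subgroup.closure_le]
  rintro g ⟨hgS, hgN, h, hhS, hh⟩
  rw [SetLike.mem_coe, mem_preE]
  refine ⟨hgS, Subgroup.subset_closure ⟨(e _).2, e_conj_mem_imE e hR hgS hgN,
    e ⟨h, hhS⟩, (e _).2, ?_⟩⟩
  intro y hy
  obtain ⟨x, rfl⟩ := (isoE e hR).surjective y
  have hmem : g * (x : Ω) * g⁻¹ ∈ R := (Subgroup.mem_normalizer_iff.mp hgN _).mp x.2
  have e1 : (⟨((e ⟨g, hgS⟩ : T) : G) * ((isoE e hR x : imE e R) : G) * ((e ⟨g, hgS⟩ : T) : G)⁻¹, hy⟩ :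
      imE e R) = isoE e hR ⟨g * (x : Ω) * g⁻¹, hmem⟩ := by
    apply Subtype.ext
    show ((e ⟨g, hgS⟩ : T) : G) * ((isoE e hR x : imE e R) : G) * ((e ⟨g, hgS⟩ : T) : G)⁻¹ =
      ((isoE e hR ⟨g * (x : Ω) * g⁻¹, hmem⟩ : imE e R) : G)
    rw [isoE_coe, isoE_coe]
    have : (⟨g * (x : Ω) * g⁻¹, hR hmem⟩ : S) = ⟨g, hgS⟩ * ⟨x, hR x.2⟩ * ⟨g, hgS⟩⁻¹ := rfl
    rw [this, map_mul, map_mul, map_inv]
    rfl
  rw [e1, pushE_apply, pushE_apply]
  have e2 : (⟨φ ⟨g * (x : Ω) * g⁻¹, hmem⟩, hφ _⟩ : S) =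
      ⟨h, hhS⟩ * ⟨φ x, hφ x⟩ * ⟨h, hhS⟩⁻¹ := Subtype.ext (hh x hmem)
  rw [e2, map_mul, map_mul, map_inv]
  rfl

theorem Corresp.isReceptive (hC : Corresp e F F') {Q : Subgroup Ω} (hQ : Q ≤ S)
    (h : F'.IsReceptive (imE e Q)) : F.IsReceptive Q := by
  refine ⟨hQ, ?_⟩
  intro R φ hφ hr
  have hR : R ≤ S := Helper87.hom_le F hφ
  have hφS : ∀ x, φ x ∈ S := Helper87.hom_mem_S F hφ
  have hφ' : pushE e hR φ hφS ∈ F'.Hom (imE e R) := (hC R hR φ hφS).mp hφ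
  have hr' : (pushE e hR φ hφS).range = imE e Q := by rw [range_pushE, hr]
  obtain ⟨ψ', hψ', hψ'e⟩ := h.2 _ _ hφ' hr'
  have hNS : extender S R φ ≤ S := by
    unfold extender
    rw [Subgroup.closure_le]
    rintro g ⟨hgS, -⟩
    exact hgS
  have hle : imE e (extender S R φ) ≤ extender T (imE e R) (pushE e hR φ hφS) := by
    intro y hy
    obtain ⟨x, hx, rfl⟩ := mem_imE.mp hy
    obtain ⟨_, h2⟩ := mem_preE.mp (extender_le_preE e hR φ hφS hx)
    exact h2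
  have hψ'' := Helper87.restrict_mem F' hψ' hle
  have hψ : pullE e hNS _ (Helper87.hom_mem_S F' hψ'') ∈ F.Hom (extender S R φ) :=
    hC.pullE_mem hNS hψ''
  refine ⟨_, hψ, ?_⟩
  intro x hxR hxN
  have h1 := e_pullE e hNS _ (Helper87.hom_mem_S F' hψ'') ⟨x, hxN⟩
  have h2 : (ψ'.comp (Subgroup.inclusion hle)) (isoE e hNS ⟨x, hxN⟩) =
      pushE e hR φ hφS (isoE e hR ⟨x, hxR⟩) := by
    show ψ' ⟨((isoE e hNS ⟨x, hxN⟩ : imE e (extender S R φ)) : G), _⟩ = _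
    exact hψ'e _ (isoE e hR ⟨x, hxR⟩).2 _
  rw [h2, pushE_apply] at h1
  have h3 := e.injective (Subtype.ext h1)
  exact congrArg (fun z : S => (z : Ω)) h3

/-- Saturation transfers along an isomorphism of fusion systems. -/
theorem Corresp.isSaturated [Finite S] {p : ℕ} [Fact p.Prime] (hC : Corresp e F F')
    (hF' : F'.IsSaturated p) : F.IsSaturated p := by
  intro P hP
  obtain ⟨Q', ⟨φ', hφ', hr'⟩, hfa', hrec'⟩ := hF' (imE e P) (imE_le e P)
  have hφ := hC.pullE_mem hP hφ'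
  have hQS : (pullE e hP φ' (Helper87.hom_mem_S F' hφ')).range ≤ S := Helper87.range_le F hφ
  have him : imE e (pullE e hP φ' (Helper87.hom_mem_S F' hφ')).range = Q' := by
    rw [imE_range_pullE, hr']
  rw [← him] at hfa' hrec'
  exact ⟨_, ⟨_, hφ, rfl⟩, hC.isFullyAutomized hQS hfa', hC.isReceptive hQS hrec'⟩

end Cfsg.Agent.Lib.Helper85
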