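import Cfsg.Agent.Lib.Helper85.Model
import Cfsg.Agent.Lib.Helper85.TransportSat
import Cfsg.Agent.Lib.Helper85.Saturated
import Cfsg.Agent.Lib.Helper88.RealizedNormal
import Cfsg.Agent.Lib.Helper88.FratInduction

set_option autoImplicit false

/-!
Fusion systems realized by a finite group `ι : S → G` with Sylow image: saturation, normal and centric
subgroups coming from normal `p`-subgroups of `G`, the core of a model, and the automizer of such a subgroup
as a quotient of `G`.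
-/

namespace Cfsg.Agent.Lib.Helper85.Rz

open Cfsg Cfsg.FusionSystem
open Cfsg.Agent.Lib.Helper87 (hom_le hom_mem_S)
open Cfsg.Agent.Lib.Helper88 (preN mem_preN preN_le preN_mem stronglyClosed_preN
  exists_conj_of_mem_autGroup mem_autGroup_of_conj)

variable {Ω : Type*} {G : Type*} [Group Ω] [Group G] {S : Subgroup Ω} {F : FusionSystem S} {ι : S →* G}

/-- The correspondence between a realized system and the group fusion system on the image. -/
theorem realized_corresp (hR : F.IsRealizedBy ι) :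
    Corresp (MonoidHom.ofInjective hR.1) F (groupFusionSystem ι.range) := by
  intro P hP φ hφ
  rw [hR.2 P hP φ hφ, mem_groupFusionSystem_hom]
  constructor
  · rintro ⟨g, hg⟩
    refine ⟨imE_le _ P, pushE_mem _ hP φ hφ, g, fun y => ?_⟩
    obtain ⟨x, rfl⟩ := (isoE (MonoidHom.ofInjective hR.1) hP).surjective y
    rw [pushE_apply, isoE_coe, MonoidHom.ofInjective_apply, MonoidHom.ofInjective_apply]
    exact hg x
  · rintro ⟨-, -, g, hg⟩
    refine ⟨g, fun x => ?_⟩
    have h1 := hg (isoE (MonoidHom.ofInjective hR.1) hP x)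
    rw [pushE_apply, isoE_coe, MonoidHom.ofInjective_apply, MonoidHom.ofInjective_apply] at h1
    exact h1

theorem realized_isSaturated [Finite S] [Finite G] {p : ℕ} [Fact p.Prime] (hR : F.IsRealizedBy ι)
    (Tsyl : Sylow p G) (hT : (Tsyl : Subgroup G) = ι.range) : F.IsSaturated p := by
  apply (realized_corresp hR).isSaturated
  rw [← hT]
  exact groupFusionSystem_isSaturated Tsyl

/-- The preimage of a normal subgroup of `G` inside the image of `S` is normal in the system. -/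
theorem preN_isNormal (hR : F.IsRealizedBy ι) (N : Subgroup G) (hN : N.Normal) (hNr : N ≤ ι.range) :
    F.IsNormal (preN ι N) := by
  refine ⟨preN_le ι N, fun P φ hφ => ?_⟩
  have hP := hom_le F hφ
  have hφS := hom_mem_S F hφ
  obtain ⟨g, hg⟩ := (hR.2 P hP φ hφS).mp hφ
  have hPQ : P ⊔ preN ι N ≤ S := sup_le hP (preN_le ι N)
  have hmem : ∀ y : ↥(P ⊔ preN ι N), g * ι ⟨y, hPQ y.2⟩ * g⁻¹ ∈ ι.range := by
    have hK : P ⊔ preN ι N ≤
        ((ι.range).comap ((MulAut.conj g).toMonoidHom.comp ι)).map S.subtype := by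
      apply sup_le
      · intro x hx
        refine ⟨⟨x, hP hx⟩, ?_, rfl⟩
        show g * ι ⟨x, hP hx⟩ * g⁻¹ ∈ ι.range
        have := hg ⟨x, hx⟩
        rw [← this]
        exact ⟨_, rfl⟩
      · intro x hx
        refine ⟨⟨x, preN_le ι N hx⟩, ?_, rfl⟩
        show g * ι ⟨x, preN_le ι N hx⟩ * g⁻¹ ∈ ι.range
        exact hNr (hN.conj_mem _ (preN_mem ι N hx) g)
    intro y
    obtain ⟨s, hs, hsy⟩ := hK y.2
    have : (⟨(y : Ω), hPQ y.2⟩ : S) = s := Subtype.ext hsy.symm
    rw [this]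
    exact hs
  obtain ⟨ψ, hψS, hψ⟩ := exists_transported_hom ι hR.1 hPQ g hmem
  refine ⟨ψ, (hR.2 _ hPQ ψ hψS).mpr ⟨g, hψ⟩, fun x => ?_, ?_⟩
  · have h1 := hψ (Subgroup.inclusion le_sup_left x)
    have h2 := hg x
    have h3 : ι ⟨ψ (Subgroup.inclusion le_sup_left x), hψS _⟩ = ι ⟨φ x, hφS x⟩ := by
      rw [h1, h2]; rfl
    exact congrArg (fun s : S => (s : Ω)) (hR.1 h3)
  · ext y
    constructor
    · rintro ⟨q, hq, rfl⟩
      rw [SetLike.mem_coe, Subgroup.mem_subgroupOf] at hq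
      refine mem_preN.mpr ⟨hψS q, ?_⟩
      rw [hψ q]
      exact hN.conj_mem _ (preN_mem ι N hq) g
    · intro hy
      have hyN := preN_mem ι N hy
      have h1 : g⁻¹ * ι ⟨y, preN_le ι N hy⟩ * g⁻¹⁻¹ ∈ N := hN.conj_mem _ hyN g⁻¹
      obtain ⟨s, hs⟩ := hNr h1
      have hsQ : (s : Ω) ∈ preN ι N := mem_preN.mpr ⟨s.2, by rw [Subtype.coe_eta, hs]; exact h1⟩
      refine ⟨⟨s, (le_sup_right : preN ι N ≤ P ⊔ preN ι N) hsQ⟩, ?_, ?_⟩
      · rw [SetLike.mem_coe, Subgroup.mem_subgroupOf]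
        exact hsQ
      · have h2 := hψ ⟨s, (le_sup_right : preN ι N ≤ P ⊔ preN ι N) hsQ⟩
        have h3 : ι ⟨ψ ⟨s, (le_sup_right : preN ι N ≤ P ⊔ preN ι N) hsQ⟩, hψS _⟩ =
            ι ⟨y, preN_le ι N hy⟩ := by
          rw [h2]
          show g * ι ⟨(s : Ω), _⟩ * g⁻¹ = _
          rw [Subtype.coe_eta, hs]
          group
        exact congrArg (fun s : S => (s : Ω)) (hR.1 h3)

/-- If moreover `C_G(N) ≤ N`, the preimage of `N` is centric in the system. -/
theorem preN_isCentric [Finite S] (hR : F.IsRealizedBy ι) (N : Subgroup G) (hN : N.Normal)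
    (hNr : N ≤ ι.range) (hC : Subgroup.centralizer (N : Set G) ≤ N) : F.IsCentric (preN ι N) := by
  have hsc := stronglyClosed_preN hR N (hN := hN)
  refine ⟨preN_le ι N, fun Q' hconj => ?_⟩
  have hle : Q' ≤ preN ι N := Helper88.le_of_isConj_stronglyClosed hsc le_rfl hconj
  have hcard : Nat.card Q' = Nat.card (preN ι N) := Helper88.card_eq_of_isConj F hconj
  have hfin : Finite (preN ι N) :=
    Finite.of_injective _ (Subgroup.inclusion_injective (preN_le ι N))
  have heq : Q' = preN ι N := Subgroup.eq_of_le_of_card_ge hle (le_of_eq hcard.symm)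
  rw [heq]
  rintro c ⟨hcS, hcC⟩
  refine mem_preN.mpr ⟨hcS, hC ?_⟩
  rw [Subgroup.mem_centralizer_iff]
  intro n hn
  obtain ⟨s, hs⟩ := hNr hn
  have hsQ : (s : Ω) ∈ preN ι N := mem_preN.mpr ⟨s.2, by rw [Subtype.coe_eta, hs]; exact hn⟩
  have h1 : (s : Ω) * c = c * (s : Ω) := (Subgroup.mem_centralizer_iff.mp hcC) _ hsQ
  have h2 : s * ⟨c, hcS⟩ = ⟨c, hcS⟩ * s := Subtype.ext h1
  rw [← hs, ← map_mul, ← map_mul, h2]

/-- In a model, `O_p(F)` is the preimage of `O_p(G)`. -/
theorem core_eq_of_isModel {p : ℕ} [Fact p.Prime] (hm : F.IsModel p G ι) :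
    F.core = preN ι (pCore p G) := by
  obtain ⟨hfin, hR, ⟨T, hT⟩, hcen⟩ := id hm
  have hQn : (pCore p G).Normal := Cfsg.Agent.Lib.Helper22.pCore_normal' p G
  have hQT : pCore p G ≤ ι.range := hT ▸ Cfsg.Agent.Lib.Helper11.pCore_le_sylow T
  apply le_antisymm
  · apply sSup_le
    intro R hRn x hx
    have hxS : x ∈ S := hRn.1 hx
    refine mem_preN.mpr ⟨hxS, ?_⟩
    apply model_map_le_pCore F ι hm hRn
    exact ⟨⟨x, hxS⟩, Subgroup.mem_subgroupOf.mpr hx, rfl⟩
  · exact le_sSup (preN_isNormal hR _ hQn hQT)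

/-- A model realizes a constrained system. -/
theorem isConstrained_of_isModel [Finite S] {p : ℕ} [Fact p.Prime] (hm : F.IsModel p G ι) :
    F.IsConstrained p := by
  obtain ⟨hfin, hR, ⟨T, hT⟩, hcen⟩ := id hm
  have hQn : (pCore p G).Normal := Cfsg.Agent.Lib.Helper22.pCore_normal' p G
  have hQT : pCore p G ≤ ι.range := hT ▸ Cfsg.Agent.Lib.Helper11.pCore_le_sylow T
  exact ⟨realized_isSaturated hR T hT, preN ι (pCore p G), preN_isNormal hR _ hQn hQT,
    preN_isCentric hR _ hQn hQT hcen⟩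

section autHom

variable (hR : F.IsRealizedBy ι) (N : Subgroup G) [hN : N.Normal] (hNr : N ≤ ι.range)

/-- The isomorphism `preN ι N ≃* N` induced by `ι`, for `N` inside the image. -/
noncomputable def isoN : ↥(preN ι N) ≃* ↥N :=
  MulEquiv.ofBijective
    ((ι.comp (Subgroup.inclusion (preN_le ι N))).codRestrict N (fun x => preN_mem ι N x.2))
    ⟨by
      intro a b hab
      have h1 : ι (Subgroup.inclusion (preN_le ι N) a) = ι (Subgroup.inclusion (preN_le ι N) b) :=
        congrArg (fun n : N => (n : G)) hab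
      exact Subgroup.inclusion_injective _ (hR.1 h1),
     by
      rintro ⟨n, hn⟩
      obtain ⟨s, hs⟩ := hNr hn
      have hsQ : (s : Ω) ∈ preN ι N := mem_preN.mpr ⟨s.2, by rw [Subtype.coe_eta, hs]; exact hn⟩
      refine ⟨⟨s, hsQ⟩, Subtype.ext ?_⟩
      show ι ⟨(s : Ω), _⟩ = n
      rw [Subtype.coe_eta, hs]⟩

theorem isoN_coe (x : ↥(preN ι N)) :
    ((isoN hR N hNr x : ↥N) : G) = ι ⟨x, preN_le ι N x.2⟩ := rfl

theorem ι_isoN_symm (y : ↥N) :
    ι ⟨((isoN hR N hNr).symm y : ↥(preN ι N)), preN_le ι N ((isoN hR N hNr).symm y).2⟩ = (y : G) := by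
  rw [← isoN_coe hR N hNr, MulEquiv.apply_symm_apply]

/-- The automorphism of `preN ι N` induced by `g : G`. -/
noncomputable def autOf (g : G) : MulAut ↥(preN ι N) :=
  MulAut.congr (isoN hR N hNr).symm (MulAut.conjNormal g)

theorem ι_autOf (g : G) (x : ↥(preN ι N)) :
    ι ⟨((autOf hR N hNr g) x : ↥(preN ι N)), preN_le ι N ((autOf hR N hNr g) x).2⟩ =
      g * ι ⟨x, preN_le ι N x.2⟩ * g⁻¹ := by
  have h1 : (autOf hR N hNr g) x =
      (isoN hR N hNr).symm ((MulAut.conjNormal g : MulAut N) (isoN hR N hNr x)) := rfl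
  rw [h1, ι_isoN_symm, MulAut.conjNormal_apply, isoN_coe]

theorem autOf_mem (g : G) : autOf hR N hNr g ∈ F.autGroup (preN ι N) :=
  mem_autGroup_of_conj hR (preN_le ι N) g (fun x => ι_autOf hR N hNr g x)

/-- The homomorphism `G → Aut_F(preN ι N)`. -/
noncomputable def autHom : G →* ↥(F.autGroup (preN ι N)) :=
  MonoidHom.codRestrict
    ((MulAut.congr (isoN hR N hNr).symm).toMonoidHom.comp (MulAut.conjNormal (H := N)))
    (F.autGroup (preN ι N)) (fun g => autOf_mem hR N hNr g)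

theorem autHom_coe (g : G) : ((autHom hR N hNr g : ↥(F.autGroup (preN ι N))) : MulAut ↥(preN ι N)) =
    autOf hR N hNr g := rfl

theorem autHom_surjective : Function.Surjective (autHom hR N hNr) := by
  intro α
  obtain ⟨g, hg⟩ := exists_conj_of_mem_autGroup hR (preN_le ι N) α.2
  refine ⟨g, Subtype.ext ?_⟩
  rw [autHom_coe]
  ext x
  have h1 := ι_autOf hR N hNr g x
  rw [← hg x] at h1
  exact congrArg (fun s : S => (s : Ω)) (hR.1 h1)

theorem autHom_ker_le : (autHom hR N hNr).ker ≤ Subgroup.centralizer (N : Set G) := by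
  intro g hg
  rw [MonoidHom.mem_ker] at hg
  have h0 : autOf hR N hNr g = 1 := by
    rw [← autHom_coe, hg]; rfl
  rw [Subgroup.mem_centralizer_iff]
  intro n hn
  have h1 := ι_autOf hR N hNr g ((isoN hR N hNr).symm ⟨n, hn⟩)
  rw [h0, MulAut.one_apply, ι_isoN_symm] at h1
  -- h1 : n = g * n * g⁻¹
  have h2 : n = g * n * g⁻¹ := h1
  calc n * g = g * n * g⁻¹ * g := by rw [← h2]
    _ = g * n := by group

end autHom

end Cfsg.Agent.Lib.Helper85.Rz
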