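import Cfsg.Agent.Lib.Helper87.NormalChain
import Cfsg.Agent.Lib.Helper85.Sylow

set_option autoImplicit false

namespace Cfsg.Agent.Lib.Helper85

open Cfsg Cfsg.FusionSystem Cfsg.Agent.Lib.Helper87

variable {Ω : Type*} [Group Ω] {S : Subgroup Ω}

/-- A map of the system carries elements of a strongly closed subgroup into it. -/
theorem sc_map_mem (F : FusionSystem S) {T : Subgroup Ω} (hT : F.StronglyClosed T)
    {M : Subgroup Ω} {ψ : M →* Ω} (hψ : ψ ∈ F.Hom M) (y : M) (hy : (y : Ω) ∈ T) : ψ y ∈ T :=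
  hT.2 (M ⊓ T) inf_le_right _ (restrict_mem F hψ inf_le_left) ⟨y, y.2, hy⟩

/-- `φ`, defined on `P`, agrees modulo `T` with a map of the system defined on `P ⊔ T`. -/
def ExtMod (F : FusionSystem S) (T P : Subgroup Ω) (φ : P →* Ω) : Prop :=
  ∃ ψ ∈ F.Hom (P ⊔ T), ∀ x : P, (φ x)⁻¹ * ψ (Subgroup.inclusion le_sup_left x) ∈ T

theorem ExtMod.of_restrict (F : FusionSystem S) {T R Q : Subgroup Ω} (hQR : Q ≤ R)
    {φ : R →* Ω} {ψ : ↥(R ⊔ T) →* Ω} (hψ : ψ ∈ F.Hom (R ⊔ T))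
    (h : ∀ x : R, (φ x)⁻¹ * ψ (Subgroup.inclusion le_sup_left x) ∈ T) :
    ExtMod F T Q (φ.comp (Subgroup.inclusion hQR)) := by
  have hle : Q ⊔ T ≤ R ⊔ T := sup_le_sup_right hQR T
  refine ⟨ψ.comp (Subgroup.inclusion hle), restrict_mem F hψ hle, fun x => ?_⟩
  exact h (Subgroup.inclusion hQR x)

theorem ExtMod.comp (F : FusionSystem S) {T : Subgroup Ω} (hT : F.StronglyClosed T)
    {P Q : Subgroup Ω} {φ : P →* Ω} {φ₂ : Q →* Ω} (h1 : ExtMod F T P φ) (h2 : ExtMod F T Q φ₂)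
    (h : ∀ x : P, φ x ∈ Q) : ExtMod F T P (φ₂.comp (φ.codRestrict Q h)) := by
  obtain ⟨ψ₁, hψ₁, he₁⟩ := h1
  obtain ⟨ψ₂, hψ₂, he₂⟩ := h2
  have hm : ∀ y : ↥(P ⊔ T), ψ₁ y ∈ Q ⊔ T := by
    have hm' : ∀ y : ↥(P ⊔ T), y ∈ (Q ⊔ T).comap ψ₁ := by
      apply forall_sup_of_subgroup
      · intro y hy
        have h3 := he₁ ⟨y, hy⟩
        show ψ₁ ⟨y, _⟩ ∈ Q ⊔ T
        have e : ψ₁ ⟨y, (le_sup_left : P ≤ P ⊔ T) hy⟩ =
            φ ⟨y, hy⟩ * ((φ ⟨y, hy⟩)⁻¹ * ψ₁ (Subgroup.inclusion le_sup_left ⟨y, hy⟩)) := by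
          rw [mul_inv_cancel_left]
          rfl
        rw [e]
        exact Subgroup.mul_mem_sup (h _) h3
      · intro y hy
        exact (le_sup_right : T ≤ Q ⊔ T) (sc_map_mem F hT hψ₁ _ hy)
    exact hm'
  refine ⟨ψ₂.comp (ψ₁.codRestrict (Q ⊔ T) hm), F.comp_mem hψ₁ hψ₂ hm, fun x => ?_⟩
  show (φ₂ ⟨φ x, h x⟩)⁻¹ * ψ₂ ⟨ψ₁ (Subgroup.inclusion le_sup_left x), hm _⟩ ∈ T
  have h3 := he₁ x
  set t := (φ x)⁻¹ * ψ₁ (Subgroup.inclusion le_sup_left x) with ht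
  have e : (⟨ψ₁ (Subgroup.inclusion le_sup_left x), hm _⟩ : ↥(Q ⊔ T)) =
      Subgroup.inclusion le_sup_left ⟨φ x, h x⟩ * ⟨t, (le_sup_right : T ≤ Q ⊔ T) h3⟩ := by
    apply Subtype.ext
    show ψ₁ (Subgroup.inclusion le_sup_left x) = φ x * t
    rw [ht, mul_inv_cancel_left]
  rw [e, map_mul, ← mul_assoc]
  exact T.mul_mem (he₂ ⟨φ x, h x⟩) (sc_map_mem F hT hψ₂ _ h3)


/-- The Frattini step: an automorphism of an Alperin subgroup `R` agrees modulo `T` with a map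
defined on `R ⊔ T`, given the statement for all maps with larger source. -/
theorem ExtMod.aut_step [Finite S] {p : ℕ} [Fact p.Prime] (hS : IsPGroup p S)
    (F : FusionSystem S) {T : Subgroup Ω} (hT : F.StronglyClosed T) {R : Subgroup Ω}
    (hR : IsAlperin F p R) (hTR : ¬ T ≤ R)
    (IH : ∀ (P' : Subgroup Ω) (φ' : P' →* Ω), Nat.card R < Nat.card P' → φ' ∈ F.Hom P' →
      ExtMod F T P' φ')
    (α : MulAut R) (hα : α ∈ F.autGroup R) :
    ∃ ψ ∈ F.Hom (R ⊔ T), ∀ x : R,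
      ((α x : R) : Ω)⁻¹ * ψ (Subgroup.inclusion le_sup_left x) ∈ T := by
  have hRS : R ≤ S := hR.1.1
  have hfa := hR.1
  have hrec := hR.2.1
  have hTS : T ≤ S := hT.1
  have hSNT : S ≤ Subgroup.normalizer (T : Set Ω) :=
    weaklyClosed_le_normalizer F (weaklyClosed_of_stronglyClosed F hT)
  haveI : Finite R := finite_of_le hRS
  -- invariance of T ∩ R under Aut_F(R)
  have hinvT : ∀ γ ∈ F.autGroup R, ∀ x : R, (x : Ω) ∈ T → ((γ x : R) : Ω) ∈ T := by
    intro γ hγ x hx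
    exact sc_map_mem F hT ((mem_autGroup_iff F hRS γ).mp hγ) x hx
  -- the kernel of the action on R/(R ∩ T)
  let K : Subgroup (MulAut R) :=
    { carrier := {β | β ∈ F.autGroup R ∧ ∀ x : R, ((x : Ω))⁻¹ * ((β x : R) : Ω) ∈ T}
      mul_mem' := by
        rintro β γ ⟨hβ, hβT⟩ ⟨hγ, hγT⟩
        refine ⟨(F.autGroup R).mul_mem hβ hγ, fun x => ?_⟩
        have e : ((x : Ω))⁻¹ * (((β * γ) x : R) : Ω) =
            ((x : Ω)⁻¹ * ((γ x : R) : Ω)) * (((γ x : R) : Ω)⁻¹ * ((β (γ x) : R) : Ω)) := by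
          rw [MulAut.mul_apply]; group
        rw [e]
        exact T.mul_mem (hγT x) (hβT (γ x))
      one_mem' := by
        refine ⟨(F.autGroup R).one_mem, fun x => ?_⟩
        simp
      inv_mem' := by
        rintro β ⟨hβ, hβT⟩
        refine ⟨(F.autGroup R).inv_mem hβ, fun x => ?_⟩
        have h1 := hβT (β⁻¹ x)
        have h2 : β (β⁻¹ x) = x := by
          show β (β.symm x) = x
          simp
        rw [h2] at h1
        have e : ((x : Ω))⁻¹ * ((β⁻¹ x : R) : Ω) = (((β⁻¹ x : R) : Ω)⁻¹ * (x : Ω))⁻¹ := by group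
        rw [e]
        exact T.inv_mem h1 }
  have hKA : K ≤ F.autGroup R := fun β hβ => hβ.1
  have hconjK : ∀ γ ∈ F.autGroup R, ∀ β ∈ K, γ * β * γ⁻¹ ∈ K := by
    intro γ hγ β hβ
    have hγi := (F.autGroup R).inv_mem hγ
    refine ⟨(F.autGroup R).mul_mem ((F.autGroup R).mul_mem hγ hβ.1) hγi, fun x => ?_⟩
    have h1 := hβ.2 (γ⁻¹ x)
    have h2 : γ (γ⁻¹ x) = x := by
      show γ (γ.symm x) = x
      simp
    have h3 : ((x : Ω))⁻¹ * (((γ * β * γ⁻¹) x : R) : Ω) =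
        ((γ ((γ⁻¹ x)⁻¹ * β (γ⁻¹ x)) : R) : Ω) := by
      rw [MulAut.mul_apply, MulAut.mul_apply, map_mul, map_inv, h2]
      rfl
    rw [h3]
    exact hinvT γ hγ _ h1
  have hAK : F.autGroup R ≤ Subgroup.normalizer (K : Set (MulAut R)) := by
    intro γ hγ
    rw [Subgroup.mem_normalizer_iff]
    intro β
    constructor
    · exact hconjK γ hγ β
    · intro h
      have := hconjK γ⁻¹ ((F.autGroup R).inv_mem hγ) _ h
      have e : γ⁻¹ * (γ * β * γ⁻¹) * γ⁻¹⁻¹ = β := by group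
      rwa [e] at this
  have hASA : autInducedBy S R ≤ F.autGroup R := autInducedBy_le_autGroup F hRS
  have hSyl : SylIn p (autInducedBy S R) (F.autGroup R) := hfa.2
  have hSylK : SylIn p (autInducedBy S R ⊓ K) K := hSyl.inf_normal hASA hKA hAK
  -- Frattini
  have hLK : (autInducedBy S R ⊓ K).map (cj α) ≤ K := by
    rintro _ ⟨β, hβ, rfl⟩
    exact hconjK α hα β hβ.2
  have hLp : IsPGroup p ((autInducedBy S R ⊓ K).map (cj α)) :=
    ((autInducedBy_isPGroup hS R).to_le inf_le_left).map _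
  obtain ⟨k, hkK, hk⟩ := hSylK.exists_conj_le hLK hLp
  rw [map_cj_map_cj] at hk
  have hνA' : k * α ∈ F.autGroup R := (F.autGroup R).mul_mem (hKA hkK) hα
  obtain ⟨ν, hνdef⟩ : ∃ ν : MulAut R, ν = k * α := ⟨_, rfl⟩
  rw [← hνdef] at hk hνA'
  have hνA : ν ∈ F.autGroup R := hνA'
  -- extend ν = k * α
  have hφν := (mem_autGroup_iff F hRS ν).mp hνA
  have hr : (R.subtype.comp ν.toMonoidHom).range = R := by
    apply le_antisymm
    · rintro _ ⟨x, rfl⟩
      exact (ν x).2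
    · intro y hy
      exact ⟨ν.symm ⟨y, hy⟩, by simp⟩
  have hM : R ⊔ (T ⊓ Subgroup.normalizer (R : Set Ω)) ≤
      extender S R (R.subtype.comp ν.toMonoidHom) := by
    refine sup_le (self_le_extender F hφν) ?_
    rintro g ⟨hgT, hgN⟩
    have hgS : g ∈ S := hTS hgT
    have hcAS : conjAut R g hgN ∈ autInducedBy S R := conjAut_mem_autInducedBy hgS hgN
    have hcK : conjAut R g hgN ∈ K := by
      refine ⟨hASA hcAS, fun x => ?_⟩
      show (x : Ω)⁻¹ * (g * x * g⁻¹) ∈ T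
      have h1 : (x : Ω)⁻¹ * g * ((x : Ω)⁻¹)⁻¹ ∈ T :=
        (Subgroup.mem_normalizer_iff.mp (hSNT (S.inv_mem (hRS x.2))) g).mp hgT
      have e : (x : Ω)⁻¹ * (g * x * g⁻¹) = ((x : Ω)⁻¹ * g * ((x : Ω)⁻¹)⁻¹) * g⁻¹ := by group
      rw [e]
      exact T.mul_mem h1 (T.inv_mem hgT)
    have h2 : ν * conjAut R g hgN * ν⁻¹ ∈ autInducedBy S R ⊓ K :=
      hk ⟨_, ⟨hcAS, hcK⟩, rfl⟩
    obtain ⟨h, hhS, hh⟩ := (mem_autInducedBy_iff S R _).mp h2.1
    refine Subgroup.subset_closure ⟨hgS, hgN, h, hhS, fun x hx => ?_⟩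
    have h3 := hh (ν x)
    show ((ν ⟨g * x * g⁻¹, hx⟩ : R) : Ω) = h * ((ν x : R) : Ω) * h⁻¹
    rw [← h3]
    have h4 : (ν * conjAut R g hgN * ν⁻¹) (ν x) = ν (conjAut R g hgN x) := by
      simp [MulAut.mul_apply]
    rw [h4]
    rfl
  obtain ⟨ν₁, hν₁, hν₁e⟩ := extend_to_sub F hφν hr hrec hM
  -- the larger subgroup
  have hR₁S : R ⊔ (T ⊓ Subgroup.normalizer (R : Set Ω)) ≤ S :=
    sup_le hRS (inf_le_left.trans hTS)
  haveI : Finite ↥(R ⊔ (T ⊓ Subgroup.normalizer (R : Set Ω))) := finite_of_le hR₁S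
  have hcard : Nat.card R < Nat.card ↥(R ⊔ (T ⊓ Subgroup.normalizer (R : Set Ω))) := by
    by_contra hcon
    have heq : R = R ⊔ (T ⊓ Subgroup.normalizer (R : Set Ω)) :=
      Subgroup.eq_of_le_of_card_ge le_sup_left (not_lt.mp hcon)
    apply hTR
    apply le_of_normalizer_inf_le hS hRS hTS hSNT
    exact (le_sup_right : T ⊓ Subgroup.normalizer (R : Set Ω) ≤
      R ⊔ (T ⊓ Subgroup.normalizer (R : Set Ω))).trans heq.ge
  obtain ⟨ψ₁, hψ₁, hψ₁e⟩ := IH _ ν₁ hcard hν₁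
  have hle : R ⊔ T ≤ R ⊔ (T ⊓ Subgroup.normalizer (R : Set Ω)) ⊔ T :=
    sup_le_sup_right le_sup_left T
  refine ⟨ψ₁.comp (Subgroup.inclusion hle), restrict_mem F hψ₁ hle, fun x => ?_⟩
  have h5 := hψ₁e ⟨x, (le_sup_left : R ≤ R ⊔ (T ⊓ Subgroup.normalizer (R : Set Ω))) x.2⟩
  have h6 := hν₁e x x.2 ((le_sup_left : R ≤ R ⊔ (T ⊓ Subgroup.normalizer (R : Set Ω))) x.2)
  rw [h6] at h5
  -- (α x)⁻¹ (ν x) ∈ T since α = k⁻¹ ν
  have h7 := (K.inv_mem hkK).2 (ν x)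
  have h8 : k⁻¹ (ν x) = α x := by
    rw [hνdef, MulAut.mul_apply]
    show k.symm (k (α x)) = α x
    simp
  rw [h8] at h7
  have e : ((α x : R) : Ω)⁻¹ * (ψ₁.comp (Subgroup.inclusion hle)) (Subgroup.inclusion le_sup_left x) =
      (((ν x : R) : Ω)⁻¹ * ((α x : R) : Ω))⁻¹ *
        (((ν x : R) : Ω)⁻¹ * ψ₁ (Subgroup.inclusion le_sup_left
          ⟨x, (le_sup_left : R ≤ R ⊔ (T ⊓ Subgroup.normalizer (R : Set Ω))) x.2⟩)) := by
    have : (ψ₁.comp (Subgroup.inclusion hle)) (Subgroup.inclusion le_sup_left x) =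
        ψ₁ (Subgroup.inclusion le_sup_left
          ⟨x, (le_sup_left : R ≤ R ⊔ (T ⊓ Subgroup.normalizer (R : Set Ω))) x.2⟩) := rfl
    rw [this]
    group
  rw [e]
  exact T.mul_mem (T.inv_mem h7) h5

/-- **Key lemma**: in a saturated fusion system, every map `φ` with source `P` agrees modulo a
strongly closed subgroup `T` with a map of the system defined on `P ⊔ T`. -/
theorem extMod [Finite S] {p : ℕ} [Fact p.Prime] (hS : IsPGroup p S) (F : FusionSystem S)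
    (hF : F.IsSaturated p) {T : Subgroup Ω} (hT : F.StronglyClosed T) :
    ∀ (P : Subgroup Ω) (φ : P →* Ω), φ ∈ F.Hom P → ExtMod F T P φ := by
  have key : ∀ d : ℕ, ∀ (P : Subgroup Ω), Nat.card S - Nat.card P = d → ∀ (φ : P →* Ω),
      φ ∈ F.Hom P → ExtMod F T P φ := by
    intro d
    induction d using Nat.strong_induction_on with
    | _ d ih =>
    intro P hd φ hφ
    have hPS : P ≤ S := hom_le F hφ
    have IHo : ∀ (P' : Subgroup Ω) (φ' : P' →* Ω), Nat.card P < Nat.card P' → φ' ∈ F.Hom P' →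
        ExtMod F T P' φ' := by
      intro P' φ' hlt hφ'
      have hP'S : P' ≤ S := hom_le F hφ'
      have hle : Nat.card P' ≤ Nat.card S := Subgroup.card_le_of_le hP'S
      exact ih (Nat.card S - Nat.card P') (by omega) P' rfl φ' hφ'
    have inner : ∀ (Q : Subgroup Ω) (ψ : Q →* Ω), AlpGen F p Q ψ → Nat.card P ≤ Nat.card Q →
        ExtMod F T Q ψ := by
      intro Q ψ h
      induction h with
      | @aut Q R hR α hα hQR =>
        intro hcard
        have hRS : R ≤ S := hR.1.1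
        haveI : Finite R := finite_of_le hRS
        have hQR' : Nat.card Q ≤ Nat.card R := Subgroup.card_le_of_le hQR
        have hα' := (mem_autGroup_iff F hRS α).mp hα
        by_cases hTR : T ≤ R
        · have heq : R = R ⊔ T := (sup_eq_left.mpr hTR).symm
          have hψ := cast_mem F heq hα'
          refine ExtMod.of_restrict F hQR hψ (fun x => ?_)
          have : ((R.subtype.comp α.toMonoidHom).comp (Subgroup.inclusion heq.ge))
              (Subgroup.inclusion le_sup_left x) = (R.subtype.comp α.toMonoidHom) x := rfl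
          rw [this, inv_mul_cancel]
          exact T.one_mem
        · obtain ⟨ψ', hψ', hψ'e⟩ := ExtMod.aut_step hS F hT hR hTR
            (fun P' φ' hlt hφ' => IHo P' φ' (by omega) hφ') α hα
          exact ExtMod.of_restrict F hQR hψ' hψ'e
      | @comp P₀ Q₀ φ₁ φ₂ hφ₁ hφ₂ h ih1 ih2 =>
        intro hcard
        have hQ₀S : Q₀ ≤ S := hom_le F hφ₂.mem_hom
        haveI : Finite Q₀ := finite_of_le hQ₀S
        have hinj : Function.Injective (φ₁.codRestrict Q₀ h) := by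
          intro a b hab
          apply F.injective_of_mem hφ₁.mem_hom
          exact congrArg (fun z : Q₀ => (z : Ω)) hab
        have hle : Nat.card P₀ ≤ Nat.card Q₀ := Nat.card_le_card_of_injective _ hinj
        exact ExtMod.comp F hT (ih1 hcard) (ih2 (hcard.trans hle)) h
    exact inner P φ (alperin hS F hF P φ hφ) le_rfl
  intro P φ hφ
  exact key _ P rfl φ hφ

end Cfsg.Agent.Lib.Helper85
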