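import Cfsg.Agent.S5079
import Cfsg.Agent.Lib.Helper87.FusionBasic
import Cfsg.Prelude.Def_FusionComponents

set_option autoImplicit false

namespace Cfsg.Agent.Lib.Helper85

open Cfsg Cfsg.FusionSystem Cfsg.Agent.Lib.Helper87

variable {Ω : Type*} [Group Ω] {S : Subgroup Ω}

/-- In a saturated system, if `P` is fully normalized and `Q` is conjugate to `P`, there is a map of
the system `N_S(Q) → N_S(P)` carrying `Q` onto `P`. -/
theorem exists_hom_normalizer_of_fullyNormalized [Finite S] {p : ℕ} [Fact p.Prime]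
    (hS : IsPGroup p S) (F : FusionSystem S) (hF : F.IsSaturated p) {P Q : Subgroup Ω}
    (hP : F.IsFullyNormalized P) (hQP : F.IsConj Q P) :
    ∃ χ ∈ F.Hom (normalizerIn S Q), (∀ x, χ x ∈ normalizerIn S P) ∧
      (∀ x : normalizerIn S Q, (x : Ω) ∈ Q → χ x ∈ P) ∧
      ∀ y ∈ P, ∃ x : normalizerIn S Q, (x : Ω) ∈ Q ∧ χ x = y := by
  obtain ⟨R, hPR, hfa, hrec⟩ := hF P hP.1
  obtain ⟨φ₁, hφ₁, hφ₁N, hφ₁P⟩ := Cfsg.Agent.S5079.result p hS F R P hfa hrec hPR
  obtain ⟨φ₂, hφ₂, hφ₂N, hφ₂Q⟩ :=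
    Cfsg.Agent.S5079.result p hS F R Q hfa hrec (isConj_trans F hQP hPR)
  have hcard : Nat.card (normalizerIn S R) ≤ Nat.card (normalizerIn S P) := hP.2 R hPR
  have hfinR : Finite (normalizerIn S R) :=
    Finite.of_injective _ (Subgroup.inclusion_injective (normalizerIn_le S R))
  have hfinP : Finite (normalizerIn S P) :=
    Finite.of_injective _ (Subgroup.inclusion_injective (normalizerIn_le S P))
  -- the range of φ₁ is all of N_S(R)
  have hrange : φ₁.range = normalizerIn S R := by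
    apply Subgroup.eq_of_le_of_card_ge
    · rintro _ ⟨x, rfl⟩
      exact hφ₁N x
    · have : Nat.card φ₁.range = Nat.card (normalizerIn S P) :=
        (Nat.card_congr (MonoidHom.ofInjective (F.injective_of_mem hφ₁)).toEquiv).symm
      rw [this]
      exact hcard
  obtain ⟨ψ, hψ, hψinv⟩ := F.inv_mem hφ₁
  have hmaps : ∀ x : normalizerIn S Q, φ₂ x ∈ φ₁.range := fun x => hrange ▸ hφ₂N x
  refine ⟨ψ.comp (φ₂.codRestrict φ₁.range hmaps), F.comp_mem hφ₂ hψ hmaps, ?_, ?_, ?_⟩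
  · intro x
    obtain ⟨y, hy⟩ := hmaps x
    show ψ ⟨φ₂ x, hmaps x⟩ ∈ normalizerIn S P
    have e : (⟨φ₂ x, hmaps x⟩ : φ₁.range) = ⟨φ₁ y, ⟨y, rfl⟩⟩ := Subtype.ext hy.symm
    rw [e, hψinv y]
    exact y.2
  · intro x hx
    show ψ ⟨φ₂ x, hmaps x⟩ ∈ P
    have h1 : φ₂ x ∈ R := by
      rw [← hφ₂Q]
      exact ⟨x, Subgroup.mem_subgroupOf.mpr hx, rfl⟩
    rw [← hφ₁P] at h1
    obtain ⟨y, hy, hyx⟩ := h1
    have e : (⟨φ₂ x, hmaps x⟩ : φ₁.range) = ⟨φ₁ y, ⟨y, rfl⟩⟩ := Subtype.ext hyx.symm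
    rw [e, hψinv y]
    exact Subgroup.mem_subgroupOf.mp hy
  · intro y hy
    have hyN : y ∈ normalizerIn S P := ⟨hP.1 hy, Subgroup.le_normalizer hy⟩
    have h1 : φ₁ ⟨y, hyN⟩ ∈ R := by
      rw [← hφ₁P]
      exact ⟨⟨y, hyN⟩, Subgroup.mem_subgroupOf.mpr hy, rfl⟩
    rw [← hφ₂Q] at h1
    obtain ⟨x, hx, hxy⟩ := h1
    refine ⟨x, Subgroup.mem_subgroupOf.mp hx, ?_⟩
    show ψ ⟨φ₂ x, hmaps x⟩ = y
    have e : (⟨φ₂ x, hmaps x⟩ : φ₁.range) = ⟨φ₁ ⟨y, hyN⟩, ⟨⟨y, hyN⟩, rfl⟩⟩ := Subtype.ext hxy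
    rw [e, hψinv ⟨y, hyN⟩]

/-- If `U` is strongly closed in a saturated system `F`, `P ≤ U` is fully normalized in `F` and
`Q ≤ U` is `F`-conjugate to `P`, then `|N_U(Q)| ≤ |N_U(P)|`. -/
theorem card_normalizerIn_le_of_stronglyClosed [Finite S] {p : ℕ} [Fact p.Prime]
    (hS : IsPGroup p S) (F : FusionSystem S) (hF : F.IsSaturated p) {U P Q : Subgroup Ω}
    (hU : F.StronglyClosed U) (hP : F.IsFullyNormalized P) (hQP : F.IsConj Q P) :
    Nat.card (normalizerIn U Q) ≤ Nat.card (normalizerIn U P) := by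
  obtain ⟨χ, hχ, hχN, -, -⟩ := exists_hom_normalizer_of_fullyNormalized hS F hF hP hQP
  have hle : normalizerIn U Q ≤ normalizerIn S Q := inf_le_inf_right _ hU.1
  have hχ' := restrict_mem F hχ hle
  have hval : ∀ x : normalizerIn U Q, (χ.comp (Subgroup.inclusion hle)) x ∈ normalizerIn U P := by
    intro x
    refine ⟨hU.2 (normalizerIn U Q) inf_le_left _ hχ' x, (hχN _).2⟩
  have hfin : Finite (normalizerIn U P) :=
    Finite.of_injective _ (Subgroup.inclusion_injective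
      ((inf_le_left : normalizerIn U P ≤ U).trans hU.1))
  apply Nat.card_le_card_of_injective ((χ.comp (Subgroup.inclusion hle)).codRestrict _ hval)
  intro a b hab
  apply F.injective_of_mem hχ'
  exact congrArg (fun z : normalizerIn U P => (z : Ω)) hab

/-- A subsystem conjugacy is a conjugacy in the big system. -/
theorem IsSubsystemOf.isConj {T : Subgroup Ω} {E : FusionSystem T} {F : FusionSystem S}
    (h : E.IsSubsystemOf F) {P Q : Subgroup Ω} (hPQ : E.IsConj P Q) : F.IsConj P Q := by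
  obtain ⟨φ, hφ, hr⟩ := hPQ
  exact ⟨φ, h P hφ, hr⟩

/-- Normal case: fully `F`-normalized subgroups of `U` are fully `D`-normalized for `D ⊴ F`
(indeed for any subsystem over a strongly closed subgroup). -/
theorem fullyNormalized_of_stronglyClosed [Finite S] {p : ℕ} [Fact p.Prime]
    (hS : IsPGroup p S) (F : FusionSystem S) (hF : F.IsSaturated p) {U : Subgroup Ω}
    (D : FusionSystem U) (hDF : D.IsSubsystemOf F) (hU : F.StronglyClosed U) {P : Subgroup Ω}
    (hPU : P ≤ U) (hP : F.IsFullyNormalized P) : D.IsFullyNormalized P := by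
  refine ⟨hPU, fun Q hPQ => ?_⟩
  exact card_normalizerIn_le_of_stronglyClosed hS F hF hU hP
    (isConj_symm F (IsSubsystemOf.isConj hDF hPQ))

theorem IsSubnormalIn.le {T : Subgroup Ω} {E : FusionSystem T} {F : FusionSystem S} {p : ℕ}
    (h : E.IsSubnormalIn F p) : T ≤ S := by
  induction h with
  | refl F p => exact le_rfl
  | step _ hDF ih => exact ih.trans hDF.1.2.2.2.1.1

/-- Fully normalized subgroups stay fully normalized in subnormal subsystems. -/
theorem fullyNormalized_of_subnormal {T : Subgroup Ω} {E : FusionSystem T} {F : FusionSystem S}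
    {p : ℕ} (hE : E.IsSubnormalIn F p) :
    ∀ [Finite S] [Fact p.Prime], IsPGroup p S → F.IsSaturated p →
      ∀ P : Subgroup Ω, P ≤ T → F.IsFullyNormalized P → E.IsFullyNormalized P := by
  induction hE with
  | refl F p => intro _ _ _ _ P _ hP; exact hP
  | step hED hDF ih =>
    rename_i T U S E D F p
    intro _ _ hS hF P hPT hP
    have hUS : U ≤ S := hDF.1.2.2.2.1.1
    haveI : Finite U := Finite.of_injective _ (Subgroup.inclusion_injective hUS)
    have hUp : IsPGroup p U := hS.to_le hUS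
    have hTU : T ≤ U := IsSubnormalIn.le hED
    have hPD : D.IsFullyNormalized P :=
      fullyNormalized_of_stronglyClosed hS F hF D hDF.1.2.2.1 hDF.1.2.2.2.1 (hPT.trans hTU) hP
    exact ih hUp hDF.1.1 P hPT hPD

end Cfsg.Agent.Lib.Helper85
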