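import Cfsg.Agent.Lib.Helper85.Saturated

set_option autoImplicit false

namespace Cfsg.Agent.Lib.Helper85

open Subgroup
open scoped Pointwise

variable {G : Type*} [Group G]

theorem mem_fusionSystemOfSubgroup_hom {H T P : Subgroup G} {hTH : T ≤ H} {φ : P →* G} :
    φ ∈ (Cfsg.fusionSystemOfSubgroup H T hTH).Hom P ↔
      P ≤ T ∧ (∀ x : P, φ x ∈ T) ∧ ∃ g ∈ H, ∀ x : P, φ x = g * (x : G) * g⁻¹ := Iff.rfl

/-- `Aut_E(Q)` for `E = F_T(H)` and `Q ≤ T` is `Aut_H(Q)`. -/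
theorem autGroup_fusionSystemOfSubgroup {H T Q : Subgroup G} (hTH : T ≤ H) (hQ : Q ≤ T) :
    (Cfsg.fusionSystemOfSubgroup H T hTH).autGroup Q = Cfsg.autInducedBy H Q := by
  unfold Cfsg.FusionSystem.autGroup Cfsg.autInducedBy
  congr 1
  ext α
  constructor
  · rintro ⟨-, -, g, hgH, hg⟩
    exact ⟨g, hgH, fun x => hg x⟩
  · rintro ⟨g, hgH, hg⟩
    exact ⟨hQ, fun x => hQ (α x).2, g, hgH, fun x => hg x⟩

theorem conjHom_mem_fusionSystemOfSubgroup {H T P : Subgroup G} (hTH : T ≤ H) (hP : P ≤ T) (g : G)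
    (hgH : g ∈ H) (hg : P.map (cj g) ≤ T) :
    Cfsg.conjHom P g ∈ (Cfsg.fusionSystemOfSubgroup H T hTH).Hom P :=
  ⟨hP, fun x => hg ⟨x, x.2, rfl⟩, g, hgH, fun _ => rfl⟩

theorem isConj_fusionSystemOfSubgroup_iff {H T P Q : Subgroup G} {hTH : T ≤ H} :
    (Cfsg.fusionSystemOfSubgroup H T hTH).IsConj P Q ↔
      P ≤ T ∧ Q ≤ T ∧ ∃ g ∈ H, P.map (cj g) = Q := by
  constructor
  · rintro ⟨φ, ⟨hP, hφS, g, hgH, hg⟩, rfl⟩
    refine ⟨hP, ?_, g, hgH, ?_⟩
    · rintro _ ⟨x, rfl⟩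
      exact hφS x
    · ext y
      constructor
      · rintro ⟨x, hx, rfl⟩
        exact ⟨⟨x, hx⟩, hg _⟩
      · rintro ⟨x, rfl⟩
        exact ⟨x, x.2, (hg x).symm⟩
  · rintro ⟨hP, hQ, g, hgH, rfl⟩
    exact ⟨Cfsg.conjHom P g, conjHom_mem_fusionSystemOfSubgroup hTH hP g hgH hQ, range_conjHom P g⟩

theorem map_cj_of_mem {H : Subgroup G} {g : G} (hg : g ∈ H) : H.map (cj g) = H := by
  ext y
  rw [mem_map_cj]
  constructor
  · intro h
    have : y = g * (g⁻¹ * y * g) * g⁻¹ := by group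
    rw [this]
    exact H.mul_mem (H.mul_mem hg h) (H.inv_mem hg)
  · intro h
    exact H.mul_mem (H.mul_mem (H.inv_mem hg) h) hg

theorem map_cj_inf (A B : Subgroup G) (g : G) : (A ⊓ B).map (cj g) = A.map (cj g) ⊓ B.map (cj g) :=
  Subgroup.map_inf A B (cj g) (cj_injective g)

theorem le_normalizer_inf {A B K : Subgroup G} (hA : K ≤ normalizer (A : Set G))
    (hB : K ≤ normalizer (B : Set G)) : K ≤ normalizer ((A ⊓ B : Subgroup G) : Set G) := by
  intro k hk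
  rw [mem_normalizer_iff]
  intro x
  rw [mem_inf, mem_inf, ← mem_normalizer_iff.mp (hA hk) x, ← mem_normalizer_iff.mp (hB hk) x]

section Finite

variable [Finite G] {p : ℕ} [Fact p.Prime]

/-- Every `P ≤ T` has an `H`-conjugate in `T` whose normalizer in `T` is Sylow in its normalizer in `H`. -/
theorem exists_conj_normalizer_sylIn_rel {H T : Subgroup G} (hTH : T ≤ H) (hT : SylIn p T H)
    {P : Subgroup G} (hP : P ≤ T) :
    ∃ g ∈ H, P.map (cj g) ≤ T ∧
      SylIn p (Cfsg.FusionSystem.normalizerIn T (P.map (cj g)))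
        (H ⊓ normalizer ((P.map (cj g) : Subgroup G) : Set G)) := by
  have hTp : IsPGroup p T := hT.isPGroup hTH
  set N := H ⊓ normalizer (P : Set G) with hNdef
  obtain ⟨R₀⟩ : Nonempty (Sylow p N) := Sylow.nonempty
  have hR := sylow_map_subtype_sylIn R₀
  set R := (R₀ : Subgroup N).map N.subtype with hRdef
  have hRN : R ≤ N := map_subtype_le _
  have hRp : IsPGroup p R := R₀.isPGroup'.map _
  have hPN : P ≤ N := le_inf (hP.trans hTH) le_normalizer
  have hPnormal : (P.subgroupOf N).Normal := by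
    rw [normal_subgroupOf_iff_le_normalizer hPN]
    exact inf_le_right
  have hPp : IsPGroup p (P.subgroupOf N) := (hTp.to_le hP).comap_subtype
  have hPR₀ : P.subgroupOf N ≤ R₀ := hPp.le_sylow_of_normal R₀
  have hPR : P ≤ R := by
    intro x hx
    exact ⟨⟨x, hPN hx⟩, hPR₀ (mem_subgroupOf.mpr hx), rfl⟩
  obtain ⟨g, hgH, hg⟩ := hT.exists_conj_le (hRN.trans inf_le_left) hRp
  refine ⟨g, hgH, (Subgroup.map_mono hPR).trans hg, ?_⟩
  have hnorm : normalizer ((P.map (cj g) : Subgroup G) : Set G) = (normalizer (P : Set G)).map (cj g) :=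
    (map_equiv_normalizer_eq P (MulAut.conj g)).symm
  have hN' : H ⊓ normalizer ((P.map (cj g) : Subgroup G) : Set G) = N.map (cj g) := by
    rw [hnorm, hNdef, map_cj_inf, map_cj_of_mem hgH]
  have hle : R.map (cj g) ≤ Cfsg.FusionSystem.normalizerIn T (P.map (cj g)) := by
    refine le_inf hg ?_
    rw [hnorm]
    exact Subgroup.map_mono (hRN.trans inf_le_right)
  have hKle : Cfsg.FusionSystem.normalizerIn T (P.map (cj g)) ≤
      H ⊓ normalizer ((P.map (cj g) : Subgroup G) : Set G) := inf_le_inf_right _ hTH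
  apply SylIn.of_card_ge hKle (hTp.to_le inf_le_left)
  rw [hN', card_map_cj, ← (sylIn_iff_card hRN).mp hR, ← card_map_cj g R]
  exact Subgroup.card_le_of_le hle

/-- Relative version: `Aut_T(Q)` is Sylow in `Aut_H(Q)` when `N_T(Q)` is Sylow in `N_H(Q)`. -/
theorem SylIn.autInducedBy_rel {H T Q : Subgroup G} (hTH : T ≤ H)
    (hN : SylIn p (Cfsg.FusionSystem.normalizerIn T Q) (H ⊓ normalizer (Q : Set G))) :
    SylIn p (Cfsg.autInducedBy T Q) (Cfsg.autInducedBy H Q) := by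
  set M := H ⊓ normalizer (Q : Set G) with hM
  obtain ⟨R, hR⟩ := hN
  have hmaps : ∀ n : M, (Q.normalizerMonoidHom.comp (Subgroup.inclusion (inf_le_right : M ≤ _))) n ∈
      Cfsg.autInducedBy H Q := by
    intro n
    rw [mem_autInducedBy_iff]
    exact ⟨n, n.2.1, fun x => rfl⟩
  let f : M →* Cfsg.autInducedBy H Q :=
    (Q.normalizerMonoidHom.comp (Subgroup.inclusion (inf_le_right : M ≤ _))).codRestrict _ hmaps
  have hf : ∀ (n : M) (x : Q), (((f n : MulAut Q) x : Q) : G) = (n : G) * x * (n : G)⁻¹ :=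
    fun n x => rfl
  have hsurj : Function.Surjective f := by
    rintro ⟨α, hα⟩
    obtain ⟨g, hgH, hg⟩ := mem_autInducedBy_iff.mp hα
    have hgN : g ∈ normalizer (Q : Set G) := by
      rw [mem_normalizer_iff]
      intro n
      constructor
      · intro hn
        rw [← hg ⟨n, hn⟩]
        exact (α _).2
      · intro hn
        have h1 := hg (α.symm ⟨g * n * g⁻¹, hn⟩)
        rw [MulEquiv.apply_symm_apply] at h1
        have h2 : n = ((α.symm ⟨g * n * g⁻¹, hn⟩ : Q) : G) := by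
          have : g * n * g⁻¹ = g * ((α.symm ⟨g * n * g⁻¹, hn⟩ : Q) : G) * g⁻¹ := h1
          exact mul_left_cancel (mul_right_cancel this)
        rw [h2]
        exact (α.symm _).2
    refine ⟨⟨g, hgH, hgN⟩, ?_⟩
    apply Subtype.ext
    ext x
    rw [hg x]
    rfl
  refine ⟨R.mapSurjective hsurj, ?_⟩
  rw [Sylow.coe_mapSurjective, hR]
  ext ⟨α, hα⟩
  rw [mem_subgroupOf]
  constructor
  · rintro ⟨n, hn, hnα⟩
    rw [SetLike.mem_coe, mem_subgroupOf] at hn
    show α ∈ Cfsg.autInducedBy T Q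
    rw [mem_autInducedBy_iff]
    refine ⟨n, hn.1, fun x => ?_⟩
    have : α = (f n : MulAut Q) := congrArg Subtype.val hnα.symm
    rw [this]
    rfl
  · intro h
    have h' : α ∈ Cfsg.autInducedBy T Q := h
    obtain ⟨g, hgT, hg⟩ := mem_autInducedBy_iff.mp h'
    have hgN : g ∈ normalizer (Q : Set G) := by
      rw [mem_normalizer_iff]
      intro n
      constructor
      · intro hn
        rw [← hg ⟨n, hn⟩]
        exact (α _).2
      · intro hn
        have h1 := hg (α.symm ⟨g * n * g⁻¹, hn⟩)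
        rw [MulEquiv.apply_symm_apply] at h1
        have h2 : n = ((α.symm ⟨g * n * g⁻¹, hn⟩ : Q) : G) := by
          have : g * n * g⁻¹ = g * ((α.symm ⟨g * n * g⁻¹, hn⟩ : Q) : G) * g⁻¹ := h1
          exact mul_left_cancel (mul_right_cancel this)
        rw [h2]
        exact (α.symm _).2
    refine ⟨⟨g, hTH hgT, hgN⟩, ?_, ?_⟩
    · rw [SetLike.mem_coe, mem_subgroupOf]
      exact ⟨hgT, hgN⟩
    · apply Subtype.ext
      ext x
      rw [hg x]
      rfl

theorem isFullyAutomized_of_sylIn_rel {H T Q : Subgroup G} (hTH : T ≤ H) (hQ : Q ≤ T)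
    (hN : SylIn p (Cfsg.FusionSystem.normalizerIn T Q) (H ⊓ normalizer (Q : Set G))) :
    (Cfsg.fusionSystemOfSubgroup H T hTH).IsFullyAutomized p Q := by
  refine ⟨hQ, ?_⟩
  rw [autGroup_fusionSystemOfSubgroup hTH hQ]
  exact SylIn.autInducedBy_rel hTH hN

omit [Finite G] [Fact p.Prime] in
theorem extender_le_of_conj_rel {H T P Q : Subgroup G} (hTH : T ≤ H) (φ : P →* G) (g : G)
    (hgH : g ∈ H) (hg : ∀ x : P, φ x = g * (x : G) * g⁻¹) (hPQ : P.map (cj g) = Q) :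
    Cfsg.FusionSystem.extender T P φ ≤
      Cfsg.FusionSystem.normalizerIn T P ⊓
        (Cfsg.FusionSystem.normalizerIn T Q ⊔ (H ⊓ centralizer (Q : Set G))).comap (cj g) := by
  unfold Cfsg.FusionSystem.extender
  rw [closure_le]
  rintro x ⟨hxS, hxN, h, hhS, hh⟩
  refine ⟨⟨hxS, hxN⟩, ?_⟩
  show cj g x ∈ Cfsg.FusionSystem.normalizerIn T Q ⊔ (H ⊓ centralizer (Q : Set G))
  have hxP : ∀ y : P, x * (y : G) * x⁻¹ ∈ P := fun y => (mem_normalizer_iff.mp hxN y).mp y.2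
  have hc : h⁻¹ * cj g x ∈ centralizer (Q : Set G) := by
    rw [mem_centralizer_iff]
    intro q hq
    rw [← hPQ] at hq
    obtain ⟨y, hy, rfl⟩ := hq
    have h1 := hh ⟨y, hy⟩ (hxP ⟨y, hy⟩)
    rw [hg, hg] at h1
    simp only [cj_apply] at h1 ⊢
    have h2 : h⁻¹ * (g * x * g⁻¹) * (g * y * g⁻¹) = h⁻¹ * (g * (x * y * x⁻¹) * g⁻¹) * h * (h⁻¹ * (g * x * g⁻¹)) := by
      group
    have h3 : g * y * g⁻¹ * (h⁻¹ * (g * x * g⁻¹)) = h⁻¹ * (h * (g * y * g⁻¹) * h⁻¹) * h * (h⁻¹ * (g * x * g⁻¹)) := by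
      group
    rw [h2, h3, h1]
  have hcH : h⁻¹ * cj g x ∈ H := by
    rw [cj_apply]
    exact H.mul_mem (H.inv_mem (hTH hhS)) (H.mul_mem (H.mul_mem hgH (hTH hxS)) (H.inv_mem hgH))
  have hxQ : cj g x ∈ normalizer (Q : Set G) := by
    rw [← hPQ, normalizer_map_cj]
    exact ⟨x, hxN, rfl⟩
  have hhN : h ∈ normalizer (Q : Set G) := by
    have h1 : h = cj g x * (h⁻¹ * cj g x)⁻¹ := by group
    rw [h1]
    exact mul_mem hxQ (inv_mem (centralizer_le_normalizer _ hc))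
  have h1 : cj g x = h * (h⁻¹ * cj g x) := by group
  rw [h1]
  exact mul_mem_sup ⟨hhS, hhN⟩ ⟨hcH, hc⟩

/-- Relative Sylow extension lemma (cf. S5123). -/
theorem sylow_extension_rel {H T : Subgroup G} (hTH : T ≤ H) (hTp : IsPGroup p T)
    (P Q : Subgroup G) (g : G) (hg : P.map (cj g) = Q)
    (hN : SylIn p (Cfsg.FusionSystem.normalizerIn T Q) (H ⊓ normalizer (Q : Set G))) :
    ∃ h ∈ H ⊓ centralizer (Q : Set G),
      ((Cfsg.FusionSystem.normalizerIn T P) ⊓
        (Cfsg.FusionSystem.normalizerIn T Q ⊔ (H ⊓ centralizer (Q : Set G))).comap (cj g)).map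
          (cj (h * g)) ≤ T := by
  set K := Cfsg.FusionSystem.normalizerIn T Q with hK
  set C := H ⊓ centralizer (Q : Set G) with hC
  set N := (Cfsg.FusionSystem.normalizerIn T P) ⊓ (K ⊔ C).comap (cj g) with hNdef
  have hKH : K ≤ H ⊓ normalizer (Q : Set G) := inf_le_inf_right _ hTH
  have hCH : C ≤ H ⊓ normalizer (Q : Set G) := inf_le_inf_left _ (centralizer_le_normalizer _)
  have hKM : SylIn p K (K ⊔ C) := hN.of_le le_sup_left (sup_le hKH hCH)
  have hNS : N ≤ T := inf_le_left.trans inf_le_left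
  have hLp : IsPGroup p (N.map (cj g)) := (hTp.to_le hNS).map _
  have hLM : N.map (cj g) ≤ K ⊔ C := Subgroup.map_le_iff_le_comap.mpr inf_le_right
  obtain ⟨y, hyM, hy⟩ := hKM.exists_conj_le hLM hLp
  have hKC : K ≤ normalizer (C : Set G) := by
    apply le_normalizer_inf
    · exact (hKH.trans inf_le_left).trans le_normalizer
    · exact (hKH.trans inf_le_right).trans (normalizer_le_normalizer_centralizer _)
  obtain ⟨a, ha, c, hc, rfl⟩ := mem_sup_of_le_normalizer hKC hyM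
  refine ⟨c, hc, ?_⟩
  rintro _ ⟨x, hx, rfl⟩
  have h1 : cj (a * c) (cj g x) ∈ K := hy ⟨cj g x, ⟨x, hx, rfl⟩, rfl⟩
  have h2 : a⁻¹ * cj (a * c) (cj g x) * a ∈ K := K.mul_mem (K.mul_mem (K.inv_mem ha) h1) ha
  have h3 : a⁻¹ * cj (a * c) (cj g x) * a = cj (c * g) x := by
    simp only [cj_apply]
    group
  rw [h3] at h2
  exact (inf_le_left : K ≤ T) h2

theorem isReceptive_of_sylIn_rel {H T Q : Subgroup G} (hTH : T ≤ H) (hTp : IsPGroup p T)
    (hQ : Q ≤ T)
    (hN : SylIn p (Cfsg.FusionSystem.normalizerIn T Q) (H ⊓ normalizer (Q : Set G))) :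
    (Cfsg.fusionSystemOfSubgroup H T hTH).IsReceptive Q := by
  refine ⟨hQ, ?_⟩
  rintro P φ ⟨hP, hφS, g, hgH, hg⟩ hr
  have hPQ : P.map (cj g) = Q := by
    rw [← hr]
    ext y
    constructor
    · rintro ⟨x, hx, rfl⟩
      exact ⟨⟨x, hx⟩, hg _⟩
    · rintro ⟨x, rfl⟩
      exact ⟨x, x.2, (hg x).symm⟩
  have hext := extender_le_of_conj_rel hTH φ g hgH hg hPQ
  obtain ⟨h, hh, hle⟩ := sylow_extension_rel hTH hTp P Q g hPQ hN
  have hextS : Cfsg.FusionSystem.extender T P φ ≤ T :=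
    hext.trans (inf_le_left.trans inf_le_left)
  refine ⟨Cfsg.conjHom _ (h * g), ⟨hextS, fun x => ?_, h * g, H.mul_mem hh.1 hgH, fun _ => rfl⟩, ?_⟩
  · exact hle ⟨x, hext x.2, rfl⟩
  · intro x hxP _
    show h * g * x * (h * g)⁻¹ = φ ⟨x, hxP⟩
    rw [hg]
    have hq : g * x * g⁻¹ ∈ Q := hPQ ▸ ⟨x, hxP, rfl⟩
    have h1 := (mem_centralizer_iff.mp hh.2) _ hq
    calc h * g * x * (h * g)⁻¹ = h * (g * x * g⁻¹) * h⁻¹ := by group
      _ = (g * x * g⁻¹) * h * h⁻¹ := by rw [← h1]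
      _ = g * x * g⁻¹ := by group

/-- The fusion system of a subgroup `H` of a finite group on a Sylow `p`-subgroup `T` of `H` is
saturated. -/
theorem fusionSystemOfSubgroup_isSaturated {H T : Subgroup G} (hTH : T ≤ H) (hT : SylIn p T H) :
    (Cfsg.fusionSystemOfSubgroup H T hTH).IsSaturated p := by
  intro P hP
  have hTp : IsPGroup p T := hT.isPGroup hTH
  obtain ⟨g, hgH, hQS, hN⟩ := exists_conj_normalizer_sylIn_rel hTH hT hP
  exact ⟨P.map (cj g), isConj_fusionSystemOfSubgroup_iff.mpr ⟨hP, hQS, g, hgH, rfl⟩,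
    isFullyAutomized_of_sylIn_rel hTH hQS hN, isReceptive_of_sylIn_rel hTH hTp hQS hN⟩

end Finite

end Cfsg.Agent.Lib.Helper85
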