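import Cfsg.Agent.Lib.Helper87.Lemma26
import Cfsg.Agent.Lib.Helper87.Chain

set_option autoImplicit false

namespace Cfsg.Agent.Lib.Helper85

open Cfsg Cfsg.FusionSystem Cfsg.Agent.Lib.Helper87

variable {Ω : Type*} [Group Ω] {S : Subgroup Ω}

/-- Powers of an automorphism of `N` restricting to `α` on `P` restrict to powers of `α`. -/
theorem pow_restrict {P N : Subgroup Ω} (hPN : P ≤ N) (ψ : MulAut N) (α : MulAut P)
    (h : ∀ x : P, ((ψ ⟨x, hPN x.2⟩ : N) : Ω) = α x) (n : ℕ) (x : P) :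
    (((ψ ^ n) ⟨x, hPN x.2⟩ : N) : Ω) = (α ^ n) x := by
  induction n generalizing x with
  | zero => simp
  | succ n ih =>
    rw [pow_succ, pow_succ, MulAut.mul_apply, MulAut.mul_apply]
    have e : ψ ⟨x, hPN x.2⟩ = ⟨α x, hPN (α x).2⟩ := Subtype.ext (h x)
    rw [e, ih]

/-- A finite subgroup is normalized by `g` as soon as `g K g⁻¹ ⊆ K`. -/
theorem mem_normalizer_of_conj_mem {K : Subgroup Ω} [Finite K] {g : Ω}
    (h : ∀ k ∈ K, g * k * g⁻¹ ∈ K) : g ∈ Subgroup.normalizer (K : Set Ω) := by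
  rw [Subgroup.mem_normalizer_iff]
  intro w
  refine ⟨h w, fun hw => ?_⟩
  let f : K → K := fun k => ⟨g * k * g⁻¹, h k k.2⟩
  have hinj : Function.Injective f := by
    intro a b hab
    have : g * (a : Ω) * g⁻¹ = g * (b : Ω) * g⁻¹ := congrArg Subtype.val hab
    exact Subtype.ext (mul_left_cancel (mul_right_cancel this))
  obtain ⟨k, hk⟩ := (Finite.injective_iff_surjective.mp hinj) ⟨g * w * g⁻¹, hw⟩
  have : g * (k : Ω) * g⁻¹ = g * w * g⁻¹ := congrArg Subtype.val hk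
  have e : (k : Ω) = w := mul_left_cancel (mul_right_cancel this)
  rw [← e]
  exact k.2

/-- If `α ∈ Aut_F(P)` normalizes `Aut_S(P)` and `P` is receptive, then `α` extends to an
`F`-automorphism of `N_S(P)`. -/
theorem exists_aut_normalizer_extending [Finite S] (F : FusionSystem S) {P : Subgroup Ω}
    (hP : P ≤ S) (hrec : F.IsReceptive P) {α : MulAut P} (hα : α ∈ F.autGroup P)
    (hnorm : ∀ β ∈ autInducedBy S P, α * β * α⁻¹ ∈ autInducedBy S P) :
    ∃ ψ : MulAut (normalizerIn S P), ψ ∈ F.autGroup (normalizerIn S P) ∧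
      ∀ x : P, ((ψ ⟨x, le_normalizerIn hP x.2⟩ : normalizerIn S P) : Ω) = α x := by
  have hφ := (mem_autGroup_iff F hP α).mp hα
  have hr : (P.subtype.comp α.toMonoidHom).range = P := by
    apply le_antisymm
    · rintro _ ⟨x, rfl⟩
      exact (α x).2
    · intro y hy
      exact ⟨α.symm ⟨y, hy⟩, by simp⟩
  have H : ∀ g ∈ normalizerIn S P, ∃ h ∈ S, ∀ (x : P) (hx : g * (x : Ω) * g⁻¹ ∈ P),
      (P.subtype.comp α.toMonoidHom) ⟨g * x * g⁻¹, hx⟩ =
        h * (P.subtype.comp α.toMonoidHom) x * h⁻¹ := by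
    intro g hg
    have hc : conjAut P g hg.2 ∈ autInducedBy S P := conjAut_mem_autInducedBy hg.1 hg.2
    obtain ⟨h, hhS, hh⟩ := (mem_autInducedBy_iff S P _).mp (hnorm _ hc)
    refine ⟨h, hhS, fun x hx => ?_⟩
    have h1 := hh (α x)
    show ((α ⟨g * x * g⁻¹, hx⟩ : P) : Ω) = h * ((α x : P) : Ω) * h⁻¹
    rw [← h1]
    have h2 : (α * conjAut P g hg.2 * α⁻¹) (α x) = α (conjAut P g hg.2 x) := by
      simp [MulAut.mul_apply]
    rw [h2]
    rfl
  obtain ⟨ψ, hψ, hψe⟩ := extend_to_normalizer F hφ hr hrec H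
  have hPN : P ≤ normalizerIn S P := le_normalizerIn hP
  have hNS : normalizerIn S P ≤ S := normalizerIn_le S P
  haveI : Finite (normalizerIn S P) := finite_of_le hNS
  haveI : Finite P := finite_of_le hP
  -- ψ maps P onto P
  have hψP : ∀ x : P, ψ ⟨x, hPN x.2⟩ = ((α x : P) : Ω) := fun x => hψe x (hPN x.2)
  have hval : ∀ n : normalizerIn S P, ψ n ∈ normalizerIn S P := by
    intro n
    refine ⟨hom_mem_S F hψ n, ?_⟩
    apply mem_normalizer_of_conj_mem
    intro k hk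
    obtain ⟨x, hx⟩ : ∃ x : P, k = ψ ⟨x, hPN x.2⟩ := by
      refine ⟨α.symm ⟨k, hk⟩, ?_⟩
      rw [hψP]; simp
    have hmem : (n : Ω) * (x : Ω) * (n : Ω)⁻¹ ∈ P :=
      (Subgroup.mem_normalizer_iff.mp n.2.2 _).mp x.2
    have e : ψ n * k * (ψ n)⁻¹ = ψ ⟨(n : Ω) * (x : Ω) * (n : Ω)⁻¹, hPN hmem⟩ := by
      rw [hx, ← map_inv, ← map_mul, ← map_mul]
      rfl
    rw [e]
    have := hψP ⟨_, hmem⟩
    rw [this]
    exact (α _).2
  have hinj : Function.Injective (ψ.codRestrict (normalizerIn S P) hval) := by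
    intro a b hab
    apply F.injective_of_mem hψ
    exact congrArg Subtype.val hab
  have hbij : Function.Bijective (ψ.codRestrict (normalizerIn S P) hval) :=
    ⟨hinj, Finite.injective_iff_surjective.mp hinj⟩
  refine ⟨MulEquiv.ofBijective (ψ.codRestrict (normalizerIn S P) hval) hbij, ?_, fun x => hψP x⟩
  rw [mem_autGroup_iff F hNS]
  have e : (normalizerIn S P).subtype.comp
      (MulEquiv.ofBijective (ψ.codRestrict (normalizerIn S P) hval) hbij).toMonoidHom = ψ := by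
    ext n
    rfl
  rw [e]
  exact hψ


/-- Key step of the Roberts–Shpectorov argument: if `P` is fully normalized, an `F`-automorphism
`ψ₁` of `N_S(P)` of `p`-power order restricts to `α₁` on `P`, and `N_S(P)` has a fully automized
conjugate, then `α₁` is induced by an element of `S`. -/
theorem aut_induced_of_extension [Finite S] {p : ℕ} [Fact p.Prime]
    (F : FusionSystem S) {P : Subgroup Ω} (hfn : F.IsFullyNormalized P)
    {N' : Subgroup Ω} (hc : F.IsConj (normalizerIn S P) N') (hfa : F.IsFullyAutomized p N')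
    (ψ₁ : MulAut (normalizerIn S P)) (hψ₁ : ψ₁ ∈ F.autGroup (normalizerIn S P)) (a : ℕ)
    (hψ₁p : ψ₁ ^ (p ^ a) = 1) (α₁ : MulAut P)
    (hres : ∀ x : P, ((ψ₁ ⟨x, le_normalizerIn hfn.1 x.2⟩ : normalizerIn S P) : Ω) = α₁ x) :
    α₁ ∈ autInducedBy S P := by
  have hP : P ≤ S := hfn.1
  have hPN : P ≤ normalizerIn S P := le_normalizerIn hP
  have hNS : normalizerIn S P ≤ S := normalizerIn_le S P
  have hN'S : N' ≤ S := hfa.1
  have hcardN : Nat.card (normalizerIn S P) = Nat.card N' := card_eq_of_isConj F hc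
  obtain ⟨θ₀, hθ₀, hr₀⟩ := hc
  let e₀ : normalizerIn S P ≃* N' := isoOfHom θ₀ (F.injective_of_mem hθ₀) hr₀
  have he₀ : ∀ z, ((e₀ z : N') : Ω) = θ₀ z := fun _ => rfl
  have hψ₂ : MulAut.congr e₀ ψ₁ ∈ F.autGroup N' := autGroup_congr_mem F hθ₀ hr₀ e₀ he₀ hψ₁
  have hψ₂p : (MulAut.congr e₀ ψ₁) ^ (p ^ a) = 1 := by
    rw [← map_pow, hψ₁p, map_one]
  have hT : Subgroup.zpowers (MulAut.congr e₀ ψ₁) ≤ F.autGroup N' :=
    (Subgroup.zpowers_le).mpr hψ₂
  have hTp : IsPGroup p (Subgroup.zpowers (MulAut.congr e₀ ψ₁)) := by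
    rintro ⟨t, ht⟩
    obtain ⟨k, rfl⟩ := Subgroup.mem_zpowers_iff.mp ht
    refine ⟨a, Subtype.ext ?_⟩
    show ((MulAut.congr e₀ ψ₁) ^ k) ^ (p ^ a) = 1
    rw [← zpow_natCast, ← zpow_mul, mul_comm, zpow_mul, zpow_natCast, hψ₂p, one_zpow]
  obtain ⟨χ, hχ, hχT⟩ := exists_conj_into_autS F hfa _ hT hTp
  have h1 := hχT _ (Subgroup.mem_zpowers (MulAut.congr e₀ ψ₁))
  obtain ⟨g, hgS, hg⟩ := (mem_autInducedBy_iff S N' _).mp h1
  have hmaps₀ : ∀ z : normalizerIn S P, θ₀ z ∈ N' := fun z => hr₀ ▸ ⟨z, rfl⟩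
  have hχ' := (mem_autGroup_iff F hN'S χ).mp hχ
  have hθ := F.comp_mem hθ₀ hχ' hmaps₀
  set θ := (N'.subtype.comp χ.toMonoidHom).comp (θ₀.codRestrict N' hmaps₀) with hθdef
  have hθz : ∀ z : normalizerIn S P, θ z = ((χ (e₀ z) : N') : Ω) := fun z => rfl
  have hθinj : Function.Injective θ := F.injective_of_mem hθ
  have hθsurj : ∀ y ∈ N', ∃ z : normalizerIn S P, θ z = y := by
    intro y hy
    refine ⟨e₀.symm (χ.symm ⟨y, hy⟩), ?_⟩
    rw [hθz]
    simp
  have hstar : ∀ z : normalizerIn S P, θ (ψ₁ z) = g * θ z * g⁻¹ := by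
    intro z
    have h2 := hg (χ (e₀ z))
    rw [hθz, hθz, ← h2]
    have h3 : (χ * MulAut.congr e₀ ψ₁ * χ⁻¹) (χ (e₀ z)) = χ (e₀ (ψ₁ z)) := by
      simp [MulAut.mul_apply, MulAut.congr]
    rw [h3]
  have hθP := restrict_mem F hθ hPN
  set P' := (θ.comp (Subgroup.inclusion hPN)).range with hP'def
  have hconj : F.IsConj P P' := ⟨_, hθP, rfl⟩
  have hcard := hfn.2 P' hconj
  have hP'S : P' ≤ S := range_le F hθP
  haveI : Finite P' := finite_of_le hP'S
  have hP'elt : ∀ w ∈ P', ∃ x : P, w = θ ⟨x, hPN x.2⟩ := by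
    rintro _ ⟨x, rfl⟩
    exact ⟨x, rfl⟩
  have hP'mem : ∀ (x : Ω) (hx : x ∈ P), θ ⟨x, hPN hx⟩ ∈ P' := fun x hx => ⟨⟨x, hx⟩, rfl⟩
  have hN'le : N' ≤ normalizerIn S P' := by
    intro y hy
    obtain ⟨z, rfl⟩ := hθsurj y hy
    refine ⟨hN'S hy, mem_normalizer_of_conj_mem ?_⟩
    intro w hw
    obtain ⟨x, rfl⟩ := hP'elt w hw
    have hmem : (z : Ω) * (x : Ω) * (z : Ω)⁻¹ ∈ P :=
      (Subgroup.mem_normalizer_iff.mp z.2.2 _).mp x.2
    have e : θ z * θ ⟨x, hPN x.2⟩ * (θ z)⁻¹ = θ ⟨(z : Ω) * (x : Ω) * (z : Ω)⁻¹, hPN hmem⟩ := by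
      rw [← map_inv, ← map_mul, ← map_mul]
      rfl
    rw [e]
    exact hP'mem _ hmem
  have hgN : g ∈ normalizerIn S P' := by
    refine ⟨hgS, mem_normalizer_of_conj_mem ?_⟩
    intro w hw
    obtain ⟨x, rfl⟩ := hP'elt w hw
    rw [← hstar]
    have e : ψ₁ ⟨x, hPN x.2⟩ = ⟨α₁ x, hPN (α₁ x).2⟩ := Subtype.ext (hres x)
    rw [e]
    exact hP'mem _ (α₁ x).2
  haveI : Finite (normalizerIn S P') := finite_of_le (normalizerIn_le S P')
  have hN'eq : N' = normalizerIn S P' :=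
    Subgroup.eq_of_le_of_card_ge hN'le (by rw [← hcardN]; exact hcard)
  have hgN' : g ∈ N' := hN'eq ▸ hgN
  obtain ⟨n₀, hn₀⟩ := hθsurj g hgN'
  have hψ₁conj : ∀ z : normalizerIn S P, ψ₁ z = n₀ * z * n₀⁻¹ := by
    intro z
    apply hθinj
    rw [hstar, ← hn₀, map_mul, map_mul, map_inv]
  rw [mem_autInducedBy_iff]
  refine ⟨n₀, hNS n₀.2, fun x => ?_⟩
  rw [← hres x, hψ₁conj]
  rfl

/-- Roberts–Shpectorov: if `S` is fully automized and every fully normalized subgroup is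
receptive, then every fully normalized subgroup is fully automized. -/
theorem fullyAutomized_of_fullyNormalized_RS [Finite S] {p : ℕ} [Fact p.Prime]
    (hS : IsPGroup p S) (F : FusionSystem S) (hfaS : F.IsFullyAutomized p S)
    (hrec : ∀ P : Subgroup Ω, F.IsFullyNormalized P → F.IsReceptive P) :
    ∀ (d : ℕ) (P : Subgroup Ω), F.IsFullyNormalized P → Nat.card S - Nat.card P = d →
      F.IsFullyAutomized p P := by
  intro d
  induction d using Nat.strong_induction_on with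
  | _ d ih =>
  intro P hfn hd
  have hP : P ≤ S := hfn.1
  by_cases hPS : P = S
  · rw [hPS]; exact hfaS
  · have hPN : P ≤ normalizerIn S P := le_normalizerIn hP
    have hNS : normalizerIn S P ≤ S := normalizerIn_le S P
    have hlt : Nat.card P < Nat.card (normalizerIn S P) := card_lt_card_normalizerIn hS hP hPS
    haveI : Finite P := finite_of_le hP
    haveI : Finite (normalizerIn S P) := finite_of_le hNS
    have hASle : autInducedBy S P ≤ F.autGroup P := autInducedBy_le_autGroup F hP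
    have hASp : IsPGroup p (autInducedBy S P) := autInducedBy_isPGroup hS P
    have hASp' : IsPGroup p ((autInducedBy S P).subgroupOf (F.autGroup P)) :=
      hASp.comap_of_injective _ (Subgroup.subtype_injective _)
    obtain ⟨R, hR⟩ := hASp'.exists_le_sylow
    have hXp : IsPGroup p ((R : Subgroup (F.autGroup P)).map (F.autGroup P).subtype) :=
      R.isPGroup'.map _
    have hXA : (R : Subgroup (F.autGroup P)).map (F.autGroup P).subtype ≤ F.autGroup P := by
      rintro _ ⟨β, -, rfl⟩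
      exact β.2
    have hASX : autInducedBy S P ≤ (R : Subgroup (F.autGroup P)).map (F.autGroup P).subtype :=
      fun β hβ => ⟨⟨β, hASle hβ⟩, hR (Subgroup.mem_subgroupOf.mpr hβ), rfl⟩
    by_cases hEq : autInducedBy S P = (R : Subgroup (F.autGroup P)).map (F.autGroup P).subtype
    · refine ⟨hP, R, ?_⟩
      ext ⟨β, hβA⟩
      constructor
      · intro hβ
        rw [Subgroup.mem_subgroupOf, hEq]
        exact ⟨⟨β, hβA⟩, hβ, rfl⟩
      · intro hβ
        exact hR hβ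
    · exfalso
      obtain ⟨α, hαN, hαAS⟩ := exists_mem_normalizerIn_not_mem hXp hASX hEq
      have hαA : α ∈ F.autGroup P := hXA hαN.1
      have hnorm : ∀ β ∈ autInducedBy S P, α * β * α⁻¹ ∈ autInducedBy S P :=
        fun β hβ => (Subgroup.mem_normalizer_iff.mp hαN.2 β).mp hβ
      obtain ⟨ψ, hψ, hψres⟩ := exists_aut_normalizer_extending F hP (hrec P hfn) hαA hnorm
      have hpos : 0 < orderOf ψ := orderOf_pos ψ
      obtain ⟨a, m, hm, hord⟩ :=
        Nat.exists_eq_pow_mul_and_not_dvd hpos.ne' p (Nat.Prime.ne_one Fact.out)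
      have hcop : m.Coprime p := by
        rw [Nat.coprime_comm]
        exact (Nat.Prime.coprime_iff_not_dvd Fact.out).mpr hm
      have h1 : (ψ ^ m) ^ (p ^ a) = 1 := by
        rw [← pow_mul, mul_comm, ← hord, pow_orderOf_eq_one]
      have hres₁ : ∀ x : P, (((ψ ^ m) ⟨x, hPN x.2⟩ : normalizerIn S P) : Ω) = (α ^ m) x :=
        fun x => pow_restrict hPN ψ α hψres m x
      obtain ⟨N', hc, hfnN'⟩ := exists_fullyNormalized_conj F hNS
      have hcardN' : Nat.card (normalizerIn S P) = Nat.card N' := card_eq_of_isConj F hc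
      have hN'S : N' ≤ S := hfnN'.1
      have hN'le : Nat.card N' ≤ Nat.card S := Subgroup.card_le_of_le hN'S
      have hfaN' : F.IsFullyAutomized p N' :=
        ih (Nat.card S - Nat.card N') (by omega) N' hfnN' rfl
      have key := aut_induced_of_extension F hfn hc hfaN' (ψ ^ m)
        (Subgroup.pow_mem _ hψ m) a h1 (α ^ m) hres₁
      obtain ⟨b, hb⟩ := hXp ⟨α, hαN.1⟩
      have hαb : α ^ (p ^ b) = 1 := by
        have := congrArg Subtype.val hb
        simpa using this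
      have hco : m.Coprime (orderOf α) :=
        Nat.Coprime.coprime_dvd_right (orderOf_dvd_of_pow_eq_one hαb) (Nat.Coprime.pow_right b hcop)
      obtain ⟨u, hu⟩ := exists_pow_eq_self_of_coprime hco
      apply hαAS
      rw [← hu]
      exact Subgroup.pow_mem _ key u

/-- Roberts–Shpectorov criterion (backward direction). -/
theorem isSaturated_of_RS [Finite S] {p : ℕ} [Fact p.Prime]
    (hS : IsPGroup p S) (F : FusionSystem S) (hfaS : F.IsFullyAutomized p S)
    (hrec : ∀ P : Subgroup Ω, F.IsFullyNormalized P → F.IsReceptive P) : F.IsSaturated p := by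
  intro P hP
  obtain ⟨Q, hc, hfn⟩ := exists_fullyNormalized_conj F hP
  exact ⟨Q, hc, fullyAutomized_of_fullyNormalized_RS hS F hfaS hrec _ Q hfn rfl, hrec Q hfn⟩

end Cfsg.Agent.Lib.Helper85
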