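import Cfsg.Agent.Lib.Helper85.Morphism2

set_option autoImplicit false
set_option maxHeartbeats 400000

namespace Cfsg.Agent.Lib.Helper85

open Cfsg Cfsg.FusionSystem Cfsg.Agent.Lib.Helper87 Cfsg.Agent.S5132

variable {Ω : Type*} [Group Ω] {S : Subgroup Ω} {Ω' : Type*} [Group Ω'] {S' : Subgroup Ω'}

variable [Finite S] {p : ℕ} [Fact p.Prime] (hS : IsPGroup p S) (F : FusionSystem S)
  (F' : FusionSystem S') (α : S →* Ω') (hα : F.IsSurjectiveMorphism F' α)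

/-- conjugating the transport of an automorphism -/
theorem congr_trans_eq {P Q : Type*} [Group P] [Group Q] (e : P ≃* Q) (c : MulAut Q)
    (β : MulAut P) : MulAut.congr (e.trans c) β = c * MulAut.congr e β * c⁻¹ := by
  ext y
  simp [MulAut.congr, MulAut.inv_apply]

include hS hα in
/-- Receptive, fully automized subgroups containing the kernel have receptive images. -/
theorem isReceptive_image {Q : Subgroup Ω} (hK : kerSub α ≤ Q)
    (hfa : F.IsFullyAutomized p Q) (hrec : F.IsReceptive Q) :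
    F'.IsReceptive (imageAlong α Q) := by
  have hQ : Q ≤ S := hfa.1
  haveI : Finite Q := finite_of_le hQ
  have hrange : α.range = S' := hα.2.1
  refine ⟨im_le_S' F F' α hα Q, fun R' φ' hφ' hr' => ?_⟩
  have hR'S' : R' ≤ S' := hom_le F' hφ'
  obtain ⟨φ, hφ, hRS, hφS, hR', hind⟩ := hα.2.2 R' hR'S' φ' hφ'
  have hr : φ.range = Q := range_lift_eq hS F F' α hα hQ hK hR'S' hr' hφ hφS hR' hind
  haveI : Finite ↥(preimageAlong α R') := finite_of_le hRS
  obtain ⟨e, he⟩ : ∃ e : ↥(preimageAlong α R') ≃* Q, ∀ x, ((e x : Q) : Ω) = φ x :=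
    ⟨isoOfHom φ (F.injective_of_mem hφ) hr, fun _ => rfl⟩
  obtain ⟨C, hCdef⟩ : ∃ C : Subgroup (MulAut Q), C = kerRho hS F F' α hα hQ := ⟨_, rfl⟩
  have hCA : C ≤ F.autGroup Q := hCdef ▸ kerRho_le hS F F' α hα hQ
  have hAC : F.autGroup Q ≤ Subgroup.normalizer (C : Set (MulAut Q)) :=
    hCdef ▸ autGroup_le_normalizer_kerRho hS F F' α hα hQ
  have hASA : autInducedBy S Q ≤ F.autGroup Q := autInducedBy_le_autGroup F hQ
  have hSyl : SylIn p (autInducedBy S Q) (F.autGroup Q) := hfa.2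
  have hSylD : SylIn p (autInducedBy S Q) (autInducedBy S Q ⊔ C) :=
    hSyl.of_le le_sup_left (sup_le hASA hCA)
  have hNS : preimageAlong α (extender S' R' φ') ≤ S := pre_le α _
  have hstepa : ∀ g ∈ preimageAlong α (extender S' R' φ'),
      ∃ hgN : g ∈ Subgroup.normalizer ((preimageAlong α R' : Subgroup Ω) : Set Ω),
        MulAut.congr e (conjAut (preimageAlong α R') g hgN) ∈ autInducedBy S Q ⊔ C := by
    intro g hg
    rw [hCdef]
    exact stepa hS F F' α hα hQ hK hr' hφ hφS hR' hind hr e he hg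
  -- the p-group Λ
  obtain ⟨Lam, hLam⟩ : ∃ Lam : Subgroup (MulAut Q), Lam =
      (autInducedBy (preimageAlong α (extender S' R' φ')) (preimageAlong α R')).map
        (MulAut.congr e).toMonoidHom := ⟨_, rfl⟩
  have hLp : IsPGroup p Lam := by
    rw [hLam]
    exact (autInducedBy_isPGroup (hS.to_le hNS) _).map _
  have hLle : Lam ≤ autInducedBy S Q ⊔ C := by
    rw [hLam]
    rintro _ ⟨β, hβ, rfl⟩
    obtain ⟨g, hg, hβg⟩ := (mem_autInducedBy_iff _ _ β).mp hβ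
    obtain ⟨hgN, hmem⟩ := hstepa g hg
    have : β = conjAut _ g hgN := by
      ext x
      rw [hβg x]
      rfl
    subst this
    exact hmem
  obtain ⟨d, hd, hdL⟩ := hSylD.exists_conj_le hLle hLp
  obtain ⟨a, ha, c₀, hc₀, rfl⟩ := mem_sup_of_le_normalizer (hASA.trans hAC) hd
  have hc₀L : ∀ lam ∈ Lam, c₀ * lam * c₀⁻¹ ∈ autInducedBy S Q := by
    intro lam hlam
    have h1 : cj (a * c₀) lam ∈ autInducedBy S Q := hdL ⟨lam, hlam, rfl⟩
    rw [cj_apply] at h1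
    have h2 := (autInducedBy S Q).mul_mem
      ((autInducedBy S Q).mul_mem ((autInducedBy S Q).inv_mem ha) h1) ha
    have e1 : a⁻¹ * (a * c₀ * lam * (a * c₀)⁻¹) * a = c₀ * lam * c₀⁻¹ := by group
    rwa [e1] at h2
  -- the corrected lift
  have hc₀A : c₀ ∈ F.autGroup Q := hCA hc₀
  have hc₀hom : Q.subtype.comp c₀.toMonoidHom ∈ F.Hom Q := (mem_autGroup_iff F hQ c₀).mp hc₀A
  have hφQ : ∀ x, φ x ∈ Q := fun x => hr ▸ ⟨x, rfl⟩
  obtain ⟨φt, hφt, hφtx⟩ := comp_mem' F hφ hc₀hom hφQ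
  have hφte : ∀ x, φt x = ((c₀ (e x) : Q) : Ω) := by
    intro x
    rw [hφtx x]
    have : (⟨φ x, hφQ x⟩ : Q) = e x := Subtype.ext (he x).symm
    rw [this]
    rfl
  have het : ∀ x, (((e.trans c₀) x : Q) : Ω) = φt x := fun x => (hφte x).symm
  have hrt : φt.range = Q := by
    apply le_antisymm
    · rintro _ ⟨x, rfl⟩
      rw [hφte]
      exact (c₀ (e x)).2
    · intro q hq
      refine ⟨e.symm (c₀⁻¹ ⟨q, hq⟩), ?_⟩
      rw [hφte]
      simp
  have hNext : preimageAlong α (extender S' R' φ') ≤ extender S (preimageAlong α R') φt := by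
    intro g hg
    obtain ⟨hgN, -⟩ := hstepa g hg
    have hlam : MulAut.congr e (conjAut (preimageAlong α R') g hgN) ∈ Lam := by
      rw [hLam]
      exact ⟨_, conjAut_mem_autInducedBy hg hgN, rfl⟩
    have h1 := hc₀L _ hlam
    rw [← congr_trans_eq] at h1
    obtain ⟨h, hhS, hh⟩ := (mem_autInducedBy_iff S Q _).mp h1
    rw [mem_extender_iff]
    refine ⟨hNS hg, hgN, h, hhS, fun x hx => ?_⟩
    exact transport_conj (e.trans c₀) het hgN hh x hx
  obtain ⟨ψ, hψ, hψx⟩ := extend_to_sub F hφt hrt hrec hNext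
  obtain ⟨ψ', hψ', hNS', hψS, hN', hindψ⟩ := hα.1.2 _ ψ hψ
  have hN'le : extender S' R' φ' ≤ α.range := by
    rw [hrange]
    exact fun g hg => ((mem_extender_iff φ').mp hg).1
  have heqN := im_pre α hN'le
  refine ⟨ψ'.comp (Subgroup.inclusion heqN.ge), cast_mem F' heqN hψ', ?_⟩
  intro x' hx'R hx'N
  have hx'r : x' ∈ α.range := hrange ▸ hR'S' hx'R
  obtain ⟨s, rfl⟩ := hx'r
  have hsR : (s : Ω) ∈ preimageAlong α R' := mem_pre.mpr ⟨s.2, hx'R⟩
  have hsN : (s : Ω) ∈ preimageAlong α (extender S' R' φ') := mem_pre.mpr ⟨s.2, hx'N⟩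
  have h1 := hindψ ⟨s, hsN⟩
  have h2 := hψx s hsR hsN
  have h3 := hind ⟨s, hsR⟩
  have h4 := kerRho_apply hS F F' α hα hQ (hCdef ▸ hc₀) (e ⟨s, hsR⟩)
  have e1 : (⟨ψ ⟨s, hsN⟩, hψS ⟨s, hsN⟩⟩ : S) =
      ⟨((c₀ (e ⟨s, hsR⟩) : Q) : Ω), hQ (c₀ (e ⟨s, hsR⟩)).2⟩ :=
    Subtype.ext (by
      show ψ ⟨s, hsN⟩ = ((c₀ (e ⟨s, hsR⟩) : Q) : Ω)
      rw [h2, hφte])
  have e2 : (⟨((e ⟨s, hsR⟩ : Q) : Ω), hQ (e ⟨s, hsR⟩).2⟩ : S) = ⟨φ ⟨s, hsR⟩, hφS _⟩ :=
    Subtype.ext (he _)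
  rw [e1, h4, e2, ← h3] at h1
  exact h1

end Cfsg.Agent.Lib.Helper85
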