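import Cfsg.Agent.Lib.Helper85.SimpleGroupCrit

set_option autoImplicit false

/-!
# Transport of the hypotheses of `SGC.isSimple_of_family`

The hypotheses of `SGC.isSimple_of_family` are bundled in the predicate `FamilyHyp p S` on a
subgroup `S` of a group `G`.  The predicate is transported along group isomorphisms, so it is
enough to check it for ONE Sylow `p`-subgroup (`isSimple_of_familyHyp_one`), for one subgroup of
the order of a Sylow `p`-subgroup (`isSimple_of_familyHyp_card`), or in an isomorphic copy of the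
group (`isSimple_of_familyHyp_equiv`).
-/

namespace Cfsg.Agent.Lib.Helper85.SGC

open Cfsg Cfsg.FusionSystem Subgroup
open scoped Pointwise

variable {G H : Type*} [Group G] [Group H]

/-- The hypotheses of `isSimple_of_family`, for a subgroup `S` of `G`:
`S ≠ 1`; `S` has no nontrivial proper subgroup that is strongly closed in `S` with respect to `G`;
and there is a family `ℛ` of subgroups `R` normal in `S` with `C_G(R) ≤ R`, `R = O_p(N_G(R))`, such
that every automorphism of `S` induced by `N_G(S)` is induced by a product of elements of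
`N_G(S) ∩ O^{p'}(N_G(R))`, `R ∈ ℛ`. -/
def FamilyHyp (p : ℕ) (S : Subgroup G) : Prop :=
  S ≠ ⊥ ∧
  (∀ T : Subgroup G, T ≤ S → T ≠ ⊥ →
      (∀ x ∈ T, ∀ g : G, g * x * g⁻¹ ∈ S → g * x * g⁻¹ ∈ T) → T = S) ∧
  ∃ ℛ : Set (Subgroup G),
    (∀ R ∈ ℛ, R ≤ S ∧ S ≤ normalizer (R : Set G) ∧ centralizer (R : Set G) ≤ R ∧
      ∀ K : Subgroup G, K ≤ normalizer (R : Set G) →
        normalizer (R : Set G) ≤ normalizer (K : Set G) → IsPGroup p K → K ≤ R) ∧
    ∀ n ∈ normalizer (S : Set G),
      ∃ m ∈ Subgroup.closure {g : G | g ∈ normalizer (S : Set G) ∧ ∃ R ∈ ℛ,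
          g ∈ Subgroup.closure {h : G | h ∈ normalizer (R : Set G) ∧ ∃ k : ℕ, orderOf h = p ^ k}},
        ∀ x ∈ S, n * x * n⁻¹ = m * x * m⁻¹

theorem familyHyp_intro {p : ℕ} {S : Subgroup G} (hS1 : S ≠ ⊥)
    (hA : ∀ T : Subgroup G, T ≤ S → T ≠ ⊥ →
      (∀ x ∈ T, ∀ g : G, g * x * g⁻¹ ∈ S → g * x * g⁻¹ ∈ T) → T = S)
    (ℛ : Set (Subgroup G))
    (hℛ : ∀ R ∈ ℛ, R ≤ S ∧ S ≤ normalizer (R : Set G) ∧ centralizer (R : Set G) ≤ R ∧
      ∀ K : Subgroup G, K ≤ normalizer (R : Set G) →
        normalizer (R : Set G) ≤ normalizer (K : Set G) → IsPGroup p K → K ≤ R)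
    (hB : ∀ n ∈ normalizer (S : Set G),
      ∃ m ∈ Subgroup.closure {g : G | g ∈ normalizer (S : Set G) ∧ ∃ R ∈ ℛ,
          g ∈ Subgroup.closure {h : G | h ∈ normalizer (R : Set G) ∧ ∃ k : ℕ, orderOf h = p ^ k}},
        ∀ x ∈ S, n * x * n⁻¹ = m * x * m⁻¹) : FamilyHyp p S :=
  ⟨hS1, hA, ℛ, hℛ, hB⟩

/-! ### elementwise transport lemmas -/

theorem apply_mem_map_iff (e : G ≃* H) (S : Subgroup G) (g : G) :
    e g ∈ S.map e.toMonoidHom ↔ g ∈ S := by
  constructor
  · rintro ⟨s, hs, h⟩
    have : s = g := e.injective h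
    exact this ▸ hs
  · intro h
    exact ⟨g, h, rfl⟩

theorem apply_mem_normalizer_map_iff (e : G ≃* H) (R : Subgroup G) (g : G) :
    e g ∈ normalizer ((R.map e.toMonoidHom : Subgroup H) : Set H) ↔
      g ∈ normalizer (R : Set G) := by
  rw [← map_equiv_normalizer_eq R e]
  exact apply_mem_map_iff e _ g

theorem apply_mem_centralizer_map_iff (e : G ≃* H) (R : Subgroup G) (g : G) :
    e g ∈ centralizer ((R.map e.toMonoidHom : Subgroup H) : Set H) ↔
      g ∈ centralizer (R : Set G) := by
  constructor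
  · intro h
    rw [mem_centralizer_iff] at h ⊢
    intro r hr
    have h1 := h (e r) ⟨r, hr, rfl⟩
    apply e.injective
    rw [map_mul, map_mul]
    exact h1
  · intro h
    rw [mem_centralizer_iff] at h ⊢
    rintro _ ⟨r, hr, rfl⟩
    have h1 := h r hr
    show e r * e g = e g * e r
    rw [← map_mul, ← map_mul, h1]

theorem map_comap_equiv (e : G ≃* H) (T : Subgroup H) :
    (T.comap e.toMonoidHom).map e.toMonoidHom = T :=
  map_comap_eq_self_of_surjective (f := e.toMonoidHom) e.surjective T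

/-- `FamilyHyp` is transported along group isomorphisms. -/
theorem FamilyHyp.map {p : ℕ} {S : Subgroup G} (h : FamilyHyp p S) (e : G ≃* H) :
    FamilyHyp p (S.map e.toMonoidHom) := by
  obtain ⟨h1, hA, ℛ, hℛ, hB⟩ := h
  refine ⟨?_, ?_, (fun R : Subgroup G => R.map e.toMonoidHom) '' ℛ, ?_, ?_⟩
  · intro hbot
    exact h1 ((map_eq_bot_iff_of_injective S e.injective).mp hbot)
  · intro T' hT' hT'ne hcl
    have hTS : T'.comap e.toMonoidHom ≤ S := by
      intro x hx
      have : e x ∈ S.map e.toMonoidHom := hT' hx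
      exact (apply_mem_map_iff e S x).mp this
    have hTne : T'.comap e.toMonoidHom ≠ ⊥ := by
      intro hbot
      apply hT'ne
      rw [← map_comap_equiv e T', hbot, Subgroup.map_bot]
    have key := hA (T'.comap e.toMonoidHom) hTS hTne (by
      intro x hx g hg
      have h2 : e g * e x * (e g)⁻¹ ∈ T' := by
        apply hcl (e x) hx (e g)
        have : e (g * x * g⁻¹) ∈ S.map e.toMonoidHom := (apply_mem_map_iff e S _).mpr hg
        simpa using this
      show e (g * x * g⁻¹) ∈ T'
      simpa using h2)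
    rw [← map_comap_equiv e T', key]
  · rintro _ ⟨R, hR, rfl⟩
    obtain ⟨hRS, hSN, hC, hO⟩ := hℛ R hR
    refine ⟨Subgroup.map_mono hRS, ?_, ?_, ?_⟩
    · rintro _ ⟨s, hs, rfl⟩
      exact (apply_mem_normalizer_map_iff e R s).mpr (hSN hs)
    · intro y hy
      obtain ⟨g, rfl⟩ := e.surjective y
      exact (apply_mem_map_iff e R g).mpr (hC ((apply_mem_centralizer_map_iff e R g).mp hy))
    · intro K' hK'N hNK' hK'p
      have hKN : K'.comap e.toMonoidHom ≤ normalizer (R : Set G) := by
        intro k hk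
        exact (apply_mem_normalizer_map_iff e R k).mp (hK'N hk)
      have hNK : normalizer (R : Set G) ≤
          normalizer ((K'.comap e.toMonoidHom : Subgroup G) : Set G) := by
        intro g hg
        have h2 : e g ∈ normalizer ((K' : Subgroup H) : Set H) :=
          hNK' ((apply_mem_normalizer_map_iff e R g).mpr hg)
        rw [← map_comap_equiv e K'] at h2
        exact (apply_mem_normalizer_map_iff e _ g).mp h2
      have hKp : IsPGroup p (K'.comap e.toMonoidHom) :=
        hK'p.comap_of_injective e.toMonoidHom e.injective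
      have := hO _ hKN hNK hKp
      rw [← map_comap_equiv e K']
      exact Subgroup.map_mono this
  · intro n' hn'
    obtain ⟨n, rfl⟩ := e.surjective n'
    have hn : n ∈ normalizer (S : Set G) := (apply_mem_normalizer_map_iff e S n).mp hn'
    obtain ⟨m, hm, hnm⟩ := hB n hn
    refine ⟨e m, ?_, ?_⟩
    · have hmem : e m ∈ (Subgroup.closure {g : G | g ∈ normalizer (S : Set G) ∧ ∃ R ∈ ℛ,
          g ∈ Subgroup.closure {h : G | h ∈ normalizer (R : Set G) ∧
            ∃ k : ℕ, orderOf h = p ^ k}}).map e.toMonoidHom := ⟨m, hm, rfl⟩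
      rw [MonoidHom.map_closure] at hmem
      refine Subgroup.closure_mono ?_ hmem
      rintro _ ⟨g, ⟨hgN, R, hR, hgR⟩, rfl⟩
      refine ⟨(apply_mem_normalizer_map_iff e S g).mpr hgN, R.map e.toMonoidHom, ⟨R, hR, rfl⟩, ?_⟩
      have hmem2 : e g ∈ (Subgroup.closure {h : G | h ∈ normalizer (R : Set G) ∧
          ∃ k : ℕ, orderOf h = p ^ k}).map e.toMonoidHom := ⟨g, hgR, rfl⟩
      rw [MonoidHom.map_closure] at hmem2
      refine Subgroup.closure_mono ?_ hmem2
      rintro _ ⟨h, ⟨hhN, k, hk⟩, rfl⟩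
      refine ⟨(apply_mem_normalizer_map_iff e R h).mpr hhN, k, ?_⟩
      show orderOf (e h) = p ^ k
      rw [MulEquiv.orderOf_eq, hk]
    · rintro _ ⟨x, hx, rfl⟩
      have := congrArg e (hnm x hx)
      simpa using this

variable [Finite G]

/-- `isSimple_of_family`, with bundled hypotheses. -/
theorem isSimple_of_familyHyp {p : ℕ} [Fact p.Prime] (S : Sylow p G)
    (h : FamilyHyp p (S : Subgroup G)) : (groupFusionSystem (S : Subgroup G)).IsSimple p := by
  obtain ⟨h1, hA, ℛ, hℛ, hB⟩ := h
  exact isSimple_of_family S h1 hA ℛ hℛ hB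

/-- It is enough to check the hypotheses for ONE Sylow `p`-subgroup. -/
theorem isSimple_of_familyHyp_one {p : ℕ} [Fact p.Prime] (S0 : Sylow p G)
    (h : FamilyHyp p (S0 : Subgroup G)) (S : Sylow p G) :
    (groupFusionSystem (S : Subgroup G)).IsSimple p := by
  obtain ⟨k, rfl⟩ := MulAction.exists_smul_eq G S0 S
  apply isSimple_of_familyHyp
  have hcoe : ((k • S0 : Sylow p G) : Subgroup G) =
      (S0 : Subgroup G).map (MulAut.conj k).toMonoidHom := rfl
  rw [hcoe]
  exact h.map (MulAut.conj k)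

/-- The same for a subgroup `S0` given with its order: `|G| = p ^ n * m` with `p ∤ m` and
`|S0| = p ^ n`. -/
theorem isSimple_of_familyHyp_card {p : ℕ} [Fact p.Prime] (S0 : Subgroup G) {n m : ℕ}
    (hG : Nat.card G = p ^ n * m) (hm : ¬ p ∣ m) (hS0 : Nat.card S0 = p ^ n)
    (h : FamilyHyp p S0) (S : Sylow p G) :
    (groupFusionSystem (S : Subgroup G)).IsSimple p := by
  have hp : p.Prime := Fact.out
  have hm0 : m ≠ 0 := by
    rintro rfl
    exact hm (dvd_zero p)
  have hfac : (Nat.card G).factorization p = n := by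
    rw [hG, Nat.factorization_mul (pow_ne_zero _ hp.ne_zero) hm0, hp.factorization_pow]
    simp [Nat.factorization_eq_zero_of_not_dvd hm]
  have hc : Nat.card S0 = p ^ (Nat.card G).factorization p := by rw [hfac, hS0]
  exact isSimple_of_familyHyp_one (Sylow.ofCard S0 hc) h S

/-- The same, with the hypotheses checked in an isomorphic copy `G` of the group `H`: `S0 ≤ G` of
`p`-power order and index prime to `p` satisfying `FamilyHyp`, `e : G ≃* H`; then the fusion system
of `H` on every Sylow `p`-subgroup is simple. -/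
theorem isSimple_of_familyHyp_equiv [Finite H] {p : ℕ} [Fact p.Prime] (e : G ≃* H)
    (S0 : Subgroup G) {n m : ℕ} (hG : Nat.card G = p ^ n * m) (hm : ¬ p ∣ m)
    (hS0 : Nat.card S0 = p ^ n) (h : FamilyHyp p S0) (S : Sylow p H) :
    (groupFusionSystem (S : Subgroup H)).IsSimple p := by
  have hH : Nat.card H = p ^ n * m := by rw [← Nat.card_congr e.toEquiv, hG]
  have hS0' : Nat.card (S0.map e.toMonoidHom) = p ^ n := by
    rw [← hS0]
    exact Nat.card_congr (S0.equivMapOfInjective e.toMonoidHom e.injective).symm.toEquiv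
  exact isSimple_of_familyHyp_card (S0.map e.toMonoidHom) hH hm hS0' (h.map e) S

end Cfsg.Agent.Lib.Helper85.SGC
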