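import Cfsg.Agent.Lib.Helper9.SlK3Defs
import Cfsg.Agent.Lib.Helper3.CharOps
import Cfsg.Agent.Lib.Helper33.SlK3CONJ

set_option autoImplicit false

namespace Cfsg.Agent.Lib.Helper76.Sl

open Matrix Cfsg
open scoped ComplexConjugate

variable (F : Type*) [Field F] [Fintype F] [DecidableEq F]

theorem k3invt_mid_ne_zero (m : ℕ) (j : Fin (m + 1)) : k3mid m j ≠ 0 := Fin.succ_ne_zero _

theorem k3invt_mid_ne_last (m : ℕ) (j : Fin (m + 1)) : k3mid m j ≠ Fin.last (m + 2) := by
  unfold k3mid
  intro h
  rw [Fin.ext_iff] at h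
  simp at h
  omega

theorem k3invt_mid_inj (m : ℕ) : Function.Injective (k3mid m) := by
  intro a b h
  unfold k3mid at h
  exact Fin.castSucc_injective _ (Fin.succ_injective _ h)

/-- entries of `T_{pq}(c) M T_{pq}(-c)` -/
theorem k3invt_entry {n : ℕ} (p q : Fin n) (c : F) (M : Matrix (Fin n) (Fin n) F) (r s : Fin n) :
    (Matrix.transvection p q c * M * Matrix.transvection p q (-c)) r s =
      (M r s + if r = p then c * M q s else 0) -
        (if s = q then c * (M r p + if r = p then c * M q p else 0) else 0) := by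
  have h1 : ∀ r s, (Matrix.transvection p q c * M) r s = M r s + if r = p then c * M q s else 0 := by
    intro r s
    by_cases hr : r = p
    · subst hr
      simp
    · rw [Matrix.transvection_mul_apply_of_ne _ _ _ _ hr]
      simp [hr]
  by_cases hs : s = q
  · subst hs
    rw [Matrix.mul_transvection_apply_same, h1, h1]
    simp
    ring
  · rw [Matrix.mul_transvection_apply_of_ne _ _ _ _ hs, h1]
    simp [hs]

/-- the conjugating element: the middle transvection -/
def k3invt_x (m : ℕ) (i j : Fin (m + 1)) (hij : i ≠ j) (c : F) : Gm F (m + 1) :=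
  Matrix.SpecialLinearGroup.transvection (i := k3mid m i) (j := k3mid m j)
    (fun h => hij (k3invt_mid_inj m h)) c

theorem k3invt_x_coe (m : ℕ) (i j : Fin (m + 1)) (hij : i ≠ j) (c : F) :
    (k3invt_x F m i j hij c).1 = Matrix.transvection (k3mid m i) (k3mid m j) c := rfl

theorem k3invt_x_inv (m : ℕ) (i j : Fin (m + 1)) (hij : i ≠ j) (c : F) :
    (k3invt_x F m i j hij c)⁻¹ = k3invt_x F m i j hij (-c) := by
  apply inv_eq_of_mul_eq_one_right
  apply Subtype.ext
  rw [Matrix.SpecialLinearGroup.coe_mul, k3invt_x_coe, k3invt_x_coe,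
    Matrix.transvection_mul_transvection_same _ _ (fun h => hij (k3invt_mid_inj m h))]
  simp

theorem k3invt_conj_entry (m : ℕ) (i j : Fin (m + 1)) (hij : i ≠ j) (c : F) (g : Gm F (m + 1))
    (r s : Fin (m + 3)) :
    (k3invt_x F m i j hij c * g * (k3invt_x F m i j hij c)⁻¹).1 r s =
      (g.1 r s + if r = k3mid m i then c * g.1 (k3mid m j) s else 0) -
        (if s = k3mid m j then c * (g.1 r (k3mid m i) +
          if r = k3mid m i then c * g.1 (k3mid m j) (k3mid m i) else 0) else 0) := by
  rw [k3invt_x_inv, Matrix.SpecialLinearGroup.coe_mul, Matrix.SpecialLinearGroup.coe_mul,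
    k3invt_x_coe, k3invt_x_coe, k3invt_entry]

theorem k3invt_conj_mem (m : ℕ) (i j : Fin (m + 1)) (hij : i ≠ j) (c : F) (g : Gm F (m + 1))
    (hg : g ∈ K3H F m) :
    k3invt_x F m i j hij c * g * (k3invt_x F m i j hij c)⁻¹ ∈ K3H F m := by
  obtain ⟨h1, h2, h3⟩ := hg
  have hp0 := k3invt_mid_ne_zero m i
  have hq0 := k3invt_mid_ne_zero m j
  have hpl := k3invt_mid_ne_last m i
  have hql := k3invt_mid_ne_last m j
  have hpq : k3mid m i ≠ k3mid m j := fun h => hij (k3invt_mid_inj m h)
  refine ⟨?_, ?_, ?_⟩
  · intro r s hr hs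
    rw [k3invt_conj_entry, h1 r s hr hs, h1 _ s hq0 hs, h1 r _ hr hpl, h1 _ _ hq0 hpl]
    by_cases hrp : r = k3mid m i
    · by_cases hsq : s = k3mid m j
      · subst hrp; subst hsq
        simp [hpq, hpq.symm]
      · subst hrp
        simp [Matrix.one_apply, hsq, Ne.symm hsq]
    · by_cases hsq : s = k3mid m j
      · subst hsq
        simp [Matrix.one_apply, hrp]
      · simp [hrp, hsq]
  · rw [k3invt_conj_entry, h2]
    simp [hp0.symm, hq0.symm]
  · rw [k3invt_conj_entry, h3]
    simp [hpl.symm, hql.symm]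

/-- K3-INVT -/
theorem k3_inv_transv (m : ℕ) (e : AddChar F ℂ) (χ : Gm F (m + 1) → ℂ)
    (hcf : IsClassFunction (Gm F (m + 1)) χ) (i j : Fin (m + 1)) (hij : i ≠ j) (c : F)
    (α β : Fin (m + 1) → F) :
    k3mu F m e χ α β =
      k3mu F m e χ (fun l => α l + if l = i then c * α j else 0)
        (fun l => β l - if l = j then c * β i else 0) := by
  symm
  have hpq : k3mid m i ≠ k3mid m j := fun h => hij (k3invt_mid_inj m h)
  refine k3_mu_conj F m e χ hcf (k3invt_x F m i j hij c) ?_ ?_ α β _ _ ?_
  · intro g hg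
    exact k3invt_conj_mem F m i j hij c g hg
  · intro g hg
    have := k3invt_conj_mem F m i j hij (-c) g hg
    rw [← k3invt_x_inv, inv_inv] at this
    exact this
  · intro g hg
    obtain ⟨h1, h2, h3⟩ := hg
    have hp0 := k3invt_mid_ne_zero m i
    have hq0 := k3invt_mid_ne_zero m j
    have hpl := k3invt_mid_ne_last m i
    have hql := k3invt_mid_ne_last m j
    rw [← sub_eq_zero, ← Finset.sum_sub_distrib]
    have key : ∀ l : Fin (m + 1),
        ((α l + if l = i then c * α j else 0) *
            (k3invt_x F m i j hij c * g * (k3invt_x F m i j hij c)⁻¹).1 0 (k3mid m l) +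
          (β l - if l = j then c * β i else 0) *
            (k3invt_x F m i j hij c * g * (k3invt_x F m i j hij c)⁻¹).1 (k3mid m l)
              (Fin.last (m + 2))) -
          (α l * g.1 0 (k3mid m l) + β l * g.1 (k3mid m l) (Fin.last (m + 2))) =
        (if l = i then c * α j * g.1 0 (k3mid m i) + c * β i * g.1 (k3mid m j) (Fin.last (m + 2))
          else 0) +
        (if l = j then -(c * α j * g.1 0 (k3mid m i) + c * β i * g.1 (k3mid m j) (Fin.last (m + 2)))
          else 0) := by
      intro l
      rw [k3invt_conj_entry, k3invt_conj_entry]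
      have e1 : ((0 : Fin (m + 3)) = k3mid m i) = False := eq_false (Ne.symm hp0)
      have e2 : (Fin.last (m + 2) = k3mid m j) = False := eq_false (Ne.symm hql)
      have e3 : ∀ a b : Fin (m + 1), (k3mid m a = k3mid m b) = (a = b) := fun a b =>
        propext ⟨fun h => k3invt_mid_inj m h, fun h => by rw [h]⟩
      simp only [e1, e2, e3, if_false, add_zero, sub_zero]
      by_cases hli : l = i
      · subst hli
        simp [hij]
        ring
      · by_cases hlj : l = j
        · subst hlj
          simp [hli]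
          ring
        · simp [hli, hlj]
    rw [Finset.sum_congr rfl (fun l _ => key l), Finset.sum_add_distrib]
    simp

end Cfsg.Agent.Lib.Helper76.Sl
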