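import Mathlib

/-! # Ez hive (S1079 / S2106 / S2105, owner helper83): leaf EZ-CYC `nonempty_mulEquiv_zmod`. -/

set_option autoImplicit false

universe u v

namespace Cfsg.Agent.Lib.Helper83.Ez

/-- EZ-CYC. -/
theorem nonempty_mulEquiv_zmod {Z : Type*} [Group Z] (p m : ℕ) (hp : p.Prime) (h : Nat.card Z = Nat.gcd p m) :
    Nonempty (Z ≃* Multiplicative (ZMod (Nat.gcd p m))) := by
  have hcyc : IsCyclic Z := by
    rcases (Nat.dvd_prime hp).1 (Nat.gcd_dvd_left p m) with h1 | h1
    · rw [h1] at h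
      have : Subsingleton Z := (Nat.card_eq_one_iff_unique.1 h).1
      exact isCyclic_of_subsingleton
    · rw [h1] at h
      have := Fact.mk hp
      exact isCyclic_of_prime_card h
  have e := zmodCyclicMulEquiv hcyc
  rw [h] at e
  exact ⟨e.symm⟩

end Cfsg.Agent.Lib.Helper83.Ez
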