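import Mathlib

/-! # Ez hive (S1079 / S2106 / S2105, owner helper83): leaf EZ-TR `transport_cc`
(transport of "perfect + centrally closed" along a group isomorphism). -/

set_option autoImplicit false

universe u v

namespace Cfsg.Agent.Lib.Helper83.Ez

/-- EZ-TR. -/
theorem transport_cc {C E : Type u} [Group C] [Group E] (e : C ≃* E) (hperf : commutator C = ⊤)
    (hcov : ∀ (Y : Type u) [Group Y] (φ : Y →* C), Function.Surjective φ → φ.ker ≤ Subgroup.center Y →
      ∃ τ : C →* Y, φ.comp τ = MonoidHom.id C) :
    commutator E = ⊤ ∧ ∀ (Y : Type u) [Group Y] (φ : Y →* E), Function.Surjective φ → φ.ker ≤ Subgroup.center Y →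
      ∃ τ : E →* Y, φ.comp τ = MonoidHom.id E := by
  refine ⟨?_, ?_⟩
  · have hmap : (commutator C).map (e : C →* E) = commutator E := by
      rw [commutator_def, commutator_def, Subgroup.map_commutator,
        Subgroup.map_top_of_surjective _ e.surjective]
    rw [← hmap, hperf, Subgroup.map_top_of_surjective _ e.surjective]
  · intro Y _ φ hφ hc
    have hker : ((e.symm : E →* C).comp φ).ker = φ.ker := by
      ext y
      simp only [MonoidHom.mem_ker, MonoidHom.comp_apply, MonoidHom.coe_coe]
      constructor
      · intro h
        have := congrArg e h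
        simpa using this
      · intro h
        rw [h, map_one]
    obtain ⟨τ', hτ'⟩ := hcov Y ((e.symm : E →* C).comp φ) (e.symm.surjective.comp hφ) (hker ▸ hc)
    refine ⟨τ'.comp (e.symm : E →* C), ?_⟩
    ext x
    have h1 : e.symm (φ (τ' (e.symm x))) = e.symm x := by
      have := congrArg (fun f => f (e.symm x)) hτ'
      simpa using this
    simpa using e.symm.injective h1

end Cfsg.Agent.Lib.Helper83.Ez
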