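import Cfsg.Agent.Lib.Helper85.PPowerNormal1
import Cfsg.Agent.Lib.Helper87.HypQuot
import Cfsg.Agent.Lib.Helper87.HypAct
import Cfsg.Agent.Lib.Helper87.Sparse
import Cfsg.Agent.Lib.Helper87.AutSystem

/-!
# Coprime action: `[P, α] = [P, α, α]`, and the hyperfocal subgroup of a subsystem of `p`-power index
-/

set_option autoImplicit false

namespace Cfsg.Agent.Lib.Helper85.RL

open Cfsg Cfsg.FusionSystem Cfsg.Agent.Lib.Helper87

/-- Coprime stabilizing for an automorphism: if `a = x⁻¹ α(x)` satisfies `a⁻¹ α(a) ∈ N` for an `α`-invariant subgroup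
`N` normalized by `a`, and the order of `a` is prime to an exponent `m` of `α`, then `a ∈ N`. -/
theorem coprime_comm_mem {P : Type*} [Group P] (α : MulAut P) (N : Subgroup P)
    (hαN : ∀ n ∈ N, α n ∈ N) (x a : P) (ha : α x = x * a)
    (hnorm : ∀ n ∈ N, a⁻¹ * n * a ∈ N)
    (h2 : a⁻¹ * α a ∈ N) (m : ℕ) (hm : α ^ m = 1)
    (hcop : (orderOf a).Coprime m) : a ∈ N := by
  -- Step 1
  have h1 : ∀ i : ℕ, a⁻¹ * (α ^ i) a ∈ N := by
    intro i
    induction i with
    | zero => simp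
    | succ i ih =>
      have e : (α ^ (i + 1)) a = α ((α ^ i) a) := by
        rw [pow_succ']; rfl
      have e2 : a⁻¹ * (α ^ (i + 1)) a = (a⁻¹ * α a) * α (a⁻¹ * (α ^ i) a) := by
        rw [e, map_mul α, map_inv α]; group
      rw [e2]
      exact N.mul_mem h2 (hαN _ ih)
  -- Step 2
  have h3 : ∀ k : ℕ, (a ^ k)⁻¹ * (x⁻¹ * (α ^ k) x) ∈ N := by
    intro k
    induction k with
    | zero => simp
    | succ k ih =>
      have e : (α ^ (k + 1)) x = (α ^ k) (α x) := by
        rw [pow_succ]; rfl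
      have e2 : (a ^ (k + 1))⁻¹ * (x⁻¹ * (α ^ (k + 1)) x) =
          (a⁻¹ * ((a ^ k)⁻¹ * (x⁻¹ * (α ^ k) x)) * a) * (a⁻¹ * (α ^ k) a) := by
        rw [e, ha, map_mul (α ^ k), pow_succ]; group
      rw [e2]
      exact N.mul_mem (hnorm _ ih) (h1 k)
  have h4 : a ^ m ∈ N := by
    have := h3 m
    rw [hm] at this
    simp only [MulAut.one_apply, inv_mul_cancel, mul_one] at this
    exact (Subgroup.inv_mem_iff N).mp this
  obtain ⟨j, hj⟩ := exists_pow_eq_self_of_coprime hcop.symm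
  rw [← hj]
  exact N.pow_mem h4 j

/-- Coprime action: for a `p'`-automorphism `α` of a `p`-group `P`, every `x⁻¹ α(x)` lies in the subgroup generated by
the `y⁻¹ α(y)` with `y` in `[P, α]`. -/
theorem comm_mem_comm_comm {P : Type*} [Group P] {p : ℕ} [Fact p.Prime] (hP : IsPGroup p P)
    (α : MulAut P) (m : ℕ) (hm : α ^ m = 1) (hcop : m.Coprime p) (x : P) :
    x⁻¹ * α x ∈ Subgroup.closure {z : P | ∃ y ∈ Subgroup.closure {y : P | ∃ x : P, y = x⁻¹ * α x},
      z = y⁻¹ * α y} := by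
  set P₀ : Subgroup P := Subgroup.closure {y : P | ∃ x : P, y = x⁻¹ * α x} with hP₀
  set N : Subgroup P := Subgroup.closure {z : P | ∃ y ∈ P₀, z = y⁻¹ * α y} with hN
  have hαP₀ : ∀ y ∈ P₀, α y ∈ P₀ := by
    intro y hy
    induction hy using Subgroup.closure_induction with
    | mem y hy =>
      obtain ⟨x, rfl⟩ := hy
      refine Subgroup.subset_closure ⟨α x, ?_⟩
      rw [map_mul, map_inv]
    | one => rw [map_one]; exact P₀.one_mem
    | mul a b _ _ iha ihb => rw [map_mul]; exact P₀.mul_mem iha ihb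
    | inv a _ iha => rw [map_inv]; exact P₀.inv_mem iha
  have hgen : ∀ y ∈ P₀, y⁻¹ * α y ∈ N := fun y hy => Subgroup.subset_closure ⟨y, hy, rfl⟩
  have hαN : ∀ n ∈ N, α n ∈ N := by
    intro n hn
    induction hn using Subgroup.closure_induction with
    | mem z hz =>
      obtain ⟨y, hy, rfl⟩ := hz
      have := hgen (α y) (hαP₀ y hy)
      rwa [map_mul, map_inv]
    | one => rw [map_one]; exact N.one_mem
    | mul a b _ _ iha ihb => rw [map_mul]; exact N.mul_mem iha ihb
    | inv a _ iha => rw [map_inv]; exact N.inv_mem iha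
  have hnorm : ∀ z ∈ P₀, ∀ n ∈ N, z⁻¹ * n * z ∈ N := by
    intro z hz n hn
    induction hn using Subgroup.closure_induction with
    | mem w hw =>
      obtain ⟨y, hy, rfl⟩ := hw
      have e : z⁻¹ * (y⁻¹ * α y) * z = ((y * z)⁻¹ * α (y * z)) * (z⁻¹ * α z)⁻¹ := by
        rw [map_mul]; group
      rw [e]
      exact N.mul_mem (hgen _ (P₀.mul_mem hy hz)) (N.inv_mem (hgen _ hz))
    | one => simp
    | mul a b _ _ iha ihb =>
      have e : z⁻¹ * (a * b) * z = (z⁻¹ * a * z) * (z⁻¹ * b * z) := by group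
      rw [e]; exact N.mul_mem iha ihb
    | inv a _ iha =>
      have e : z⁻¹ * a⁻¹ * z = (z⁻¹ * a * z)⁻¹ := by group
      rw [e]; exact N.inv_mem iha
  have haP₀ : x⁻¹ * α x ∈ P₀ := Subgroup.subset_closure ⟨x, rfl⟩
  refine coprime_comm_mem α N hαN x (x⁻¹ * α x) (by group) (fun n hn => hnorm _ haP₀ n hn)
    (hgen _ haP₀) m hm ?_
  obtain ⟨k, hk⟩ := hP (x⁻¹ * α x)
  have hdvd : orderOf (x⁻¹ * α x) ∣ p ^ k := orderOf_dvd_of_pow_eq_one hk
  exact Nat.Coprime.coprime_dvd_left hdvd (Nat.Coprime.pow_left k hcop.symm)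

variable {Ω : Type*} [Group Ω] {S : Subgroup Ω}

/-- The hyperfocal subgroup of a subsystem lies in that of the system. -/
theorem hyperfocal_mono {T : Subgroup Ω} (E : FusionSystem T) (F : FusionSystem S) (p : ℕ)
    (hEF : E.IsSubsystemOf F) : E.hyperfocalSubgroup p ≤ F.hyperfocalSubgroup p := by
  have hTS : T ≤ S := hom_le F (hEF T (subtype_mem E le_rfl))
  refine hyperfocal_le_of_coprime E p _ ?_
  intro P hPT α hα hcop x
  refine Cfsg.Agent.Lib.Helper85.hyperfocal_mem_of_coprime F (hPT.trans hTS) ?_ hcop x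
  rw [mem_autGroup_iff F (hPT.trans hTS)]
  exact hEF P ((mem_autGroup_iff E hPT α).mp hα)

/-- The hyperfocal subgroup of a system lies in that of any subsystem of `p`-power index. -/
theorem hyperfocal_le_of_pPowerIndex [Finite S] {p : ℕ} [Fact p.Prime] (hS : IsPGroup p S)
    {T : Subgroup Ω} (E : FusionSystem T) (F : FusionSystem S) (hidx : E.HasPPowerIndexIn F p) :
    F.hyperfocalSubgroup p ≤ E.hyperfocalSubgroup p := by
  obtain ⟨hEF, hhypT, hres⟩ := hidx
  have hTS : T ≤ S := hom_le F (hEF T (subtype_mem E le_rfl))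
  refine hyperfocal_le_of_coprime F p _ ?_
  intro P hPS α hα hcop x
  have hPp : IsPGroup p P := hS.to_le hPS
  have hm : α ^ orderOf α = 1 := pow_orderOf_eq_one α
  have key := comm_mem_comm_comm hPp α (orderOf α) hm hcop x
  set P₀ : Subgroup P := Subgroup.closure {y : P | ∃ x : P, y = x⁻¹ * α x} with hP₀
  -- the image of `P₀` in `Ω`
  set R : Subgroup Ω := P₀.map P.subtype with hR
  have hRP : R ≤ P := by
    rintro _ ⟨y, _, rfl⟩; exact y.2
  have hRhyp : R ≤ F.hyperfocalSubgroup p := by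
    rw [hR, Subgroup.map_le_iff_le_comap, hP₀, Subgroup.closure_le]
    rintro _ ⟨x, rfl⟩
    have := Cfsg.Agent.Lib.Helper85.hyperfocal_mem_of_coprime F hPS hα hcop x
    change ((x⁻¹ * α x : P) : Ω) ∈ F.hyperfocalSubgroup p
    rw [Subgroup.coe_mul, Subgroup.coe_inv]
    exact this
  have hRT : R ≤ T := hRhyp.trans hhypT
  have hRS : R ≤ S := hRT.trans hTS
  have : Finite R := Finite.of_injective (Subgroup.inclusion hRS) (Subgroup.inclusion_injective hRS)
  have hαP₀ : ∀ y ∈ P₀, α y ∈ P₀ := by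
    intro y hy
    induction hy using Subgroup.closure_induction with
    | mem y hy =>
      obtain ⟨x, rfl⟩ := hy
      refine Subgroup.subset_closure ⟨α x, ?_⟩
      rw [map_mul, map_inv]
    | one => rw [map_one]; exact P₀.one_mem
    | mul a b _ _ iha ihb => rw [map_mul]; exact P₀.mul_mem iha ihb
    | inv a _ iha => rw [map_inv]; exact P₀.inv_mem iha
  have hinv : ∀ y : R, ((α ⟨y, hRP y.2⟩ : P) : Ω) ∈ R := by
    rintro ⟨_, y, hy, rfl⟩
    exact ⟨α y, hαP₀ y hy, rfl⟩
  obtain ⟨γ, hγ⟩ := exists_restrict_aut hRP α hinv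
  have hγF : γ ∈ F.autGroup R := by
    rw [mem_autGroup_iff F hRS]
    have h1 := restrict_mem F ((mem_autGroup_iff F hPS α).mp hα) hRP
    have e : R.subtype.comp γ.toMonoidHom = (P.subtype.comp α.toMonoidHom).comp (Subgroup.inclusion hRP) := by
      ext y
      exact hγ y
    rw [e]; exact h1
  have hγpow : γ ^ orderOf α = 1 := by
    ext y
    have := res_pow hRP hγ (orderOf α) y
    rw [hm] at this
    simpa using this
  have hγcop : (orderOf γ).Coprime p :=
    Nat.Coprime.coprime_dvd_left (orderOf_dvd_of_pow_eq_one hγpow) hcop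
  have hγE : γ ∈ E.autGroup R := hres R hRT (mem_map_pResidual hγF hγcop)
  -- now every generator of `N` maps into the hyperfocal subgroup of `E`
  have hle : (Subgroup.closure {z : P | ∃ y ∈ P₀, z = y⁻¹ * α y}).map P.subtype ≤ E.hyperfocalSubgroup p := by
    rw [Subgroup.map_le_iff_le_comap, Subgroup.closure_le]
    rintro _ ⟨y, hy, rfl⟩
    have hyR : (y : Ω) ∈ R := ⟨y, hy, rfl⟩
    have := Cfsg.Agent.Lib.Helper85.hyperfocal_mem_of_coprime E hRT hγE hγcop ⟨(y : Ω), hyR⟩
    rw [hγ ⟨(y : Ω), hyR⟩] at this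
    change ((y⁻¹ * α y : P) : Ω) ∈ E.hyperfocalSubgroup p
    rw [Subgroup.coe_mul, Subgroup.coe_inv]
    exact this
  have := hle ⟨_, key, rfl⟩
  simpa using this

end Cfsg.Agent.Lib.Helper85.RL
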