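import Cfsg.Agent.Lib.Helper87.Alperin
import Cfsg.Agent.Lib.Helper87.HypAct
import Cfsg.Agent.Lib.Helper87.Lemma26
import Cfsg.Agent.Lib.Helper84.FusionBasic

set_option autoImplicit false

/-!
Full subsystems on a strongly closed subgroup `S₁` of `S` such that `S = S₁ C_S(S₁)`:
saturation, and extension of automorphisms.
-/

namespace Cfsg.Agent.Lib.Helper85

open Cfsg Cfsg.FusionSystem

variable {Ω : Type*} [Group Ω] {S : Subgroup Ω}

/-- `S` is a product of `S₁` and elements centralizing `S₁`. -/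
def DecompCentral (S S₁ : Subgroup Ω) : Prop :=
  ∀ g ∈ S, ∃ g₁ ∈ S₁, ∃ c ∈ Subgroup.centralizer (S₁ : Set Ω), g = g₁ * c

theorem conj_eq_of_decomp {S₁ : Subgroup Ω} {g₁ c x : Ω}
    (hc : c ∈ Subgroup.centralizer (S₁ : Set Ω)) (hx : x ∈ S₁) :
    (g₁ * c) * x * (g₁ * c)⁻¹ = g₁ * x * g₁⁻¹ := by
  have h := Subgroup.mem_centralizer_iff.mp hc x hx
  calc (g₁ * c) * x * (g₁ * c)⁻¹ = g₁ * (c * x) * c⁻¹ * g₁⁻¹ := by group
    _ = g₁ * (x * c) * c⁻¹ * g₁⁻¹ := by rw [h]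
    _ = g₁ * x * g₁⁻¹ := by group

theorem autInducedBy_eq_of_decomp {S₁ Q : Subgroup Ω} (hS₁ : S₁ ≤ S)
    (hdec : DecompCentral S S₁) (hQ : Q ≤ S₁) : autInducedBy S Q = autInducedBy S₁ Q := by
  apply le_antisymm
  · intro α hα
    rw [Helper87.mem_autInducedBy_iff] at hα ⊢
    obtain ⟨g, hg, h⟩ := hα
    obtain ⟨g₁, hg₁, c, hc, rfl⟩ := hdec g hg
    exact ⟨g₁, hg₁, fun x => by rw [h x, conj_eq_of_decomp hc (hQ x.2)]⟩
  · intro α hα
    rw [Helper87.mem_autInducedBy_iff] at hα ⊢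
    obtain ⟨g, hg, h⟩ := hα
    exact ⟨g, hS₁ hg, h⟩

theorem extender_mono_left {S₁ P : Subgroup Ω} (hS₁ : S₁ ≤ S) (φ : P →* Ω) :
    extender S₁ P φ ≤ extender S P φ := by
  unfold extender
  apply Subgroup.closure_mono
  rintro g ⟨h1, h2, h, hh, h3⟩
  exact ⟨hS₁ h1, h2, h, hS₁ hh, h3⟩

theorem autGroup_congr_hom {S₁ : Subgroup Ω} (F : FusionSystem S) (R : FusionSystem S₁)
    {Q : Subgroup Ω} (h : R.Hom Q = F.Hom Q) : R.autGroup Q = F.autGroup Q := by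
  unfold autGroup
  rw [h]

/-- Lemma A: the full subsystem of a saturated system on a strongly closed subgroup `S₁`
with `S = S₁ C_S(S₁)` is saturated. -/
theorem isSaturated_full_of_decomp {p : ℕ} (F : FusionSystem S)
    (hF : F.IsSaturated p) {S₁ : Subgroup Ω} (h₁ : F.StronglyClosed S₁)
    (hdec : DecompCentral S S₁) (R : FusionSystem S₁)
    (hR : ∀ P : Subgroup Ω, P ≤ S₁ → R.Hom P = F.Hom P) : R.IsSaturated p := by
  intro P hP
  obtain ⟨Q, ⟨φ, hφ, hr⟩, hfa, hrec⟩ := hF P (hP.trans h₁.1)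
  have hQ : Q ≤ S₁ := by
    rw [← hr]
    rintro _ ⟨x, rfl⟩
    exact h₁.2 P hP φ hφ x
  refine ⟨Q, ⟨φ, by rw [hR P hP]; exact hφ, hr⟩, ⟨hQ, ?_⟩, hQ, ?_⟩
  · obtain ⟨_, T, hT⟩ := hfa
    rw [autGroup_congr_hom F R (hR Q hQ), ← autInducedBy_eq_of_decomp h₁.1 hdec hQ]
    exact ⟨T, hT⟩
  · intro P' φ' hφ' hr'
    have hP' : P' ≤ S₁ := Helper87.hom_le R hφ'
    have hφF : φ' ∈ F.Hom P' := by rw [← hR P' hP']; exact hφ'
    have hM : extender S₁ P' φ' ≤ S₁ :=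
      (Helper84.extender_le P' φ').trans (Helper87.normalizerIn_le S₁ P')
    obtain ⟨ψ, hψ, hψe⟩ := Helper87.extend_to_sub F hφF hr' hrec
      (extender_mono_left h₁.1 φ')
    exact ⟨ψ, by rw [hR _ hM]; exact hψ, fun x hPx hN => hψe x hPx hN⟩

end Cfsg.Agent.Lib.Helper85
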