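import Cfsg.Agent.Lib.Helper85.DirectFactor
import Cfsg.Agent.Lib.Helper85.Sylow
import Cfsg.Agent.Lib.Helper87.NormalCriterion

set_option autoImplicit false

/-!
Automorphisms of strongly closed direct factors: restriction, extension, conjugation of maps
by automorphisms of `S`, extension of maps to `P ⊔ S₂`.
-/

namespace Cfsg.Agent.Lib.Helper85

open Cfsg Cfsg.FusionSystem

variable {Ω : Type*} [Group Ω] {S : Subgroup Ω}

theorem subtype_aut_mem (F : FusionSystem S) {P : Subgroup Ω} (hP : P ≤ S) {α : MulAut P}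
    (hα : α ∈ F.autGroup P) : P.subtype.comp α.toMonoidHom ∈ F.Hom P :=
  (Helper87.mem_autGroup_iff F hP α).mp hα

theorem conj_mem_of_stronglyClosed (F : FusionSystem S) {T : Subgroup Ω}
    (hT : F.StronglyClosed T) {g : Ω} (hg : g ∈ S) {x : Ω} (hx : x ∈ T) : g * x * g⁻¹ ∈ T :=
  hT.2 T le_rfl (conjHom T g) (F.conj_mem hT.1 hg) ⟨x, hx⟩

theorem le_normalizer_of_stronglyClosed (F : FusionSystem S) {T : Subgroup Ω}
    (hT : F.StronglyClosed T) : S ≤ Subgroup.normalizer (T : Set Ω) := by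
  intro g hg
  rw [Subgroup.mem_normalizer_iff]
  intro x
  constructor
  · exact fun hx => conj_mem_of_stronglyClosed F hT hg hx
  · intro hx
    have := conj_mem_of_stronglyClosed F hT (S.inv_mem hg) hx
    have e : g⁻¹ * (g * x * g⁻¹) * g⁻¹⁻¹ = x := by group
    rwa [e] at this

/-- Restriction of an automorphism of `S` in `F` to a strongly closed subgroup. -/
theorem restrict_aut [Finite S] (F : FusionSystem S) {T : Subgroup Ω} (hT : F.StronglyClosed T)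
    {δ : MulAut S} (hδ : δ ∈ F.autGroup S) :
    ∃ α ∈ F.autGroup T, ∀ x : T, ((α x : T) : Ω) = ((δ ⟨x, hT.1 x.2⟩ : S) : Ω) := by
  haveI : Finite T := Finite.of_injective _ (Subgroup.inclusion_injective hT.1)
  have hψ : (S.subtype.comp δ.toMonoidHom).comp (Subgroup.inclusion hT.1) ∈ F.Hom T :=
    Helper87.restrict_mem F (subtype_aut_mem F le_rfl hδ) hT.1
  obtain ⟨γ, hγ, hγe⟩ := Helper87.exists_aut_of_hom F hψ (fun z => hT.2 T le_rfl _ hψ z)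
  exact ⟨γ, hγ, fun x => by rw [hγe x]; rfl⟩

theorem fullyNormalized_of_stronglyClosed' [Finite S] (F : FusionSystem S) {T : Subgroup Ω}
    (hT : F.StronglyClosed T) : F.IsFullyNormalized T := by
  refine ⟨hT.1, fun Q hQ => ?_⟩
  obtain ⟨φ, hφ, hr⟩ := hQ
  have := (Helper87.weaklyClosed_of_stronglyClosed F hT).2 φ hφ
  rw [← hr, this]

/-- F1: an automorphism in `F` of a strongly closed subgroup `T` with `S = T C_S(T)` extends to
an automorphism of `S` in `F`. -/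
theorem extend_aut_of_decomp [Finite S] {p : ℕ} [Fact p.Prime] (hS : IsPGroup p S)
    (F : FusionSystem S) (hF : F.IsSaturated p) {T : Subgroup Ω} (hT : F.StronglyClosed T)
    (hdec : DecompCentral S T) {α : MulAut T} (hα : α ∈ F.autGroup T) :
    ∃ δ ∈ F.autGroup S, ∀ x : T, ((δ ⟨x, hT.1 x.2⟩ : S) : Ω) = ((α x : T) : Ω) := by
  have hrec : F.IsReceptive T :=
    Helper87.receptive_of_fullyNormalized hS F hF (fullyNormalized_of_stronglyClosed' F hT)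
  have hφ : T.subtype.comp α.toMonoidHom ∈ F.Hom T := subtype_aut_mem F hT.1 hα
  have hr : (T.subtype.comp α.toMonoidHom).range = T :=
    (Helper87.weaklyClosed_of_stronglyClosed F hT).2 _ hφ
  have hM : S ≤ extender S T (T.subtype.comp α.toMonoidHom) := by
    intro g hg
    obtain ⟨g₁, hg₁, c, hc, rfl⟩ := hdec g hg
    refine Subgroup.subset_closure ⟨hg, le_normalizer_of_stronglyClosed F hT hg,
      ((α ⟨g₁, hg₁⟩ : T) : Ω), hT.1 (α ⟨g₁, hg₁⟩).2, fun x hx => ?_⟩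
    have e : (⟨(g₁ * c) * (x : Ω) * (g₁ * c)⁻¹, hx⟩ : T) = ⟨g₁, hg₁⟩ * x * ⟨g₁, hg₁⟩⁻¹ := by
      apply Subtype.ext
      exact conj_eq_of_decomp hc x.2
    rw [e]
    show ((α (⟨g₁, hg₁⟩ * x * ⟨g₁, hg₁⟩⁻¹) : T) : Ω) = _
    rw [map_mul, map_mul, map_inv]
    rfl
  obtain ⟨ψ, hψ, hψe⟩ := Helper87.extend_to_sub F hφ hr hrec hM
  obtain ⟨δ, hδ, hδe⟩ := Helper87.exists_aut_of_hom F hψ (fun z => Helper87.hom_mem_S F hψ z)
  exact ⟨δ, hδ, fun x => by rw [hδe, hψe x x.2 (hT.1 x.2)]; rfl⟩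

/-- Conjugating a map of `F` by an automorphism of `S` in `F`. -/
theorem conj_by_aut (F : FusionSystem S) {δ : MulAut S} (hδ : δ ∈ F.autGroup S)
    {P P' : Subgroup Ω} {φ : P →* Ω} (hφ : φ ∈ F.Hom P) (hP' : P' ≤ S)
    (hPP' : ∀ (y : Ω) (hy : y ∈ P'), ((δ⁻¹ ⟨y, hP' hy⟩ : S) : Ω) ∈ P) :
    ∃ χ ∈ F.Hom P', ∀ y : P', χ y =
      ((δ ⟨φ ⟨((δ⁻¹ ⟨y, hP' y.2⟩ : S) : Ω), hPP' y y.2⟩, Helper87.hom_mem_S F hφ _⟩ : S) : Ω) := by
  have hδ' : δ⁻¹ ∈ F.autGroup S := inv_mem hδ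
  have hψ₁ : (S.subtype.comp (δ⁻¹).toMonoidHom).comp (Subgroup.inclusion hP') ∈ F.Hom P' :=
    Helper87.restrict_mem F (subtype_aut_mem F le_rfl hδ') hP'
  obtain ⟨χ₁, hχ₁, hχ₁e⟩ := Helper87.comp_mem' F hψ₁ hφ (fun y => hPP' y y.2)
  obtain ⟨χ, hχ, hχe⟩ := Helper87.comp_mem' F hχ₁ (subtype_aut_mem F le_rfl hδ)
    (fun y => Helper87.hom_mem_S F hχ₁ y)
  refine ⟨χ, hχ, fun y => ?_⟩
  rw [hχe y]
  show ((δ ⟨χ₁ y, _⟩ : S) : Ω) = _
  congr 2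
  apply Subtype.ext
  exact hχ₁e y

end Cfsg.Agent.Lib.Helper85

namespace Cfsg.Agent.Lib.Helper85

open Cfsg Cfsg.FusionSystem

variable {Ω : Type*} [Group Ω] {S : Subgroup Ω}

/-- A map onto a receptive subgroup extends to `P ⊔ S₂` when `S₂ ≤ S` centralizes `P`. -/
theorem extend_to_sup_of_receptive (F : FusionSystem S) {S₂ P Q : Subgroup Ω} (hS₂ : S₂ ≤ S)
    (hcomm : ∀ a ∈ P, ∀ b ∈ S₂, a * b = b * a) {φ : P →* Ω} (hφ : φ ∈ F.Hom P)
    (hr : φ.range = Q) (hrec : F.IsReceptive Q) :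
    ∃ ψ ∈ F.Hom (P ⊔ S₂), ∀ x : P, ψ (Subgroup.inclusion le_sup_left x) = φ x := by
  have hM : P ⊔ S₂ ≤ extender S P φ := by
    apply sup_le (Helper87.self_le_extender F hφ)
    intro b hb
    apply Helper87.centralizerIn_le_extender' P φ
    exact ⟨hS₂ hb, Subgroup.mem_centralizer_iff.mpr (fun a ha => hcomm a ha b hb)⟩
  obtain ⟨ψ, hψ, hψe⟩ := Helper87.extend_to_sub F hφ hr hrec hM
  exact ⟨ψ, hψ, fun x => hψe x x.2 _⟩

/-- (E): a map of a saturated system with source `P ≤ S₁` extends to `P ⊔ S₂`, for strongly closed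
commuting `S₁`, `S₂`. -/
theorem extend_to_sup [Finite S] {p : ℕ} [Fact p.Prime] (hS : IsPGroup p S)
    (F : FusionSystem S) (hF : F.IsSaturated p) {S₁ S₂ : Subgroup Ω}
    (h₁ : F.StronglyClosed S₁) (h₂ : F.StronglyClosed S₂)
    (hcomm : ∀ a ∈ S₁, ∀ b ∈ S₂, a * b = b * a) {P : Subgroup Ω} (hP : P ≤ S₁)
    {φ : P →* Ω} (hφ : φ ∈ F.Hom P) :
    ∃ ψ ∈ F.Hom (P ⊔ S₂), ∀ x : P, ψ (Subgroup.inclusion le_sup_left x) = φ x := by
  have hQ : φ.range ≤ S₁ := by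
    rintro _ ⟨x, rfl⟩
    exact h₁.2 P hP φ hφ x
  obtain ⟨Q', ⟨χ, hχ, hχr⟩, hfn⟩ := Helper87.exists_fullyNormalized_conj F (hQ.trans h₁.1)
  have hrec : F.IsReceptive Q' := Helper87.receptive_of_fullyNormalized hS F hF hfn
  obtain ⟨κ, hκ, hκe⟩ := Helper87.comp_mem' F hφ hχ (fun x => (⟨x, rfl⟩ : φ x ∈ φ.range))
  have hκr : κ.range = Q' := by
    rw [← hχr]
    ext y
    constructor
    · rintro ⟨x, rfl⟩
      rw [hκe]
      exact ⟨_, rfl⟩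
    · rintro ⟨⟨_, ⟨x, rfl⟩⟩, rfl⟩
      exact ⟨x, hκe x⟩
  obtain ⟨ψ₁, hψ₁, hψ₁e⟩ := extend_to_sup_of_receptive F h₂.1
    (fun a ha b hb => hcomm a (hP ha) b hb) hκ hκr hrec
  obtain ⟨ψ₂, hψ₂, hψ₂e⟩ := extend_to_sup_of_receptive F h₂.1
    (fun a ha b hb => hcomm a (hQ ha) b hb) hχ hχr hrec
  have hsurj : ∀ s ∈ S₂, ∃ z : ↥(φ.range ⊔ S₂), ψ₂ z = s := by
    haveI : Finite S₂ := Finite.of_injective _ (Subgroup.inclusion_injective h₂.1)
    have hres : ψ₂.comp (Subgroup.inclusion le_sup_right) ∈ F.Hom S₂ :=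
      Helper87.restrict_mem F hψ₂ le_sup_right
    obtain ⟨γ, -, hγe⟩ := Helper87.exists_aut_of_hom F hres (fun z => h₂.2 S₂ le_rfl _ hres z)
    intro s hs
    refine ⟨Subgroup.inclusion le_sup_right (γ⁻¹ ⟨s, hs⟩), ?_⟩
    have := hγe (γ⁻¹ ⟨s, hs⟩)
    rw [MulAut.apply_inv_self] at this
    exact this.symm
  obtain ⟨ι, hι, hιe, -⟩ := Helper87.inv_exists F hψ₂ rfl
  have hPn : P ≤ Subgroup.normalizer (S₂ : Set Ω) :=
    (hP.trans h₁.1).trans (le_normalizer_of_stronglyClosed F h₂)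
  have hmem : ∀ y : ↥(P ⊔ S₂), ψ₁ y ∈ ψ₂.range := by
    intro y
    obtain ⟨a, ha, c, hc, hy⟩ := mem_sup_of_le_normalizer hPn y.2
    have e : y = Subgroup.inclusion le_sup_left (⟨a, ha⟩ : P) *
        Subgroup.inclusion le_sup_right (⟨c, hc⟩ : S₂) := Subtype.ext hy
    rw [e, map_mul]
    apply Subgroup.mul_mem
    · rw [hψ₁e, hκe, ← hψ₂e]
      exact ⟨_, rfl⟩
    · have hres : ψ₁.comp (Subgroup.inclusion le_sup_right) ∈ F.Hom S₂ :=
        Helper87.restrict_mem F hψ₁ le_sup_right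
      obtain ⟨z, hz⟩ := hsurj _ (h₂.2 S₂ le_rfl _ hres ⟨c, hc⟩)
      exact ⟨z, hz⟩
  obtain ⟨ψ, hψ, hψe⟩ := Helper87.comp_mem' F hψ₁ hι hmem
  refine ⟨ψ, hψ, fun x => ?_⟩
  rw [hψe]
  have e : ψ₁ (Subgroup.inclusion le_sup_left x) =
      ψ₂ (Subgroup.inclusion le_sup_left (⟨φ x, ⟨x, rfl⟩⟩ : φ.range)) := by
    rw [hψ₁e, hκe, hψ₂e]
  have h2 := hιe (Subgroup.inclusion le_sup_left (⟨φ x, ⟨x, rfl⟩⟩ : φ.range)) ⟨_, rfl⟩
  have h3 : ι ⟨ψ₁ (Subgroup.inclusion le_sup_left x), hmem _⟩ =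
      ι ⟨ψ₂ (Subgroup.inclusion le_sup_left (⟨φ x, ⟨x, rfl⟩⟩ : φ.range)), ⟨_, rfl⟩⟩ :=
    congrArg ι (Subtype.ext e)
  rw [h3, h2]
  rfl

end Cfsg.Agent.Lib.Helper85
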