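import Cfsg.Agent.Lib.Helper85.Hyperfocal
import Cfsg.Agent.Lib.Helper85.DirectFactor2
import Cfsg.Agent.Lib.Helper87.AutTransport
import Cfsg.Agent.Lib.Helper87.HypAct
import Cfsg.Agent.Lib.Helper88.NormalTransport

set_option autoImplicit false

/-!
Subsystems of `p`-power index over a normal subgroup `T ⊇ hyp(F)`: strong closure of `T` and
invariance of the subsystem under `Aut_F(T)`.
-/

namespace Cfsg.Agent.Lib.Helper85

open Cfsg Cfsg.FusionSystem Cfsg.Agent.Lib.Helper87

variable {Ω : Type*} [Group Ω] {S : Subgroup Ω}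

/-- `Aut_F(R)`, for `R` fully automized, is generated by `Aut_S(R)` and its `p'`-elements. -/
theorem autGroup_le_of_gen [Finite S] {p : ℕ} [Fact p.Prime] (F : FusionSystem S)
    {R : Subgroup Ω} (hfa : F.IsFullyAutomized p R) (X : Subgroup (MulAut R))
    (hSX : autInducedBy S R ≤ X)
    (hp' : ∀ β ∈ F.autGroup R, (orderOf β).Coprime p → β ∈ X) : F.autGroup R ≤ X := by
  obtain ⟨hRS, Syl, hSyl⟩ := hfa
  have hfinR : Finite R := finite_of_le hRS
  haveI : Finite (F.autGroup R) := inferInstance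
  intro a ha
  obtain ⟨t, ht, b, hb, hab⟩ := exists_sylow_mul_pResidual Syl ⟨a, ha⟩
  rw [hSyl, Subgroup.mem_subgroupOf] at ht
  have ha' : a = (t : MulAut R) * (b : MulAut R) := congrArg Subtype.val hab
  rw [ha']
  refine X.mul_mem (hSX ht) ?_
  have hle : Cfsg.pResidual p (F.autGroup R) ≤ X.comap (F.autGroup R).subtype := by
    unfold Cfsg.pResidual
    rw [Subgroup.closure_le]
    intro g hg
    apply hp' _ g.2
    rw [Subgroup.orderOf_coe]
    exact hg
  exact hle hb

/-- For a `p'`-element `β` of `Aut_F(R)`, `x⁻¹ β(x)` lies in the hyperfocal subgroup. -/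
theorem hyperfocal_mem_of_coprime (F : FusionSystem S) {p : ℕ} {R : Subgroup Ω} (hRS : R ≤ S)
    {β : MulAut R} (hβ : β ∈ F.autGroup R) (hcop : (orderOf β).Coprime p) (x : R) :
    (x : Ω)⁻¹ * ((β x : R) : Ω) ∈ F.hyperfocalSubgroup p := by
  have hmem : (⟨β, hβ⟩ : F.autGroup R) ∈ Cfsg.pResidual p (F.autGroup R) := by
    apply Subgroup.subset_closure
    show Nat.Coprime (orderOf (⟨β, hβ⟩ : F.autGroup R)) p
    rw [← Subgroup.orderOf_coe]
    exact hcop
  exact hyperfocal_gen_mem F p hRS ⟨β, hβ⟩ hmem x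

/-- A subgroup of `S`, normal in `S` and containing the hyperfocal subgroup, is strongly closed. -/
theorem stronglyClosed_of_hyperfocal_le [Finite S] {p : ℕ} [Fact p.Prime] (hS : IsPGroup p S)
    (F : FusionSystem S) (hF : F.IsSaturated p) {T : Subgroup Ω} (hTS : T ≤ S)
    (hTn : ∀ s ∈ S, ∀ x ∈ T, s * x * s⁻¹ ∈ T) (hT : F.hyperfocalSubgroup p ≤ T) :
    F.StronglyClosed T := by
  have key : ∀ (P : Subgroup Ω) (φ : P →* Ω), AlpGen F p P φ →
      ∀ x : P, (x : Ω) ∈ T → φ x ∈ T := by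
    intro P φ h
    induction h with
    | @aut P R hR α hα hPR =>
      intro x hx
      obtain ⟨⟨hRS, Syl, hSyl⟩, -, -, -⟩ := hR
      have hfinR : Finite R := finite_of_le hRS
      haveI : Finite (F.autGroup R) := inferInstance
      obtain ⟨t, ht, b, hb, hab⟩ := exists_sylow_mul_pResidual Syl ⟨α, hα⟩
      rw [hSyl, Subgroup.mem_subgroupOf] at ht
      obtain ⟨s, hs, hst⟩ := (Helper87.mem_autInducedBy_iff S R _).mp ht
      show ((α (Subgroup.inclusion hPR x) : R) : Ω) ∈ _
      have hα' : α = (t : MulAut R) * (b : MulAut R) := congrArg Subtype.val hab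
      rw [hα', MulAut.mul_apply, hst]
      apply hTn s hs
      have hgen := hT (hyperfocal_gen_mem F p hRS b hb (Subgroup.inclusion hPR x))
      have e : (((b : MulAut R) (Subgroup.inclusion hPR x) : R) : Ω) =
          (x : Ω) * ((x : Ω)⁻¹ * (((b : MulAut R) (Subgroup.inclusion hPR x) : R) : Ω)) := by group
      rw [e]
      exact Subgroup.mul_mem _ hx hgen
    | @comp P Q φ ψ _ _ h ih1 ih2 =>
      intro x hx
      exact ih2 ⟨φ x, h x⟩ (ih1 x hx)
  refine ⟨hTS, fun R hR φ hφ x => ?_⟩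
  exact key R φ (alperin hS F hF R φ hφ) x (hR x.2)

theorem autGroup_le_of_subsystem {T : Subgroup Ω} {E : FusionSystem T} {F : FusionSystem S}
    (hEF : E.IsSubsystemOf F) (R : Subgroup Ω) : E.autGroup R ≤ F.autGroup R := by
  unfold autGroup
  apply Subgroup.closure_mono
  intro α hα
  exact hEF R hα

end Cfsg.Agent.Lib.Helper85
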