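import Cfsg.Agent.Lib.Helper87.NormalChain

set_option autoImplicit false

namespace Cfsg.Agent.Lib.Helper85

open Cfsg Cfsg.FusionSystem Cfsg.Agent.Lib.Helper87

variable {Ω : Type*} [Group Ω] {S : Subgroup Ω}

/-- Restriction of an automorphism of `R` to a subgroup `K ≤ R` which it preserves. -/
def restrictAut {R K : Subgroup Ω} (hKR : K ≤ R) (β : MulAut R)
    (h : ∀ x : K, ((β ⟨x, hKR x.2⟩ : R) : Ω) ∈ K)
    (h' : ∀ x : K, ((β.symm ⟨x, hKR x.2⟩ : R) : Ω) ∈ K) : MulAut K :=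
  { toFun := fun x => ⟨β ⟨x, hKR x.2⟩, h x⟩
    invFun := fun x => ⟨β.symm ⟨x, hKR x.2⟩, h' x⟩
    left_inv := fun x => by
      apply Subtype.ext
      show ((β.symm ⟨((β ⟨x, hKR x.2⟩ : R) : Ω), _⟩ : R) : Ω) = x
      have : (⟨((β ⟨x, hKR x.2⟩ : R) : Ω), hKR (h x)⟩ : R) = β ⟨x, hKR x.2⟩ := rfl
      rw [this, MulEquiv.symm_apply_apply]
    right_inv := fun x => by
      apply Subtype.ext
      show ((β ⟨((β.symm ⟨x, hKR x.2⟩ : R) : Ω), _⟩ : R) : Ω) = x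
      have : (⟨((β.symm ⟨x, hKR x.2⟩ : R) : Ω), hKR (h' x)⟩ : R) = β.symm ⟨x, hKR x.2⟩ := rfl
      rw [this, MulEquiv.apply_symm_apply]
    map_mul' := fun x y => by
      apply Subtype.ext
      show ((β ⟨((x * y : K) : Ω), _⟩ : R) : Ω) = ((β ⟨x, _⟩ : R) : Ω) * ((β ⟨y, _⟩ : R) : Ω)
      have : (⟨((x * y : K) : Ω), hKR (x * y).2⟩ : R) = ⟨x, hKR x.2⟩ * ⟨y, hKR y.2⟩ := rfl
      rw [this, map_mul]
      rfl }

theorem restrictAut_coe {R K : Subgroup Ω} (hKR : K ≤ R) (β : MulAut R)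
    (h : ∀ x : K, ((β ⟨x, hKR x.2⟩ : R) : Ω) ∈ K)
    (h' : ∀ x : K, ((β.symm ⟨x, hKR x.2⟩ : R) : Ω) ∈ K) (x : K) :
    ((restrictAut hKR β h h' x : K) : Ω) = ((β ⟨x, hKR x.2⟩ : R) : Ω) := rfl

theorem restrictAut_pow {R K : Subgroup Ω} (hKR : K ≤ R) (β : MulAut R)
    (h : ∀ x : K, ((β ⟨x, hKR x.2⟩ : R) : Ω) ∈ K)
    (h' : ∀ x : K, ((β.symm ⟨x, hKR x.2⟩ : R) : Ω) ∈ K) (n : ℕ) (x : K) :
    (((restrictAut hKR β h h') ^ n) x : Ω) = (((β ^ n) ⟨x, hKR x.2⟩ : R) : Ω) := by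
  induction n generalizing x with
  | zero => simp
  | succ n ih =>
    rw [pow_succ, pow_succ, MulAut.mul_apply, MulAut.mul_apply, ih]
    rfl

/-- In a radical subgroup, an `F`-automorphism stabilizing an `Aut_F`-invariant chain
`R = C 0 ≥ C 1 ≥ ... ≥ C k` is inner, provided `p'`-elements of `Aut_F(R)` act trivially
on the last term `C k`. -/
theorem stabilizer_le_inn' [Finite S] {p : ℕ} [Fact p.Prime] (hS : IsPGroup p S)
    (F : FusionSystem S) {R : Subgroup Ω} (hRS : R ≤ S) (hrad : F.IsRadical p R) (k : ℕ)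
    (C : ℕ → Subgroup R) (h0 : C 0 = ⊤)
    (hbot : ∀ γ ∈ F.autGroup R, ∀ m : ℕ, m.Coprime p → γ ^ m = 1 → ∀ x ∈ C k, γ x = x)
    (hinv : ∀ γ ∈ F.autGroup R, ∀ i, ∀ x ∈ C i, γ x ∈ C i) {α : MulAut R}
    (hα : α ∈ F.autGroup R) (hαC : ∀ i < k, ∀ x ∈ C i, x⁻¹ * α x ∈ C (i + 1)) : α ∈ Inn R := by
  have hfinR : Finite R := finite_of_le hRS
  have hRp : IsPGroup p R := hS.to_le hRS
  let K : Subgroup (MulAut R) :=
    { carrier := {β | β ∈ F.autGroup R ∧ ∀ i < k, ∀ x ∈ C i, x⁻¹ * β x ∈ C (i + 1)}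
      mul_mem' := by
        rintro β γ ⟨hβ, hβC⟩ ⟨hγ, hγC⟩
        refine ⟨(F.autGroup R).mul_mem hβ hγ, fun i hi x hx => ?_⟩
        have e : x⁻¹ * (β * γ) x = (x⁻¹ * β x) * β (x⁻¹ * γ x) := by
          rw [MulAut.mul_apply, map_mul, map_inv]; group
        rw [e]
        exact (C (i + 1)).mul_mem (hβC i hi x hx) (hinv β hβ _ _ (hγC i hi x hx))
      one_mem' := by
        refine ⟨(F.autGroup R).one_mem, fun i _ x _ => ?_⟩
        simp
      inv_mem' := by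
        rintro β ⟨hβ, hβC⟩
        refine ⟨(F.autGroup R).inv_mem hβ, fun i hi x hx => ?_⟩
        have e : x⁻¹ * β⁻¹ x = β⁻¹ ((x⁻¹ * β x)⁻¹) := by
          rw [map_inv, map_mul, map_inv]
          have : β⁻¹ (β x) = x := by
            show β.symm (β x) = x
            simp
          rw [this]; group
        rw [e]
        exact hinv β⁻¹ ((F.autGroup R).inv_mem hβ) _ _ ((C (i + 1)).inv_mem (hβC i hi x hx)) }
  have hKle : K ≤ F.autGroup R := fun β hβ => hβ.1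
  have hKn : (K.subgroupOf (F.autGroup R)).Normal := by
    constructor
    rintro ⟨β, hβA⟩ hβ ⟨γ, hγ⟩
    have hβK : β ∈ K := hβ
    show γ * β * γ⁻¹ ∈ K
    refine ⟨(F.autGroup R).mul_mem ((F.autGroup R).mul_mem hγ hβA) ((F.autGroup R).inv_mem hγ),
      fun i hi x hx => ?_⟩
    have hγi := (F.autGroup R).inv_mem hγ
    have e : x⁻¹ * (γ * β * γ⁻¹) x = γ ((γ⁻¹ x)⁻¹ * β (γ⁻¹ x)) := by
      rw [MulAut.mul_apply, MulAut.mul_apply, map_mul, map_inv]
      have : γ (γ⁻¹ x) = x := by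
        show γ (γ.symm x) = x
        simp
      rw [this]
    rw [e]
    exact hinv γ hγ _ _ (hβK.2 i hi _ (hinv γ⁻¹ hγi _ _ hx))
  have hKp : IsPGroup p (K.subgroupOf (F.autGroup R)) := by
    rintro ⟨⟨β, hβA⟩, hβ⟩
    have hβK : β ∈ K := hβ
    have hpos : 0 < orderOf β := orderOf_pos β
    obtain ⟨a, m, hm, hord⟩ :=
      Nat.exists_eq_pow_mul_and_not_dvd hpos.ne' p (Nat.Prime.ne_one Fact.out)
    have hcop : m.Coprime p := by
      rw [Nat.coprime_comm]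
      exact (Nat.Prime.coprime_iff_not_dvd Fact.out).mpr hm
    have h1 : (β ^ (p ^ a)) ^ m = 1 := by
      rw [← pow_mul, ← hord, pow_orderOf_eq_one]
    have hpK : β ^ (p ^ a) ∈ K := K.pow_mem hβK _
    -- extended chain
    let C' : ℕ → Subgroup R := fun i => if i ≤ k then C i else ⊥
    have hC'0 : C' 0 = ⊤ := by simp [C', h0]
    have hC'k : C' (k + 1) = ⊥ := by simp [C']
    have hstep : ∀ i < k + 1, ∀ x ∈ C' i, x⁻¹ * (β ^ (p ^ a)) x ∈ C' (i + 1) := by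
      intro i hi x hx
      have hik : i ≤ k := by omega
      have hx' : x ∈ C i := by simpa [C', hik] using hx
      rcases Nat.lt_or_ge i k with hlt | hge
      · have hi1 : i + 1 ≤ k := hlt
        have := hpK.2 i hlt x hx'
        simpa [C', hi1] using this
      · have hik' : i = k := le_antisymm hik hge
        subst hik'
        have := hbot _ hpK.1 m hcop h1 x hx'
        rw [this]
        simp
    have h2 := aut_eq_one_of_chain hRp (β ^ (p ^ a)) m hcop h1 (k + 1) C' hC'0 hC'k hstep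
    refine ⟨a, ?_⟩
    apply Subtype.ext
    apply Subtype.ext
    exact h2
  have h3 : K.subgroupOf (F.autGroup R) ≤ pCore p (F.autGroup R) := le_pCore hKn hKp
  have h4 : α ∈ (pCore p (F.autGroup R)).map (F.autGroup R).subtype :=
    ⟨⟨α, hα⟩, h3 (show α ∈ K from ⟨hα, hαC⟩), rfl⟩
  rw [hrad.2] at h4
  exact h4

end Cfsg.Agent.Lib.Helper85
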