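import Cfsg.Agent.Lib.Helper88.Frattini
import Cfsg.Agent.Lib.Helper88.Abelian

set_option autoImplicit false

/-!
A saturated fusion system `F` over `S` is contained in any fusion system `F'` over `S` whose automizers are
normalized by those of `F` and with `Aut_F(S) ≤ Aut_{F'}(S)` (no containment between `F` and `F'` assumed).
-/

namespace Cfsg.Agent.Lib.Helper85.DetAut

open Cfsg Cfsg.FusionSystem Cfsg.Agent.Lib.Helper87
open Cfsg.Agent.Lib.Helper88 (hom_cast extend_of_normalizes_autS)

variable {Ω : Type*} [Group Ω] {S : Subgroup Ω} [Finite S] {p : ℕ} [Fact p.Prime]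

/-- Frattini-type lemma without containment: for `R` fully automized and receptive in `F`, `F'` a system
whose automizer of `R` is normalized by that of `F`, if all maps of `F` on `N_S(R)` lie in `F'` then
`Aut_F(R) ≤ Aut_{F'}(R)`. -/
theorem autGroup_le_of_frattini' (hS : IsPGroup p S) (F F' : FusionSystem S)
    {R : Subgroup Ω} (hfa : F.IsFullyAutomized p R) (hrec : F.IsReceptive R)
    (hnormal : ∀ α ∈ F.autGroup R, ∀ β ∈ F'.autGroup R, α * β * α⁻¹ ∈ F'.autGroup R)
    (hbig : F.Hom (normalizerIn S R) ⊆ F'.Hom (normalizerIn S R)) :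
    F.autGroup R ≤ F'.autGroup R := by
  have hRS : R ≤ S := hfa.1
  have hRfin : Finite R := Finite.of_injective _ (Subgroup.inclusion_injective hRS)
  obtain ⟨-, T₀, hT₀⟩ := hfa
  set N : Subgroup (F.autGroup R) := (F'.autGroup R).subgroupOf (F.autGroup R) with hN
  have hNnormal : N.Normal := by
    constructor
    intro b hb a
    rw [hN, Subgroup.mem_subgroupOf] at hb ⊢
    exact hnormal a a.2 b hb
  have hTN : (T₀ : Subgroup (F.autGroup R)) ≤ N := by
    rw [hT₀]
    intro t ht
    rw [Subgroup.mem_subgroupOf] at ht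
    rw [hN, Subgroup.mem_subgroupOf]
    exact autInducedBy_le_autGroup F' hRS ht
  have hfr := Sylow.normalizer_sup_eq_top' T₀ hTN
  intro α hα
  have hmem : (⟨α, hα⟩ : F.autGroup R) ∈ (⊤ : Subgroup (F.autGroup R)) := Subgroup.mem_top _
  rw [← hfr] at hmem
  rw [← SetLike.mem_coe, Subgroup.mul_normal] at hmem
  obtain ⟨n, hn, b, hb, hnb⟩ := Set.mem_mul.mp hmem
  have hnnorm : ∀ t ∈ autInducedBy S R, (n : MulAut R) * t * (n : MulAut R)⁻¹ ∈ autInducedBy S R := by
    intro t ht
    have htA : t ∈ F.autGroup R := autInducedBy_le_autGroup F hRS ht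
    have h1 : (⟨t, htA⟩ : F.autGroup R) ∈ (T₀ : Subgroup (F.autGroup R)) := by
      rw [hT₀, Subgroup.mem_subgroupOf]; exact ht
    have h2 := (Subgroup.mem_normalizer_iff.mp hn ⟨t, htA⟩).mp h1
    rw [hT₀, Subgroup.mem_subgroupOf] at h2
    exact h2
  obtain ⟨ψ, hψ, hψx⟩ := extend_of_normalizes_autS F hrec n n.2 hnnorm
  have hψ' : ψ ∈ F'.Hom (normalizerIn S R) := hbig hψ
  have hRN : R ≤ normalizerIn S R := le_normalizerIn hRS
  have hnF' : (n : MulAut R) ∈ F'.autGroup R := by
    rw [mem_autGroup_iff F' hRS]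
    have := restrict_mem F' hψ' hRN
    have e : ψ.comp (Subgroup.inclusion hRN) = R.subtype.comp (n : MulAut R).toMonoidHom := by
      ext x
      exact hψx x (hRN x.2)
    rwa [e] at this
  have hbF' : (b : MulAut R) ∈ F'.autGroup R := by
    rw [hN, SetLike.mem_coe, Subgroup.mem_subgroupOf] at hb
    exact hb
  have : α = (n : MulAut R) * (b : MulAut R) := by
    have := congrArg (fun z : F.autGroup R => (z : MulAut R)) hnb
    exact this.symm
  rw [this]
  exact (F'.autGroup R).mul_mem hnF' hbF'

theorem card_le_of_hom (F : FusionSystem S)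
    {P Q : Subgroup Ω} (hQS : Q ≤ S) {φ : P →* Ω} (hφ : φ ∈ F.Hom P) (hQ : ∀ x, φ x ∈ Q) :
    Nat.card P ≤ Nat.card Q := by
  have : Finite Q := Finite.of_injective (Subgroup.inclusion hQS) (Subgroup.inclusion_injective hQS)
  apply Nat.card_le_card_of_injective (φ.codRestrict Q hQ)
  intro a b hab
  apply F.injective_of_mem hφ
  exact congrArg (fun z : Q => (z : Ω)) hab

/-- A saturated system `F` over `S` lies in any system `F'` over `S` all of whose automizers are normalized by
those of `F` and whose automizer of `S` contains that of `F`. -/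
theorem le_of_autGroup_top_le (hS : IsPGroup p S) (F : FusionSystem S) (hF : F.IsSaturated p)
    (F' : FusionSystem S)
    (hnormal : ∀ (R : Subgroup Ω), R ≤ S → ∀ α ∈ F.autGroup R, ∀ β ∈ F'.autGroup R,
      α * β * α⁻¹ ∈ F'.autGroup R)
    (htop : F.autGroup S ≤ F'.autGroup S) (P : Subgroup Ω) : F.Hom P ⊆ F'.Hom P := by
  have step : ∀ n : ℕ, (∀ P' : Subgroup Ω, n < Nat.card P' → F.Hom P' ⊆ F'.Hom P') →
      ∀ (P : Subgroup Ω) (φ : P →* Ω), AlpGen F p P φ → n ≤ Nat.card P → φ ∈ F'.Hom P := by
    intro n IH P φ h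
    induction h with
    | @aut P R hR α hα hPR =>
      intro hn
      have hRS : R ≤ S := hR.1.1
      have hRfin : Finite R := Finite.of_injective _ (Subgroup.inclusion_injective hRS)
      have hPRcard : Nat.card P ≤ Nat.card R := Subgroup.card_le_of_le hPR
      have hαF := (mem_autGroup_iff F hRS α).mp hα
      have hαF' : R.subtype.comp α.toMonoidHom ∈ F'.Hom R := by
        by_cases hlt : n < Nat.card R
        · exact IH R hlt hαF
        · have hRn : Nat.card R = n := by omega
          by_cases hRtop : R = S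
          · subst hRtop
            exact (mem_autGroup_iff F' le_rfl α).mp (htop hα)
          · have hgrow := card_lt_card_normalizerIn hS hRS hRtop
            have hbig : F.Hom (normalizerIn S R) ⊆ F'.Hom (normalizerIn S R) :=
              IH _ (by omega)
            have := autGroup_le_of_frattini' hS F F' hR.1 hR.2.1 (hnormal R hRS) hbig hα
            exact (mem_autGroup_iff F' hRS α).mp this
      exact restrict_mem F' hαF' hPR
    | @comp P Q φ ψ h1 h2 h ih1 ih2 =>
      intro hn
      have hQS : Q ≤ S := hom_le F h2.mem_hom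
      have hcard := card_le_of_hom F hQS h1.mem_hom h
      exact F'.comp_mem (ih1 hn) (ih2 (hn.trans hcard)) h
  have main : ∀ k : ℕ, ∀ P : Subgroup Ω, P ≤ S → Nat.card S - Nat.card P = k → F.Hom P ⊆ F'.Hom P := by
    intro k
    induction k using Nat.strong_induction_on with
    | _ k ih =>
      intro P hPS hk φ hφ
      apply step (Nat.card P) _ P φ (alperin hS F hF P φ hφ) le_rfl
      intro Q hQ
      by_cases hQS : Q ≤ S
      · have hQc : Nat.card Q ≤ Nat.card S := Subgroup.card_le_of_le hQS
        apply ih (Nat.card S - Nat.card Q) _ Q hQS rfl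
        omega
      · intro ψ hψ
        exact absurd (hom_le F hψ) hQS
  intro φ hφ
  exact main _ P (hom_le F hφ) rfl hφ

end Cfsg.Agent.Lib.Helper85.DetAut
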