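import Cfsg.Agent.S1077
import Cfsg.Agent.S1078
import Cfsg.Agent.S2397
import Cfsg.Agent.Lib.Helper86.Sm_GSPLIT
import Cfsg.Prelude.Def_ChevE8
import Cfsg.Prelude.Def_KGroupFacts
import Cfsg.Prelude.Def_SteinbergCover

/-! # E8m hive (S2107, owner helper76): leaf TOP `e8_multiplier_of_cc`.

`E₈(F)` has trivial Schur multiplier as soon as `chevE8.SteinbergCover F` is centrally closed (hypothesis `hcc`), via
`SteinbergCover ≃* SteinbergGroup` (S2397, `F` finite) and `SteinbergGroup ≃* chevE8.group F` (S1077 + S1078). -/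

set_option autoImplicit false

universe u

namespace Cfsg.Agent.Lib.Helper76.E8m

open Cfsg Cfsg.Lie Cfsg.Agent.Lib.Helper39.Sm
open scoped commutatorElement

theorem top_ker_equiv {Γ G : Type*} [Group Γ] [Group G] (σ : Γ →* G) (h : σ.ker = ⊥) :
    Nonempty (σ.ker ≃* Multiplicative (ZMod 1)) := by
  have : Subsingleton (Multiplicative (ZMod 1)) := inferInstanceAs (Subsingleton (Fin 1))
  refine ⟨{ toFun := fun _ => 1, invFun := fun _ => 1, left_inv := ?_, right_inv := ?_, map_mul' := ?_ }⟩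
  · intro x
    have hx : (x : Γ) ∈ (⊥ : Subgroup Γ) := h ▸ x.2
    rw [Subgroup.mem_bot] at hx
    exact Subtype.ext hx.symm
  · intro y
    exact Subsingleton.elim _ _
  · intro x y
    simp

theorem top_surj_of_ker_bot {Γ G : Type*} [Group Γ] [Group G] (σ : Γ →* G) (h : σ.ker = ⊥) :
    ∃ π : Multiplicative (ZMod 1) →* σ.ker, Function.Surjective π := by
  refine ⟨1, fun y => ⟨1, ?_⟩⟩
  have hy : (y : Γ) ∈ (⊥ : Subgroup Γ) := h ▸ y.2
  rw [Subgroup.mem_bot] at hy
  exact Subtype.ext (by simpa using hy.symm)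

theorem top_ne_B2 : chevE8 ≠ chevB2 := fun h => by
  have := congrArg ChevalleyDatum.rank h
  revert this
  decide

theorem top_ne_G2 : chevE8 ≠ chevG2 := fun h => by
  have := congrArg ChevalleyDatum.rank h
  revert this
  decide

/-- TOP. -/
theorem e8_multiplier_of_cc {F : Type u} [Field F] [Fintype F]
    (hcc : ∀ (Y : Type u) [Group Y] (φ : Y →* chevE8.SteinbergCover F), Function.Surjective φ →
      φ.ker ≤ Subgroup.center Y → ∃ τ : chevE8.SteinbergCover F →* Y, φ.comp τ = MonoidHom.id _) :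
    Cfsg.HasCyclicSchurMultiplier ↥(chevE8.group F) 1 := by
  classical
  have hD7 : chevE8 ∈ [chevG2, chevB2, chevD4, chevF4, chevE6, chevE7, chevE8] := by simp
  have hD3 : chevE8 ∈ [chevG2, chevF4, chevE8] := by simp
  obtain ⟨θ, hθs, hθk, -⟩ := Cfsg.Agent.S1077.result (K := F) chevE8 hD7
  have hcen := Cfsg.Agent.S1078.result (K := F) chevE8 hD3
  have hK : chevE8 ∈ [chevB2, chevG2] → ∃ x : F, x ≠ 0 ∧ x ≠ 1 := by
    intro h
    exfalso
    rcases List.mem_cons.1 h with h | h
    · exact top_ne_B2 h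
    · rcases List.mem_cons.1 h with h | h
      · exact top_ne_G2 h
      · simp at h
  obtain ⟨e₁, -⟩ := Cfsg.Agent.S2397.result (K := F) chevE8 hD7 hK
  have hθi : Function.Injective θ := by
    rw [injective_iff_map_eq_one]
    intro x hx
    have hx' : x ∈ θ.ker := hx
    rw [hθk, hcen, Subgroup.mem_bot] at hx'
    exact hx'
  let e₂ : chevE8.SteinbergGroup F ≃* ↥(chevE8.group F) := MulEquiv.ofBijective θ ⟨hθi, hθs⟩
  have : Finite ↥(chevE8.group F) := inferInstance
  refine ⟨⟨↥(chevE8.group F), inferInstance, inferInstance,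
    MonoidHom.id _, ⟨Function.surjective_id, ?_, ?_⟩, ?_⟩, ?_⟩
  · rw [MonoidHom.ker_id]; exact bot_le
  · rw [MonoidHom.ker_id]; exact bot_le
  · exact top_ker_equiv _ MonoidHom.ker_id
  · intro Γ _ _ σ hσ
    obtain ⟨hs, hc, hk⟩ := hσ
    set φ : Γ →* chevE8.SteinbergCover F :=
      ((e₁.symm : chevE8.SteinbergGroup F →* chevE8.SteinbergCover F).comp
        (e₂.symm : ↥(chevE8.group F) →* chevE8.SteinbergGroup F)).comp σ with hφdef
    have hker : φ.ker = σ.ker := by
      ext x
      simp only [MonoidHom.mem_ker, hφdef, MonoidHom.comp_apply, MonoidHom.coe_coe]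
      constructor
      · intro h
        have h1 : e₂.symm (σ x) = 1 := by
          have := congrArg e₁ h
          simpa using this
        have h2 := congrArg e₂ h1
        simpa using h2
      · intro h
        rw [h]; simp
    have hφs : Function.Surjective φ := by
      rw [hφdef]
      exact (e₁.symm.surjective.comp e₂.symm.surjective).comp hs
    obtain ⟨τ, hτ⟩ := hcc Γ φ hφs (hker ▸ hc)
    have hbot : φ.ker = ⊥ := ker_eq_bot_of_section φ (hker ▸ hc) (hker ▸ hk) τ hτ
    exact top_surj_of_ker_bot σ (hker ▸ hbot)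

end Cfsg.Agent.Lib.Helper76.E8m
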