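import Cfsg.Agent.Lib.Helper37.EfDefs

/-! # S2211 hive "Ef" (helper37), leaf EF-INTW5 (helper85)

`x_{32}(t) * Pm = Pm * x^{F4}_{22}(t)` in characteristic 2.  Method: every entry of `xMat` is an integer polynomial in `t`
(list of (degree, coefficient)), read off the tables by the computable `ef_intw5_xP`; both sides of the entry (i, j) of the
matrix identity are then evaluations of explicit lists, which are compared degree by degree modulo 2 by `decide +kernel`.
The generic single-root statement is `ef_intw5_single` (any E6-root `a`, F4-root `s` passing the Boolean check). -/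

set_option autoImplicit false

namespace Cfsg.Agent.Lib.Helper37.Ef

open Cfsg Cfsg.Lie Cfsg.Agent.Lib.Helper36

variable {F : Type*} [Field F]

/-- evaluation of an integer polynomial given as a list of (degree, coefficient) -/
def ef_intw5_pe (t : F) (l : List (ℕ × ℤ)) : F := (l.map fun km => ((km.2 : ℤ) : F) * t ^ km.1).sum

theorem ef_intw5_pe_nil (t : F) : ef_intw5_pe t [] = 0 := by simp [ef_intw5_pe]

theorem ef_intw5_pe_cons (t : F) (p : ℕ × ℤ) (l : List (ℕ × ℤ)) :
    ef_intw5_pe t (p :: l) = ((p.2 : ℤ) : F) * t ^ p.1 + ef_intw5_pe t l := by simp [ef_intw5_pe]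

theorem ef_intw5_pe_append (t : F) (l l' : List (ℕ × ℤ)) :
    ef_intw5_pe t (l ++ l') = ef_intw5_pe t l + ef_intw5_pe t l' := by simp [ef_intw5_pe]

theorem ef_intw5_pe_flatMap {α : Type*} (t : F) (L : List α) (g : α → List (ℕ × ℤ)) :
    ef_intw5_pe t (L.flatMap g) = (L.map fun k => ef_intw5_pe t (g k)).sum := by
  induction L with
  | nil => simp [ef_intw5_pe]
  | cons a L ih => rw [List.flatMap_cons, ef_intw5_pe_append, ih, List.map_cons, List.sum_cons]

/-- the entries of `xMat` as integer polynomials in `t` -/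
def ef_intw5_xP (D : ChevalleyDatum) (r : Fin D.nroots) (row col : D.Idx) : List (ℕ × ℤ) :=
  match col with
  | Sum.inl i =>
    (match row with
     | Sum.inl i' => if i' = i then [(0, 1)] else []
     | Sum.inr u => if u = r then [(1, - ((D.cartanSR.getD i.val #[]).getD r.val 0))] else [])
  | Sum.inr s =>
    if s = r then (match row with | Sum.inr u => if u = r then [(0, 1)] else [] | Sum.inl _ => [])
    else if s.val = D.negIdx.getD r.val 0 then
      (match row with
       | Sum.inl i => [(1, (D.coroot.getD r.val #[]).getD i.val 0)]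
       | Sum.inr u => if u = s then [(0, 1)] else if u = r then [(2, -1)] else [])
    else
      (match row with
       | Sum.inl _ => []
       | Sum.inr u => (if u = s then [(0, 1)] else []) ++ D.chainCoeff r.val s.val u.val)

theorem ef_intw5_xP_spec (D : ChevalleyDatum) (r : Fin D.nroots) (t : F) (row col : D.Idx) :
    D.xMat F r t row col = ef_intw5_pe t (ef_intw5_xP D r row col) := by
  unfold ChevalleyDatum.xMat ef_intw5_xP
  rw [Matrix.of_apply]
  rcases col with i | s
  · rcases row with i' | u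
    · simp only []
      split_ifs <;> simp [ef_intw5_pe]
    · simp only []
      split_ifs <;> simp [ef_intw5_pe]
  · simp only []
    by_cases h1 : s = r
    · rw [if_pos h1, if_pos h1]
      rcases row with i' | u
      · simp [ef_intw5_pe]
      · simp only []
        split_ifs <;> simp [ef_intw5_pe]
    · rw [if_neg h1, if_neg h1]
      by_cases h2 : s.val = D.negIdx.getD r.val 0
      · rw [if_pos h2, if_pos h2]
        rcases row with i' | u
        · simp [ef_intw5_pe]
        · simp only []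
          split_ifs <;> simp [ef_intw5_pe]
      · rw [if_neg h2, if_neg h2]
        rcases row with i' | u
        · simp [ef_intw5_pe]
        · simp only []
          rw [ef_intw5_pe_append]
          congr 1
          split_ifs <;> simp [ef_intw5_pe]

/-- all indices as a list -/
def ef_intw5_idx (D : ChevalleyDatum) : List D.Idx :=
  (List.finRange D.rank).map Sum.inl ++ (List.finRange D.nroots).map Sum.inr

theorem ef_intw5_mem_idx (D : ChevalleyDatum) (i : D.Idx) : i ∈ ef_intw5_idx D := by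
  rcases i with i | i <;> simp [ef_intw5_idx, List.mem_finRange]

theorem ef_intw5_sum_idx (D : ChevalleyDatum) (f : D.Idx → F) :
    ∑ k, f k = ((ef_intw5_idx D).map f).sum := by
  rw [Fintype.sum_sum_type, Fin.sum_univ_def, Fin.sum_univ_def]
  simp [ef_intw5_idx, List.map_map, Function.comp_def]

/-- the Boolean pattern of `Pm` -/
def ef_intw5_PB (i : chevE6.Idx) (j : chevF4.Idx) : Bool :=
  match i, j with
  | Sum.inl a, Sum.inl k => decide (a.val ∈ horbF.getD k.val [])
  | Sum.inr a, Sum.inr s => decide (a.val ∈ orbF.getD s.val [])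
  | _, _ => false

theorem ef_intw5_Pm_eq (i : chevE6.Idx) (j : chevF4.Idx) :
    Pm F i j = if ef_intw5_PB i j = true then 1 else 0 := by
  rcases i with a | a <;> rcases j with k | k <;> simp [Pm, ef_intw5_PB]

/-- coefficients of degree 0, 1, 2 -/
def ef_intw5_tri : List (ℕ × ℤ) → ℤ × ℤ × ℤ
  | [] => (0, 0, 0)
  | p :: l =>
    if p.1 = 0 then ((ef_intw5_tri l).1 + p.2, (ef_intw5_tri l).2.1, (ef_intw5_tri l).2.2)
    else if p.1 = 1 then ((ef_intw5_tri l).1, (ef_intw5_tri l).2.1 + p.2, (ef_intw5_tri l).2.2)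
    else ((ef_intw5_tri l).1, (ef_intw5_tri l).2.1, (ef_intw5_tri l).2.2 + p.2)

def ef_intw5_okd (l : List (ℕ × ℤ)) : Bool := l.all fun p => decide (p.1 ≤ 2)

theorem ef_intw5_tri_spec (t : F) (l : List (ℕ × ℤ)) (h : ef_intw5_okd l = true) :
    ef_intw5_pe t l = (((ef_intw5_tri l).1 : ℤ) : F) + (((ef_intw5_tri l).2.1 : ℤ) : F) * t
      + (((ef_intw5_tri l).2.2 : ℤ) : F) * t ^ 2 := by
  induction l with
  | nil => simp [ef_intw5_pe, ef_intw5_tri]
  | cons p l ih =>
    obtain ⟨k, c⟩ := p
    simp only [ef_intw5_okd, List.all_cons, Bool.and_eq_true, decide_eq_true_eq] at h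
    have ih' := ih h.2
    rw [ef_intw5_pe_cons, ih']
    have hk : k = 0 ∨ k = 1 ∨ k = 2 := by omega
    rcases hk with rfl | rfl | rfl
    · simp only [ef_intw5_tri]; push_cast; ring
    · simp only [ef_intw5_tri]; push_cast; ring
    · simp only [ef_intw5_tri]; push_cast; ring

/-- comparison modulo 2 -/
def ef_intw5_chk1 (l l' : List (ℕ × ℤ)) : Bool :=
  ef_intw5_okd l && ef_intw5_okd l' &&
    decide ((ef_intw5_tri l).1 % 2 = (ef_intw5_tri l').1 % 2) &&
    decide ((ef_intw5_tri l).2.1 % 2 = (ef_intw5_tri l').2.1 % 2) &&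
    decide ((ef_intw5_tri l).2.2 % 2 = (ef_intw5_tri l').2.2 % 2)

theorem ef_intw5_chk1_sound [CharP F 2] (t : F) (l l' : List (ℕ × ℤ)) (h : ef_intw5_chk1 l l' = true) :
    ef_intw5_pe t l = ef_intw5_pe t l' := by
  simp only [ef_intw5_chk1, Bool.and_eq_true, decide_eq_true_eq] at h
  obtain ⟨⟨⟨⟨h1, h2⟩, h3⟩, h4⟩, h5⟩ := h
  rw [ef_intw5_tri_spec t l h1, ef_intw5_tri_spec t l' h2]
  have e3 : (((ef_intw5_tri l).1 : ℤ) : F) = (((ef_intw5_tri l').1 : ℤ) : F) :=
    (CharP.intCast_eq_intCast F 2).2 h3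
  have e4 : (((ef_intw5_tri l).2.1 : ℤ) : F) = (((ef_intw5_tri l').2.1 : ℤ) : F) :=
    (CharP.intCast_eq_intCast F 2).2 h4
  have e5 : (((ef_intw5_tri l).2.2 : ℤ) : F) = (((ef_intw5_tri l').2.2 : ℤ) : F) :=
    (CharP.intCast_eq_intCast F 2).2 h5
  rw [e3, e4, e5]

/-- entry (i, j) of `x_a(t) * Pm` as a polynomial -/
def ef_intw5_Lp (a : Fin chevE6.nroots) (i : chevE6.Idx) (j : chevF4.Idx) : List (ℕ × ℤ) :=
  (ef_intw5_idx chevE6).flatMap fun k => if ef_intw5_PB k j = true then ef_intw5_xP chevE6 a i k else []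

/-- entry (i, j) of `Pm * x_s(t)` as a polynomial -/
def ef_intw5_Rp (s : Fin chevF4.nroots) (i : chevE6.Idx) (j : chevF4.Idx) : List (ℕ × ℤ) :=
  (ef_intw5_idx chevF4).flatMap fun l => if ef_intw5_PB i l = true then ef_intw5_xP chevF4 s l j else []

def ef_intw5_chkAll (a : Fin chevE6.nroots) (s : Fin chevF4.nroots) : Bool :=
  (ef_intw5_idx chevE6).all fun i => (ef_intw5_idx chevF4).all fun j =>
    ef_intw5_chk1 (ef_intw5_Lp a i j) (ef_intw5_Rp s i j)

/-- the generic single-root intertwining statement -/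
theorem ef_intw5_single [CharP F 2] (a : Fin chevE6.nroots) (s : Fin chevF4.nroots)
    (h : ef_intw5_chkAll a s = true) (t : F) :
    chevE6.xMat F a t * Pm F = Pm F * chevF4.xMat F s t := by
  ext i j
  rw [Matrix.mul_apply, Matrix.mul_apply, ef_intw5_sum_idx, ef_intw5_sum_idx]
  have hL : ((ef_intw5_idx chevE6).map fun k => chevE6.xMat F a t i k * Pm F k j).sum
      = ef_intw5_pe t (ef_intw5_Lp a i j) := by
    rw [ef_intw5_Lp, ef_intw5_pe_flatMap]
    congr 1
    apply List.map_congr_left
    intro k _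
    rw [ef_intw5_Pm_eq, ef_intw5_xP_spec]
    split_ifs <;> simp [ef_intw5_pe_nil]
  have hR : ((ef_intw5_idx chevF4).map fun l => Pm F i l * chevF4.xMat F s t l j).sum
      = ef_intw5_pe t (ef_intw5_Rp s i j) := by
    rw [ef_intw5_Rp, ef_intw5_pe_flatMap]
    congr 1
    apply List.map_congr_left
    intro l _
    rw [ef_intw5_Pm_eq, ef_intw5_xP_spec]
    split_ifs <;> simp [ef_intw5_pe_nil]
  rw [hL, hR]
  apply ef_intw5_chk1_sound
  simp only [ef_intw5_chkAll, List.all_eq_true] at h
  exact h i (ef_intw5_mem_idx chevE6 i) j (ef_intw5_mem_idx chevF4 j)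

theorem ef_intw5_chk : ef_intw5_chkAll ⟨32, by decide⟩ ⟨22, by decide⟩ = true := by decide +kernel

/-- EF-INTW5 -/
theorem intw5 [CharP F 2] (t : F) :
    ((yG F 5 t : GL chevE6.Idx F) : Matrix chevE6.Idx chevE6.Idx F) * Pm F = Pm F * chevF4.x F 22 t := by
  have h1 : ((yG F 5 t : GL chevE6.Idx F) : Matrix chevE6.Idx chevE6.Idx F)
      = chevE6.xMat F ⟨32, by decide⟩ t := by
    rw [yG, wordGL_coe]
    simp [blk, ChevalleyDatum.wordMat, ChevalleyDatum.x, show (32 : ℕ) < chevE6.nroots by decide]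
  have h2 : chevF4.x F 22 t = chevF4.xMat F ⟨22, by decide⟩ t := by
    simp [ChevalleyDatum.x, show (22 : ℕ) < chevF4.nroots by decide]
  rw [h1, h2]
  exact ef_intw5_single _ _ ef_intw5_chk t

end Cfsg.Agent.Lib.Helper37.Ef
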