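import Cfsg.Agent.Lib.Helper47.FLDefs
import Cfsg.Agent.Lib.Helper47.FrakLDih

set_option autoImplicit false

/-! # S2863 hive (`FL`, owner helper47): leaf FL-GPTWO `goodPair_of_card_two` (helper85)

`|P| = 2`: `P = {1, t}`, a conjugate `s = g t g⁻¹ ∉ N(P)`, `X = ⟨t, s⟩` is dihedral, `r = t s`:
every element is `r^k` or `r^k t`, the latter are involutions; for `x = r^k` of non-2-power order
`x² = (x t x⁻¹) t` is a product of two involutions from the different conjugates `x P x⁻¹`, `P`. -/

namespace Cfsg.Agent.Lib.Helper47.FL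

open Cfsg

/-- an involution `t` inverts the powers of `r = t s` (`s` an involution) -/
theorem gptwo_conj {X : Type*} [Group X] {t s : X} (ht : t ^ 2 = 1) (hs : s ^ 2 = 1) (k : ℤ) :
    t * (t * s) ^ k = (t * s) ^ (-k) * t := by
  have htinv : t⁻¹ = t := by
    rw [inv_eq_iff_mul_eq_one, ← sq, ht]
  have hsinv : s⁻¹ = s := by
    rw [inv_eq_iff_mul_eq_one, ← sq, hs]
  have hconj_r : t * (t * s) * t⁻¹ = (t * s)⁻¹ := by
    rw [mul_inv_rev, hsinv, htinv, ← mul_assoc, ← sq, ht, one_mul]
  have h1 : t * (t * s) ^ k * t⁻¹ = (t * s) ^ (-k) := by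
    rw [← conj_zpow, hconj_r, inv_zpow, zpow_neg]
  rw [← h1, inv_mul_cancel_right]

/-- the elements of a group generated by two involutions `t`, `s`: `r^k` or `r^k t`, `r = t s` -/
theorem gptwo_dihedral {X : Type*} [Group X] {t s : X} (ht : t ^ 2 = 1) (hs : s ^ 2 = 1)
    (hgen : Subgroup.closure ({t, s} : Set X) = ⊤) (x : X) :
    ∃ k : ℤ, x = (t * s) ^ k ∨ x = (t * s) ^ k * t := by
  have htinv : t⁻¹ = t := by
    rw [inv_eq_iff_mul_eq_one, ← sq, ht]
  have htt : t * t = 1 := by rw [← sq, ht]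
  have hc := gptwo_conj ht hs
  have hx : x ∈ Subgroup.closure ({t, s} : Set X) := by rw [hgen]; trivial
  induction hx using Subgroup.closure_induction with
  | mem y hy =>
    rcases hy with rfl | hy
    · exact ⟨0, Or.inr (by rw [zpow_zero, one_mul])⟩
    · rw [Set.mem_singleton_iff] at hy
      refine ⟨-1, Or.inr ?_⟩
      have h1 := hc 1
      rw [zpow_one] at h1
      rw [← h1, ← mul_assoc, htt, one_mul, hy]
  | one => exact ⟨0, Or.inl (zpow_zero _).symm⟩
  | mul y z _ _ hy hz =>
    obtain ⟨a, ha | ha⟩ := hy <;> obtain ⟨b, hb | hb⟩ := hz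
    · exact ⟨a + b, Or.inl (by rw [ha, hb, zpow_add])⟩
    · exact ⟨a + b, Or.inr (by rw [ha, hb, zpow_add, mul_assoc])⟩
    · refine ⟨a + -b, Or.inr ?_⟩
      rw [ha, hb, mul_assoc, hc b, ← mul_assoc, ← zpow_add]
    · refine ⟨a + -b, Or.inl ?_⟩
      rw [ha, hb, mul_assoc ((t * s) ^ a) t, ← mul_assoc t, hc b, mul_assoc ((t * s) ^ (-b)), htt,
        mul_one, ← zpow_add]
  | inv y _ hy =>
    obtain ⟨a, ha | ha⟩ := hy
    · exact ⟨-a, Or.inl (by rw [ha, zpow_neg])⟩
    · refine ⟨a, Or.inr ?_⟩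
      have h1 := hc (-a)
      rw [neg_neg] at h1
      rw [ha, mul_inv_rev, htinv, ← zpow_neg, h1]

/-- LEAF GP-TWO (`|P| = 2`: covers `D_{2r}`, `Sz(2)`, `SL₂(2)`). -/
theorem goodPair_of_card_two {X : Type*} [Group X] [Finite X] {P : Subgroup X} (h : LBar 2 P)
    (hc : Nat.card ↥P = 2) : GoodPair 2 P := by
  obtain ⟨⟨t, htP⟩, ht1⟩ := (Subgroup.ne_bot_iff_exists_ne_one).mp h.ne
  have ht1' : t ≠ 1 := fun h0 => ht1 (Subtype.ext h0)
  have hP : ∀ x ∈ P, x = 1 ∨ x = t := by
    intro x hx
    by_cases hx1 : x = 1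
    · exact Or.inl hx1
    · right
      obtain ⟨y, -, hy⟩ := (Nat.card_eq_two_iff' (1 : ↥P)).mp hc
      have h1 := hy ⟨x, hx⟩ (fun h0 => hx1 (congrArg Subtype.val h0))
      have h2 := hy ⟨t, htP⟩ ht1
      exact congrArg Subtype.val (h1.trans h2.symm)
  have ht2 : t ^ 2 = 1 := h.exp t htP
  have htt : t * t = 1 := by rw [← sq, ht2]
  have hNc : ∀ c ∈ Subgroup.normalizer ((P : Subgroup X) : Set X), c * t = t * c := by
    intro c hcN
    have h1 : c * t * c⁻¹ ∈ P := (Subgroup.mem_normalizer_iff.mp hcN t).mp htP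
    rcases hP _ h1 with h2 | h2
    · exfalso
      apply ht1'
      have : c * t = c := by
        rw [mul_inv_eq_one] at h2
        exact h2
      exact mul_left_cancel (this.trans (mul_one c).symm)
    · rw [mul_inv_eq_iff_eq_mul] at h2
      exact h2
  have hex : ∃ g : X, g * t * g⁻¹ ∉ Subgroup.normalizer ((P : Subgroup X) : Set X) := by
    by_contra hcon
    push Not at hcon
    apply h.nne
    rw [eq_top_iff, ← h.ncl, Subgroup.normalClosure, Subgroup.closure_le]
    intro x hx
    obtain ⟨a, ha, hax⟩ := Group.mem_conjugatesOfSet_iff.mp hx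
    obtain ⟨c, hc'⟩ := isConj_iff.mp hax
    rcases hP a ha with rfl | rfl
    · rw [mul_one, mul_inv_cancel] at hc'
      rw [← hc']
      exact Subgroup.one_mem _
    · rw [← hc']
      exact hcon c
  obtain ⟨g, hg⟩ := hex
  obtain ⟨s, hs⟩ : ∃ s : X, s = g * t * g⁻¹ := ⟨_, rfl⟩
  rw [← hs] at hg
  have hs2 : s ^ 2 = 1 := by
    rw [hs, conj_pow, ht2, mul_one, mul_inv_cancel]
  have hgen : Subgroup.closure ({t, s} : Set X) = ⊤ := by
    have hPle : P ≤ Subgroup.closure ({t, s} : Set X) := by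
      intro x hx
      rcases hP x hx with rfl | rfl
      · exact Subgroup.one_mem _
      · exact Subgroup.subset_closure (Set.mem_insert _ _)
    rcases h.dich _ hPle with h1 | h1
    · exact absurd (h1 (Subgroup.subset_closure (Set.mem_insert_of_mem _ rfl))) hg
    · exact h1
  have hcent := Cfsg.Agent.Lib.Helper47.dihedral_centralizer ht2 hs2 hgen h.core
  -- orders `1`, `2` are powers of `2`
  have hpow : ∀ x : X, x * x = 1 → ∃ k : ℕ, orderOf x = 2 ^ k := by
    intro x hx
    have h1 : orderOf x ∣ 2 := orderOf_dvd_of_pow_eq_one (by rw [sq, hx])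
    rcases (Nat.dvd_prime Nat.prime_two).mp h1 with h2 | h2
    · exact ⟨0, by rw [h2, pow_zero]⟩
    · exact ⟨1, by rw [h2, pow_one]⟩
  constructor
  · -- free
    intro y hy hy1
    have hyt : y = t := by
      rcases hP y hy with h0 | h0
      · exact absurd h0 hy1
      · exact h0
    have hgN : cj g P ≠ P := by
      intro heq
      have hgn : g ∈ Subgroup.normalizer ((P : Subgroup X) : Set X) := cj_eq_self_iff.mp heq
      apply hg
      have h1 : s ∈ P := by
        rw [hs]
        exact (Subgroup.mem_normalizer_iff.mp hgn t).mp htP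
      exact Subgroup.le_normalizer h1
    refine ⟨g, hgN, s, ?_, g⁻¹, ?_, cj_inv_cj g P⟩
    · rw [hs]
      exact conj_mem_cj htP
    · rw [hyt, hgen]
      trivial
  · -- fpf
    intro x hx
    refine ⟨2, Or.inl ?_⟩
    obtain ⟨k, hk | hk⟩ := gptwo_dihedral ht2 hs2 hgen x
    · -- `x = r ^ k`
      have hxN : x ∉ Subgroup.normalizer ((P : Subgroup X) : Set X) := by
        intro hxn
        rcases hcent x (hNc x hxn) with h0 | h0
        · exact hx ⟨0, by rw [h0, orderOf_one, pow_zero]⟩
        · exact hx (hpow x (by rw [h0, htt]))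
      refine ⟨x, 1, ?_, x * t * x⁻¹, conj_mem_cj htP, t, ?_, ?_, ht1', ?_⟩
      · rw [cj_one]
        intro heq
        exact hxN (cj_eq_self_iff.mp heq)
      · rw [cj_one]
        exact htP
      · intro h0
        apply ht1'
        have h1 : x * t = x := by
          have := mul_inv_eq_one.mp h0
          exact this
        exact mul_left_cancel (h1.trans (mul_one x).symm)
      · -- `x² = (x t x⁻¹) t`
        have h1 : t * x⁻¹ = x * t := by
          rw [hk, ← zpow_neg, gptwo_conj ht2 hs2 (-k), neg_neg]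
        calc x ^ 2 = x * x := sq x
          _ = x * x * (t * t) := by rw [htt, mul_one]
          _ = x * (x * t) * t := by simp only [mul_assoc]
          _ = x * (t * x⁻¹) * t := by rw [h1]
          _ = x * t * x⁻¹ * t := by simp only [mul_assoc]
    · -- `x = r ^ k * t` is an involution
      exfalso
      apply hx
      apply hpow
      rw [hk, mul_assoc ((t * s) ^ k) t, ← mul_assoc t, gptwo_conj ht2 hs2 k,
        mul_assoc ((t * s) ^ (-k)), htt, mul_one, ← zpow_add, add_neg_cancel, zpow_zero]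

end Cfsg.Agent.Lib.Helper47.FL
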