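import Cfsg.Agent.Lib.Helper85.ResLimit2
import Cfsg.Agent.Lib.Helper85.DirectFactor
import Cfsg.Agent.Lib.Helper85.Sylow
import Cfsg.Agent.Lib.Helper85.RobertsShpectorov
import Cfsg.Agent.Lib.Helper87.Lemma26
import Cfsg.Agent.Lib.Helper87.Saturation
import Cfsg.Agent.Lib.Helper87.HypQuot
import Cfsg.Agent.Lib.Helper85.PPowerNormal1

/-!
# Saturation of a "Frattini" subsystem

`F` saturated over `S`, `T` strongly closed, `E ⊆ F` a fusion system over `T` which is `S`-invariant,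
satisfies the Frattini condition `F = S · E` on subgroups of `T`, and such that conjugation by
`s ∈ S` on a fully `F`-centralized `P ≤ T` lies in `E` only for `s ∈ T C_S(P)`.  Then `E` is saturated.
-/

set_option autoImplicit false

namespace Cfsg.Agent.Lib.Helper85.FSat

open Cfsg Cfsg.FusionSystem Cfsg.Agent.Lib.Helper87 Cfsg.Agent.Lib.Helper85

variable {Ω : Type*} [Group Ω] {S : Subgroup Ω}

/-- `N_S(Q)^s ≤ N_S(Q^s)` for `s ∈ S`. -/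
theorem card_normalizerIn_le_map_cj [Finite S] {s : Ω} (hs : s ∈ S) (Q : Subgroup Ω) :
    Nat.card (normalizerIn S Q) ≤ Nat.card (normalizerIn S (Q.map (cj s))) := by
  have hle : (normalizerIn S Q).map (cj s) ≤ normalizerIn S (Q.map (cj s)) := by
    rintro _ ⟨x, ⟨hxS, hxN⟩, rfl⟩
    refine ⟨S.mul_mem (S.mul_mem hs hxS) (S.inv_mem hs), ?_⟩
    have hxN' : x ∈ Subgroup.normalizer (Q : Set Ω) := hxN
    show cj s x ∈ Subgroup.normalizer ((Q.map (cj s) : Subgroup Ω) : Set Ω)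
    rw [Subgroup.mem_normalizer_iff] at hxN' ⊢
    intro y
    rw [mem_map_cj, mem_map_cj]
    have e : s⁻¹ * (cj s x * y * (cj s x)⁻¹) * s = x * (s⁻¹ * y * s) * x⁻¹ := by
      simp only [cj_apply]; group
    rw [e]
    exact hxN' _
  have hfin : Finite (normalizerIn S (Q.map (cj s))) := finite_of_le (normalizerIn_le S _)
  calc Nat.card (normalizerIn S Q) = Nat.card ((normalizerIn S Q).map (cj s)) :=
        (card_map_cj s _).symm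
    _ ≤ _ := Subgroup.card_le_of_le hle

section main

variable [Finite S] {p : ℕ} [Fact p.Prime] (hS : IsPGroup p S) (F : FusionSystem S)
  (hF : F.IsSaturated p) {T : Subgroup Ω} (hTsc : F.StronglyClosed T) (E : FusionSystem T)
  (hEF : E.IsSubsystemOf F)
  (hfrat : ∀ P : Subgroup Ω, P ≤ T → ∀ φ ∈ F.Hom P, ∃ s ∈ S, ∃ ψ ∈ E.Hom P,
    ∀ x : P, φ x = s * ψ x * s⁻¹)
  (hinv : ∀ (P : Subgroup Ω) (ψ : P →* Ω), ψ ∈ E.Hom P → ∀ s ∈ S,
    ∃ χ ∈ E.Hom (P.map (cj s)), ∀ (x : P) (hx : s * (x : Ω) * s⁻¹ ∈ P.map (cj s)),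
      χ ⟨s * x * s⁻¹, hx⟩ = s * ψ x * s⁻¹)
  (hHT : ∀ P : Subgroup Ω, P ≤ T → F.IsFullyCentralized P → ∀ s ∈ S, conjHom P s ∈ E.Hom P →
    ∃ t ∈ T, ∃ c ∈ centralizerIn S P, s = t * c)

include hTsc hfrat in
/-- Every `E`-class contains a fully `F`-normalized member. -/
theorem exists_fn_conj {P : Subgroup Ω} (hPT : P ≤ T) :
    ∃ Q : Subgroup Ω, E.IsConj P Q ∧ F.IsFullyNormalized Q ∧ Q ≤ T := by
  have hTS : T ≤ S := hTsc.1
  obtain ⟨Pst, ⟨φ, hφ, hr⟩, hfn⟩ := exists_fullyNormalized_conj F (hPT.trans hTS)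
  obtain ⟨s, hs, ψ, hψ, hφψ⟩ := hfrat P hPT φ hφ
  have hQT : ψ.range ≤ T := range_le E hψ
  have hQS : ψ.range ≤ S := hQT.trans hTS
  have hPst : Pst = ψ.range.map (cj s) := by
    rw [← hr]
    ext y
    constructor
    · rintro ⟨x, rfl⟩
      exact ⟨ψ x, ⟨x, rfl⟩, by rw [cj_apply, hφψ]⟩
    · rintro ⟨_, ⟨x, rfl⟩, rfl⟩
      exact ⟨x, by rw [cj_apply, hφψ]⟩
  have hconj : F.IsConj ψ.range Pst := by
    refine ⟨conjHom ψ.range s, F.conj_mem hQS hs, ?_⟩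
    rw [hPst]
    ext y
    constructor
    · rintro ⟨x, rfl⟩
      exact ⟨x, x.2, rfl⟩
    · rintro ⟨x, hx, rfl⟩
      exact ⟨⟨x, hx⟩, rfl⟩
  refine ⟨ψ.range, ⟨ψ, hψ, rfl⟩, ⟨hQS, fun R hR => ?_⟩, hQT⟩
  have h1 : F.IsConj Pst R := isConj_trans F (isConj_symm F hconj) hR
  have h2 := hfn.2 R h1
  have h3 : Nat.card (normalizerIn S Pst) ≤ Nat.card (normalizerIn S ψ.range) := by
    have := card_normalizerIn_le_map_cj (S := S) (S.inv_mem hs) Pst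
    rw [hPst, map_cj_map_cj, inv_mul_cancel, map_cj_one] at this
    rw [hPst]
    exact this
  exact h2.trans h3

include hTsc hfrat hinv in
/-- `Aut_E(P)` is normalized by `Aut_F(P)`. -/
theorem conj_mem_autE {P : Subgroup Ω} (hPT : P ≤ T) {α β : MulAut P} (hα : α ∈ F.autGroup P)
    (hβ : β ∈ E.autGroup P) : α * β * α⁻¹ ∈ E.autGroup P := by
  have hTS : T ≤ S := hTsc.1
  have hPS : P ≤ S := hPT.trans hTS
  have hαF := (mem_autGroup_iff F hPS α).mp hα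
  have hβE := (mem_autGroup_iff E hPT β).mp hβ
  obtain ⟨s, hs, ψ, hψ, hαψ⟩ := hfrat P hPT _ hαF
  have hαψ' : ∀ x : P, ((α x : P) : Ω) = s * ψ x * s⁻¹ := fun x => hαψ x
  obtain ⟨ψi, hψi, hψi1, hψi2⟩ := inv_exists E hψ rfl
  have h0 : ∀ y : ψ.range, ψi y ∈ P := fun y => by
    have : ψi y ∈ ψi.range := ⟨y, rfl⟩
    rwa [hψi2] at this
  obtain ⟨χ₀, hχ₀, hχ₀e⟩ := comp_mem' E hψi hβE h0
  have h1 : ∀ y : ψ.range, χ₀ y ∈ P := fun y => by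
    rw [hχ₀e]; exact (β ⟨ψi y, h0 y⟩).2
  obtain ⟨χ₁, hχ₁, hχ₁e⟩ := comp_mem' E hχ₀ hψ h1
  obtain ⟨χ₂, hχ₂, hχ₂e⟩ := hinv ψ.range χ₁ hχ₁ s hs
  have hPeq : ψ.range.map (cj s) = P := by
    ext y
    constructor
    · rintro ⟨_, ⟨x, rfl⟩, rfl⟩
      rw [cj_apply, ← hαψ']
      exact (α x).2
    · intro hy
      refine ⟨ψ (α⁻¹ ⟨y, hy⟩), ⟨_, rfl⟩, ?_⟩
      rw [cj_apply, ← hαψ']
      simp
  have hmem := cast_mem E hPeq hχ₂
  rw [mem_autGroup_iff E hPT]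
  convert hmem using 1
  ext x
  set x₀ : P := α⁻¹ x with hx₀
  have hx : (x : Ω) = s * ψ x₀ * s⁻¹ := by
    rw [← hαψ', hx₀]; simp
  have hmem2 : s * ((⟨ψ x₀, ⟨x₀, rfl⟩⟩ : ψ.range) : Ω) * s⁻¹ ∈ ψ.range.map (cj s) :=
    ⟨ψ x₀, ⟨x₀, rfl⟩, rfl⟩
  have e1 : ((χ₂.comp (Subgroup.inclusion hPeq.ge)) x) =
      χ₂ ⟨s * ((⟨ψ x₀, ⟨x₀, rfl⟩⟩ : ψ.range) : Ω) * s⁻¹, hmem2⟩ := by
    show χ₂ (Subgroup.inclusion hPeq.ge x) = _
    congr 1
    exact Subtype.ext hx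
  rw [e1, hχ₂e, hχ₁e]
  have e2 : (⟨χ₀ ⟨ψ x₀, ⟨x₀, rfl⟩⟩, h1 _⟩ : P) = β x₀ := by
    apply Subtype.ext
    show χ₀ ⟨ψ x₀, ⟨x₀, rfl⟩⟩ = ((β x₀ : P) : Ω)
    rw [hχ₀e]
    show ((β ⟨ψi ⟨ψ x₀, ⟨x₀, rfl⟩⟩, _⟩ : P) : Ω) = _
    congr 2
    exact Subtype.ext (hψi1 x₀ ⟨x₀, rfl⟩)
  rw [e2, ← hαψ']
  show (((α * β * α⁻¹) x : P) : Ω) = _
  simp [hx₀]

include hS hF hTsc hEF hfrat hinv hHT in
/-- A fully `F`-normalized subgroup of `T` is fully `E`-automized. -/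
theorem fullyAutomized_of_fn {P : Subgroup Ω} (hPT : P ≤ T) (hfn : F.IsFullyNormalized P) :
    E.IsFullyAutomized p P := by
  have hTS : T ≤ S := hTsc.1
  have hPS : P ≤ S := hPT.trans hTS
  obtain ⟨hfc, hfa⟩ := fc_fa_of_fullyNormalized hS F hF hfn
  have hfinP : Finite P := finite_of_le hPS
  haveI : Finite (MulAut P) := Finite.of_injective (fun α : MulAut P => (α : P → P))
    (fun α β h => by ext x; exact congrArg Subtype.val (congrFun h x))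
  have hSyl : SylIn p (autInducedBy S P) (F.autGroup P) := hfa.2
  have hAE_le : E.autGroup P ≤ F.autGroup P :=
    Subgroup.closure_mono (fun α hα => hEF P hα)
  have hnorm : F.autGroup P ≤ Subgroup.normalizer (E.autGroup P : Set (MulAut P)) :=
    fun α hα => mem_normalizer_of_conj_mem
      (fun β hβ => conj_mem_autE F hTsc E hfrat hinv hPT hα hβ)
  have h1 := SylIn.inf_normal hSyl (autInducedBy_le_autGroup F hPS) hAE_le hnorm
  have heq : autInducedBy S P ⊓ E.autGroup P = autInducedBy T P := by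
    apply le_antisymm
    · rintro α ⟨hαS, hαE⟩
      obtain ⟨s, hs, hsα⟩ := (mem_autInducedBy_iff S P α).mp hαS
      have hαE' := (mem_autGroup_iff E hPT α).mp hαE
      have e : conjHom P s = P.subtype.comp α.toMonoidHom := by
        ext x
        show s * (x : Ω) * s⁻¹ = ((α x : P) : Ω)
        rw [hsα]
      obtain ⟨t, ht, c, hc, rfl⟩ := hHT P hPT hfc s hs (e ▸ hαE')
      rw [mem_autInducedBy_iff]
      refine ⟨t, ht, fun x => ?_⟩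
      rw [hsα]
      have hcx : (x : Ω) * c = c * x := (Subgroup.mem_centralizer_iff.mp hc.2) x x.2
      calc t * c * (x : Ω) * (t * c)⁻¹ = t * (c * x * c⁻¹) * t⁻¹ := by group
        _ = t * x * t⁻¹ := by rw [← hcx]; group
    · intro α hα
      obtain ⟨t, ht, h⟩ := (mem_autInducedBy_iff T P α).mp hα
      exact ⟨(mem_autInducedBy_iff S P α).mpr ⟨t, hTS ht, h⟩, autInducedBy_le_autGroup E hPT hα⟩
  rw [heq] at h1
  exact ⟨hPT, h1⟩

include hS hF hTsc hEF hfrat hHT in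
/-- A fully `F`-normalized subgroup of `T` is `E`-receptive. -/
theorem receptive_of_fn {P : Subgroup Ω} (hPT : P ≤ T) (hfn : F.IsFullyNormalized P) :
    E.IsReceptive P := by
  have hTS : T ≤ S := hTsc.1
  have hPS : P ≤ S := hPT.trans hTS
  obtain ⟨hfc, hfa⟩ := fc_fa_of_fullyNormalized hS F hF hfn
  have hrec : F.IsReceptive P := receptive_of_fullyNormalized hS F hF hfn
  refine ⟨hPT, fun Q φ hφ hr => ?_⟩
  have hQT : Q ≤ T := hom_le E hφ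
  have hNle : extender T Q φ ≤ extender S Q φ := extender_mono_left hTS φ
  have hNT : extender T Q φ ≤ T :=
    (Cfsg.Agent.Lib.Helper84.extender_le Q φ).trans (normalizerIn_le T Q)
  have hQN : Q ≤ extender T Q φ := self_le_extender E hφ
  obtain ⟨φ₁, hφ₁, hφ₁e⟩ := extend_to_sub F (hEF Q hφ) hr hrec hNle
  obtain ⟨s, hs, ψ, hψ, hφ₁ψ⟩ := hfrat _ hNT φ₁ hφ₁
  obtain ⟨φi, hφi, hφi1, hφi2⟩ := inv_exists E hφ hr
  have hψQ : ψ.comp (Subgroup.inclusion hQN) ∈ E.Hom Q := restrict_mem E hψ hQN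
  have h0 : ∀ y : P, φi y ∈ Q := fun y => by
    have : φi y ∈ φi.range := ⟨y, rfl⟩
    rwa [hφi2] at this
  obtain ⟨χ, hχ, hχe⟩ := comp_mem' E hφi hψQ h0
  -- key relation: `ψ x = s⁻¹ φ(x) s` on `Q`
  have hkey : ∀ (x : Ω) (hQx : x ∈ Q) (hNx : x ∈ extender T Q φ),
      ψ ⟨x, hNx⟩ = s⁻¹ * φ ⟨x, hQx⟩ * s := by
    intro x hQx hNx
    have h1 := hφ₁ψ ⟨x, hNx⟩
    rw [hφ₁e x hQx hNx] at h1
    rw [h1]; group
  have hχeq : χ = conjHom P s⁻¹ := by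
    ext y
    rw [hχe]
    obtain ⟨q, hq⟩ : ∃ q : Q, φ q = y := by
      have h3 : (y : Ω) ∈ φ.range := hr.symm ▸ y.2
      exact h3
    have hφq : φ q ∈ P := by rw [hq]; exact y.2
    have e1 : φi y = q := by
      have := hφi1 q hφq
      rw [← this]
      congr 1
      exact Subtype.ext hq.symm
    show ψ (Subgroup.inclusion hQN ⟨φi y, h0 y⟩) = s⁻¹ * (y : Ω) * s⁻¹⁻¹
    have e2 : Subgroup.inclusion hQN ⟨φi y, h0 y⟩ = ⟨(q : Ω), hQN q.2⟩ := Subtype.ext e1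
    rw [e2, hkey q q.2 (hQN q.2), inv_inv, ← hq]
  obtain ⟨t, ht, c, hc, hstc⟩ := hHT P hPT hfc s⁻¹ (S.inv_mem hs) (hχeq ▸ hχ)
  have hconj : conjHom T t⁻¹ ∈ E.Hom T := E.conj_mem le_rfl (T.inv_mem ht)
  obtain ⟨χ', hχ', hχ'e⟩ := comp_mem' E hψ hconj (fun x => hom_mem_S E hψ x)
  refine ⟨χ', hχ', fun x hQx hNx => ?_⟩
  rw [hχ'e]
  show t⁻¹ * ψ ⟨x, hNx⟩ * t⁻¹⁻¹ = φ ⟨x, hQx⟩
  rw [hkey x hQx hNx, hstc, inv_inv]
  have hφP : φ ⟨x, hQx⟩ ∈ P := by rw [← hr]; exact ⟨_, rfl⟩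
  have hcx : φ ⟨x, hQx⟩ * c = c * φ ⟨x, hQx⟩ := (Subgroup.mem_centralizer_iff.mp hc.2) _ hφP
  calc t⁻¹ * (t * c * φ ⟨x, hQx⟩ * s) * t = c * φ ⟨x, hQx⟩ * (s * t) := by group
    _ = φ ⟨x, hQx⟩ * (c * s * t) := by rw [← hcx]; group
    _ = φ ⟨x, hQx⟩ := by
        have : c * s * t = 1 := by
          have hs' : s = (t * c)⁻¹ := by rw [← hstc, inv_inv]
          rw [hs']; group
        rw [this, mul_one]

include hS hF hTsc hEF hfrat hinv hHT in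
/-- **Saturation of a Frattini subsystem.** -/
theorem isSaturated_of_frattini : E.IsSaturated p := by
  intro P hPT
  obtain ⟨Q, hc, hfn, hQT⟩ := exists_fn_conj F hTsc E hfrat hPT
  exact ⟨Q, hc, fullyAutomized_of_fn hS F hF hTsc E hEF hfrat hinv hHT hQT hfn,
    receptive_of_fn hS F hF hTsc E hEF hfrat hHT hQT hfn⟩

end main

/-! ## The realized version -/

section realized

variable {G : Type*} [Group G]

/-- The system over `T` of the maps realized (through `ι`) by conjugation with elements of `M`. -/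
def subSys (ι : S →* G) (hι : Function.Injective ι) (M : Subgroup G) (T : Subgroup Ω) (hTS : T ≤ S)
    (hTM : ∀ t : S, (t : Ω) ∈ T → ι t ∈ M) : FusionSystem T where
  Hom P := {φ | ∃ (hP : P ≤ T) (hφ : ∀ x : P, φ x ∈ T), ∃ m ∈ M, ∀ x : P,
    ι ⟨φ x, hTS (hφ x)⟩ = m * ι ⟨x, hTS (hP x.2)⟩ * m⁻¹}
  le_of_mem := fun ⟨hP, hφ, _⟩ => ⟨hP, hφ⟩
  injective_of_mem := by
    rintro P φ ⟨hP, hφ, m, _, hm⟩ x y hxy
    have h1 : ι ⟨φ x, hTS (hφ x)⟩ = ι ⟨φ y, hTS (hφ y)⟩ := by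
      congr 1; exact Subtype.ext hxy
    rw [hm x, hm y] at h1
    have h2 : ι ⟨x, hTS (hP x.2)⟩ = ι ⟨y, hTS (hP y.2)⟩ := by
      have := congrArg (fun z => m⁻¹ * z * m) h1
      simpa [mul_assoc] using this
    have h3 := hι h2
    exact Subtype.ext (congrArg (fun z : S => (z : Ω)) h3)
  conj_mem := by
    intro P g hP hg
    have hval : ∀ x : P, conjHom P g x ∈ T := fun x =>
      T.mul_mem (T.mul_mem hg (hP x.2)) (T.inv_mem hg)
    refine ⟨hP, hval, ι ⟨g, hTS hg⟩, hTM _ hg, fun x => ?_⟩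
    rw [← map_inv, ← map_mul, ← map_mul]
    congr 1
  comp_mem := by
    rintro P Q φ ψ ⟨hP, hφ, m₁, hm₁, h₁⟩ ⟨hQ, hψ, m₂, hm₂, h₂⟩ h
    refine ⟨hP, fun x => hψ ⟨φ x, h x⟩, m₂ * m₁, M.mul_mem hm₂ hm₁, fun x => ?_⟩
    have e := h₂ ⟨φ x, h x⟩
    have e' : ι ⟨ψ ⟨φ x, h x⟩, hTS (hψ ⟨φ x, h x⟩)⟩ = m₂ * ι ⟨φ x, hTS (hφ x)⟩ * m₂⁻¹ := e
    show ι ⟨ψ ⟨φ x, h x⟩, _⟩ = _
    rw [e', h₁ x]
    group
  inv_mem := by
    rintro P φ ⟨hP, hφ, m, hm, h⟩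
    have hinj : Function.Injective φ := by
      intro x y hxy
      have h1 : ι ⟨φ x, hTS (hφ x)⟩ = ι ⟨φ y, hTS (hφ y)⟩ := by
        congr 1; exact Subtype.ext hxy
      rw [h x, h y] at h1
      have h2 : ι ⟨x, hTS (hP x.2)⟩ = ι ⟨y, hTS (hP y.2)⟩ := by
        have := congrArg (fun z => m⁻¹ * z * m) h1
        simpa [mul_assoc] using this
      exact Subtype.ext (congrArg (fun z : S => (z : Ω)) (hι h2))
    let e : P ≃* φ.range := MonoidHom.ofInjective hinj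
    refine ⟨P.subtype.comp e.symm.toMonoidHom, ⟨?_, ?_, m⁻¹, M.inv_mem hm, ?_⟩, ?_⟩
    · rintro _ ⟨x, rfl⟩
      exact hφ x
    · intro y
      exact hP (e.symm y).2
    · intro y
      have hy : φ (e.symm y) = (y : Ω) := by
        have := e.apply_symm_apply y
        exact congrArg Subtype.val this
      have h1 := h (e.symm y)
      have h2 : ι ⟨(y : Ω), hTS (by rw [← hy]; exact hφ _)⟩ =
          m * ι ⟨(e.symm y : Ω), hTS (hP (e.symm y).2)⟩ * m⁻¹ := by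
        rw [← h1]; congr 1; exact Subtype.ext hy.symm
      show ι ⟨((e.symm y : P) : Ω), _⟩ = m⁻¹ * ι ⟨(y : Ω), _⟩ * m⁻¹⁻¹
      rw [h2]; group
    · intro x
      show ((e.symm ⟨φ x, ⟨x, rfl⟩⟩ : P) : Ω) = x
      have : e.symm ⟨φ x, ⟨x, rfl⟩⟩ = x := by
        rw [MulEquiv.symm_apply_eq]
        rfl
      rw [this]

/-- A `p'`-automorphism of `P` in `Aut_F(P)` is realized by an element of `M`, if `M` contains all
`p'`-elements of `G`. -/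
theorem coprime_aut_realized [Finite G] {p : ℕ} [hp : Fact p.Prime] (F : FusionSystem S) (ι : S →* G)
    (hreal : F.IsRealizedBy ι) (M : Subgroup G)
    (hp' : ∀ g : G, (orderOf g).Coprime p → g ∈ M) {P : Subgroup Ω} (hPS : P ≤ S)
    {α : MulAut P} (hα : α ∈ F.autGroup P) (hcop : (orderOf α).Coprime p) :
    ∃ m ∈ M, ∀ x : P, ι ⟨((α x : P) : Ω), hPS (α x).2⟩ = m * ι ⟨x, hPS x.2⟩ * m⁻¹ := by
  have hα' := (mem_autGroup_iff F hPS α).mp hα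
  obtain ⟨g, hg⟩ := (hreal.2 P hPS _ (fun x => hPS (α x).2)).mp hα'
  have hg' : ∀ x : P, ι ⟨((α x : P) : Ω), hPS (α x).2⟩ = g * ι ⟨x, hPS x.2⟩ * g⁻¹ := hg
  have hpow : ∀ (k : ℕ) (x : P),
      ι ⟨(((α ^ k) x : P) : Ω), hPS ((α ^ k) x).2⟩ = g ^ k * ι ⟨x, hPS x.2⟩ * (g ^ k)⁻¹ := by
    intro k
    induction k with
    | zero => intro x; simp
    | succ k ih =>
      intro x
      have e : (α ^ (k + 1)) x = α ((α ^ k) x) := by
        rw [pow_succ']; rfl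
      have e1 : ι ⟨(((α ^ (k + 1)) x : P) : Ω), hPS ((α ^ (k + 1)) x).2⟩ =
          ι ⟨((α ((α ^ k) x) : P) : Ω), hPS (α ((α ^ k) x)).2⟩ := by
        congr 1; exact Subtype.ext (by rw [e])
      rw [e1, hg' ((α ^ k) x), ih x, pow_succ']
      group
  set b := (orderOf g).factorization p with hb
  have hgpos : 0 < orderOf g := orderOf_pos g
  have hdvd : p ^ b ∣ orderOf g := Nat.ordProj_dvd _ _
  have hord : orderOf (g ^ p ^ b) = orderOf g / p ^ b := by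
    rw [orderOf_pow' g (pow_ne_zero _ hp.out.ne_zero), Nat.gcd_eq_right hdvd]
  have hcopg : (orderOf (g ^ p ^ b)).Coprime p := by
    rw [hord]
    exact (Nat.coprime_ordCompl hp.out hgpos.ne').symm
  have hmM : g ^ p ^ b ∈ M := hp' _ hcopg
  obtain ⟨j, hj⟩ := exists_pow_eq_self_of_coprime
    (x := α) (n := p ^ b) (Nat.Coprime.pow_left b hcop.symm)
  have e : α ^ (p ^ b * j) = α := by rw [pow_mul]; exact hj
  refine ⟨(g ^ p ^ b) ^ j, M.pow_mem hmM j, fun x => ?_⟩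
  have e1 : ι ⟨((α x : P) : Ω), hPS (α x).2⟩ =
      ι ⟨(((α ^ (p ^ b * j)) x : P) : Ω), hPS ((α ^ (p ^ b * j)) x).2⟩ := by
    congr 1; exact Subtype.ext (by rw [e])
  rw [e1, hpow, pow_mul]

/-- **Subsystems of `p`-power index from a realization.**  `F` saturated over `S`, realized by
`ι : S →* G`; `M ⊴ G` with `G = M ι(S)`, containing all `p'`-elements of `G`; `T = ι⁻¹(M)`; and for
fully centralized `P ≤ T`, `C_G(ι P) ⊆ M ι(C_S(P))`.  Then the maps realized by `M` form a saturated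
subsystem over `T` of `p`-power index. -/
theorem exists_ppower_of_realized [Finite S] [Finite G] {p : ℕ} [hp : Fact p.Prime]
    (hS : IsPGroup p S) (F : FusionSystem S) (hF : F.IsSaturated p) (ι : S →* G)
    (hreal : F.IsRealizedBy ι) (M : Subgroup G) [hMn : M.Normal]
    (hGM : ∀ g : G, ∃ m ∈ M, ∃ s : S, g = m * ι s)
    (T : Subgroup Ω) (hTS : T ≤ S) (hT : ∀ s : S, ι s ∈ M ↔ (s : Ω) ∈ T)
    (hp' : ∀ g : G, (orderOf g).Coprime p → g ∈ M)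
    (hHTg : ∀ (P : Subgroup Ω) (hPT : P ≤ T), F.IsFullyCentralized P → ∀ g : G,
      (∀ x : P, g * ι ⟨x, hTS (hPT x.2)⟩ = ι ⟨x, hTS (hPT x.2)⟩ * g) →
      ∃ m ∈ M, ∃ c : S, (c : Ω) ∈ Subgroup.centralizer (P : Set Ω) ∧ g = m * ι c) :
    ∃ E : FusionSystem T, E.IsSaturated p ∧ E.HasPPowerIndexIn F p := by
  have hTM : ∀ t : S, (t : Ω) ∈ T → ι t ∈ M := fun t ht => (hT t).mpr ht
  set E := subSys ι hreal.1 M T hTS hTM with hE
  have hEF : E.IsSubsystemOf F := by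
    rintro P φ ⟨hP, hφ, m, hm, h⟩
    exact (hreal.2 P (hP.trans hTS) φ (fun x => hTS (hφ x))).mpr ⟨m, h⟩
  have hTn : ∀ s ∈ S, ∀ x ∈ T, s * x * s⁻¹ ∈ T := by
    intro s hs x hx
    have hxS := hTS hx
    have h1 : ι (⟨s, hs⟩ * ⟨x, hxS⟩ * ⟨s, hs⟩⁻¹) ∈ M := by
      rw [map_mul, map_mul, map_inv]
      exact hMn.conj_mem _ (hTM ⟨x, hxS⟩ hx) _
    exact (hT _).mp h1
  have hhyp : F.hyperfocalSubgroup p ≤ T := by
    apply hyperfocal_le_of_coprime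
    intro P hPS α hα hcop x
    obtain ⟨m, hm, hme⟩ := coprime_aut_realized F ι hreal M hp' hPS hα hcop
    have hmemS : (x : Ω)⁻¹ * ((α x : P) : Ω) ∈ S :=
      S.mul_mem (S.inv_mem (hPS x.2)) (hPS (α x).2)
    have h1 : ι ⟨(x : Ω)⁻¹ * ((α x : P) : Ω), hmemS⟩ ∈ M := by
      have e : (⟨(x : Ω)⁻¹ * ((α x : P) : Ω), hmemS⟩ : S) =
          (⟨x, hPS x.2⟩ : S)⁻¹ * ⟨((α x : P) : Ω), hPS (α x).2⟩ := rfl
      rw [e, map_mul, map_inv, hme x]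
      have e2 : (ι ⟨x, hPS x.2⟩)⁻¹ * (m * ι ⟨x, hPS x.2⟩ * m⁻¹) =
          ((ι ⟨x, hPS x.2⟩)⁻¹ * m * (ι ⟨x, hPS x.2⟩)⁻¹⁻¹) * m⁻¹ := by group
      rw [e2]
      exact M.mul_mem (hMn.conj_mem m hm _) (M.inv_mem hm)
    exact (hT _).mp h1
  have hTsc : F.StronglyClosed T := stronglyClosed_of_hyperfocal_le hS F hF hTS hTn hhyp
  -- the Frattini condition
  have hfrat : ∀ P : Subgroup Ω, P ≤ T → ∀ φ ∈ F.Hom P, ∃ s ∈ S, ∃ ψ ∈ E.Hom P,
      ∀ x : P, φ x = s * ψ x * s⁻¹ := by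
    intro P hPT φ hφ
    have hPS := hPT.trans hTS
    obtain ⟨g, hg⟩ := (hreal.2 P hPS φ (hom_mem_S F hφ)).mp hφ
    obtain ⟨m, hm, s₀, hgs⟩ := hGM g⁻¹
    have hg' : g = (ι s₀)⁻¹ * m⁻¹ := by
      have : g = (g⁻¹)⁻¹ := (inv_inv g).symm
      rw [this, hgs, mul_inv_rev]
    have hmemS : ∀ x : P, (s₀ : Ω) * φ x * (s₀ : Ω)⁻¹ ∈ S := fun x =>
      S.mul_mem (S.mul_mem s₀.2 (hom_mem_S F hφ x)) (S.inv_mem s₀.2)
    have key : ∀ x : P, ι ⟨(s₀ : Ω) * φ x * (s₀ : Ω)⁻¹, hmemS x⟩ =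
        m⁻¹ * ι ⟨x, hPS x.2⟩ * m⁻¹⁻¹ := by
      intro x
      have e : (⟨(s₀ : Ω) * φ x * (s₀ : Ω)⁻¹, hmemS x⟩ : S) =
          s₀ * ⟨φ x, hom_mem_S F hφ x⟩ * s₀⁻¹ := rfl
      rw [e, map_mul, map_mul, map_inv, hg x, hg']
      group
    have hval : ∀ x : P, (s₀ : Ω) * φ x * (s₀ : Ω)⁻¹ ∈ T := by
      intro x
      apply (hT ⟨_, hmemS x⟩).mp
      rw [key x]
      exact hMn.conj_mem _ (hTM ⟨x, hPS x.2⟩ (hPT x.2)) _
    refine ⟨(s₀ : Ω)⁻¹, S.inv_mem s₀.2, (MulAut.conj (s₀ : Ω)).toMonoidHom.comp φ,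
      ⟨hPT, hval, m⁻¹, M.inv_mem hm, key⟩, fun x => ?_⟩
    show φ x = (s₀ : Ω)⁻¹ * ((s₀ : Ω) * φ x * (s₀ : Ω)⁻¹) * (s₀ : Ω)⁻¹⁻¹
    group
  -- `S`-invariance
  have hinv : ∀ (P : Subgroup Ω) (ψ : P →* Ω), ψ ∈ E.Hom P → ∀ s ∈ S,
      ∃ χ ∈ E.Hom (P.map (cj s)), ∀ (x : P) (hx : s * (x : Ω) * s⁻¹ ∈ P.map (cj s)),
        χ ⟨s * x * s⁻¹, hx⟩ = s * ψ x * s⁻¹ := by
    rintro P ψ ⟨hP, hψ, m, hm, h⟩ s hs
    have hθ : ∀ y : P.map (cj s), s⁻¹ * (y : Ω) * s ∈ P := fun y => mem_map_cj.mp y.2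
    let θ : (P.map (cj s)) →* P :=
      { toFun := fun y => ⟨s⁻¹ * (y : Ω) * s, hθ y⟩
        map_one' := Subtype.ext (by simp)
        map_mul' := fun a b => Subtype.ext (by
          show s⁻¹ * ((a : Ω) * (b : Ω)) * s = (s⁻¹ * (a : Ω) * s) * (s⁻¹ * (b : Ω) * s)
          group) }
    have hdom : P.map (cj s) ≤ T := by
      rintro _ ⟨x, hx, rfl⟩
      exact hTn s hs x (hP hx)
    have hvalχ : ∀ y : P.map (cj s), ((cj s).comp (ψ.comp θ)) y ∈ T := fun y =>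
      hTn s hs _ (hψ (θ y))
    refine ⟨(cj s).comp (ψ.comp θ), ⟨hdom, hvalχ, ι ⟨s, hs⟩ * m * (ι ⟨s, hs⟩)⁻¹,
      hMn.conj_mem m hm _, fun y => ?_⟩, fun x hx => ?_⟩
    · have e : (⟨((cj s).comp (ψ.comp θ)) y, hTS (hvalχ y)⟩ : S) =
          ⟨s, hs⟩ * ⟨ψ (θ y), hTS (hψ (θ y))⟩ * ⟨s, hs⟩⁻¹ := rfl
      have e2 : (⟨((θ y : P) : Ω), hTS (hP (θ y).2)⟩ : S) =
          ⟨s, hs⟩⁻¹ * ⟨(y : Ω), hTS (hdom y.2)⟩ * ⟨s, hs⟩ := rfl
      rw [e, map_mul, map_mul, map_inv, h (θ y), e2, map_mul, map_mul, map_inv]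
      group
    · show s * ψ (θ ⟨s * x * s⁻¹, hx⟩) * s⁻¹ = s * ψ x * s⁻¹
      have : θ ⟨s * x * s⁻¹, hx⟩ = x :=
        Subtype.ext (by show s⁻¹ * (s * (x : Ω) * s⁻¹) * s = x; group)
      rw [this]
  -- the key condition
  have hHT : ∀ P : Subgroup Ω, P ≤ T → F.IsFullyCentralized P → ∀ s ∈ S,
      conjHom P s ∈ E.Hom P → ∃ t ∈ T, ∃ c ∈ centralizerIn S P, s = t * c := by
    rintro P hPT hfc s hs ⟨_, hval, m, hm, h⟩
    have hPS := hPT.trans hTS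
    have hcent : ∀ x : P, (m⁻¹ * ι ⟨s, hs⟩) * ι ⟨x, hTS (hPT x.2)⟩ =
        ι ⟨x, hTS (hPT x.2)⟩ * (m⁻¹ * ι ⟨s, hs⟩) := by
      intro x
      have h1 := h x
      have h2 : ι ⟨conjHom P s x, hTS (hval x)⟩ =
          ι ⟨s, hs⟩ * ι ⟨x, hTS (hPT x.2)⟩ * (ι ⟨s, hs⟩)⁻¹ := by
        rw [← map_inv, ← map_mul, ← map_mul]; congr 1
      rw [h2] at h1
      have := congrArg (fun z => m⁻¹ * z * ι ⟨s, hs⟩) h1
      simpa [mul_assoc] using this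
    obtain ⟨m', hm', c, hc, hgc⟩ := hHTg P hPT hfc _ hcent
    have hιs : ι ⟨s, hs⟩ = m * m' * ι c := by
      have := congrArg (fun z => m * z) hgc
      simpa [mul_assoc] using this
    have hmem : ι (⟨s, hs⟩ * c⁻¹) ∈ M := by
      rw [map_mul, map_inv, hιs]
      have : m * m' * ι c * (ι c)⁻¹ = m * m' := by group
      rw [this]
      exact M.mul_mem hm hm'
    refine ⟨s * (c : Ω)⁻¹, (hT _).mp hmem, (c : Ω), ⟨c.2, hc⟩, by group⟩
  refine ⟨E, isSaturated_of_frattini hS F hF hTsc E hEF hfrat hinv hHT, hEF, hhyp,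
    fun P hPT => ?_⟩
  rw [Subgroup.map_le_iff_le_comap]
  unfold pResidual
  rw [Subgroup.closure_le]
  intro g hg
  show (g : MulAut P) ∈ E.autGroup P
  have hcop : (orderOf (g : MulAut P)).Coprime p := by
    rw [Subgroup.orderOf_coe]; exact hg
  obtain ⟨m, hm, hme⟩ := coprime_aut_realized F ι hreal M hp' (hPT.trans hTS) g.2 hcop
  rw [mem_autGroup_iff E hPT]
  exact ⟨hPT, fun x => hPT ((g : MulAut P) x).2, m, hm, hme⟩

end realized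

end Cfsg.Agent.Lib.Helper85.FSat
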