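import Cfsg.Agent.Lib.Helper85.G2iKT

/-! # G2i mini-hive (S2177, owner helper2): backup of leaf G2I-K7, renamed `k7b_kill7` (the hive imports Helper2.G2iK7). -/

set_option autoImplicit false

namespace Cfsg.Agent.Lib.Helper2.G2i

open Cfsg Cfsg.Lie Cfsg.Agent.Lib.Helper36 Cfsg.Agent.Lib.Helper20.G2c

variable (F : Type*) [Field F]

theorem k7b_pos9 : chevG2.IsPosRoot 9 := by decide

/-- conjugation by `x_9(ρ)` -/
theorem k7b_stepA [CharP F 2] (s d e ρ : F) :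
    xg F 9 ρ * (xg F 7 s * T F 0 d e) * (xg F 9 ρ)⁻¹ = xg F 7 s * T F 0 (d + s * ρ) e := by
  have h9 : xg F 9 ρ = T F ρ 0 0 := ufact_T9 F ρ
  have h10 : xg F 10 (s * ρ) = T F 0 (s * ρ) 0 := ufact_T10 F (s * ρ)
  calc xg F 9 ρ * (xg F 7 s * T F 0 d e) * (xg F 9 ρ)⁻¹
      = (xg F 9 ρ * xg F 7 s) * T F 0 d e * (xg F 9 ρ)⁻¹ := by simp only [mul_assoc]
    _ = (xg F 7 s * xg F 9 ρ * xg F 10 (s * ρ)) * T F 0 d e * (xg F 9 ρ)⁻¹ := by rw [rel79]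
    _ = xg F 7 s * (T F ρ 0 0 * T F 0 (s * ρ) 0 * T F 0 d e * (T F ρ 0 0)⁻¹) := by
        rw [h9, h10]; simp only [mul_assoc]
    _ = xg F 7 s * T F 0 (d + s * ρ) e := by
        rw [T_inv, ufact_T_mul, ufact_T_mul, ufact_T_mul]
        congr 2
        · rw [add_zero, add_zero, CharTwo.add_self_eq_zero]
        · ring
        · ring

/-- conjugation by `x_8(σ)` -/
theorem k7b_stepB [CharP F 2] (s d e σ : F) :
    xg F 8 σ * (xg F 7 s * T F 0 d e) * (xg F 8 σ)⁻¹ =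
      xg F 7 s * T F 0 (d + s ^ 2 * σ) (e + s * σ ^ 2) := by
  have h10 : xg F 10 (s ^ 2 * σ) = T F 0 (s ^ 2 * σ) 0 := ufact_T10 F _
  have h11 : xg F 11 (s * σ ^ 2) = T F 0 0 (s * σ ^ 2) := ufact_T11 F _
  have hT : ∀ d' e' : F, T F 0 d' e' * xg F 8 σ = xg F 8 σ * T F 0 d' e' := by
    intro d' e'
    rw [T_x8, mul_zero, add_zero]
  calc xg F 8 σ * (xg F 7 s * T F 0 d e) * (xg F 8 σ)⁻¹
      = (xg F 8 σ * xg F 7 s) * T F 0 d e * (xg F 8 σ)⁻¹ := by simp only [mul_assoc]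
    _ = (xg F 7 s * xg F 8 σ * (xg F 10 (s ^ 2 * σ) * xg F 11 (s * σ ^ 2))) * T F 0 d e * (xg F 8 σ)⁻¹ := by
        rw [rel78]
    _ = xg F 7 s * (xg F 8 σ * T F 0 (d + s ^ 2 * σ) (e + s * σ ^ 2)) * (xg F 8 σ)⁻¹ := by
        rw [h10, h11, ufact_T_mul]
        have hTT : T F (0 + 0) (s ^ 2 * σ + 0) (0 + s * σ ^ 2) * T F 0 d e =
            T F 0 (d + s ^ 2 * σ) (e + s * σ ^ 2) := by
          rw [ufact_T_mul]
          congr 1 <;> ring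
        rw [mul_assoc (xg F 7 s * xg F 8 σ), hTT]
        simp only [mul_assoc]
    _ = xg F 7 s * (T F 0 (d + s ^ 2 * σ) (e + s * σ ^ 2) * xg F 8 σ) * (xg F 8 σ)⁻¹ := by rw [hT]
    _ = xg F 7 s * T F 0 (d + s ^ 2 * σ) (e + s * σ ^ 2) := by
        simp only [mul_assoc, mul_inv_cancel, mul_one]

theorem k7b_sqrt [Fintype F] [CharP F 2] (a : F) : ∃ σ : F, σ ^ 2 = a := by
  obtain ⟨σ, hσ⟩ := Finite.surjective_of_injective (frobenius_inj F 2) a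
  exact ⟨σ, by rw [← hσ, frobenius_def]⟩

/-- G2I-K7 -/
theorem k7b_kill7 [Fintype F] [CharP F 2] (s d e : F) (hs : s ≠ 0) :
    ∃ h ∈ chevG2.posUnipotent F, h * (xg F 7 s * T F 0 d e) * h⁻¹ = xg F 7 s := by
  obtain ⟨σ, hσ⟩ := k7b_sqrt F (e / s)
  refine ⟨xg F 9 (s * σ) * (xg F 8 σ * xg F 9 (d / s)),
    mul_mem (kt_pos F 9 k7b_pos9 _) (mul_mem (kt_pos F 8 kt_pos8 _) (kt_pos F 9 k7b_pos9 _)), ?_⟩
  have e1 : d + s * (d / s) = 0 := by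
    rw [mul_div_cancel₀ d hs]; exact CharTwo.add_self_eq_zero d
  have e2 : e + s * σ ^ 2 = 0 := by
    rw [hσ, mul_div_cancel₀ e hs]; exact CharTwo.add_self_eq_zero e
  have e3 : (0 + s ^ 2 * σ) + s * (s * σ) = 0 := by
    rw [zero_add]
    have : s * (s * σ) = s ^ 2 * σ := by ring
    rw [this]; exact CharTwo.add_self_eq_zero _
  calc xg F 9 (s * σ) * (xg F 8 σ * xg F 9 (d / s)) * (xg F 7 s * T F 0 d e) *
        (xg F 9 (s * σ) * (xg F 8 σ * xg F 9 (d / s)))⁻¹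
      = xg F 9 (s * σ) * (xg F 8 σ * (xg F 9 (d / s) * (xg F 7 s * T F 0 d e) * (xg F 9 (d / s))⁻¹) *
          (xg F 8 σ)⁻¹) * (xg F 9 (s * σ))⁻¹ := by group
    _ = xg F 9 (s * σ) * (xg F 8 σ * (xg F 7 s * T F 0 0 e) * (xg F 8 σ)⁻¹) * (xg F 9 (s * σ))⁻¹ := by
        rw [k7b_stepA, e1]
    _ = xg F 9 (s * σ) * (xg F 7 s * T F 0 (0 + s ^ 2 * σ) 0) * (xg F 9 (s * σ))⁻¹ := by
        rw [k7b_stepB, e2]
    _ = xg F 7 s * T F 0 0 0 := by rw [k7b_stepA, e3]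
    _ = xg F 7 s := by rw [T_zero3, mul_one]

end Cfsg.Agent.Lib.Helper2.G2i
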