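import Cfsg.Agent.Lib.Helper2.G2iRel

/-! # G2i mini-hive (S2177, owner helper2): leaf G2I-KT `killT`. -/

set_option autoImplicit false

namespace Cfsg.Agent.Lib.Helper2.G2i

open Cfsg Cfsg.Lie Cfsg.Agent.Lib.Helper36 Cfsg.Agent.Lib.Helper20.G2c

variable (F : Type*) [Field F]

theorem kt_pos (r : ℕ) (hr : chevG2.IsPosRoot r) (t : F) : xg F r t ∈ chevG2.posUnipotent F :=
  xGL_mem_pos chevG2 hG2 F r hr t

theorem kt_pos6 : chevG2.IsPosRoot 6 := by decide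
theorem kt_pos7 : chevG2.IsPosRoot 7 := by decide
theorem kt_pos8 : chevG2.IsPosRoot 8 := by decide

/-- G2I-KT -/
theorem killT [CharP F 2] (c d e : F) :
    (c ≠ 0 → ∃ h ∈ chevG2.posUnipotent F, h * T F c d e * h⁻¹ = xg F 9 c) ∧
    (d ≠ 0 → ∃ h ∈ chevG2.posUnipotent F, h * T F 0 d e * h⁻¹ = xg F 10 d) := by
  refine ⟨fun hc => ?_, fun hd => ?_⟩
  · refine ⟨(xg F 8 (e / c))⁻¹ * (xg F 7 (d / c))⁻¹,
      mul_mem (inv_mem (kt_pos F 8 kt_pos8 _)) (inv_mem (kt_pos F 7 kt_pos7 _)), ?_⟩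
    have hd0 : d + d / c * c = 0 := by
      rw [div_mul_cancel₀ d hc]; exact CharTwo.add_self_eq_zero d
    have he0 : e + e / c * c = 0 := by
      rw [div_mul_cancel₀ e hc]; exact CharTwo.add_self_eq_zero e
    have h1 : (xg F 7 (d / c))⁻¹ * T F c d e * xg F 7 (d / c) = T F c 0 e := by
      rw [mul_assoc, T_x7, ← mul_assoc, inv_mul_cancel, one_mul, hd0]
    have h2 : (xg F 8 (e / c))⁻¹ * T F c 0 e * xg F 8 (e / c) = T F c 0 0 := by
      rw [mul_assoc, T_x8, ← mul_assoc, inv_mul_cancel, one_mul, he0]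
    calc (xg F 8 (e / c))⁻¹ * (xg F 7 (d / c))⁻¹ * T F c d e * ((xg F 8 (e / c))⁻¹ * (xg F 7 (d / c))⁻¹)⁻¹
        = (xg F 8 (e / c))⁻¹ * ((xg F 7 (d / c))⁻¹ * T F c d e * xg F 7 (d / c)) * xg F 8 (e / c) := by group
      _ = (xg F 8 (e / c))⁻¹ * T F c 0 e * xg F 8 (e / c) := by rw [h1]
      _ = T F c 0 0 := h2
      _ = xg F 9 c := (ufact_T9 F c).symm
  · refine ⟨(xg F 6 (e / d))⁻¹, inv_mem (kt_pos F 6 kt_pos6 _), ?_⟩
    have he0 : e + e / d * d = 0 := by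
      rw [div_mul_cancel₀ e hd]; exact CharTwo.add_self_eq_zero e
    calc (xg F 6 (e / d))⁻¹ * T F 0 d e * ((xg F 6 (e / d))⁻¹)⁻¹
        = (xg F 6 (e / d))⁻¹ * (T F 0 d e * xg F 6 (e / d)) := by group
      _ = T F 0 d 0 := by rw [T_x6, ← mul_assoc, inv_mul_cancel, one_mul, he0]
      _ = xg F 10 d := (ufact_T10 F d).symm

end Cfsg.Agent.Lib.Helper2.G2i
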