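import Mathlib
import Cfsg.Agent.Lib.Helper47.G42Defs
import Cfsg.Agent.Lib.Helper85.G42S7ORB

/-!
# G42 hive (S2553, helper47), leaf G42-F5ORB `orbit_five`: if `5 ∣ |H|` and `7 ∤ |H|` then `H` contains a `5`-cycle
whose support lies in an `H`-orbit of size `5`, `6` or `8`.
-/

set_option autoImplicit false

namespace Cfsg.Agent.Lib.Helper47.G42

open Equiv

/-- LEAF G42-F5ORB. -/
theorem orbit_five (H : Subgroup (Perm (Fin 8))) (h5 : 5 ∣ Nat.card H) (h7 : ¬ 7 ∣ Nat.card H) :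
    ∃ (Δ : Finset (Fin 8)) (g : Perm (Fin 8)), g ∈ H ∧ g.IsCycle ∧ g.support.card = 5 ∧
      g.support ⊆ Δ ∧ (∀ h ∈ H, ∀ x ∈ Δ, h x ∈ Δ) ∧ (∀ x ∈ Δ, ∀ y ∈ Δ, ∃ h ∈ H, h x = y) ∧
      (Δ.card = 5 ∨ Δ.card = 6 ∨ Δ.card = 8) := by
  classical
  have : Fact (Nat.Prime 5) := ⟨by norm_num⟩
  obtain ⟨g0, hg0⟩ := exists_prime_orderOf_dvd_card' 5 h5
  have hgH : (g0 : Perm (Fin 8)) ∈ H := g0.2
  have hog : orderOf (g0 : Perm (Fin 8)) = 5 := by rw [Subgroup.orderOf_coe]; exact hg0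
  obtain ⟨hcyc, hsupp⟩ := s7orb_cycle_of_prime (g0 : Perm (Fin 8)) 5 (by norm_num) hog (by norm_num)
  set g : Perm (Fin 8) := (g0 : Perm (Fin 8)) with hgdef
  have hne : g.support.Nonempty := by
    rw [← Finset.card_pos, hsupp]; norm_num
  obtain ⟨x₀, hx₀⟩ := hne
  set Δ : Finset (Fin 8) := Finset.univ.filter (fun y => ∃ h ∈ H, h x₀ = y) with hΔ
  have hmemΔ : ∀ y, y ∈ Δ ↔ ∃ h ∈ H, h x₀ = y := by
    intro y
    rw [hΔ, Finset.mem_filter]
    simp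
  have hsub : g.support ⊆ Δ := by
    intro y hy
    rw [hmemΔ]
    obtain ⟨i, hi⟩ := hcyc.exists_pow_eq (Equiv.Perm.mem_support.mp hx₀) (Equiv.Perm.mem_support.mp hy)
    exact ⟨g ^ i, H.pow_mem hgH i, hi⟩
  have hinv : ∀ h ∈ H, ∀ x ∈ Δ, h x ∈ Δ := by
    intro h hh x hx
    obtain ⟨k, hk, hkx⟩ := (hmemΔ x).mp hx
    rw [hmemΔ]
    exact ⟨h * k, H.mul_mem hh hk, by rw [Equiv.Perm.mul_apply, hkx]⟩
  have htr : ∀ x ∈ Δ, ∀ y ∈ Δ, ∃ h ∈ H, h x = y := by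
    intro x hx y hy
    obtain ⟨k, hk, hkx⟩ := (hmemΔ x).mp hx
    obtain ⟨k', hk', hky⟩ := (hmemΔ y).mp hy
    refine ⟨k' * k⁻¹, H.mul_mem hk' (H.inv_mem hk), ?_⟩
    rw [Equiv.Perm.mul_apply, ← hkx]
    simp [hky]
  -- the size of the orbit
  have hge : 5 ≤ Δ.card := by
    rw [← hsupp]
    exact Finset.card_le_card hsub
  have hle : Δ.card ≤ 8 := by
    have := Finset.card_le_univ Δ
    simpa using this
  have hdvd : Δ.card ∣ Nat.card H := by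
    have : Fintype H := Fintype.ofFinite H
    have : Fintype (MulAction.orbit H x₀) := Fintype.ofFinite _
    have : Fintype (MulAction.stabilizer H x₀) := Fintype.ofFinite _
    have h1 := MulAction.card_orbit_mul_card_stabilizer_eq_card_group H x₀
    have h2 : Fintype.card (MulAction.orbit H x₀) = Δ.card := by
      apply Fintype.card_of_subtype Δ
      intro y
      rw [hmemΔ, MulAction.mem_orbit_iff]
      constructor
      · rintro ⟨h, hh, hy⟩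
        exact ⟨⟨h, hh⟩, hy⟩
      · rintro ⟨h, hy⟩
        exact ⟨h, h.2, hy⟩
    rw [Nat.card_eq_fintype_card, ← h1, h2]
    exact dvd_mul_right _ _
  have hne7 : Δ.card ≠ 7 := by
    intro h
    rw [h] at hdvd
    exact h7 hdvd
  refine ⟨Δ, g, hgH, hcyc, hsupp, hsub, hinv, htr, ?_⟩
  omega

end Cfsg.Agent.Lib.Helper47.G42
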