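import Mathlib
import Cfsg.Prelude.Def_ClassicalGeometry
import Cfsg.Prelude.Def_GeometricClasses
import Cfsg.Prelude.Def_Classical
import Cfsg.Agent.Lib.Helper15.HqDefs

/-!
# Hq hive (S5974, owner helper15), leaf HQ-RANK `rank_le` (helper85)

The image of `t - 1` (for an involutive isometry `t` in characteristic two) is totally isotropic for the
nondegenerate polar form of `plusForm d`, hence has dimension at most `d`.
-/

set_option autoImplicit false

namespace Cfsg.Agent.Lib.Helper15.Hq

open Module
open Cfsg.Agent.Lib.Helper2.BG Cfsg.Agent.Lib.Helper99 Cfsg.Agent.Lib.Helper48.Ti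
open Cfsg.Agent.Lib.Helper5.Hy (Plus Fixes)
open Cfsg.Agent.Lib.Helper81.On (plusB VP)
open Cfsg.Agent.Lib.Helper8 (plusForm IsInvIso nilPart)

/-- a totally isotropic subspace of a nondegenerate bilinear space has at most half the dimension -/
theorem rank_le_half {K V : Type*} [Field K] [AddCommGroup V] [Module K V] [FiniteDimensional K V]
    {B : LinearMap.BilinForm K V} (hB : B.Nondegenerate) {R : Submodule K V}
    (hR : ∀ a ∈ R, ∀ b ∈ R, B a b = 0) : 2 * finrank K R ≤ finrank K V := by
  have hle : R ≤ B.orthogonal R := by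
    intro b hb
    rw [LinearMap.BilinForm.mem_orthogonal_iff]
    intro a ha
    exact hR a ha b hb
  have h1 := Submodule.finrank_mono hle
  have h2 := LinearMap.BilinForm.finrank_orthogonal hB R
  have h3 : finrank K R ≤ finrank K V := Submodule.finrank_le R
  omega

section char2

variable {F : Type*} [Field F]

local notation "VV" d => (Fin d ⊕ Fin d → F)

/-- HQ-RANK -/
theorem rank_le (h2 : (2 : F) = 0) (d : ℕ) {t : (VV d) →ₗ[F] (VV d)}
    (ht : IsInvIso (plusForm d F) t) : finrank F (LinearMap.range (nilPart t)) ≤ d := by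
  have h := rank_le_half (Cfsg.Agent.Lib.Helper8.plusForm_nondegenerate (m := d) (F := F))
    (R := LinearMap.range (nilPart t)) (by
      rintro a ⟨a', rfl⟩ b ⟨b', rfl⟩
      exact ht.polar_nil_nil h2 a' b')
  have hV : finrank F (VV d) = 2 * d := by
    rw [Module.finrank_pi, Fintype.card_sum, Fintype.card_fin]
    ring
  omega

end char2

end Cfsg.Agent.Lib.Helper15.Hq
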