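import Cfsg.Agent.Lib.Helper85.TransportSat
import Cfsg.Prelude.Def_FusionComponents

set_option autoImplicit false

namespace Cfsg.Agent.Lib.Helper85.Iso

open Cfsg Cfsg.FusionSystem Cfsg.Agent.Lib.Helper85

variable {Ω Ω' : Type*} [Group Ω] [Group Ω'] {S : Subgroup Ω} {S' : Subgroup Ω'}

/-- `φ'` (with source `P'`) is the transport of `φ` (with source `P`) under `e : S ≃* S'`. -/
def Rel (e : S ≃* S') {P : Subgroup Ω} (φ : P →* Ω) {P' : Subgroup Ω'} (φ' : P' →* Ω') : Prop :=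
  ∃ (hP : P ≤ S) (hφ : ∀ x : P, φ x ∈ S) (hPP' : ∀ x : P, ((e ⟨x, hP x.2⟩ : S') : Ω') ∈ P'),
    (∀ y ∈ P', ∃ x : P, ((e ⟨x, hP x.2⟩ : S') : Ω') = y) ∧
    ∀ x : P, φ' ⟨e ⟨x, hP x.2⟩, hPP' x⟩ = ((e ⟨φ x, hφ x⟩ : S') : Ω')

section rel

variable {e : S ≃* S'} {P : Subgroup Ω} {φ : P →* Ω} {P' : Subgroup Ω'} {φ' : P' →* Ω'}

theorem Rel.le_left (h : Rel e φ φ') : P ≤ S := h.1

theorem Rel.map_mem_left (h : Rel e φ φ') (x : P) : φ x ∈ S := h.2.1 x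

theorem Rel.imE_eq (h : Rel e φ φ') : imE e P = P' := by
  obtain ⟨hP, hφ, hPP', hsurj, heq⟩ := h
  ext y
  rw [mem_imE]
  constructor
  · rintro ⟨x, hx, rfl⟩
    exact hPP' ⟨x, hx⟩
  · intro hy
    obtain ⟨x, rfl⟩ := hsurj y hy
    exact ⟨⟨x, hP x.2⟩, x.2, rfl⟩

theorem Rel.le_right (h : Rel e φ φ') : P' ≤ S' := by
  rw [← h.imE_eq]
  exact imE_le e P

theorem Rel.map_mem_right (h : Rel e φ φ') (y : P') : φ' y ∈ S' := by
  obtain ⟨hP, hφ, hPP', hsurj, heq⟩ := h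
  obtain ⟨x, hx⟩ := hsurj y y.2
  have : y = ⟨e ⟨x, hP x.2⟩, hPP' x⟩ := Subtype.ext hx.symm
  rw [this, heq]
  exact (e _).2

theorem Rel.apply (h : Rel e φ φ') (x : P) (hx : ((e ⟨x, h.le_left x.2⟩ : S') : Ω') ∈ P') :
    φ' ⟨e ⟨x, h.le_left x.2⟩, hx⟩ = ((e ⟨φ x, h.map_mem_left x⟩ : S') : Ω') := by
  obtain ⟨hP, hφ, hPP', hsurj, heq⟩ := h
  exact heq x

theorem Rel.mem_right (h : Rel e φ φ') (x : P) : ((e ⟨x, h.le_left x.2⟩ : S') : Ω') ∈ P' := by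
  obtain ⟨hP, hφ, hPP', hsurj, heq⟩ := h
  exact hPP' x

theorem Rel.exists_eq (h : Rel e φ φ') (y : P') :
    ∃ x : P, ((e ⟨x, h.le_left x.2⟩ : S') : Ω') = y := by
  obtain ⟨hP, hφ, hPP', hsurj, heq⟩ := h
  exact hsurj y y.2

theorem rel_pushE (e : S ≃* S') (hP : P ≤ S) (φ : P →* Ω) (hφ : ∀ x, φ x ∈ S) :
    Rel e φ (pushE e hP φ hφ) := by
  refine ⟨hP, hφ, fun x => coe_mem_imE e hP x, ?_, fun x => ?_⟩
  · intro y hy
    obtain ⟨x, hx, rfl⟩ := mem_imE.mp hy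
    exact ⟨⟨x, hx⟩, rfl⟩
  · exact pushE_apply e hP φ hφ x

theorem exists_push (e : S ≃* S') (hP : P ≤ S) (φ : P →* Ω) (hφ : ∀ x, φ x ∈ S)
    {P' : Subgroup Ω'} (h : imE e P = P') : ∃ φ' : P' →* Ω', Rel e φ φ' := by
  subst h
  exact ⟨_, rel_pushE e hP φ hφ⟩

theorem Rel.symm (h : Rel e φ φ') : Rel e.symm φ' φ := by
  have hP' := h.le_right
  have hφ' := h.map_mem_right
  obtain ⟨hP, hφ, hPP', hsurj, heq⟩ := h
  have key : ∀ y : P', ∃ x : P, (⟨y, hP' y.2⟩ : S') = e ⟨x, hP x.2⟩ := by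
    intro y
    obtain ⟨x, hx⟩ := hsurj y y.2
    exact ⟨x, Subtype.ext hx.symm⟩
  refine ⟨hP', hφ', ?_, ?_, ?_⟩
  · intro y
    obtain ⟨x, hx⟩ := key y
    rw [hx, MulEquiv.symm_apply_apply]
    exact x.2
  · intro x hx
    refine ⟨⟨e ⟨x, hP hx⟩, hPP' ⟨x, hx⟩⟩, ?_⟩
    simp
  · intro y
    obtain ⟨x, hx⟩ := key y
    have e1 : (⟨((e.symm ⟨y, hP' y.2⟩ : S) : Ω), by
        rw [hx, MulEquiv.symm_apply_apply]; exact x.2⟩ : P) = x := by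
      apply Subtype.ext
      show ((e.symm ⟨y, hP' y.2⟩ : S) : Ω) = x
      rw [hx, MulEquiv.symm_apply_apply]
    rw [e1]
    have e2 : (⟨φ' y, hφ' y⟩ : S') = e ⟨φ x, hφ x⟩ := by
      apply Subtype.ext
      have : y = ⟨e ⟨x, hP x.2⟩, hPP' x⟩ := Subtype.ext (congrArg (fun z : S' => (z : Ω')) hx)
      show φ' y = _
      rw [this, heq]
    rw [e2, MulEquiv.symm_apply_apply]

theorem Rel.of_symm {e : S ≃* S'} {P : Subgroup Ω} {φ : P →* Ω} {P' : Subgroup Ω'}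
    {φ' : P' →* Ω'} (h : Rel e.symm φ' φ) : Rel e φ φ' := by
  have := h.symm
  rwa [MulEquiv.symm_symm] at this

theorem Rel.right_unique {φ'' : P' →* Ω'} (h : Rel e φ φ') (h2 : Rel e φ φ'') : φ' = φ'' := by
  ext y
  obtain ⟨x, hx⟩ := h.exists_eq y
  have : y = ⟨e ⟨x, h.le_left x.2⟩, h.mem_right x⟩ := Subtype.ext hx.symm
  rw [this, h.apply, h2.apply]

theorem Rel.left_unique {φ₂ : P →* Ω} (h : Rel e φ φ') (h2 : Rel e φ₂ φ') : φ = φ₂ :=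
  h.symm.right_unique h2.symm

theorem imE_symm_imE (e : S ≃* S') {P : Subgroup Ω} (hP : P ≤ S) : imE e.symm (imE e P) = P := by
  ext x
  rw [mem_imE]
  constructor
  · rintro ⟨y, hy, rfl⟩
    obtain ⟨x, hx, hxy⟩ := mem_imE.mp hy
    have : y = e x := Subtype.ext hxy.symm
    rw [this, MulEquiv.symm_apply_apply]
    exact hx
  · intro hx
    refine ⟨e ⟨x, hP hx⟩, coe_mem_imE e hP ⟨x, hx⟩, ?_⟩
    rw [MulEquiv.symm_apply_apply]

theorem imE_imE_symm (e : S ≃* S') {P' : Subgroup Ω'} (hP' : P' ≤ S') :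
    imE e (imE e.symm P') = P' := by
  have := imE_symm_imE e.symm hP'
  rwa [MulEquiv.symm_symm] at this

theorem exists_pull (e : S ≃* S') {P' : Subgroup Ω'} (hP' : P' ≤ S') (φ' : P' →* Ω')
    (hφ' : ∀ y, φ' y ∈ S') {P : Subgroup Ω} (hP : P ≤ S) (h : imE e P = P') :
    ∃ φ : P →* Ω, Rel e φ φ' := by
  have h2 : imE e.symm P' = P := by rw [← h, imE_symm_imE e hP]
  obtain ⟨φ, hφ⟩ := exists_push e.symm hP' φ' hφ' h2
  exact ⟨φ, hφ.of_symm⟩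

theorem exists_pull' (e : S ≃* S') {P' : Subgroup Ω'} (hP' : P' ≤ S') (φ' : P' →* Ω')
    (hφ' : ∀ y, φ' y ∈ S') : ∃ φ : imE e.symm P' →* Ω, Rel e φ φ' :=
  exists_pull e hP' φ' hφ' (imE_le e.symm P') (imE_imE_symm e hP')

theorem Rel.range (h : Rel e φ φ') : imE e φ.range = φ'.range := by
  ext y
  rw [mem_imE]
  constructor
  · rintro ⟨s, ⟨x, hx⟩, rfl⟩
    refine ⟨⟨e ⟨x, h.le_left x.2⟩, h.mem_right x⟩, ?_⟩
    rw [h.apply]
    congr 2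
    exact Subtype.ext hx
  · rintro ⟨z, rfl⟩
    obtain ⟨x, hx⟩ := h.exists_eq z
    have : z = ⟨e ⟨x, h.le_left x.2⟩, h.mem_right x⟩ := Subtype.ext hx.symm
    exact ⟨⟨φ x, h.map_mem_left x⟩, ⟨x, rfl⟩, by rw [this, h.apply]⟩

theorem Rel.comp {Q : Subgroup Ω} {Q' : Subgroup Ω'} {ψ : Q →* Ω} {ψ' : Q' →* Ω'}
    (h : Rel e φ φ') (h2 : Rel e ψ ψ') (hQ : ∀ x, φ x ∈ Q) (hQ' : ∀ y, φ' y ∈ Q') :
    Rel e (ψ.comp (φ.codRestrict Q hQ)) (ψ'.comp (φ'.codRestrict Q' hQ')) := by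
  refine ⟨h.le_left, fun x => h2.map_mem_left _, h.mem_right, fun y hy => h.exists_eq ⟨y, hy⟩,
    fun x => ?_⟩
  show ψ' ⟨φ' ⟨e ⟨x, _⟩, _⟩, _⟩ = ((e ⟨ψ ⟨φ x, _⟩, _⟩ : S') : Ω')
  have e1 : (⟨φ' ⟨e ⟨x, h.le_left x.2⟩, h.mem_right x⟩, hQ' _⟩ : Q') =
      ⟨e ⟨((⟨φ x, hQ x⟩ : Q) : Ω), h2.le_left (hQ x)⟩, h2.mem_right ⟨φ x, hQ x⟩⟩ :=
    Subtype.ext (h.apply x _)
  rw [e1, h2.apply]

theorem Rel.restrict {R : Subgroup Ω} {R' : Subgroup Ω'} (h : Rel e φ φ') (hR : R ≤ P)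
    (hR' : R' ≤ P') (hRR' : imE e R = R') :
    Rel e (φ.comp (Subgroup.inclusion hR)) (φ'.comp (Subgroup.inclusion hR')) := by
  refine ⟨hR.trans h.le_left, fun x => h.map_mem_left _, ?_, ?_, fun x => ?_⟩
  · intro x
    rw [← hRR']
    exact coe_mem_imE e (hR.trans h.le_left) x
  · intro y hy
    rw [← hRR'] at hy
    obtain ⟨x, hx, rfl⟩ := mem_imE.mp hy
    exact ⟨⟨x, hx⟩, rfl⟩
  · exact h.apply (Subgroup.inclusion hR x) _

theorem rel_subtype (e : S ≃* S') {P : Subgroup Ω} (hP : P ≤ S) {P' : Subgroup Ω'}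
    (h : imE e P = P') : Rel e P.subtype P'.subtype := by
  subst h
  refine ⟨hP, fun x => hP x.2, fun x => coe_mem_imE e hP x, ?_, fun x => rfl⟩
  intro y hy
  obtain ⟨x, hx, rfl⟩ := mem_imE.mp hy
  exact ⟨⟨x, hx⟩, rfl⟩

end rel

/-! ### Correspondence of fusion systems under an isomorphism -/

/-- The fusion systems `E` (over `T ≤ S`) and `E'` (over `T' ≤ S'`) correspond under `e`. -/
def CorrespR (e : S ≃* S') {T : Subgroup Ω} {T' : Subgroup Ω'} (E : FusionSystem T)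
    (E' : FusionSystem T') : Prop :=
  ∀ (P : Subgroup Ω) (P' : Subgroup Ω') (φ : P →* Ω) (φ' : P' →* Ω'), Rel e φ φ' →
    (φ ∈ E.Hom P ↔ φ' ∈ E'.Hom P')

theorem CorrespR.symm {e : S ≃* S'} {T : Subgroup Ω} {T' : Subgroup Ω'} {E : FusionSystem T}
    {E' : FusionSystem T'} (h : CorrespR e E E') : CorrespR e.symm E' E :=
  fun P' P φ' φ hr => (h P P' φ φ' hr.of_symm).symm

theorem CorrespR.of_symm {e : S ≃* S'} {T : Subgroup Ω} {T' : Subgroup Ω'} {E : FusionSystem T}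
    {E' : FusionSystem T'} (h : CorrespR e.symm E' E) : CorrespR e E E' :=
  fun P P' φ φ' hr => (h P' P φ' φ hr.symm).symm

theorem CorrespR.corresp {e : S ≃* S'} {F : FusionSystem S} {F' : FusionSystem S'}
    (h : CorrespR e F F') : Corresp e F F' :=
  fun P hP φ hφ => h P _ φ _ (rel_pushE e hP φ hφ)

theorem correspR_of_corresp {e : S ≃* S'} {F : FusionSystem S} {F' : FusionSystem S'}
    (h : Corresp e F F') : CorrespR e F F' := by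
  intro P P' φ φ' hr
  have hP := hr.le_left
  have hφ := hr.map_mem_left
  have him := hr.imE_eq
  subst him
  have : φ' = pushE e hP φ hφ := hr.right_unique (rel_pushE e hP φ hφ)
  rw [this]
  exact h P hP φ hφ

/-- Two systems corresponding to the same system have the same maps. -/
theorem CorrespR.hom_eq {e : S ≃* S'} {T : Subgroup Ω} {T' T'' : Subgroup Ω'}
    {E : FusionSystem T} {E' : FusionSystem T'} {E'' : FusionSystem T''} (h : CorrespR e E E')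
    (h2 : CorrespR e E E'') (hT' : T' ≤ S') (hT'' : T'' ≤ S') (P' : Subgroup Ω') :
    E'.Hom P' = E''.Hom P' := by
  ext φ'
  constructor
  · intro hφ'
    have hP' : P' ≤ S' := (Helper87.hom_le E' hφ').trans hT'
    obtain ⟨φ, hr⟩ := exists_pull' e hP' φ' (fun y => hT' (Helper87.hom_mem_S E' hφ' y))
    exact (h2 _ _ φ φ' hr).mp ((h _ _ φ φ' hr).mpr hφ')
  · intro hφ'
    have hP' : P' ≤ S' := (Helper87.hom_le E'' hφ').trans hT''
    obtain ⟨φ, hr⟩ := exists_pull' e hP' φ' (fun y => hT'' (Helper87.hom_mem_S E'' hφ' y))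
    exact (h _ _ φ φ' hr).mp ((h2 _ _ φ φ' hr).mpr hφ')

end Cfsg.Agent.Lib.Helper85.Iso
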