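import Cfsg.Agent.Lib.Helper85.Iso9

set_option autoImplicit false

namespace Cfsg.Agent.Lib.Helper85.Iso

open Cfsg Cfsg.FusionSystem Cfsg.Agent.Lib.Helper85

universe u v

section

variable {Ω : Type u} {Ω' : Type v} [Group Ω] [Group Ω'] {S : Subgroup Ω} {S' : Subgroup Ω'}
  {e : S ≃* S'} {F : FusionSystem S} {F' : FusionSystem S'}

theorem imageAlong_eq_imE (e : S ≃* S') (P : Subgroup Ω) :
    imageAlong (S'.subtype.comp e.toMonoidHom) P = imE e P := by
  unfold imageAlong imE
  rw [Subgroup.map_map]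

/-- One half of the correspondence, from a morphism of fusion systems. -/
theorem mem_of_isMorphism (hα : F.IsMorphism F' (S'.subtype.comp e.toMonoidHom))
    {P : Subgroup Ω} {φ : P →* Ω} {P' : Subgroup Ω'} {φ' : P' →* Ω'} (hr : Rel e φ φ')
    (hφ : φ ∈ F.Hom P) : φ' ∈ F'.Hom P' := by
  obtain ⟨φ'', hφ'', hP, hφS, hPP', heq⟩ := hα.2 P φ hφ
  have him : P' = imageAlong (S'.subtype.comp e.toMonoidHom) P := by
    rw [imageAlong_eq_imE, hr.imE_eq]
  obtain ⟨φ₃, hφ₃, hφ₃eq⟩ := Helper84.exists_hom_of_eq F' hφ'' him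
  have : φ' = φ₃ := by
    ext y
    obtain ⟨x, hx⟩ := hr.exists_eq y
    have hy : y = ⟨e ⟨x, hr.le_left x.2⟩, hr.mem_right x⟩ := Subtype.ext hx.symm
    rw [hy, hr.apply]
    exact ((hφ₃eq _ (hr.mem_right x) (hPP' x)).trans (heq x)).symm
  rw [this]
  exact hφ₃

theorem correspR_of_isMorphism (hα : F.IsMorphism F' (S'.subtype.comp e.toMonoidHom))
    (hα' : F'.IsMorphism F (S.subtype.comp e.symm.toMonoidHom)) : CorrespR e F F' := by
  intro P P' φ φ' hr
  exact ⟨mem_of_isMorphism hα hr, mem_of_isMorphism hα' hr.symm⟩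

/-- Components are transported by an isomorphism. -/
theorem isComponentIn_transport [Finite S] [Finite S'] {p : ℕ} [Fact p.Prime]
    (hF : CorrespR e F F') {U : Subgroup Ω} {C : FusionSystem U} {U' : Subgroup Ω'}
    {C' : FusionSystem U'} (hC : CorrespR e C C') (hU : imE e U = U')
    (h : C.IsComponentIn F p) : C'.IsComponentIn F' p := by
  obtain ⟨hsn, hqs⟩ := h
  have hUS : U ≤ S := IsSubnormalIn.le hsn
  have hU'S' : U' ≤ S' := hU ▸ imE_le e U
  have : Finite U :=
    Finite.of_injective (Subgroup.inclusion hUS) (Subgroup.inclusion_injective hUS)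
  have : Finite U' :=
    Finite.of_injective (Subgroup.inclusion hU'S') (Subgroup.inclusion_injective hU'S')
  exact ⟨isSubnormalIn_transport hsn e C' F' hF hC hU,
    quasisimple_transport (hC.restrict hUS hU) hqs⟩

/-- The layer is transported by an isomorphism. -/
theorem isLayerOf_transport [Finite S] [Finite S'] {p : ℕ} [Fact p.Prime]
    (hF : CorrespR e F F') {T : Subgroup Ω} {E : FusionSystem T} {T' : Subgroup Ω'}
    {E' : FusionSystem T'} (hE : CorrespR e E E') (hT : imE e T = T')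
    (h : E.IsLayerOf F p) : E'.IsLayerOf F' p := by
  obtain ⟨hnorm, hcomp, hmin⟩ := h
  refine ⟨isNormalIn_transport hF hE hT hnorm, ?_, ?_⟩
  · intro U' C' hC'
    have hU'S' : U' ≤ S' := IsSubnormalIn.le hC'.1
    obtain ⟨C, hC⟩ := exists_transport e.symm hU'S' C' (rfl : imE e.symm U' = imE e.symm U')
    have hCcomp : C.IsComponentIn F p := isComponentIn_transport hF.symm hC rfl hC'
    have hCE := hcomp _ C hCcomp
    intro P' φ' hφ'
    have hP' : P' ≤ S' := (Helper87.hom_le C' hφ').trans hU'S'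
    obtain ⟨φ, hr⟩ := exists_pull' e hP' φ' (fun y => hU'S' (Helper87.hom_mem_S C' hφ' y))
    exact (hE _ _ _ _ hr).mp (hCE _ ((hC _ _ _ _ hr.symm).mp hφ'))
  · intro R' D' hD' hD'comp
    have hR'S' : R' ≤ S' := hD'.1.2.2.2.1.1
    obtain ⟨D, hD⟩ := exists_transport e.symm hR'S' D' (rfl : imE e.symm R' = imE e.symm R')
    have hDnorm : D.IsNormalIn F p := isNormalIn_transport hF.symm hD rfl hD'
    have hDcomp : ∀ (U : Subgroup Ω) (C : FusionSystem U), C.IsComponentIn F p →
        C.IsSubsystemOf D := by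
      intro U C hC
      have hUS : U ≤ S := IsSubnormalIn.le hC.1
      obtain ⟨C', hCC'⟩ := exists_transport e hUS C (rfl : imE e U = imE e U)
      have hC'comp : C'.IsComponentIn F' p := isComponentIn_transport hF hCC' rfl hC
      have hC'D' := hD'comp _ C' hC'comp
      intro P φ hφ
      have hP : P ≤ S := (Helper87.hom_le C hφ).trans hUS
      obtain ⟨φ', hr⟩ := exists_push e hP φ (fun x => hUS (Helper87.hom_mem_S C hφ x))
        (rfl : imE e P = imE e P)
      exact (hD _ _ _ _ hr.symm).mp (hC'D' _ ((hCC' _ _ _ _ hr).mp hφ))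
    have hED := hmin _ D hDnorm hDcomp
    intro P' φ' hφ'
    have hT'S' : T' ≤ S' := hT ▸ imE_le e T
    have hP' : P' ≤ S' := (Helper87.hom_le E' hφ').trans hT'S'
    obtain ⟨φ, hr⟩ := exists_pull' e hP' φ' (fun y => hT'S' (Helper87.hom_mem_S E' hφ' y))
    exact (hD _ _ _ _ hr.symm).mpr (hED _ ((hE _ _ _ _ hr).mpr hφ'))

end

/-- Two layers of the same system have the same underlying group and the same maps. -/
theorem isLayerOf_unique {Ω : Type*} [Group Ω] {S : Subgroup Ω} {p : ℕ} {F : FusionSystem S}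
    {T T' : Subgroup Ω} {E : FusionSystem T} {E' : FusionSystem T'} (h : E.IsLayerOf F p)
    (h' : E'.IsLayerOf F p) : T = T' ∧ ∀ P, E.Hom P = E'.Hom P := by
  have h1 : E.IsSubsystemOf E' := h.2.2 _ E' h'.1 h'.2.1
  have h2 : E'.IsSubsystemOf E := h'.2.2 _ E h.1 h.2.1
  have hTS : T ≤ S := h.1.1.2.2.2.1.1
  have hT'S : T' ≤ S := h'.1.1.2.2.2.1.1
  refine ⟨le_antisymm ?_ ?_, fun P => Set.Subset.antisymm (h1 P) (h2 P)⟩
  · exact Helper87.hom_le E' (h1 T (Helper87.subtype_mem E le_rfl))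
  · exact Helper87.hom_le E (h2 T' (Helper87.subtype_mem E' le_rfl))

end Cfsg.Agent.Lib.Helper85.Iso
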