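import Cfsg.Agent.Lib.Helper85.Iso1

set_option autoImplicit false

namespace Cfsg.Agent.Lib.Helper85.Iso

open Cfsg Cfsg.FusionSystem Cfsg.Agent.Lib.Helper85

variable {Ω Ω' : Type*} [Group Ω] [Group Ω'] {S : Subgroup Ω} {S' : Subgroup Ω'}

/-! ### images of subgroups -/

theorem imE_le_iff (e : S ≃* S') {P : Subgroup Ω} (hP : P ≤ S) {K : Subgroup Ω'} :
    imE e P ≤ K ↔ P ≤ preE e K := by
  constructor
  · intro h x hx
    exact mem_preE.mpr ⟨hP hx, h (coe_mem_imE e hP ⟨x, hx⟩)⟩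
  · intro h y hy
    obtain ⟨x, hx, rfl⟩ := mem_imE.mp hy
    obtain ⟨_, h2⟩ := mem_preE.mp (h hx)
    exact h2

theorem imE_sup (e : S ≃* S') {A B : Subgroup Ω} (hA : A ≤ S) (hB : B ≤ S) :
    imE e (A ⊔ B) = imE e A ⊔ imE e B := by
  unfold imE
  rw [Subgroup.subgroupOf_sup hA hB, Subgroup.map_sup, Subgroup.map_sup]

theorem imE_top (e : S ≃* S') : imE e S = S' := by
  apply le_antisymm (imE_le e S)
  intro y hy
  refine mem_imE.mpr ⟨e.symm ⟨y, hy⟩, (e.symm ⟨y, hy⟩).2, ?_⟩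
  rw [MulEquiv.apply_symm_apply]

theorem imE_bot (e : S ≃* S') : imE e ⊥ = ⊥ := by
  rw [eq_bot_iff]
  intro y hy
  obtain ⟨x, hx, rfl⟩ := mem_imE.mp hy
  have : x = 1 := Subtype.ext (Subgroup.mem_bot.mp hx)
  rw [this, map_one]
  exact Subgroup.one_mem _

theorem imE_eq_bot_iff (e : S ≃* S') {P : Subgroup Ω} (hP : P ≤ S) : imE e P = ⊥ ↔ P = ⊥ := by
  constructor
  · intro h
    rw [eq_bot_iff]
    intro x hx
    have h1 := coe_mem_imE e hP ⟨x, hx⟩
    rw [h, Subgroup.mem_bot] at h1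
    have h2 : e ⟨x, hP hx⟩ = 1 := Subtype.ext h1
    have h3 : (⟨x, hP hx⟩ : S) = 1 := by
      rw [← e.map_eq_one_iff]
      exact h2
    exact Subgroup.mem_bot.mpr (congrArg (fun z : S => (z : Ω)) h3)
  · rintro rfl
    exact imE_bot e

theorem imE_injective (e : S ≃* S') {P Q : Subgroup Ω} (hP : P ≤ S) (hQ : Q ≤ S)
    (h : imE e P = imE e Q) : P = Q := by
  rw [← imE_symm_imE e hP, ← imE_symm_imE e hQ, h]

theorem mem_imE_iff (e : S ≃* S') {P : Subgroup Ω} (hP : P ≤ S) (x : S) :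
    ((e x : S') : Ω') ∈ imE e P ↔ (x : Ω) ∈ P := by
  constructor
  · intro h
    obtain ⟨x', hx', hxx'⟩ := mem_imE.mp h
    have : x' = x := e.injective (Subtype.ext hxx')
    rw [← this]
    exact hx'
  · intro h
    exact mem_imE.mpr ⟨x, h, rfl⟩

theorem imE_centralizerIn (e : S ≃* S') {T : Subgroup Ω} (hT : T ≤ S) :
    imE e (centralizerIn S T) = centralizerIn S' (imE e T) := by
  ext y
  rw [mem_imE]
  constructor
  · rintro ⟨x, hx, rfl⟩
    refine ⟨(e x).2, ?_⟩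
    show ((e x : S') : Ω') ∈ Subgroup.centralizer ((imE e T : Subgroup Ω') : Set Ω')
    rw [Subgroup.mem_centralizer_iff]
    intro t ht
    obtain ⟨t₀, ht₀, rfl⟩ := mem_imE.mp ht
    have h1 : (t₀ : Ω) * (x : Ω) = (x : Ω) * (t₀ : Ω) :=
      (Subgroup.mem_centralizer_iff.mp hx.2) t₀ ht₀
    have h2 : t₀ * x = x * t₀ := Subtype.ext h1
    have h3 : e t₀ * e x = e x * e t₀ := by rw [← map_mul, ← map_mul, h2]
    exact congrArg (fun z : S' => (z : Ω')) h3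
  · rintro ⟨hyS, hyc⟩
    refine ⟨e.symm ⟨y, hyS⟩, ⟨(e.symm ⟨y, hyS⟩).2, ?_⟩, by rw [MulEquiv.apply_symm_apply]⟩
    show ((e.symm ⟨y, hyS⟩ : S) : Ω) ∈ Subgroup.centralizer ((T : Subgroup Ω) : Set Ω)
    rw [Subgroup.mem_centralizer_iff]
    intro t ht
    have h1 := (Subgroup.mem_centralizer_iff.mp hyc) _ (coe_mem_imE e hT ⟨t, ht⟩)
    have h2 : e ⟨t, hT ht⟩ * ⟨y, hyS⟩ = ⟨y, hyS⟩ * e ⟨t, hT ht⟩ := Subtype.ext h1
    have h3 : (⟨t, hT ht⟩ : S) * e.symm ⟨y, hyS⟩ = e.symm ⟨y, hyS⟩ * ⟨t, hT ht⟩ := by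
      apply e.injective
      rw [map_mul, map_mul, MulEquiv.apply_symm_apply]
      exact h2
    exact congrArg (fun z : S => (z : Ω)) h3

/-! ### restriction of the isomorphism -/

/-- The restriction of `e` to an isomorphism `U ≃* U'`, for `U' = e(U)`. -/
noncomputable def isoTo (e : S ≃* S') {U : Subgroup Ω} (hU : U ≤ S) {U' : Subgroup Ω'}
    (hU' : imE e U = U') : U ≃* U' :=
  (isoE e hU).trans (MulEquiv.subgroupCongr hU')

theorem isoTo_coe (e : S ≃* S') {U : Subgroup Ω} (hU : U ≤ S) {U' : Subgroup Ω'}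
    (hU' : imE e U = U') (x : U) :
    ((isoTo e hU hU' x : U') : Ω') = ((e ⟨x, hU x.2⟩ : S') : Ω') := rfl

theorem isoTo_symm_coe (e : S ≃* S') {U : Subgroup Ω} (hU : U ≤ S) {U' : Subgroup Ω'}
    (hU' : imE e U = U') (y : U') :
    (((isoTo e hU hU').symm y : U) : Ω) = ((e.symm ⟨y, (hU' ▸ imE_le e U) y.2⟩ : S) : Ω) := by
  obtain ⟨x, rfl⟩ := (isoTo e hU hU').surjective y
  rw [MulEquiv.symm_apply_apply]
  have : (⟨((isoTo e hU hU' x : U') : Ω'), (hU' ▸ imE_le e U) (isoTo e hU hU' x).2⟩ : S') =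
      e ⟨x, hU x.2⟩ := Subtype.ext rfl
  rw [this, MulEquiv.symm_apply_apply]

theorem isoTo_eq_iff (e : S ≃* S') {U : Subgroup Ω} (hU : U ≤ S) {U' : Subgroup Ω'}
    (hU' : imE e U = U') (x : U) (y : U') :
    isoTo e hU hU' x = y ↔ ((e ⟨x, hU x.2⟩ : S') : Ω') = y := by
  constructor
  · rintro rfl
    rfl
  · intro h
    exact Subtype.ext h

theorem imE_isoTo (e : S ≃* S') {U : Subgroup Ω} (hU : U ≤ S) {U' : Subgroup Ω'}
    (hU' : imE e U = U') {P : Subgroup Ω} (hP : P ≤ U) :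
    imE (isoTo e hU hU') P = imE e P := by
  ext y
  rw [mem_imE, mem_imE]
  constructor
  · rintro ⟨x, hx, rfl⟩
    exact ⟨⟨x, hU x.2⟩, hx, rfl⟩
  · rintro ⟨x, hx, rfl⟩
    exact ⟨⟨x, hP hx⟩, hx, rfl⟩

section

variable {e : S ≃* S'} {U : Subgroup Ω} {hU : U ≤ S} {U' : Subgroup Ω'} {hU' : imE e U = U'}
  {P : Subgroup Ω} {φ : P →* Ω} {P' : Subgroup Ω'} {φ' : P' →* Ω'}

theorem Rel.of_isoTo (h : Rel (isoTo e hU hU') φ φ') : Rel e φ φ' := by
  obtain ⟨hP, hφ, hPP', hsurj, heq⟩ := h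
  refine ⟨hP.trans hU, fun x => hU (hφ x), hPP', hsurj, fun x => ?_⟩
  exact heq x

theorem Rel.to_isoTo (h : Rel e φ φ') (hP : P ≤ U) (hφ : ∀ x, φ x ∈ U) :
    Rel (isoTo e hU hU') φ φ' := by
  refine ⟨hP, hφ, h.mem_right, fun y hy => h.exists_eq ⟨y, hy⟩, fun x => ?_⟩
  exact h.apply x _

end

theorem CorrespR.restrict {e : S ≃* S'} {T : Subgroup Ω} {T' : Subgroup Ω'} {E : FusionSystem T}
    {E' : FusionSystem T'} (h : CorrespR e E E') {U : Subgroup Ω} (hU : U ≤ S)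
    {U' : Subgroup Ω'} (hU' : imE e U = U') : CorrespR (isoTo e hU hU') E E' :=
  fun P P' φ φ' hr => h P P' φ φ' hr.of_isoTo

theorem CorrespR.extend {e : S ≃* S'} {T : Subgroup Ω} {T' : Subgroup Ω'} {E : FusionSystem T}
    {E' : FusionSystem T'} {U : Subgroup Ω} {hU : U ≤ S} {U' : Subgroup Ω'}
    {hU' : imE e U = U'} (h : CorrespR (isoTo e hU hU') E E') (hT : T ≤ U) (hT' : T' ≤ U') :
    CorrespR e E E' := by
  intro P P' φ φ' hr
  constructor
  · intro hφ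
    exact (h P P' φ φ' (hr.to_isoTo ((Helper87.hom_le E hφ).trans hT)
      (fun x => hT (Helper87.hom_mem_S E hφ x)))).mp hφ
  · intro hφ'
    have hP' : P' ≤ U' := (Helper87.hom_le E' hφ').trans hT'
    have hP : P ≤ U := by
      intro x hx
      have h1 := hP' (hr.mem_right ⟨x, hx⟩)
      rw [← hU'] at h1
      exact (mem_imE_iff e hU _).mp h1
    have hφU : ∀ x, φ x ∈ U := by
      intro x
      have h1 : φ' ⟨_, hr.mem_right x⟩ ∈ U' := hT' (Helper87.hom_mem_S E' hφ' _)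
      rw [hr.apply, ← hU'] at h1
      exact (mem_imE_iff e hU _).mp h1
    exact (h P P' φ φ' (hr.to_isoTo hP hφU)).mpr hφ'

/-! ### saturation and automorphism groups -/

theorem CorrespR.isSaturated [Finite S'] {p : ℕ} [Fact p.Prime] {e : S ≃* S'}
    {T : Subgroup Ω} {T' : Subgroup Ω'} {E : FusionSystem T} {E' : FusionSystem T'}
    (h : CorrespR e E E') (hT : T ≤ S) (hT' : imE e T = T') (hE : E.IsSaturated p) :
    E'.IsSaturated p := by
  have hfin : Finite T' := by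
    have : T' ≤ S' := hT' ▸ imE_le e T
    exact Finite.of_injective (Subgroup.inclusion this) (Subgroup.inclusion_injective this)
  have h1 : CorrespR (isoTo e hT hT') E E' := h.restrict hT hT'
  have h2 : Corresp (isoTo e hT hT').symm E' E := h1.symm.corresp
  exact h2.isSaturated hE

theorem congr_isoTo_apply (e : S ≃* S') {Q : Subgroup Ω} (hQ : Q ≤ S) {Q' : Subgroup Ω'}
    (hQ' : imE e Q = Q') (α : MulAut Q) (x : Q) :
    MulAut.congr (isoTo e hQ hQ') α (isoTo e hQ hQ' x) = isoTo e hQ hQ' (α x) := by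
  simp [MulAut.congr]

theorem rel_congr (e : S ≃* S') {Q : Subgroup Ω} (hQ : Q ≤ S) {Q' : Subgroup Ω'}
    (hQ' : imE e Q = Q') (α : MulAut Q) :
    Rel e (Q.subtype.comp α.toMonoidHom)
      (Q'.subtype.comp (MulAut.congr (isoTo e hQ hQ') α).toMonoidHom) := by
  refine ⟨hQ, fun x => hQ (α x).2, fun x => (isoTo e hQ hQ' x).2, ?_, fun x => ?_⟩
  · intro y hy
    obtain ⟨x, hx⟩ := (isoTo e hQ hQ').surjective ⟨y, hy⟩
    exact ⟨x, congrArg (fun z : Q' => (z : Ω')) hx⟩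
  · show (((MulAut.congr (isoTo e hQ hQ') α) ⟨e ⟨x, hQ x.2⟩, _⟩ : Q') : Ω') = _
    have : (⟨e ⟨x, hQ x.2⟩, (isoTo e hQ hQ' x).2⟩ : Q') = isoTo e hQ hQ' x := rfl
    rw [this, congr_isoTo_apply]
    rfl

theorem CorrespR.mem_autGroup_iff {e : S ≃* S'} {T : Subgroup Ω} {T' : Subgroup Ω'}
    {E : FusionSystem T} {E' : FusionSystem T'} (h : CorrespR e E E') (hT : T ≤ S)
    (hT' : imE e T = T') {Q : Subgroup Ω} (hQT : Q ≤ T) {Q' : Subgroup Ω'}
    (hQ' : imE e Q = Q') (α : MulAut Q) :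
    α ∈ E.autGroup Q ↔ MulAut.congr (isoTo e (hQT.trans hT) hQ') α ∈ E'.autGroup Q' := by
  have hQ'T' : Q' ≤ T' := by
    rw [← hQ', ← hT']
    exact imE_mono e hQT
  rw [Helper87.mem_autGroup_iff E hQT, Helper87.mem_autGroup_iff E' hQ'T']
  exact h _ _ _ _ (rel_congr e (hQT.trans hT) hQ' α)

theorem congr_symm_congr {A B : Type*} [Group A] [Group B] (f : A ≃* B) (α' : MulAut B) :
    MulAut.congr f ((MulAut.congr f).symm α') = α' :=
  (MulAut.congr f).apply_symm_apply α'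

end Cfsg.Agent.Lib.Helper85.Iso
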