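import Cfsg.Agent.Lib.Helper85.Iso2
import Cfsg.Agent.Lib.Helper88.FactorSystem

set_option autoImplicit false

namespace Cfsg.Agent.Lib.Helper85.Iso

open Cfsg Cfsg.FusionSystem Cfsg.Agent.Lib.Helper85
open Cfsg.Agent.Lib.Helper88 (mem_preimageAlong preimageAlong_le)

variable {Ω Ω' : Type*} [Group Ω] [Group Ω'] {S : Subgroup Ω} {S' : Subgroup Ω'}

/-! ### bridging with `IsFactorSystem ⊥` -/

theorem imE_preimageAlong (e : S ≃* S') (θ : S →* Ω') (hθ : ∀ s, θ s = ((e s : S') : Ω'))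
    {P' : Subgroup Ω'} (hP' : P' ≤ S') : imE e (preimageAlong θ P') = P' := by
  ext y
  rw [mem_imE]
  constructor
  · rintro ⟨x, hx, rfl⟩
    obtain ⟨hxS, h⟩ := mem_preimageAlong.mp hx
    rw [hθ] at h
    exact h
  · intro hy
    refine ⟨e.symm ⟨y, hP' hy⟩, mem_preimageAlong.mpr ⟨(e.symm ⟨y, hP' hy⟩).2, ?_⟩, ?_⟩
    · rw [hθ]
      simpa using hy
    · rw [MulEquiv.apply_symm_apply]

theorem induced_iff_rel (e : S ≃* S') (θ : S →* Ω') (hθ : ∀ s, θ s = ((e s : S') : Ω'))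
    {P' : Subgroup Ω'} (hP' : P' ≤ S') (ψ : preimageAlong θ P' →* Ω) (φ' : P' →* Ω') :
    InducedAlong θ ψ φ' ↔ Rel e ψ φ' := by
  constructor
  · rintro ⟨hP, hφ, hPP', heq⟩
    have hPP'2 : ∀ x : preimageAlong θ P', ((e ⟨x, hP x.2⟩ : S') : Ω') ∈ P' := by
      intro x
      rw [← hθ]
      exact hPP' x
    refine ⟨hP, hφ, hPP'2, ?_, fun x => ?_⟩
    · intro y hy
      rw [← imE_preimageAlong e θ hθ hP'] at hy
      obtain ⟨x, hx, rfl⟩ := mem_imE.mp hy
      exact ⟨⟨x, hx⟩, rfl⟩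
    · have e1 : (⟨e ⟨x, hP x.2⟩, hPP'2 x⟩ : P') = ⟨θ ⟨x, hP x.2⟩, hPP' x⟩ :=
        Subtype.ext (hθ _).symm
      rw [e1, heq x, hθ]
  · intro hr
    have hPP' : ∀ x : preimageAlong θ P', θ ⟨x, hr.le_left x.2⟩ ∈ P' := by
      intro x
      rw [hθ]
      exact hr.mem_right x
    refine ⟨hr.le_left, hr.map_mem_left, hPP', fun x => ?_⟩
    have e1 : (⟨θ ⟨x, hr.le_left x.2⟩, hPP' x⟩ : P') =
        ⟨e ⟨x, hr.le_left x.2⟩, hr.mem_right x⟩ := Subtype.ext (hθ _)
    rw [e1, hr.apply, hθ]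

theorem correspR_of_isFactorSystem (e : S ≃* S') (θ : S →* Ω')
    (hθ : ∀ s, θ s = ((e s : S') : Ω')) {F : FusionSystem S} {E : FusionSystem S'}
    (h : F.IsFactorSystem ⊥ θ E) : CorrespR e F E := by
  intro P P' φ φ' hr
  obtain ⟨-, hker, hrange, hHom⟩ := h
  have hP' : P' ≤ S' := hr.le_right
  have hPeq : preimageAlong θ P' = P := by
    ext x
    rw [mem_preimageAlong]
    constructor
    · rintro ⟨hx, h⟩
      rw [hθ, ← hr.imE_eq] at h
      exact (mem_imE_iff e hr.le_left _).mp h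
    · intro hx
      refine ⟨hr.le_left hx, ?_⟩
      rw [hθ]
      exact hr.mem_right ⟨x, hx⟩
  subst hPeq
  rw [hHom]
  constructor
  · intro hφ
    exact ⟨hP', φ, hφ, (induced_iff_rel e θ hθ hP' φ φ').mpr hr⟩
  · rintro ⟨-, ψ, hψ, hind⟩
    have := ((induced_iff_rel e θ hθ hP' ψ φ').mp hind).left_unique hr
    rw [← this]
    exact hψ

theorem isFactorSystem_of_correspR (e : S ≃* S') (θ : S →* Ω')
    (hθ : ∀ s, θ s = ((e s : S') : Ω')) {F : FusionSystem S} {E : FusionSystem S'}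
    (h : CorrespR e F E) : F.IsFactorSystem ⊥ θ E := by
  refine ⟨bot_le, fun s => ?_, ?_, fun P' φ' => ?_⟩
  · rw [hθ, Subgroup.mem_bot]
    constructor
    · intro h1
      have h2 : e s = 1 := Subtype.ext h1
      have h3 : s = 1 := by rwa [e.map_eq_one_iff] at h2
      rw [h3]
      rfl
    · intro h1
      have h3 : s = 1 := Subtype.ext h1
      rw [h3, map_one]
      rfl
  · ext y
    constructor
    · rintro ⟨s, rfl⟩
      rw [hθ]
      exact (e s).2
    · intro hy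
      refine ⟨e.symm ⟨y, hy⟩, ?_⟩
      rw [hθ, MulEquiv.apply_symm_apply]
  · constructor
    · intro hφ'
      have hP' : P' ≤ S' := Helper87.hom_le E hφ'
      obtain ⟨φ, hr⟩ := exists_pull e hP' φ' (Helper87.hom_mem_S E hφ')
        (preimageAlong_le θ P') (imE_preimageAlong e θ hθ hP')
      exact ⟨hP', φ, (h _ _ _ _ hr).mpr hφ', (induced_iff_rel e θ hθ hP' φ φ').mpr hr⟩
    · rintro ⟨hP', ψ, hψ, hind⟩
      exact (h _ _ _ _ ((induced_iff_rel e θ hθ hP' ψ φ').mp hind)).mp hψ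

/-! ### existence of the transported system -/

theorem exists_transport_top (e : S ≃* S') (F : FusionSystem S) :
    ∃ F' : FusionSystem S', CorrespR e F F' := by
  let θ : S →* Ω' := S'.subtype.comp e.toMonoidHom
  have hθ : ∀ s, θ s = ((e s : S') : Ω') := fun s => rfl
  have hker : ∀ s : S, θ s = 1 ↔ (s : Ω) ∈ (⊥ : Subgroup Ω) := by
    intro s
    rw [hθ, Subgroup.mem_bot]
    constructor
    · intro h1
      have h2 : e s = 1 := Subtype.ext h1
      have h3 : s = 1 := by rwa [e.map_eq_one_iff] at h2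
      rw [h3]
      rfl
    · intro h1
      have h3 : s = 1 := Subtype.ext h1
      rw [h3, map_one]
      rfl
  have hrange : θ.range = S' := by
    ext y
    constructor
    · rintro ⟨s, rfl⟩
      exact (e s).2
    · intro hy
      refine ⟨e.symm ⟨y, hy⟩, ?_⟩
      rw [hθ, MulEquiv.apply_symm_apply]
  have H : ∀ (P : Subgroup Ω) (φ : P →* Ω), φ ∈ F.Hom P → ∀ x : P,
      ((x : Ω) ∈ (⊥ : Subgroup Ω) ↔ φ x ∈ (⊥ : Subgroup Ω)) := by
    intro P φ hφ x
    rw [Subgroup.mem_bot, Subgroup.mem_bot]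
    constructor
    · intro h1
      have : x = 1 := Subtype.ext h1
      rw [this, map_one]
    · intro h1
      have : x = 1 := F.injective_of_mem hφ (by rw [h1, map_one])
      rw [this]
      rfl
  have H2 : ∀ (P : Subgroup Ω) (φ : P →* Ω), φ ∈ F.Hom P → (⊥ : Subgroup Ω) ⊓ S ≤ P →
      (⊥ : Subgroup Ω) ⊓ S ≤ φ.range := by
    intro P φ _ _ x hx
    rw [Subgroup.mem_bot.mp hx.1]
    exact Subgroup.one_mem _
  exact ⟨Helper88.factorSystem F ⊥ θ hker hrange H H2,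
    correspR_of_isFactorSystem e θ hθ
      (Helper88.isFactorSystem_factorSystem F ⊥ θ bot_le hker hrange H H2)⟩

theorem exists_transport (e : S ≃* S') {T : Subgroup Ω} (hT : T ≤ S) (E : FusionSystem T)
    {T' : Subgroup Ω'} (hT' : imE e T = T') : ∃ E' : FusionSystem T', CorrespR e E E' := by
  obtain ⟨E', hE'⟩ := exists_transport_top (isoTo e hT hT') E
  exact ⟨E', hE'.extend le_rfl le_rfl⟩

end Cfsg.Agent.Lib.Helper85.Iso
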