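import Cfsg.Agent.Lib.Helper85.Iso3

set_option autoImplicit false

namespace Cfsg.Agent.Lib.Helper85.Iso

open Cfsg Cfsg.FusionSystem Cfsg.Agent.Lib.Helper85

variable {Ω Ω' : Type*} [Group Ω] [Group Ω'] {S : Subgroup Ω} {S' : Subgroup Ω'}
  {e : S ≃* S'} {T : Subgroup Ω} {T' : Subgroup Ω'} {E : FusionSystem T} {F : FusionSystem S}
  {E' : FusionSystem T'} {F' : FusionSystem S'}

theorem imE_symm_le (e : S ≃* S') {T : Subgroup Ω} (hTS : T ≤ S) {T' : Subgroup Ω'}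
    (hT : imE e T = T') {P' : Subgroup Ω'} (hP' : P' ≤ T') : imE e.symm P' ≤ T := by
  rw [← imE_symm_imE e hTS, hT]
  exact imE_mono _ hP'

theorem subsystem_transport (hF : CorrespR e F F') (hE : CorrespR e E E') (hT : imE e T = T')
    (h : E.IsSubsystemOf F) : E'.IsSubsystemOf F' := by
  intro P' φ' hφ'
  have hT'S' : T' ≤ S' := hT ▸ imE_le e T
  have hP' : P' ≤ S' := (Helper87.hom_le E' hφ').trans hT'S'
  obtain ⟨φ, hr⟩ := exists_pull' e hP' φ' (fun y => hT'S' (Helper87.hom_mem_S E' hφ' y))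
  exact (hF _ _ _ _ hr).mp (h _ ((hE _ _ _ _ hr).mpr hφ'))

theorem stronglyClosed_transport (hF : CorrespR e F F') (hT : imE e T = T')
    (h : F.StronglyClosed T) : F'.StronglyClosed T' := by
  have hTS : T ≤ S := h.1
  have hT'S' : T' ≤ S' := hT ▸ imE_le e T
  refine ⟨hT'S', fun R' hR' φ' hφ' y => ?_⟩
  have hR'S' : R' ≤ S' := hR'.trans hT'S'
  obtain ⟨φ, hr⟩ := exists_pull' e hR'S' φ' (Helper87.hom_mem_S F' hφ')
  have hφ := (hF _ _ _ _ hr).mpr hφ'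
  have hRT : imE e.symm R' ≤ T := imE_symm_le e hTS hT hR'
  obtain ⟨x, hx⟩ := hr.exists_eq y
  have : y = ⟨e ⟨x, hr.le_left x.2⟩, hr.mem_right x⟩ := Subtype.ext hx.symm
  rw [this, hr.apply, ← hT]
  exact (mem_imE_iff e hTS _).mpr (h.2 _ hRT φ hφ x)

theorem invariance_transport (hF : CorrespR e F F') (hE : CorrespR e E E') (hTS : T ≤ S)
    (hT : imE e T = T')
    (h : ∀ (P : Subgroup Ω) (hPT : P ≤ T) (φ : P →* Ω), φ ∈ E.Hom P → ∀ α ∈ F.autGroup T,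
      ∃ χ ∈ E.Hom ((P.subgroupOf T).map (T.subtype.comp α.toMonoidHom)),
        ∀ (x : P) (hφx : φ x ∈ T)
          (hαx : ((α ⟨x, hPT x.2⟩ : T) : Ω) ∈ (P.subgroupOf T).map (T.subtype.comp α.toMonoidHom)),
          χ ⟨(α ⟨x, hPT x.2⟩ : T), hαx⟩ = ((α ⟨φ x, hφx⟩ : T) : Ω)) :
    ∀ (P' : Subgroup Ω') (hPT' : P' ≤ T') (φ' : P' →* Ω'), φ' ∈ E'.Hom P' →
      ∀ α' ∈ F'.autGroup T',
      ∃ χ' ∈ E'.Hom ((P'.subgroupOf T').map (T'.subtype.comp α'.toMonoidHom)),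
        ∀ (x : P') (hφx : φ' x ∈ T')
          (hαx : ((α' ⟨x, hPT' x.2⟩ : T') : Ω') ∈
            (P'.subgroupOf T').map (T'.subtype.comp α'.toMonoidHom)),
          χ' ⟨(α' ⟨x, hPT' x.2⟩ : T'), hαx⟩ = ((α' ⟨φ' x, hφx⟩ : T') : Ω') := by
  intro P' hPT' φ' hφ' α' hα'
  have hT'S' : T' ≤ S' := hT ▸ imE_le e T
  obtain ⟨α, rfl⟩ : ∃ α, MulAut.congr (isoTo e hTS hT) α = α' :=
    ⟨(MulAut.congr (isoTo e hTS hT)).symm α', congr_symm_congr _ _⟩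
  have hα : α ∈ F.autGroup T := (hF.mem_autGroup_iff le_rfl (imE_top e) hTS hT α).mpr hα'
  obtain ⟨φ, hr⟩ := exists_pull' e (hPT'.trans hT'S') φ'
    (fun y => hT'S' (Helper87.hom_mem_S E' hφ' y))
  have hPT : imE e.symm P' ≤ T := imE_symm_le e hTS hT hPT'
  have hφ : φ ∈ E.Hom _ := (hE _ _ _ _ hr).mpr hφ'
  obtain ⟨χ, hχ, hχeq⟩ := h _ hPT φ hφ α hα
  have him : imE e (((imE e.symm P').subgroupOf T).map (T.subtype.comp α.toMonoidHom)) =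
      (P'.subgroupOf T').map
        (T'.subtype.comp (MulAut.congr (isoTo e hTS hT) α).toMonoidHom) := by
    ext y
    constructor
    · intro hy
      obtain ⟨s, ⟨t, ht, hts⟩, rfl⟩ := mem_imE.mp hy
      refine ⟨isoTo e hTS hT t, ?_, ?_⟩
      · exact hr.mem_right ⟨t, ht⟩
      · show ((MulAut.congr (isoTo e hTS hT) α (isoTo e hTS hT t) : T') : Ω') = _
        rw [congr_isoTo_apply, isoTo_coe]
        congr 2
        exact Subtype.ext hts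
    · rintro ⟨t', ht', rfl⟩
      obtain ⟨x, hx⟩ := hr.exists_eq ⟨t', ht'⟩
      have e1 : t' = isoTo e hTS hT ⟨x, hPT x.2⟩ := Subtype.ext hx.symm
      show ((MulAut.congr (isoTo e hTS hT) α t' : T') : Ω') ∈ _
      rw [e1, congr_isoTo_apply, isoTo_coe]
      exact mem_imE.mpr ⟨⟨α ⟨x, hPT x.2⟩, hTS (α ⟨x, hPT x.2⟩).2⟩,
        ⟨⟨x, hPT x.2⟩, x.2, rfl⟩, rfl⟩
  have hχS := (Helper87.hom_le E hχ).trans hTS
  obtain ⟨χ', hr'⟩ := exists_push e hχS χ (fun x => hTS (Helper87.hom_mem_S E hχ x)) him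
  refine ⟨χ', (hE _ _ _ _ hr').mp hχ, ?_⟩
  intro x' hφx' hαx'
  obtain ⟨x, hx⟩ := hr.exists_eq x'
  have hφxT : φ x ∈ T := Helper87.hom_mem_S E hφ x
  have e1 : (⟨x', hPT' x'.2⟩ : T') = isoTo e hTS hT ⟨x, hPT x.2⟩ := Subtype.ext hx.symm
  have e2 : MulAut.congr (isoTo e hTS hT) α ⟨x', hPT' x'.2⟩ =
      isoTo e hTS hT (α ⟨x, hPT x.2⟩) := by rw [e1, congr_isoTo_apply]
  have e3 : φ' x' = ((e ⟨φ x, hr.map_mem_left x⟩ : S') : Ω') := by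
    have : x' = ⟨e ⟨x, hr.le_left x.2⟩, hr.mem_right x⟩ := Subtype.ext hx.symm
    rw [this, hr.apply]
  have e4 : (⟨φ' x', hφx'⟩ : T') = isoTo e hTS hT ⟨φ x, hφxT⟩ := Subtype.ext e3
  have hαxmem : ((α ⟨x, hPT x.2⟩ : T) : Ω) ∈
      ((imE e.symm P').subgroupOf T).map (T.subtype.comp α.toMonoidHom) :=
    ⟨⟨x, hPT x.2⟩, x.2, rfl⟩
  calc χ' ⟨_, hαx'⟩
      = χ' ⟨e ⟨((⟨α ⟨x, hPT x.2⟩, hαxmem⟩ :
          ↥(((imE e.symm P').subgroupOf T).map (T.subtype.comp α.toMonoidHom))) : Ω),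
          hr'.le_left hαxmem⟩, hr'.mem_right ⟨_, hαxmem⟩⟩ := by
        congr 1
        apply Subtype.ext
        show ((MulAut.congr (isoTo e hTS hT) α ⟨x', hPT' x'.2⟩ : T') : Ω') = _
        rw [e2]
        rfl
    _ = ((e ⟨χ ⟨α ⟨x, hPT x.2⟩, hαxmem⟩, hr'.map_mem_left _⟩ : S') : Ω') := hr'.apply _ _
    _ = ((e ⟨((α ⟨φ x, hφxT⟩ : T) : Ω), hTS (α ⟨φ x, hφxT⟩).2⟩ : S') : Ω') := by
        congr 2
        exact Subtype.ext (hχeq x hφxT hαxmem)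
    _ = _ := by
        rw [e4, congr_isoTo_apply]
        rfl

theorem frattini_transport (hF : CorrespR e F F') (hE : CorrespR e E E') (hTS : T ≤ S)
    (hT : imE e T = T')
    (h : ∀ (P : Subgroup Ω), P ≤ T → ∀ (φ : P →* Ω), φ ∈ F.Hom P →
      ∃ α ∈ F.autGroup T, ∃ φ₀ ∈ E.Hom P, ∀ (x : P) (hx : φ₀ x ∈ T),
        φ x = ((α ⟨φ₀ x, hx⟩ : T) : Ω)) :
    ∀ (P' : Subgroup Ω'), P' ≤ T' → ∀ (φ' : P' →* Ω'), φ' ∈ F'.Hom P' →
      ∃ α' ∈ F'.autGroup T', ∃ φ₀' ∈ E'.Hom P', ∀ (x : P') (hx : φ₀' x ∈ T'),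
        φ' x = ((α' ⟨φ₀' x, hx⟩ : T') : Ω') := by
  intro P' hPT' φ' hφ'
  have hT'S' : T' ≤ S' := hT ▸ imE_le e T
  have hP'S' : P' ≤ S' := hPT'.trans hT'S'
  obtain ⟨φ, hr⟩ := exists_pull' e hP'S' φ' (Helper87.hom_mem_S F' hφ')
  have hPT : imE e.symm P' ≤ T := imE_symm_le e hTS hT hPT'
  have hφ : φ ∈ F.Hom _ := (hF _ _ _ _ hr).mpr hφ'
  obtain ⟨α, hα, φ₀, hφ₀, heq⟩ := h _ hPT φ hφ
  refine ⟨MulAut.congr (isoTo e hTS hT) α,
    (hF.mem_autGroup_iff le_rfl (imE_top e) hTS hT α).mp hα, ?_⟩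
  obtain ⟨φ₀', hr0⟩ := exists_push e (hPT.trans hTS) φ₀
    (fun x => hTS (Helper87.hom_mem_S E hφ₀ x)) (imE_imE_symm e hP'S')
  refine ⟨φ₀', (hE _ _ _ _ hr0).mp hφ₀, fun x' hx' => ?_⟩
  obtain ⟨x, hx⟩ := hr.exists_eq x'
  have hx'eq : x' = ⟨e ⟨x, hr.le_left x.2⟩, hr.mem_right x⟩ := Subtype.ext hx.symm
  have hφ₀T : φ₀ x ∈ T := Helper87.hom_mem_S E hφ₀ x
  have e4 : (⟨φ₀' x', hx'⟩ : T') = isoTo e hTS hT ⟨φ₀ x, hφ₀T⟩ := by
    apply Subtype.ext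
    show φ₀' x' = _
    rw [hx'eq, hr0.apply]
    rfl
  rw [e4, congr_isoTo_apply, isoTo_coe, hx'eq, hr.apply]
  congr 2
  exact Subtype.ext (heq x hφ₀T)

theorem extension_transport (hF : CorrespR e F F') (hE : CorrespR e E E') (hTS : T ≤ S)
    (hT : imE e T = T')
    (h : ∀ α ∈ E.autGroup T, ∃ β ∈ F.autGroup (T ⊔ centralizerIn S T),
      (∀ x : T, ((β (Subgroup.inclusion le_sup_left x) : ↥(T ⊔ centralizerIn S T)) : Ω) =
        ((α x : T) : Ω)) ∧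
      ∀ c : ↥(T ⊔ centralizerIn S T), (c : Ω) ∈ centralizerIn S T →
        (c : Ω)⁻¹ * ((β c : ↥(T ⊔ centralizerIn S T)) : Ω) ∈
          T ⊓ Subgroup.centralizer (T : Set Ω)) :
    ∀ α' ∈ E'.autGroup T', ∃ β' ∈ F'.autGroup (T' ⊔ centralizerIn S' T'),
      (∀ x : T', ((β' (Subgroup.inclusion le_sup_left x) : ↥(T' ⊔ centralizerIn S' T')) : Ω') =
        ((α' x : T') : Ω')) ∧
      ∀ c : ↥(T' ⊔ centralizerIn S' T'), (c : Ω') ∈ centralizerIn S' T' →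
        (c : Ω')⁻¹ * ((β' c : ↥(T' ⊔ centralizerIn S' T')) : Ω') ∈
          T' ⊓ Subgroup.centralizer (T' : Set Ω') := by
  intro α' hα'
  obtain ⟨α, rfl⟩ : ∃ α, MulAut.congr (isoTo e hTS hT) α = α' :=
    ⟨(MulAut.congr (isoTo e hTS hT)).symm α', congr_symm_congr _ _⟩
  have hα : α ∈ E.autGroup T := (hE.mem_autGroup_iff hTS hT le_rfl hT α).mpr hα'
  obtain ⟨β, hβ, hβ1, hβ2⟩ := h α hα
  have hCS : centralizerIn S T ≤ S := inf_le_left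
  have hTCS : T ⊔ centralizerIn S T ≤ S := sup_le hTS hCS
  have hC' : imE e (centralizerIn S T) = centralizerIn S' T' := by
    rw [imE_centralizerIn e hTS, hT]
  have hTC' : imE e (T ⊔ centralizerIn S T) = T' ⊔ centralizerIn S' T' := by
    rw [imE_sup e hTS hCS, hC', hT]
  refine ⟨MulAut.congr (isoTo e hTCS hTC') β,
    (hF.mem_autGroup_iff le_rfl (imE_top e) hTCS hTC' β).mp hβ, ?_, ?_⟩
  · intro x'
    obtain ⟨x, rfl⟩ := (isoTo e hTS hT).surjective x'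
    have e1 : Subgroup.inclusion (le_sup_left : T' ≤ T' ⊔ centralizerIn S' T')
        (isoTo e hTS hT x) = isoTo e hTCS hTC' (Subgroup.inclusion le_sup_left x) :=
      Subtype.ext rfl
    rw [e1, congr_isoTo_apply, congr_isoTo_apply, isoTo_coe, isoTo_coe]
    congr 2
    exact Subtype.ext (hβ1 x)
  · intro c' hc'
    obtain ⟨c, rfl⟩ := (isoTo e hTCS hTC').surjective c'
    have hc : (c : Ω) ∈ centralizerIn S T := by
      rw [isoTo_coe, ← hC'] at hc'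
      exact (mem_imE_iff e hCS _).mp hc'
    have h2 := hβ2 c hc
    rw [congr_isoTo_apply, isoTo_coe, isoTo_coe]
    have hz : ((e ⟨c, hTCS c.2⟩ : S') : Ω')⁻¹ * ((e ⟨β c, hTCS (β c).2⟩ : S') : Ω') =
        ((e ⟨(c : Ω)⁻¹ * ((β c : ↥(T ⊔ centralizerIn S T)) : Ω),
          S.mul_mem (S.inv_mem (hTCS c.2)) (hTCS (β c).2)⟩ : S') : Ω') := by
      have : (⟨(c : Ω)⁻¹ * ((β c : ↥(T ⊔ centralizerIn S T)) : Ω),
          S.mul_mem (S.inv_mem (hTCS c.2)) (hTCS (β c).2)⟩ : S) =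
          (⟨c, hTCS c.2⟩ : S)⁻¹ * ⟨β c, hTCS (β c).2⟩ := rfl
      rw [this, map_mul, map_inv]
      rfl
    rw [hz]
    constructor
    · rw [← hT]
      exact (mem_imE_iff e hTS _).mpr h2.1
    · have h3 : (c : Ω)⁻¹ * ((β c : ↥(T ⊔ centralizerIn S T)) : Ω) ∈ centralizerIn S T :=
        ⟨S.mul_mem (S.inv_mem (hTCS c.2)) (hTCS (β c).2), h2.2⟩
      have h4 := (mem_imE_iff e hCS ⟨_, S.mul_mem (S.inv_mem (hTCS c.2)) (hTCS (β c).2)⟩).mpr h3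
      rw [hC'] at h4
      exact h4.2

/-- Normality of a subsystem is transported by an isomorphism. -/
theorem isNormalIn_transport [Finite S'] {p : ℕ} [Fact p.Prime] (hF : CorrespR e F F')
    (hE : CorrespR e E E') (hT : imE e T = T') (h : E.IsNormalIn F p) : E'.IsNormalIn F' p := by
  obtain ⟨⟨hEs, hFs, hsub, hsc, hinv, hfrat⟩, hext⟩ := h
  have hTS : T ≤ S := hsc.1
  refine ⟨⟨hE.isSaturated hTS hT hEs, hF.isSaturated le_rfl (imE_top e) hFs,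
    subsystem_transport hF hE hT hsub, stronglyClosed_transport hF hT hsc,
    invariance_transport hF hE hTS hT hinv, frattini_transport hF hE hTS hT hfrat⟩,
    extension_transport hF hE hTS hT hext⟩

end Cfsg.Agent.Lib.Helper85.Iso
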