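import Cfsg.Agent.Lib.Helper85.Iso4
import Cfsg.Agent.Lib.Helper85.FullyNormalized
import Cfsg.Agent.Lib.Helper85.Hyperfocal

set_option autoImplicit false

namespace Cfsg.Agent.Lib.Helper85.Iso

open Cfsg Cfsg.FusionSystem Cfsg.Agent.Lib.Helper85

universe u v

theorem fs_ext {Ω : Type*} [Group Ω] {S : Subgroup Ω} (F₁ F₂ : FusionSystem S)
    (h : ∀ P, F₁.Hom P = F₂.Hom P) : F₁ = F₂ := by
  cases F₁
  cases F₂
  simp only [FusionSystem.mk.injEq]
  funext P
  exact h P

theorem isSubnormalIn_of_eq {Ω : Type*} [Group Ω] {S R : Subgroup Ω} (p : ℕ)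
    (F : FusionSystem S) (E : FusionSystem R) (hR : R = S) (h : ∀ P, E.Hom P = F.Hom P) :
    E.IsSubnormalIn F p := by
  subst hR
  rw [fs_ext E F h]
  exact IsSubnormalIn.refl F p

/-- Subnormality is transported by an isomorphism. -/
theorem isSubnormalIn_transport {Ω : Type u} [Group Ω] {p : ℕ}
    {T S : Subgroup Ω} {C : FusionSystem T} {F : FusionSystem S} (h : C.IsSubnormalIn F p) :
    ∀ [Fact p.Prime] {Ω' : Type v} [Group Ω'] {S' : Subgroup Ω'} [Finite S'] (e : S ≃* S')
      {T' : Subgroup Ω'} (C' : FusionSystem T') (F' : FusionSystem S'),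
      CorrespR e F F' → CorrespR e C C' → imE e T = T' → C'.IsSubnormalIn F' p := by
  induction h with
  | refl F p =>
    intro _ Ω' _ S' _ e T' C' F' hF hC hT
    have hT'S' : T' = S' := by rw [← hT, imE_top e]
    exact isSubnormalIn_of_eq p F' C' hT'S'
      (fun P' => hC.hom_eq hF (le_of_eq hT'S') le_rfl P')
  | @step U S C D F p hCD hDF ih =>
    intro _ Ω' _ S' _ e T' C' F' hF hC hT
    have hUS : U ≤ S := hDF.1.2.2.2.1.1
    have hTU := IsSubnormalIn.le hCD
    obtain ⟨D', hD'⟩ := exists_transport e hUS D (rfl : imE e U = imE e U)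
    have hD'F' : D'.IsNormalIn F' p := isNormalIn_transport hF hD' rfl hDF
    have hfin : Finite (imE e U) :=
      Finite.of_injective (Subgroup.inclusion (imE_le e U))
        (Subgroup.inclusion_injective (imE_le e U))
    have h1 : C'.IsSubnormalIn D' p :=
      ih (isoTo e hUS rfl) C' D' (hD'.restrict hUS rfl) (hC.restrict hUS rfl)
        (by rw [imE_isoTo e hUS rfl hTU, hT])
    exact IsSubnormalIn.step h1 hD'F'

variable {Ω : Type*} {Ω' : Type*} [Group Ω] [Group Ω'] {S : Subgroup Ω} {S' : Subgroup Ω'}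
  {e : S ≃* S'} {F : FusionSystem S} {F' : FusionSystem S'}

/-- Simplicity is transported by an isomorphism. -/
theorem isSimple_transport [Finite S] [Finite S'] {p : ℕ} [Fact p.Prime] (hF : CorrespR e F F')
    (h : F.IsSimple p) : F'.IsSimple p := by
  obtain ⟨hsat, hne, hsimple⟩ := h
  refine ⟨hF.isSaturated le_rfl (imE_top e) hsat, ?_, ?_⟩
  · intro h1
    apply hne
    rw [← imE_eq_bot_iff e le_rfl, imE_top e, h1]
  · intro T' E' hE'
    have hT'S' : T' ≤ S' := hE'.1.2.2.2.1.1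
    obtain ⟨E, hE⟩ := exists_transport e.symm hT'S' E' (rfl : imE e.symm T' = imE e.symm T')
    have hEF : E.IsNormalIn F p := isNormalIn_transport hF.symm hE rfl hE'
    rcases hsimple _ E hEF with h1 | ⟨h1, h2⟩
    · left
      exact (imE_eq_bot_iff e.symm hT'S').mp h1
    · right
      have hTS : T' = S' := by
        apply imE_injective e.symm hT'S' le_rfl
        rw [h1, imE_top e.symm]
      refine ⟨hTS, fun P' => ?_⟩
      ext φ'
      constructor
      · intro hφ'
        have hP' : P' ≤ S' := (Helper87.hom_le E' hφ').trans hT'S'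
        obtain ⟨φ, hr⟩ := exists_pull' e hP' φ'
          (fun y => hT'S' (Helper87.hom_mem_S E' hφ' y))
        have h3 : φ ∈ E.Hom _ := (hE _ _ _ _ hr.symm).mp hφ'
        rw [h2] at h3
        exact (hF _ _ _ _ hr).mp h3
      · intro hφ'
        have hP' : P' ≤ S' := Helper87.hom_le F' hφ'
        obtain ⟨φ, hr⟩ := exists_pull' e hP' φ' (Helper87.hom_mem_S F' hφ')
        have h3 : φ ∈ F.Hom _ := (hF _ _ _ _ hr).mpr hφ'
        rw [← h2] at h3
        exact (hE _ _ _ _ hr.symm).mpr h3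

/-! ### the centre -/

theorem isCentral_transport (hF : CorrespR e F F') {Q : Subgroup Ω} (h : F.IsCentral Q) :
    F'.IsCentral (imE e Q) := by
  obtain ⟨hQS, hext⟩ := h
  refine ⟨imE_le e Q, fun P' φ' hφ' => ?_⟩
  have hP' : P' ≤ S' := Helper87.hom_le F' hφ'
  obtain ⟨φ, hr⟩ := exists_pull' e hP' φ' (Helper87.hom_mem_S F' hφ')
  have hφ : φ ∈ F.Hom _ := (hF _ _ _ _ hr).mpr hφ'
  obtain ⟨ψ, hψ, hψ1, hψ2⟩ := hext _ φ hφ
  have hPS : imE e.symm P' ≤ S := imE_le e.symm P'
  have him : imE e (imE e.symm P' ⊔ Q) = P' ⊔ imE e Q := by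
    rw [imE_sup e hPS hQS, imE_imE_symm e hP']
  obtain ⟨ψ', hr'⟩ := exists_push e (sup_le hPS hQS) ψ (Helper87.hom_mem_S F hψ) him
  refine ⟨ψ', (hF _ _ _ _ hr').mp hψ, ?_, ?_⟩
  · intro x'
    obtain ⟨x, hx⟩ := hr.exists_eq x'
    have e1 : Subgroup.inclusion (le_sup_left : P' ≤ P' ⊔ imE e Q) x' =
        ⟨e ⟨((Subgroup.inclusion (le_sup_left : imE e.symm P' ≤ imE e.symm P' ⊔ Q) x :
          ↥(imE e.symm P' ⊔ Q)) : Ω), hr'.le_left (Subgroup.inclusion le_sup_left x).2⟩,
          hr'.mem_right _⟩ := Subtype.ext hx.symm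
    have e2 : x' = ⟨e ⟨x, hr.le_left x.2⟩, hr.mem_right x⟩ := Subtype.ext hx.symm
    rw [e1, hr'.apply, e2, hr.apply]
    congr 2
    exact Subtype.ext (hψ1 x)
  · intro y
    obtain ⟨q, hq, hqy⟩ := mem_imE.mp y.2
    have e1 : Subgroup.inclusion (le_sup_right : imE e Q ≤ P' ⊔ imE e Q) y =
        ⟨e ⟨((Subgroup.inclusion (le_sup_right : Q ≤ imE e.symm P' ⊔ Q) ⟨q, hq⟩ :
          ↥(imE e.symm P' ⊔ Q)) : Ω), q.2⟩,
          hr'.mem_right (Subgroup.inclusion le_sup_right ⟨q, hq⟩)⟩ := Subtype.ext hqy.symm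
    rw [e1, hr'.apply, ← hqy]
    congr 2
    exact Subtype.ext (hψ2 ⟨q, hq⟩)

theorem center_le (F : FusionSystem S) : F.center ≤ S :=
  sSup_le fun _ hQ => hQ.1

theorem center_transport_le (hF : CorrespR e F F') : imE e F.center ≤ F'.center := by
  rw [imE_le_iff e (center_le F)]
  refine sSup_le fun Q hQ => ?_
  rw [← imE_le_iff e hQ.1]
  exact le_sSup (isCentral_transport hF hQ)

theorem center_transport (hF : CorrespR e F F') : imE e F.center = F'.center := by
  apply le_antisymm (center_transport_le hF)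
  have h1 := center_transport_le hF.symm
  have h2 := imE_mono e h1
  rwa [imE_imE_symm e (center_le F')] at h2

/-! ### the hyperfocal subgroup -/

theorem hyperfocal_transport_le {p : ℕ} (hF : CorrespR e F F') :
    imE e (F.hyperfocalSubgroup p) ≤ F'.hyperfocalSubgroup p := by
  rw [imE_le_iff e (hyperfocal_le F p)]
  unfold FusionSystem.hyperfocalSubgroup
  rw [Subgroup.closure_le]
  rintro y ⟨P, α, x, hPS, hα, rfl⟩
  have hyS : (x : Ω)⁻¹ * ((α : MulAut P) x : P) ∈ S :=
    S.mul_mem (S.inv_mem (hPS x.2)) (hPS ((α : MulAut P) x).2)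
  refine mem_preE.mpr ⟨hyS, ?_⟩
  let eP := isoTo e hPS (rfl : imE e P = imE e P)
  let f : F.autGroup P →* F'.autGroup (imE e P) :=
    { toFun := fun β => ⟨MulAut.congr eP (β : MulAut P),
        (hF.mem_autGroup_iff le_rfl (imE_top e) hPS rfl (β : MulAut P)).mp β.2⟩
      map_one' := by
        apply Subtype.ext
        show MulAut.congr eP ((1 : F.autGroup P) : MulAut P) = 1
        rw [Subgroup.coe_one, map_one]
      map_mul' := by
        intro a b
        apply Subtype.ext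
        show MulAut.congr eP ((a * b : F.autGroup P) : MulAut P) = _
        rw [Subgroup.coe_mul, map_mul]
        rfl }
  have hf : Function.Injective f := by
    intro a b hab
    have h1 : MulAut.congr eP (a : MulAut P) = MulAut.congr eP (b : MulAut P) :=
      congrArg (fun z : F'.autGroup (imE e P) => (z : MulAut (imE e P))) hab
    exact Subtype.ext ((MulAut.congr eP).injective h1)
  have hfα : f α ∈ Cfsg.pResidual p (F'.autGroup (imE e P)) :=
    map_pResidual_le f hf ⟨α, hα, rfl⟩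
  have hgen := hyperfocal_gen_mem F' p (imE_le e P) (f α) hfα (eP x)
  have : ((e ⟨(x : Ω)⁻¹ * ((α : MulAut P) x : P), hyS⟩ : S') : Ω') =
      ((eP x : imE e P) : Ω')⁻¹ * (((f α : MulAut (imE e P)) (eP x) : imE e P) : Ω') := by
    have e1 : (⟨(x : Ω)⁻¹ * ((α : MulAut P) x : P), hyS⟩ : S) =
        (⟨x, hPS x.2⟩ : S)⁻¹ * ⟨((α : MulAut P) x : P), hPS ((α : MulAut P) x).2⟩ := rfl
    rw [e1, map_mul, map_inv]
    show _ = _ * (((MulAut.congr eP (α : MulAut P)) (eP x) : imE e P) : Ω')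
    rw [congr_isoTo_apply]
    rfl
  rw [this]
  exact hgen

end Cfsg.Agent.Lib.Helper85.Iso
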