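import Cfsg.Agent.Lib.Helper85.Iso5

set_option autoImplicit false

namespace Cfsg.Agent.Lib.Helper85.Iso

open Cfsg Cfsg.FusionSystem Cfsg.Agent.Lib.Helper85
open Cfsg.Agent.Lib.Helper88 (mem_preimageAlong preimageAlong_le preimageAlong_mem)

variable {Ω Ω' : Type*} [Group Ω] [Group Ω'] {S : Subgroup Ω} {S' : Subgroup Ω'}
  {e : S ≃* S'} {F : FusionSystem S} {F' : FusionSystem S'}

/-- A factor system of the transported system is a factor system of the original one. -/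
theorem isFactorSystem_comp_iso_left {Ω'' : Type*} [Group Ω''] {S'' : Subgroup Ω''}
    (hF : CorrespR e F F') {Z' : Subgroup Ω'} (θ' : S' →* Ω'') {E₁ : FusionSystem S''}
    (h : F'.IsFactorSystem Z' θ' E₁) :
    F.IsFactorSystem (preE e Z') (θ'.comp e.toMonoidHom) E₁ := by
  obtain ⟨hZ', hker, hrange, hHom⟩ := h
  have him : ∀ P₁ : Subgroup Ω'',
      imE e (preimageAlong (θ'.comp e.toMonoidHom) P₁) = preimageAlong θ' P₁ := by
    intro P₁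
    ext y
    rw [mem_imE]
    constructor
    · rintro ⟨x, hx, rfl⟩
      obtain ⟨_, h⟩ := mem_preimageAlong.mp hx
      exact mem_preimageAlong.mpr ⟨(e x).2, h⟩
    · intro hy
      obtain ⟨hyS', h⟩ := mem_preimageAlong.mp hy
      refine ⟨e.symm ⟨y, hyS'⟩, mem_preimageAlong.mpr ⟨(e.symm ⟨y, hyS'⟩).2, ?_⟩, ?_⟩
      · show θ' (e (e.symm ⟨y, hyS'⟩)) ∈ P₁
        rw [MulEquiv.apply_symm_apply]
        exact h
      · rw [MulEquiv.apply_symm_apply]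
  refine ⟨preE_le e Z', fun s => ?_, ?_, fun P₁ φ₁ => ?_⟩
  · show θ' (e s) = 1 ↔ _
    rw [hker, mem_preE]
    constructor
    · intro h
      exact ⟨s.2, h⟩
    · rintro ⟨_, h⟩
      exact h
  · ext y
    constructor
    · rintro ⟨s, rfl⟩
      rw [← hrange]
      exact ⟨e s, rfl⟩
    · intro hy
      rw [← hrange] at hy
      obtain ⟨s', rfl⟩ := hy
      refine ⟨e.symm s', ?_⟩
      show θ' (e (e.symm s')) = _
      rw [MulEquiv.apply_symm_apply]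
  · rw [hHom]
    constructor
    · rintro ⟨hP₁, φ', hφ', hind⟩
      refine ⟨hP₁, ?_⟩
      obtain ⟨φ, hr⟩ := exists_pull e (preimageAlong_le θ' P₁) φ' (Helper87.hom_mem_S F' hφ')
        (preimageAlong_le (θ'.comp e.toMonoidHom) P₁) (him P₁)
      refine ⟨φ, (hF _ _ _ _ hr).mpr hφ', ?_⟩
      obtain ⟨hP'S', hφ'S', hP'P₁, heq⟩ := hind
      refine ⟨hr.le_left, hr.map_mem_left, fun x => preimageAlong_mem _ _ x.2, fun x => ?_⟩
      have h1 := heq ⟨e ⟨x, hr.le_left x.2⟩, hr.mem_right x⟩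
      show φ₁ ⟨θ' (e ⟨x, _⟩), _⟩ = θ' (e ⟨φ x, _⟩)
      have e1 : (⟨θ' (e ⟨x, hr.le_left x.2⟩), preimageAlong_mem (θ'.comp e.toMonoidHom) P₁ x.2⟩ :
          P₁) = ⟨θ' ⟨((⟨e ⟨x, hr.le_left x.2⟩, hr.mem_right x⟩ : preimageAlong θ' P₁) : Ω'),
            hP'S' (hr.mem_right x)⟩, hP'P₁ _⟩ := Subtype.ext rfl
      rw [e1, h1]
      congr 1
      exact Subtype.ext (hr.apply x _)
    · rintro ⟨hP₁, φ, hφ, hind⟩
      refine ⟨hP₁, ?_⟩
      obtain ⟨φ', hr⟩ := exists_push e (preimageAlong_le (θ'.comp e.toMonoidHom) P₁) φ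
        (Helper87.hom_mem_S F hφ) (him P₁)
      refine ⟨φ', (hF _ _ _ _ hr).mp hφ, ?_⟩
      obtain ⟨hPS, hφS, hPP₁, heq⟩ := hind
      refine ⟨preimageAlong_le θ' P₁, hr.map_mem_right, fun y => preimageAlong_mem θ' P₁ y.2,
        fun y => ?_⟩
      obtain ⟨x, hx⟩ := hr.exists_eq y
      have hy : y = ⟨e ⟨x, hr.le_left x.2⟩, hr.mem_right x⟩ := Subtype.ext hx.symm
      have h1 := heq x
      have e1 : (⟨θ' ⟨y, preimageAlong_le θ' P₁ y.2⟩, preimageAlong_mem θ' P₁ y.2⟩ : P₁) =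
          ⟨(θ'.comp e.toMonoidHom) ⟨x, hPS x.2⟩, hPP₁ x⟩ := by
        apply Subtype.ext
        show θ' ⟨y, _⟩ = θ' (e ⟨x, _⟩)
        congr 1
        exact Subtype.ext hx.symm
      rw [e1, h1]
      show θ' (e ⟨φ x, _⟩) = θ' ⟨φ' y, _⟩
      congr 1
      apply Subtype.ext
      show ((e ⟨φ x, _⟩ : S') : Ω') = φ' y
      rw [hy, hr.apply]

/-- Following a factor system by an isomorphism gives a factor system. -/
theorem isFactorSystem_comp_iso_right {Ω₁ Ω₁' : Type*} [Group Ω₁] [Group Ω₁']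
    {S₁ : Subgroup Ω₁} {S₁' : Subgroup Ω₁'} {Z : Subgroup Ω} (θ : S →* Ω₁)
    {E₁ : FusionSystem S₁} (h : F.IsFactorSystem Z θ E₁) (ē : S₁ ≃* S₁')
    {E₁' : FusionSystem S₁'} (hE : CorrespR ē E₁ E₁') (θ₂ : S →* Ω₁')
    (hθ₂ : ∀ (s : S) (hs : θ s ∈ S₁), θ₂ s = ((ē ⟨θ s, hs⟩ : S₁') : Ω₁')) :
    F.IsFactorSystem Z θ₂ E₁' := by
  obtain ⟨hZ, hker, hrange, hHom⟩ := h
  have hθS₁ : ∀ s, θ s ∈ S₁ := fun s => hrange ▸ ⟨s, rfl⟩
  have hθ₂' : ∀ s : S, θ₂ s = ((ē ⟨θ s, hθS₁ s⟩ : S₁') : Ω₁') := fun s => hθ₂ s _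
  have hpre : ∀ P₁' : Subgroup Ω₁', preimageAlong θ₂ P₁' = preimageAlong θ (imE ē.symm P₁') := by
    intro P₁'
    ext x
    rw [mem_preimageAlong, mem_preimageAlong]
    constructor
    · rintro ⟨hx, h⟩
      refine ⟨hx, ?_⟩
      rw [hθ₂'] at h
      refine mem_imE.mpr ⟨ē ⟨θ ⟨x, hx⟩, hθS₁ _⟩, h, ?_⟩
      rw [MulEquiv.symm_apply_apply]
    · rintro ⟨hx, h⟩
      refine ⟨hx, ?_⟩
      rw [hθ₂']
      obtain ⟨y, hy, hyx⟩ := mem_imE.mp h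
      have : y = ē ⟨θ ⟨x, hx⟩, hθS₁ _⟩ := by
        rw [← ē.symm_apply_eq]
        exact Subtype.ext hyx
      rw [← this]
      exact hy
  refine ⟨hZ, fun s => ?_, ?_, fun P₁' φ₁' => ?_⟩
  · rw [hθ₂', ← hker]
    constructor
    · intro h1
      have h2 : ē ⟨θ s, hθS₁ s⟩ = 1 := Subtype.ext h1
      rw [ē.map_eq_one_iff] at h2
      exact congrArg (fun z : S₁ => (z : Ω₁)) h2
    · intro h1
      have h2 : (⟨θ s, hθS₁ s⟩ : S₁) = 1 := Subtype.ext h1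
      rw [h2, map_one]
      rfl
  · ext y
    constructor
    · rintro ⟨s, rfl⟩
      rw [hθ₂']
      exact (ē _).2
    · intro hy
      have h1 : ((ē.symm ⟨y, hy⟩ : S₁) : Ω₁) ∈ θ.range := by
        rw [hrange]
        exact (ē.symm ⟨y, hy⟩).2
      obtain ⟨s, hs⟩ := h1
      refine ⟨s, ?_⟩
      rw [hθ₂']
      have : (⟨θ s, hθS₁ s⟩ : S₁) = ē.symm ⟨y, hy⟩ := Subtype.ext hs
      rw [this, MulEquiv.apply_symm_apply]
  · constructor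
    · intro hφ₁'
      have hP₁' : P₁' ≤ S₁' := Helper87.hom_le E₁' hφ₁'
      refine ⟨hP₁', ?_⟩
      obtain ⟨φ₁, hr⟩ := exists_pull' ē hP₁' φ₁' (Helper87.hom_mem_S E₁' hφ₁')
      have hφ₁ := (hE _ _ _ _ hr).mpr hφ₁'
      obtain ⟨_, φ, hφ, hPS, hφS, hPP₁, heq⟩ := (hHom _ _).mp hφ₁
      obtain ⟨ψ, hψ, hψeq⟩ := Helper84.exists_hom_of_eq F hφ (hpre P₁')
      refine ⟨ψ, hψ, preimageAlong_le θ₂ P₁', Helper87.hom_mem_S F hψ,
        fun x => preimageAlong_mem θ₂ P₁' x.2, fun x => ?_⟩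
      have hx' : (x : Ω) ∈ preimageAlong θ (imE ē.symm P₁') := by
        rw [← hpre P₁']
        exact x.2
      have h1 := heq ⟨x, hx'⟩
      have h2 := hr.apply ⟨θ ⟨x, hPS hx'⟩, hPP₁ ⟨x, hx'⟩⟩ (hr.mem_right _)
      have e1 : (⟨θ₂ ⟨x, preimageAlong_le θ₂ P₁' x.2⟩, preimageAlong_mem θ₂ P₁' x.2⟩ : P₁') =
          ⟨ē ⟨((⟨θ ⟨x, hPS hx'⟩, hPP₁ ⟨x, hx'⟩⟩ : imE ē.symm P₁') : Ω₁),
            hr.le_left (hPP₁ ⟨x, hx'⟩)⟩, hr.mem_right _⟩ := Subtype.ext (hθ₂' _)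
      rw [e1, h2, hθ₂']
      congr 2
      apply Subtype.ext
      show φ₁ ⟨θ ⟨x, _⟩, _⟩ = θ ⟨ψ x, _⟩
      rw [h1]
      congr 1
      apply Subtype.ext
      exact (hψeq x x.2 hx').symm
    · rintro ⟨hP₁', ψ, hψ, hPS, hψS, hPP₁', heq⟩
      have hval : ∀ y : P₁', φ₁' y ∈ S₁' := by
        intro y
        have hy : (ē.symm ⟨y, hP₁' y.2⟩ : Ω₁) ∈ θ.range := by
          rw [hrange]
          exact (ē.symm ⟨y, hP₁' y.2⟩).2
        obtain ⟨s, hs⟩ := hy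
        have hs2 : θ₂ s = y := by
          rw [hθ₂']
          have : (⟨θ s, hθS₁ s⟩ : S₁) = ē.symm ⟨y, hP₁' y.2⟩ := Subtype.ext hs
          rw [this, MulEquiv.apply_symm_apply]
        have hsP : (s : Ω) ∈ preimageAlong θ₂ P₁' :=
          mem_preimageAlong.mpr ⟨s.2, by rw [hs2]; exact y.2⟩
        have h1 := heq ⟨s, hsP⟩
        have e1 : y = ⟨θ₂ ⟨((⟨s, hsP⟩ : preimageAlong θ₂ P₁') : Ω), hPS hsP⟩, hPP₁' ⟨s, hsP⟩⟩ :=
          Subtype.ext hs2.symm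
        rw [e1, h1, hθ₂']
        exact (ē _).2
      obtain ⟨φ₁, hr⟩ := exists_pull' ē hP₁' φ₁' hval
      refine (hE _ _ _ _ hr).mp ?_
      rw [hHom]
      refine ⟨imE_le ē.symm P₁', ?_⟩
      obtain ⟨φ, hφ, hφeq⟩ := Helper84.exists_hom_of_eq F hψ (hpre P₁').symm
      refine ⟨φ, hφ, preimageAlong_le θ _, Helper87.hom_mem_S F hφ,
        fun x => preimageAlong_mem θ _ x.2, fun x => ?_⟩
      have hx' : (x : Ω) ∈ preimageAlong θ₂ P₁' := by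
        rw [hpre P₁']
        exact x.2
      have h1 := heq ⟨x, hx'⟩
      have hxS : (x : Ω) ∈ S := preimageAlong_le θ _ x.2
      have hθxP : θ ⟨x, hxS⟩ ∈ imE ē.symm P₁' := preimageAlong_mem θ _ x.2
      have h2 := hr.apply ⟨θ ⟨x, hxS⟩, hθxP⟩ (hr.mem_right _)
      have e1 : (⟨ē ⟨((⟨θ ⟨x, hxS⟩, hθxP⟩ : imE ē.symm P₁') : Ω₁), hr.le_left hθxP⟩,
          hr.mem_right _⟩ : P₁') = ⟨θ₂ ⟨((⟨x, hx'⟩ : preimageAlong θ₂ P₁') : Ω), hPS hx'⟩,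
            hPP₁' ⟨x, hx'⟩⟩ := Subtype.ext (hθ₂' _).symm
      rw [e1, h1, hθ₂'] at h2
      have h3 := ē.injective (Subtype.ext h2)
      have h4 : φ₁ ⟨θ ⟨x, hxS⟩, hθxP⟩ = θ ⟨ψ ⟨x, hx'⟩, hψS _⟩ :=
        (congrArg (fun z : S₁ => (z : Ω₁)) h3).symm
      show φ₁ ⟨θ ⟨x, _⟩, _⟩ = θ ⟨φ x, _⟩
      rw [h4]
      congr 1
      apply Subtype.ext
      exact (hφeq x x.2 hx').symm

end Cfsg.Agent.Lib.Helper85.Iso
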