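import Cfsg.Agent.Lib.Helper85.Iso6

set_option autoImplicit false

namespace Cfsg.Agent.Lib.Helper85.Iso

open Cfsg Cfsg.FusionSystem Cfsg.Agent.Lib.Helper85

variable {Ω Ω' : Type*} [Group Ω] [Group Ω'] {S : Subgroup Ω} {S' : Subgroup Ω'}
  {e : S ≃* S'} {F : FusionSystem S} {F' : FusionSystem S'}

theorem map_center_subgroupOf (hF : CorrespR e F F') :
    (F.center.subgroupOf S).map (e : S →* S') = F'.center.subgroupOf S' := by
  ext y
  rw [Subgroup.mem_subgroupOf, ← center_transport hF]
  constructor
  · rintro ⟨x, hx, rfl⟩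
    exact mem_imE.mpr ⟨x, Subgroup.mem_subgroupOf.mp hx, rfl⟩
  · intro hy
    obtain ⟨x, hx, hxy⟩ := mem_imE.mp hy
    exact ⟨x, Subgroup.mem_subgroupOf.mpr hx, Subtype.ext hxy⟩

/-- Quasisimplicity is transported by an isomorphism. -/
theorem quasisimple_transport [Finite S] [Finite S'] {p : ℕ} [Fact p.Prime]
    (hF : CorrespR e F F') (h : F.Quasisimple p) : F'.Quasisimple p := by
  obtain ⟨hsat, hhyp, hsimple⟩ := h
  refine ⟨hF.isSaturated le_rfl (imE_top e) hsat, ?_, ?_⟩
  · apply le_antisymm (hyperfocal_le F' p)
    have := hyperfocal_transport_le (p := p) hF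
    rw [hhyp, imE_top e] at this
    exact this
  · intro E₁' hE₁'
    have hA := isFactorSystem_comp_iso_left hF
      (QuotientGroup.mk' (F'.center.subgroupOf S')) hE₁'
    have hpre : preE e F'.center = F.center := by
      rw [← center_transport hF, preE_imE e (center_le F)]
    rw [hpre] at hA
    obtain ⟨E₁, hE₁⟩ := exists_transport_top
      (Subgroup.topEquiv.trans ((QuotientGroup.congr (F.center.subgroupOf S)
        (F'.center.subgroupOf S') e (map_center_subgroupOf hF)).trans
          Subgroup.topEquiv.symm)).symm E₁'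
    have hB := isFactorSystem_comp_iso_right _ hA _ hE₁
      (QuotientGroup.mk' (F.center.subgroupOf S)) (fun s hs => by
        show _ = (QuotientGroup.congr (F.center.subgroupOf S)
          (F'.center.subgroupOf S') e (map_center_subgroupOf hF)).symm
            (QuotientGroup.mk' (F'.center.subgroupOf S') (e s))
        rw [MulEquiv.eq_symm_apply]
        rfl)
    have hsimp := hsimple E₁ hB
    exact isSimple_transport hE₁.of_symm hsimp

end Cfsg.Agent.Lib.Helper85.Iso
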