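import Cfsg.Agent.Lib.Helper85.Iso7
import Cfsg.Agent.Lib.Helper84.FusionBasic

set_option autoImplicit false

namespace Cfsg.Agent.Lib.Helper85.Iso

open Cfsg Cfsg.FusionSystem Cfsg.Agent.Lib.Helper85

/-! ### composition of transports -/

section trans

variable {Ω₁ Ω₂ Ω₃ : Type*} [Group Ω₁] [Group Ω₂] [Group Ω₃] {S₁ : Subgroup Ω₁}
  {S₁' S₂ : Subgroup Ω₂} {S₂' S₃' : Subgroup Ω₃} {e₁ : S₁ ≃* S₁'} {e₂ : S₂ ≃* S₂'}
  {e₃ : S₁ ≃* S₃'}

theorem Rel.trans (hS : S₁' ≤ S₂)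
    (h : ∀ x : S₁, ((e₃ x : S₃') : Ω₃) = ((e₂ ⟨e₁ x, hS (e₁ x).2⟩ : S₂') : Ω₃))
    {P : Subgroup Ω₁} {φ : P →* Ω₁} {P' : Subgroup Ω₂} {φ' : P' →* Ω₂} {P'' : Subgroup Ω₃}
    {φ'' : P'' →* Ω₃} (h1 : Rel e₁ φ φ') (h2 : Rel e₂ φ' φ'') : Rel e₃ φ φ'' := by
  have hmem : ∀ x : P, ((e₃ ⟨x, h1.le_left x.2⟩ : S₃') : Ω₃) ∈ P'' := by
    intro x
    rw [h]
    exact h2.mem_right ⟨e₁ ⟨x, h1.le_left x.2⟩, h1.mem_right x⟩
  refine ⟨h1.le_left, h1.map_mem_left, hmem, ?_, fun x => ?_⟩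
  · intro y hy
    obtain ⟨x', hx'⟩ := h2.exists_eq ⟨y, hy⟩
    obtain ⟨x, hx⟩ := h1.exists_eq x'
    refine ⟨x, ?_⟩
    have hx'' : ((e₂ ⟨x', h2.le_left x'.2⟩ : S₂') : Ω₃) = y := hx'
    rw [h, ← hx'']
    congr 2
    exact Subtype.ext hx
  · have e1 : (⟨e₃ ⟨x, h1.le_left x.2⟩, hmem x⟩ : P'') =
        ⟨e₂ ⟨((⟨e₁ ⟨x, h1.le_left x.2⟩, h1.mem_right x⟩ : P') : Ω₂),
          h2.le_left (h1.mem_right x)⟩, h2.mem_right _⟩ := Subtype.ext (h _)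
    rw [e1, h2.apply, h]
    congr 2
    exact Subtype.ext (h1.apply x _)

theorem CorrespR.cancel_left (hS : S₁' ≤ S₂)
    (h : ∀ x : S₁, ((e₃ x : S₃') : Ω₃) = ((e₂ ⟨e₁ x, hS (e₁ x).2⟩ : S₂') : Ω₃))
    {T : Subgroup Ω₁} {R₀ : Subgroup Ω₂} {R : Subgroup Ω₃} {C : FusionSystem T}
    {E₀ : FusionSystem R₀} {E : FusionSystem R} (h1 : CorrespR e₁ C E₀) (h3 : CorrespR e₃ C E)
    (hR₀ : R₀ ≤ S₁') (hR : R ≤ S₃') : CorrespR e₂ E₀ E := by
  intro P₀ P' ψ ψ' hr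
  have key : ∀ z : S₂, ((e₂ z : S₂') : Ω₃) ∈ S₃' → (z : Ω₂) ∈ S₁' := by
    intro z hz
    have h4 := h (e₃.symm ⟨_, hz⟩)
    rw [MulEquiv.apply_symm_apply] at h4
    have h5 : z = ⟨e₁ (e₃.symm ⟨_, hz⟩), hS (e₁ _).2⟩ := e₂.injective (Subtype.ext h4)
    rw [h5]
    exact (e₁ _).2
  have main : P₀ ≤ S₁' → (∀ x, ψ x ∈ S₁') → (ψ ∈ E₀.Hom P₀ ↔ ψ' ∈ E.Hom P') := by
    intro hP₀ hψ
    obtain ⟨φ, hrφ⟩ := exists_pull' e₁ hP₀ ψ hψ
    have hr3 : Rel e₃ φ ψ' := Rel.trans hS h hrφ hr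
    rw [← h1 _ _ _ _ hrφ, h3 _ _ _ _ hr3]
  constructor
  · intro hψ
    exact (main ((Helper87.hom_le E₀ hψ).trans hR₀)
      (fun x => hR₀ (Helper87.hom_mem_S E₀ hψ x))).mp hψ
  · intro hψ'
    have hP' : P' ≤ S₃' := (Helper87.hom_le E hψ').trans hR
    have hP₀ : P₀ ≤ S₁' := by
      intro x hx
      exact key ⟨x, hr.le_left hx⟩ (hP' (hr.mem_right ⟨x, hx⟩))
    have hψS : ∀ x, ψ x ∈ S₁' := by
      intro x
      apply key ⟨ψ x, hr.map_mem_left x⟩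
      rw [← hr.apply x (hr.mem_right x)]
      exact hR (Helper87.hom_mem_S E hψ' _)
    exact (main hP₀ hψS).mpr hψ'

end trans

variable {Ω : Type*} [Group Ω] {S : Subgroup Ω}

/-! ### conjugation by a map of the system -/

/-- A system is carried to itself by any of its maps. -/
theorem correspR_self_of_hom (F : FusionSystem S) {U R : Subgroup Ω} {γ : U →* Ω}
    (hγ : γ ∈ F.Hom U) (eγ : U ≃* R) (hγe : ∀ x, γ x = ((eγ x : R) : Ω)) :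
    CorrespR eγ F F := by
  have hrange : γ.range = R := by
    ext y
    constructor
    · rintro ⟨x, rfl⟩
      rw [hγe]
      exact (eγ x).2
    · intro hy
      refine ⟨eγ.symm ⟨y, hy⟩, ?_⟩
      rw [hγe, MulEquiv.apply_symm_apply]
  obtain ⟨ρ, hρ, hρeq, -⟩ := Helper87.inv_exists F hγ hrange
  have hρ' : ∀ x : U, ρ (eγ x) = x := by
    intro x
    have h1 := hρeq x (by rw [hγe]; exact (eγ x).2)
    have : (⟨γ x, by rw [hγe]; exact (eγ x).2⟩ : R) = eγ x := Subtype.ext (hγe x)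
    rw [this] at h1
    exact h1
  intro P P' φ φ' hr
  have hPU : P ≤ U := hr.le_left
  have hP'R : P' ≤ R := hr.le_right
  constructor
  · intro hφ
    have hρP' := Helper87.restrict_mem F hρ hP'R
    have hρP : ∀ y : P', (ρ.comp (Subgroup.inclusion hP'R)) y ∈ P := by
      intro y
      obtain ⟨x, hx⟩ := hr.exists_eq y
      have : Subgroup.inclusion hP'R y = eγ ⟨x, hPU x.2⟩ := Subtype.ext hx.symm
      show ρ (Subgroup.inclusion hP'R y) ∈ P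
      rw [this, hρ']
      exact x.2
    obtain ⟨χ₁, hχ₁, hχ₁eq⟩ := Helper87.comp_mem' F hρP' hφ hρP
    have hχ₁U : ∀ y, χ₁ y ∈ U := by
      intro y
      rw [hχ₁eq]
      exact hr.map_mem_left _
    obtain ⟨χ₂, hχ₂, hχ₂eq⟩ := Helper87.comp_mem' F hχ₁ hγ hχ₁U
    have : φ' = χ₂ := by
      ext y
      obtain ⟨x, hx⟩ := hr.exists_eq y
      have hy : y = ⟨eγ ⟨x, hPU x.2⟩, hr.mem_right x⟩ := Subtype.ext hx.symm
      rw [hχ₂eq, hγe]
      have e1 : (⟨χ₁ y, hχ₁U y⟩ : U) = ⟨φ x, hr.map_mem_left x⟩ := by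
        apply Subtype.ext
        show χ₁ y = φ x
        rw [hχ₁eq]
        congr 1
        apply Subtype.ext
        show ((ρ (Subgroup.inclusion hP'R y) : Ω)) = x
        have : Subgroup.inclusion hP'R y = eγ ⟨x, hPU x.2⟩ := Subtype.ext hx.symm
        rw [this, hρ']
      rw [e1, hy, hr.apply]
    rw [this]
    exact hχ₂
  · intro hφ'
    have hγP := Helper87.restrict_mem F hγ hPU
    have hγP' : ∀ x : P, (γ.comp (Subgroup.inclusion hPU)) x ∈ P' := by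
      intro x
      show γ ⟨x, hPU x.2⟩ ∈ P'
      rw [hγe]
      exact hr.mem_right x
    obtain ⟨χ₁, hχ₁, hχ₁eq⟩ := Helper87.comp_mem' F hγP hφ' hγP'
    have hχ₁R : ∀ x, χ₁ x ∈ R := by
      intro x
      rw [hχ₁eq]
      exact hr.map_mem_right _
    obtain ⟨χ₂, hχ₂, hχ₂eq⟩ := Helper87.comp_mem' F hχ₁ hρ hχ₁R
    have : φ = χ₂ := by
      ext x
      rw [hχ₂eq]
      have e1 : (⟨χ₁ x, hχ₁R x⟩ : R) = eγ ⟨φ x, hr.map_mem_left x⟩ := by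
        apply Subtype.ext
        show χ₁ x = _
        rw [hχ₁eq, ← hr.apply x (hr.mem_right x)]
        congr 1
        apply Subtype.ext
        show γ ⟨x, hPU x.2⟩ = _
        rw [hγe]
      rw [e1, hρ']
    rw [this]
    exact hχ₂

/-- An invariant subsystem is carried to itself by the automorphisms of the larger system. -/
theorem correspR_self_of_invariant {U : Subgroup Ω} {D : FusionSystem U} {F : FusionSystem S}
    (hinv : ∀ (P : Subgroup Ω) (hPT : P ≤ U) (φ : P →* Ω), φ ∈ D.Hom P → ∀ α ∈ F.autGroup U,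
      ∃ χ ∈ D.Hom ((P.subgroupOf U).map (U.subtype.comp α.toMonoidHom)),
        ∀ (x : P) (hφx : φ x ∈ U)
          (hαx : ((α ⟨x, hPT x.2⟩ : U) : Ω) ∈ (P.subgroupOf U).map (U.subtype.comp α.toMonoidHom)),
          χ ⟨(α ⟨x, hPT x.2⟩ : U), hαx⟩ = ((α ⟨φ x, hφx⟩ : U) : Ω))
    {α : MulAut U} (hα : α ∈ F.autGroup U) : CorrespR (α : U ≃* U) D D := by
  have half : ∀ (β : MulAut U), β ∈ F.autGroup U → ∀ (P P' : Subgroup Ω) (φ : P →* Ω)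
      (φ' : P' →* Ω), Rel (β : U ≃* U) φ φ' → φ ∈ D.Hom P → φ' ∈ D.Hom P' := by
    intro β hβ P P' φ φ' hr hφ
    have hPU : P ≤ U := hr.le_left
    obtain ⟨χ, hχ, hχeq⟩ := hinv P hPU φ hφ β hβ
    have him : P' = (P.subgroupOf U).map (U.subtype.comp β.toMonoidHom) := by
      rw [← hr.imE_eq]
      unfold imE
      rw [Subgroup.map_map]
    obtain ⟨χ₂, hχ₂, hχ₂eq⟩ := Helper84.exists_hom_of_eq D hχ him
    have : φ' = χ₂ := by
      ext y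
      obtain ⟨x, hx⟩ := hr.exists_eq y
      have hy : y = ⟨β ⟨x, hPU x.2⟩, hr.mem_right x⟩ := Subtype.ext hx.symm
      have hmem : ((β ⟨x, hPU x.2⟩ : U) : Ω) ∈
          (P.subgroupOf U).map (U.subtype.comp β.toMonoidHom) := ⟨⟨x, hPU x.2⟩, x.2, rfl⟩
      rw [hy, hr.apply, hχ₂eq _ _ hmem, hχeq x (hr.map_mem_left x) hmem]
    rw [this]
    exact hχ₂
  intro P P' φ φ' hr
  constructor
  · exact half α hα P P' φ φ' hr
  · have hα' : α⁻¹ ∈ F.autGroup U := (F.autGroup U).inv_mem hα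
    exact half α⁻¹ hα' P' P φ' φ hr.symm

end Cfsg.Agent.Lib.Helper85.Iso
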