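import Cfsg.Agent.Lib.Helper85.Iso8

set_option autoImplicit false

namespace Cfsg.Agent.Lib.Helper85.Iso

open Cfsg Cfsg.FusionSystem Cfsg.Agent.Lib.Helper85

universe u

/-- The image of a subnormal subsystem under a map of the system is subnormal. -/
theorem conj_subnormal {Ω : Type u} [Group Ω] {p : ℕ} {T S : Subgroup Ω} {C : FusionSystem T}
    {F : FusionSystem S} (h : C.IsSubnormalIn F p) :
    ∀ [Fact p.Prime] [Finite S], F.IsSaturated p → ∀ (γ : T →* Ω), γ ∈ F.Hom T →
      ∀ {R : Subgroup Ω} (eγ : T ≃* R), (∀ x, γ x = ((eγ x : R) : Ω)) →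
        ∀ (E : FusionSystem R), CorrespR eγ C E → E.IsSubnormalIn F p := by
  induction h with
  | refl F p =>
    intro _ _ hsat γ hγ R eγ hγe E hE
    have hRS : R ≤ T := by
      intro y hy
      have h1 := Helper87.hom_mem_S F hγ (eγ.symm ⟨y, hy⟩)
      rw [hγe, MulEquiv.apply_symm_apply] at h1
      exact h1
    have hR : R = T := by
      apply Subgroup.eq_of_le_of_card_ge hRS
      rw [Nat.card_congr eγ.toEquiv]
    have h1 : CorrespR eγ F F := correspR_self_of_hom F hγ eγ hγe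
    exact isSubnormalIn_of_eq p F E hR (fun P => hE.hom_eq h1 le_rfl (le_of_eq hR.symm) P)
  | @step U S C D F p hCD hDF ih =>
    intro _ _ hsat γ hγ R eγ hγe E hE
    have hUS : U ≤ S := hDF.1.2.2.2.1.1
    have hTU := IsSubnormalIn.le hCD
    have : Finite U :=
      Finite.of_injective (Subgroup.inclusion hUS) (Subgroup.inclusion_injective hUS)
    obtain ⟨α, hα, γ₀, hγ₀, hfr⟩ := hDF.1.2.2.2.2.2 _ hTU γ hγ
    have hγ₀inj := D.injective_of_mem hγ₀
    obtain ⟨E₀, hE₀⟩ := exists_transport_top (MonoidHom.ofInjective hγ₀inj) C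
    have h1 : E₀.IsSubnormalIn D p :=
      ih hDF.1.1 γ₀ hγ₀ (MonoidHom.ofInjective hγ₀inj) (fun x => rfl) E₀ hE₀
    have hDD : CorrespR (α : U ≃* U) D D := correspR_self_of_invariant hDF.1.2.2.2.2.1 hα
    have hR₀U : γ₀.range ≤ U := Helper87.range_le D hγ₀
    have hcomp : ∀ x, ((eγ x : R) : Ω) =
        (((α : U ≃* U) ⟨MonoidHom.ofInjective hγ₀inj x,
          hR₀U (MonoidHom.ofInjective hγ₀inj x).2⟩ : U) : Ω) := by
      intro x
      rw [← hγe]
      exact hfr x (Helper87.hom_mem_S D hγ₀ x)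
    have hE₀E : CorrespR (α : U ≃* U) E₀ E :=
      CorrespR.cancel_left hR₀U hcomp hE₀ hE le_rfl le_rfl
    have him : imE (α : U ≃* U) γ₀.range = R := by
      ext y
      rw [mem_imE]
      constructor
      · rintro ⟨u, ⟨x, hx⟩, rfl⟩
        have h2 := hcomp x
        have e1 : (⟨MonoidHom.ofInjective hγ₀inj x,
            hR₀U (MonoidHom.ofInjective hγ₀inj x).2⟩ : U) = u := Subtype.ext hx
        rw [e1] at h2
        rw [← h2]
        exact (eγ x).2
      · intro hy
        have h2 := hcomp (eγ.symm ⟨y, hy⟩)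
        rw [MulEquiv.apply_symm_apply] at h2
        exact ⟨_, ⟨eγ.symm ⟨y, hy⟩, rfl⟩, h2.symm⟩
    have h2 : E.IsSubnormalIn D p :=
      isSubnormalIn_transport h1 (α : U ≃* U) E D hDD hE₀E him
    exact IsSubnormalIn.step h2 hDF

end Cfsg.Agent.Lib.Helper85.Iso
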