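import Cfsg.Agent.Lib.Helper87.Saturation
import Cfsg.Agent.Lib.Helper11.Quad
import Cfsg.Agent.Lib.Helper22.Fitting

set_option autoImplicit false

namespace Cfsg.Agent.Lib.Helper85

open Cfsg Cfsg.FusionSystem Cfsg.Agent.Lib.Helper87

variable {Ω : Type*} [Group Ω] {N : Subgroup Ω} {G : Type*} [Group G]

/-- Given `g : G` conjugating `ι(P)` into the range of the injective `ι`, the transported map on `P`. -/
theorem exists_transported_hom (ι : N →* G) (hinj : Function.Injective ι) {P : Subgroup Ω}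
    (hP : P ≤ N) (g : G) (h : ∀ x : P, g * ι ⟨x, hP x.2⟩ * g⁻¹ ∈ ι.range) :
    ∃ (φ : P →* Ω) (hφ : ∀ x, φ x ∈ N), ∀ x, ι ⟨φ x, hφ x⟩ = g * ι ⟨x, hP x.2⟩ * g⁻¹ := by
  let e : N ≃* ι.range := MonoidHom.ofInjective hinj
  let c : P →* ι.range :=
    MonoidHom.codRestrict ((MulAut.conj g).toMonoidHom.comp (ι.comp (Subgroup.inclusion hP)))
      ι.range h
  refine ⟨N.subtype.comp (e.symm.toMonoidHom.comp c), fun x => (e.symm (c x)).2, fun x => ?_⟩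
  have h1 : (⟨(N.subtype.comp (e.symm.toMonoidHom.comp c)) x, (e.symm (c x)).2⟩ : N) =
      e.symm (c x) := rfl
  rw [h1]
  have h2 : ((e (e.symm (c x)) : ι.range) : G) = ι (e.symm (c x)) :=
    MonoidHom.ofInjective_apply hinj
  rw [← h2, MulEquiv.apply_symm_apply]
  rfl

section model

variable {p : ℕ} [Fact p.Prime] (E : FusionSystem N) (ι : N →* G)

/-- In a model, the image of a subgroup normal in the system lies in `O_p(G)`. -/
theorem model_map_le_pCore (hm : E.IsModel p G ι) {R : Subgroup Ω} (hR : E.IsNormal R) :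
    (R.subgroupOf N).map ι ≤ pCore p G := by
  obtain ⟨hfin, ⟨hinj, hreal⟩, ⟨T, hT⟩, hcen⟩ := hm
  haveI := hfin
  have hUn : (pCore p G).Normal := Cfsg.Agent.Lib.Helper22.pCore_normal' p G
  have hUT : pCore p G ≤ ι.range := hT ▸ Cfsg.Agent.Lib.Helper11.pCore_le_sylow T
  have hRN : R ≤ N := hR.1
  -- the preimage of `O_p(G)` in `N`
  obtain ⟨Ut, hUt⟩ : ∃ Ut : Subgroup Ω, Ut = ((pCore p G).comap ι).map N.subtype := ⟨_, rfl⟩
  have hUtN : Ut ≤ N := by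
    rw [hUt]
    exact Subgroup.map_subtype_le _
  have hUtmem : ∀ x : Ut, ι ⟨x, hUtN x.2⟩ ∈ pCore p G := by
    rintro ⟨x, hx⟩
    rw [hUt] at hx
    obtain ⟨n, hn, rfl⟩ := hx
    exact hn
  have hUsurj : ∀ y ∈ pCore p G, ∃ x : Ut, ι ⟨x, hUtN x.2⟩ = y := by
    intro y hy
    obtain ⟨n, rfl⟩ := hUT hy
    have hn : (n : Ω) ∈ Ut := by
      rw [hUt]
      exact ⟨n, hy, rfl⟩
    exact ⟨⟨n, hn⟩, rfl⟩
  -- the key: every `g` factors as `h * w` with `h` normalizing the image of `R` and `w ∈ O_p(G)`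
  have key : ∀ g : G, ∃ h : G, h⁻¹ * g ∈ pCore p G ∧
      ∀ r : R, h * ι ⟨r, hRN r.2⟩ * h⁻¹ ∈ (R.subgroupOf N).map ι := by
    intro g
    have hg : ∀ x : Ut, g * ι ⟨x, hUtN x.2⟩ * g⁻¹ ∈ ι.range :=
      fun x => hUT (hUn.conj_mem _ (hUtmem x) g)
    obtain ⟨φ, hφN, hφ⟩ := exists_transported_hom ι hinj hUtN g hg
    have hφE : φ ∈ E.Hom Ut := (hreal Ut hUtN φ hφN).mpr ⟨g, hφ⟩
    obtain ⟨ψ, hψ, hψU, hψR⟩ := hR.2 Ut φ hφE
    have hsupN : Ut ⊔ R ≤ N := sup_le hUtN hRN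
    have hψN : ∀ x, ψ x ∈ N := hom_mem_S E hψ
    obtain ⟨h, hh⟩ := (hreal (Ut ⊔ R) hsupN ψ hψN).mp hψ
    refine ⟨h, ?_, fun r => ?_⟩
    · apply hcen
      rw [Subgroup.mem_centralizer_iff]
      intro y hy
      obtain ⟨x, rfl⟩ := hUsurj y hy
      have h1 := hh (Subgroup.inclusion le_sup_left x)
      have h2 : (⟨ψ (Subgroup.inclusion le_sup_left x), hψN _⟩ : N) = ⟨φ x, hφN x⟩ :=
        Subtype.ext (hψU x)
      rw [h2, hφ x] at h1
      have h3 : (⟨((Subgroup.inclusion (le_sup_left : Ut ≤ Ut ⊔ R) x : ↥(Ut ⊔ R)) : Ω),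
          hsupN (Subgroup.inclusion (le_sup_left : Ut ≤ Ut ⊔ R) x).2⟩ : N) = ⟨x, hUtN x.2⟩ := rfl
      rw [h3] at h1
      -- h1 : g * ι x * g⁻¹ = h * ι x * h⁻¹
      calc ι ⟨x, hUtN x.2⟩ * (h⁻¹ * g) = h⁻¹ * (h * ι ⟨x, hUtN x.2⟩ * h⁻¹) * g := by group
        _ = h⁻¹ * (g * ι ⟨x, hUtN x.2⟩ * g⁻¹) * g := by rw [h1]
        _ = h⁻¹ * g * ι ⟨x, hUtN x.2⟩ := by group
    · have h1 := hh (Subgroup.inclusion le_sup_right r)
      have h3 : (⟨((Subgroup.inclusion (le_sup_right : R ≤ Ut ⊔ R) r : ↥(Ut ⊔ R)) : Ω),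
          hsupN (Subgroup.inclusion (le_sup_right : R ≤ Ut ⊔ R) r).2⟩ : N) = ⟨r, hRN r.2⟩ := rfl
      rw [h3] at h1
      rw [← h1]
      have hmem : ψ (Subgroup.inclusion le_sup_right r) ∈ R :=
        hψR.le ⟨_, Subgroup.mem_subgroupOf.mpr r.2, rfl⟩
      exact ⟨⟨ψ (Subgroup.inclusion le_sup_right r), hψN _⟩, Subgroup.mem_subgroupOf.mpr hmem, rfl⟩
  -- the product of the image of `R` and `O_p(G)` is a normal `p`-subgroup
  have hle : (R.subgroupOf N).map ι ⊔ pCore p G ≤ pCore p G := by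
    apply Cfsg.Agent.Lib.Helper11.le_pCore
    · constructor
      intro n hn g
      have hcl : (R.subgroupOf N).map ι ⊔ pCore p G ≤
          ((R.subgroupOf N).map ι ⊔ pCore p G).comap (MulAut.conj g).toMonoidHom := by
        apply sup_le
        · rintro _ ⟨r, hr, rfl⟩
          obtain ⟨h, hw, hhR⟩ := key g
          have hrR : (r : Ω) ∈ R := Subgroup.mem_subgroupOf.mp hr
          have h1 := hhR ⟨r, hrR⟩
          show g * ι r * g⁻¹ ∈ (R.subgroupOf N).map ι ⊔ pCore p G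
          have e1 : g * ι r * g⁻¹ = (h * (h⁻¹ * g) * h⁻¹) * (h * ι r * h⁻¹) *
              (h * (h⁻¹ * g) * h⁻¹)⁻¹ := by group
          rw [e1]
          have hw' : h * (h⁻¹ * g) * h⁻¹ ∈ (R.subgroupOf N).map ι ⊔ pCore p G :=
            Subgroup.mem_sup_right (hUn.conj_mem _ hw h)
          exact Subgroup.mul_mem _ (Subgroup.mul_mem _ hw' (Subgroup.mem_sup_left h1))
            (Subgroup.inv_mem _ hw')
        · intro u hu
          exact Subgroup.mem_sup_right (hUn.conj_mem u hu g)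
      exact hcl hn
    · apply T.isPGroup'.to_le
      rw [hT]
      apply sup_le
      · rintro _ ⟨r, -, rfl⟩
        exact ⟨r, rfl⟩
      · exact hUT
  exact le_sup_left.trans hle

/-- In a model, `O_p(G)` lies in the image of every radical subgroup `R` that is normal in `N` and
contains its centralizer in `N`. -/
theorem model_pCore_le_map [Finite N] (hN : IsPGroup p N) (hm : E.IsModel p G ι) {R : Subgroup Ω}
    (hRN : R ≤ N) (hnorm : N ≤ Subgroup.normalizer (R : Set Ω)) (hcent : centralizerIn N R ≤ R)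
    (hrad : E.IsRadical p R) : pCore p G ≤ (R.subgroupOf N).map ι := by
  obtain ⟨hfin, ⟨hinj, hreal⟩, ⟨T, hT⟩, -⟩ := hm
  haveI := hfin
  have hUn : (pCore p G).Normal := Cfsg.Agent.Lib.Helper22.pCore_normal' p G
  have hUT : pCore p G ≤ ι.range := hT ▸ Cfsg.Agent.Lib.Helper11.pCore_le_sylow T
  obtain ⟨Ut, hUt⟩ : ∃ Ut : Subgroup Ω, Ut = ((pCore p G).comap ι).map N.subtype := ⟨_, rfl⟩
  have hUtN : Ut ≤ N := by
    rw [hUt]
    exact Subgroup.map_subtype_le _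
  have hUtmem : ∀ x : Ut, ι ⟨x, hUtN x.2⟩ ∈ pCore p G := by
    rintro ⟨x, hx⟩
    rw [hUt] at hx
    obtain ⟨n, hn, rfl⟩ := hx
    exact hn
  have hUsurj : ∀ y ∈ pCore p G, ∃ x : Ut, ι ⟨x, hUtN x.2⟩ = y := by
    intro y hy
    obtain ⟨n, rfl⟩ := hUT hy
    have hn : (n : Ω) ∈ Ut := by
      rw [hUt]
      exact ⟨n, hy, rfl⟩
    exact ⟨⟨n, hn⟩, rfl⟩
  have hKle : autInducedBy Ut R ≤ E.autGroup R := by
    intro β hβ
    obtain ⟨u, hu, hβu⟩ := (mem_autInducedBy_iff _ _ β).mp hβ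
    exact autInducedBy_le_autGroup E hRN ((mem_autInducedBy_iff _ _ β).mpr ⟨u, hUtN hu, hβu⟩)
  have hKp : IsPGroup p (autInducedBy Ut R) := autInducedBy_isPGroup (hN.to_le hUtN) R
  have hKn : ∀ α ∈ E.autGroup R, ∀ β ∈ autInducedBy Ut R, α * β * α⁻¹ ∈ autInducedBy Ut R := by
    intro α hα β hβ
    obtain ⟨u, hu, hβu⟩ := (mem_autInducedBy_iff _ _ β).mp hβ
    have hαE := (mem_autGroup_iff E hRN α).mp hα
    have hαN : ∀ x : R, (R.subtype.comp α.toMonoidHom) x ∈ N := fun x => hRN (α x).2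
    obtain ⟨g, hg⟩ := (hreal R hRN _ hαN).mp hαE
    have hu' : g * ι ⟨u, hUtN hu⟩ * g⁻¹ ∈ pCore p G := hUn.conj_mem _ (hUtmem ⟨u, hu⟩) g
    obtain ⟨u', hu'e⟩ := hUsurj _ hu'
    rw [mem_autInducedBy_iff]
    refine ⟨u', u'.2, fun y => ?_⟩
    -- elements of `N`
    obtain ⟨z, hz⟩ : ∃ z : R, α z = y := ⟨α⁻¹ y, MulAut.apply_inv_self _ α y⟩
    have hval : (α * β * α⁻¹) y = α (β z) := by
      rw [← hz]
      simp [MulAut.mul_apply]
    have h1 := hg (β z)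
    have h2 := hg z
    have e1 : (⟨(R.subtype.comp α.toMonoidHom) (β z), hαN (β z)⟩ : N) =
        ⟨((α (β z) : R) : Ω), hRN (α (β z)).2⟩ := rfl
    have e2 : (⟨(R.subtype.comp α.toMonoidHom) z, hαN z⟩ : N) = ⟨(y : Ω), hRN y.2⟩ :=
      Subtype.ext (by rw [← hz]; rfl)
    have e3 : (⟨((β z : R) : Ω), hRN (β z).2⟩ : N) =
        ⟨u, hUtN hu⟩ * ⟨z, hRN z.2⟩ * ⟨u, hUtN hu⟩⁻¹ := Subtype.ext (hβu z)
    rw [e1, e3, map_mul, map_mul, map_inv] at h1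
    rw [e2] at h2
    have hmemN : (u' : Ω) * y * (u' : Ω)⁻¹ ∈ N :=
      N.mul_mem (N.mul_mem (hUtN u'.2) (hRN y.2)) (N.inv_mem (hUtN u'.2))
    have e4 : (⟨(u' : Ω) * y * (u' : Ω)⁻¹, hmemN⟩ : N) =
        ⟨u', hUtN u'.2⟩ * ⟨y, hRN y.2⟩ * ⟨u', hUtN u'.2⟩⁻¹ := rfl
    have hfinal : ι ⟨((α (β z) : R) : Ω), hRN (α (β z)).2⟩ = ι ⟨(u' : Ω) * y * (u' : Ω)⁻¹, hmemN⟩ := by
      rw [h1, e4, map_mul, map_mul, map_inv, hu'e, h2]
      have h5 : ι ⟨z, hRN z.2⟩ = g⁻¹ * (g * ι ⟨z, hRN z.2⟩ * g⁻¹) * g := by group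
      rw [h5]
      group
    rw [hval]
    exact congrArg Subtype.val (hinj hfinal)
  have hKn' : ((autInducedBy Ut R).subgroupOf (E.autGroup R)).Normal := by
    constructor
    rintro ⟨β, hβA⟩ hβ ⟨α, hα⟩
    exact Subgroup.mem_subgroupOf.mpr (hKn α hα β (Subgroup.mem_subgroupOf.mp hβ))
  have h3 : (autInducedBy Ut R).subgroupOf (E.autGroup R) ≤ pCore p (E.autGroup R) :=
    Cfsg.Agent.Lib.Helper11.le_pCore hKn' hKp.comap_subtype
  have hUtR : Ut ≤ R := by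
    intro u hu
    have huN : u ∈ Subgroup.normalizer (R : Set Ω) := hnorm (hUtN hu)
    have hc : conjAut R u huN ∈ autInducedBy Ut R := conjAut_mem_autInducedBy hu huN
    have h4 : conjAut R u huN ∈ (pCore p (E.autGroup R)).map (E.autGroup R).subtype :=
      ⟨⟨_, hKle hc⟩, h3 (Subgroup.mem_subgroupOf.mpr hc), rfl⟩
    rw [hrad.2] at h4
    obtain ⟨r, hr⟩ := h4
    have hru : (r : Ω)⁻¹ * u ∈ centralizerIn N R := by
      refine ⟨N.mul_mem (N.inv_mem (hRN r.2)) (hUtN hu), ?_⟩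
      show (r : Ω)⁻¹ * u ∈ Subgroup.centralizer (R : Set Ω)
      rw [Subgroup.mem_centralizer_iff]
      intro x hx
      have h5 := congrArg (fun f : MulAut R => ((f ⟨x, hx⟩ : R) : Ω)) hr
      simp only [MulAut.conj_apply, conjAut_coe] at h5
      -- h5 : r * x * r⁻¹ = u * x * u⁻¹
      have h6 : (r : Ω) * x * (r : Ω)⁻¹ = u * x * u⁻¹ := h5
      calc x * ((r : Ω)⁻¹ * u) = (r : Ω)⁻¹ * ((r : Ω) * x * (r : Ω)⁻¹) * u := by group
        _ = (r : Ω)⁻¹ * (u * x * u⁻¹) * u := by rw [h6]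
        _ = (r : Ω)⁻¹ * u * x := by group
    have h7 := R.mul_mem r.2 (hcent hru)
    have e : (r : Ω) * ((r : Ω)⁻¹ * u) = u := by group
    rwa [e] at h7
  intro y hy
  obtain ⟨x, rfl⟩ := hUsurj y hy
  exact ⟨⟨x, hUtN x.2⟩, Subgroup.mem_subgroupOf.mpr (hUtR x.2), rfl⟩

end model

end Cfsg.Agent.Lib.Helper85
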