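import Cfsg.Agent.Lib.Helper85.InducedAut
import Cfsg.Agent.Lib.Helper85.ExtMod
import Cfsg.Agent.Lib.Helper85.RobertsShpectorov
import Cfsg.Agent.S5131
import Cfsg.Agent.S5132

set_option autoImplicit false

namespace Cfsg.Agent.Lib.Helper85

open Cfsg Cfsg.FusionSystem Cfsg.Agent.Lib.Helper87 Cfsg.Agent.S5132

variable {Ω : Type*} [Group Ω] {S : Subgroup Ω} {Ω' : Type*} [Group Ω'] {S' : Subgroup Ω'}

/-- The kernel of `α : S →* Ω'`, as a subgroup of the ambient group. -/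
def kerSub (α : S →* Ω') : Subgroup Ω := (α.ker).map S.subtype

theorem mem_kerSub {α : S →* Ω'} {x : Ω} : x ∈ kerSub α ↔ ∃ hx : x ∈ S, α ⟨x, hx⟩ = 1 := by
  constructor
  · rintro ⟨s, hs, rfl⟩
    exact ⟨s.2, hs⟩
  · rintro ⟨hx, h⟩
    exact ⟨⟨x, hx⟩, h, rfl⟩

theorem mem_im {α : S →* Ω'} {P : Subgroup Ω} {y : Ω'} :
    y ∈ imageAlong α P ↔ ∃ s : S, (s : Ω) ∈ P ∧ α s = y := by
  constructor
  · rintro ⟨s, hs, rfl⟩
    exact ⟨s, Subgroup.mem_subgroupOf.mp hs, rfl⟩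
  · rintro ⟨s, hs, rfl⟩
    exact ⟨s, Subgroup.mem_subgroupOf.mpr hs, rfl⟩

theorem im_le_range (α : S →* Ω') (P : Subgroup Ω) : imageAlong α P ≤ α.range := by
  rintro _ ⟨s, -, rfl⟩
  exact ⟨s, rfl⟩

/-- full preimage of the image of a subgroup containing the kernel -/
theorem pre_im (α : S →* Ω') {Q : Subgroup Ω} (hQ : Q ≤ S) (hK : kerSub α ≤ Q) :
    preimageAlong α (imageAlong α Q) = Q := by
  ext x
  rw [mem_pre]
  constructor
  · rintro ⟨hxS, h⟩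
    obtain ⟨s, hs, hsx⟩ := mem_im.mp h
    have h1 : α (s⁻¹ * ⟨x, hxS⟩) = 1 := by rw [map_mul, map_inv, hsx, inv_mul_cancel]
    have h2 : ((s⁻¹ * ⟨x, hxS⟩ : S) : Ω) ∈ Q := hK (mem_kerSub.mpr ⟨(s⁻¹ * ⟨x, hxS⟩).2, h1⟩)
    have : x = (s : Ω) * ((s⁻¹ * ⟨x, hxS⟩ : S) : Ω) := by
      show x = (s : Ω) * ((s : Ω)⁻¹ * x)
      group
    rw [this]
    exact Q.mul_mem hs h2
  · intro hx
    exact ⟨hQ hx, mem_im.mpr ⟨⟨x, hQ hx⟩, hx, rfl⟩⟩

/-- image of the full preimage -/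
theorem im_pre (α : S →* Ω') {P' : Subgroup Ω'} (hP' : P' ≤ α.range) :
    imageAlong α (preimageAlong α P') = P' := by
  ext y
  rw [mem_im]
  constructor
  · rintro ⟨s, hs, rfl⟩
    obtain ⟨_, h⟩ := mem_pre.mp hs
    exact h
  · intro hy
    obtain ⟨s, rfl⟩ := hP' hy
    exact ⟨s, mem_pre.mpr ⟨s.2, hy⟩, rfl⟩

theorem kerSub_le_pre (α : S →* Ω') (P' : Subgroup Ω') : kerSub α ≤ preimageAlong α P' := by
  intro x hx
  obtain ⟨hxS, h⟩ := mem_kerSub.mp hx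
  exact mem_pre.mpr ⟨hxS, h ▸ P'.one_mem⟩

/-- The restriction of `α` to `Q`, onto the image. -/
def resHom (α : S →* Ω') {Q : Subgroup Ω} (hQ : Q ≤ S) : Q →* imageAlong α Q :=
  (α.comp (Subgroup.inclusion hQ)).codRestrict _
    (fun x => mem_im.mpr ⟨⟨x, hQ x.2⟩, x.2, rfl⟩)

theorem resHom_coe (α : S →* Ω') {Q : Subgroup Ω} (hQ : Q ≤ S) (x : Q) :
    ((resHom α hQ x : imageAlong α Q) : Ω') = α ⟨x, hQ x.2⟩ := rfl

theorem resHom_surjective (α : S →* Ω') {Q : Subgroup Ω} (hQ : Q ≤ S) :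
    Function.Surjective (resHom α hQ) := by
  rintro ⟨y, hy⟩
  obtain ⟨s, hs, rfl⟩ := mem_im.mp hy
  exact ⟨⟨s, hs⟩, Subtype.ext rfl⟩

theorem resHom_eq_one_iff (α : S →* Ω') {Q : Subgroup Ω} (hQ : Q ≤ S) (x : Q) :
    resHom α hQ x = 1 ↔ (x : Ω) ∈ kerSub α := by
  rw [mem_kerSub]
  constructor
  · intro h
    exact ⟨hQ x.2, congrArg (fun z : imageAlong α Q => (z : Ω')) h⟩
  · rintro ⟨_, h⟩
    exact Subtype.ext h

/-- Membership in the extender: the generating set is already a subgroup. -/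
theorem mem_extender_iff {P : Subgroup Ω} (φ : P →* Ω) {g : Ω} :
    g ∈ extender S P φ ↔ g ∈ S ∧ g ∈ Subgroup.normalizer (P : Set Ω) ∧
      ∃ h ∈ S, ∀ (x : P) (hx : g * (x : Ω) * g⁻¹ ∈ P), φ ⟨g * x * g⁻¹, hx⟩ = h * φ x * h⁻¹ := by
  constructor
  · intro hg
    unfold extender at hg
    induction hg using Subgroup.closure_induction with
    | mem g hg => exact hg
    | one =>
      refine ⟨S.one_mem, Subgroup.one_mem _, 1, S.one_mem, fun x hx => ?_⟩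
      have : (⟨1 * (x : Ω) * 1⁻¹, hx⟩ : P) = x := Subtype.ext (by simp)
      rw [this]; simp
    | mul a b _ _ iha ihb =>
      obtain ⟨haS, haN, h₁, hh₁, H₁⟩ := iha
      obtain ⟨hbS, hbN, h₂, hh₂, H₂⟩ := ihb
      refine ⟨S.mul_mem haS hbS, Subgroup.mul_mem _ haN hbN, h₁ * h₂, S.mul_mem hh₁ hh₂,
        fun x hx => ?_⟩
      have hbx : b * (x : Ω) * b⁻¹ ∈ P := (Subgroup.mem_normalizer_iff.mp hbN _).mp x.2
      have hax : a * (b * (x : Ω) * b⁻¹) * a⁻¹ ∈ P := (Subgroup.mem_normalizer_iff.mp haN _).mp hbx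
      have e : (⟨a * b * (x : Ω) * (a * b)⁻¹, hx⟩ : P) = ⟨a * (b * (x : Ω) * b⁻¹) * a⁻¹, hax⟩ :=
        Subtype.ext (by group)
      rw [e, H₁ ⟨_, hbx⟩ hax, H₂ x hbx]
      group
    | inv a _ iha =>
      obtain ⟨haS, haN, h₁, hh₁, H₁⟩ := iha
      refine ⟨S.inv_mem haS, Subgroup.inv_mem _ haN, h₁⁻¹, S.inv_mem hh₁, fun x hx => ?_⟩
      have hx' : a * (a⁻¹ * (x : Ω) * a⁻¹⁻¹) * a⁻¹ ∈ P := by
        have : a * (a⁻¹ * (x : Ω) * a⁻¹⁻¹) * a⁻¹ = x := by group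
        rw [this]; exact x.2
      have h1 := H₁ ⟨_, hx⟩ hx'
      have e : (⟨a * (a⁻¹ * (x : Ω) * a⁻¹⁻¹) * a⁻¹, hx'⟩ : P) = x := Subtype.ext (by group)
      rw [e] at h1
      rw [h1]
      group
  · intro h
    exact Subgroup.subset_closure h

section Fusion

variable [Finite S] {p : ℕ} [Fact p.Prime] (hS : IsPGroup p S) (F : FusionSystem S)
  (F' : FusionSystem S') (α : S →* Ω') (hα : F.IsSurjectiveMorphism F' α)

include hS hα in
theorem kerSub_stronglyClosed : F.StronglyClosed (kerSub α) :=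
  Cfsg.Agent.S5131.result p hS F F' α hα.1

include hα in
theorem im_le_S' (P : Subgroup Ω) : imageAlong α P ≤ S' := by
  rintro _ ⟨s, -, rfl⟩
  exact hα.1.1 s

include hS hα in
theorem aut_preserves_ker {Q : Subgroup Ω} (hQ : Q ≤ S) :
    ∀ β ∈ F.autGroup Q, ∀ x : Q, resHom α hQ x = 1 → resHom α hQ (β x) = 1 := by
  intro β hβ x hx
  rw [resHom_eq_one_iff] at hx ⊢
  exact sc_map_mem F (kerSub_stronglyClosed hS F F' α hα) ((mem_autGroup_iff F hQ β).mp hβ) x hx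

/-- The homomorphism `Aut_F(Q) → Aut(α(Q))`. -/
noncomputable def rho {Q : Subgroup Ω} (hQ : Q ≤ S) : F.autGroup Q →* MulAut (imageAlong α Q) :=
  inducedAutHom (resHom α hQ) (resHom_surjective α hQ) (F.autGroup Q)
    (aut_preserves_ker hS F F' α hα hQ)

theorem rho_apply {Q : Subgroup Ω} (hQ : Q ≤ S) (β : F.autGroup Q) (x : Q) :
    rho hS F F' α hα hQ β (resHom α hQ x) = resHom α hQ ((β : MulAut Q) x) :=
  inducedAutHom_apply _ _ _ _ β x

theorem rho_mem {Q : Subgroup Ω} (hQ : Q ≤ S) (β : F.autGroup Q) :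
    rho hS F F' α hα hQ β ∈ F'.autGroup (imageAlong α Q) := by
  rw [mem_autGroup_iff F' (im_le_S' F F' α hα Q)]
  have hφ := (mem_autGroup_iff F hQ β.1).mp β.2
  obtain ⟨φ', hφ', hP, hφS, hP', hind⟩ := hα.1.2 Q _ hφ
  have : (imageAlong α Q).subtype.comp (rho hS F F' α hα hQ β).toMonoidHom = φ' := by
    ext y
    obtain ⟨x, rfl⟩ := resHom_surjective α hQ y
    show ((rho hS F F' α hα hQ β (resHom α hQ x) : imageAlong α Q) : Ω') = φ' (resHom α hQ x)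
    rw [rho_apply, resHom_coe]
    exact (hind x).symm
  rw [this]
  exact hφ'

theorem rho_surj {Q : Subgroup Ω} (hQ : Q ≤ S) (hK : kerSub α ≤ Q) (β' : MulAut (imageAlong α Q))
    (hβ' : β' ∈ F'.autGroup (imageAlong α Q)) : ∃ β : F.autGroup Q, rho hS F F' α hα hQ β = β' := by
  haveI : Finite Q := finite_of_le hQ
  have hQ'S' := im_le_S' F F' α hα Q
  have hφ' := (mem_autGroup_iff F' hQ'S' β').mp hβ'
  obtain ⟨φ, hφ, hP, hφS, hP', hind⟩ := hα.2.2 _ hQ'S' _ hφ'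
  have heq := pre_im α hQ hK
  have hφ₁ := cast_mem F heq hφ
  set φ₁ := φ.comp (Subgroup.inclusion heq.ge) with hφ₁def
  have hind₁ : ∀ x : Q, α ⟨φ₁ x, hom_mem_S F hφ₁ x⟩ = ((β' (resHom α hQ x) : imageAlong α Q) : Ω') := by
    intro x
    have := hind (Subgroup.inclusion heq.ge x)
    exact this.symm
  have hval : ∀ x : Q, φ₁ x ∈ Q := by
    intro x
    apply heq.le
    rw [mem_pre]
    refine ⟨hom_mem_S F hφ₁ x, ?_⟩
    rw [hind₁]
    exact (β' _).2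
  have hinj : Function.Injective (φ₁.codRestrict Q hval) := by
    intro a b hab
    apply F.injective_of_mem hφ₁
    exact congrArg (fun z : Q => (z : Ω)) hab
  have hbij : Function.Bijective (φ₁.codRestrict Q hval) :=
    ⟨hinj, Finite.injective_iff_surjective.mp hinj⟩
  have hβ : MulEquiv.ofBijective (φ₁.codRestrict Q hval) hbij ∈ F.autGroup Q := by
    rw [mem_autGroup_iff F hQ]
    have e : Q.subtype.comp (MulEquiv.ofBijective (φ₁.codRestrict Q hval) hbij).toMonoidHom = φ₁ := by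
      ext x
      rfl
    rw [e]
    exact hφ₁
  refine ⟨⟨_, hβ⟩, ?_⟩
  ext y
  obtain ⟨x, rfl⟩ := resHom_surjective α hQ y
  rw [rho_apply, resHom_coe]
  exact hind₁ x

theorem rho_autS {Q : Subgroup Ω} (hQ : Q ≤ S) (β : F.autGroup Q)
    (hβ : (β : MulAut Q) ∈ autInducedBy S Q) :
    rho hS F F' α hα hQ β ∈ autInducedBy S' (imageAlong α Q) := by
  obtain ⟨s, hs, h⟩ := (mem_autInducedBy_iff S Q _).mp hβ
  rw [mem_autInducedBy_iff]
  refine ⟨α ⟨s, hs⟩, hα.1.1 _, fun y => ?_⟩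
  obtain ⟨x, rfl⟩ := resHom_surjective α hQ y
  rw [rho_apply, resHom_coe, resHom_coe]
  have : (⟨(((β : MulAut Q) x : Q) : Ω), hQ ((β : MulAut Q) x).2⟩ : S) =
      ⟨s, hs⟩ * ⟨x, hQ x.2⟩ * ⟨s, hs⟩⁻¹ := Subtype.ext (h x)
  rw [this, map_mul, map_mul, map_inv]

theorem rho_autS_surj {Q : Subgroup Ω} (hQ : Q ≤ S) (hK : kerSub α ≤ Q)
    (β' : MulAut (imageAlong α Q)) (hβ' : β' ∈ autInducedBy S' (imageAlong α Q)) :
    ∃ β : F.autGroup Q, (β : MulAut Q) ∈ autInducedBy S Q ∧ rho hS F F' α hα hQ β = β' := by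
  haveI : Finite Q := finite_of_le hQ
  obtain ⟨t, ht, h⟩ := (mem_autInducedBy_iff S' _ _).mp hβ'
  have htr : t ∈ α.range := hα.2.1 ▸ ht
  obtain ⟨s, rfl⟩ := htr
  have heq := pre_im α hQ hK
  have hsN : (s : Ω) ∈ Subgroup.normalizer (Q : Set Ω) := by
    apply mem_normalizer_of_conj_mem
    intro x hx
    apply heq.le
    rw [mem_pre]
    refine ⟨S.mul_mem (S.mul_mem s.2 (hQ hx)) (S.inv_mem s.2), ?_⟩
    have h1 := h (resHom α hQ ⟨x, hx⟩)
    rw [resHom_coe] at h1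
    have h2 : (⟨(s : Ω) * x * (s : Ω)⁻¹, S.mul_mem (S.mul_mem s.2 (hQ hx)) (S.inv_mem s.2)⟩ : S) =
        s * ⟨x, hQ hx⟩ * s⁻¹ := rfl
    rw [h2, map_mul, map_mul, map_inv, ← h1]
    exact (β' _).2
  have hc : conjAut Q s hsN ∈ autInducedBy S Q := conjAut_mem_autInducedBy s.2 hsN
  refine ⟨⟨_, autInducedBy_le_autGroup F hQ hc⟩, hc, ?_⟩
  ext y
  obtain ⟨x, rfl⟩ := resHom_surjective α hQ y
  rw [rho_apply, resHom_coe, h, resHom_coe]
  have h2 : (⟨((conjAut Q s hsN x : Q) : Ω), hQ (conjAut Q s hsN x).2⟩ : S) =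
      s * ⟨x, hQ x.2⟩ * s⁻¹ := rfl
  show α ⟨((conjAut Q s hsN x : Q) : Ω), _⟩ = _
  rw [h2, map_mul, map_mul, map_inv]

include hS hα in
/-- Fully automized subgroups containing the kernel have fully automized images. -/
theorem isFullyAutomized_image {Q : Subgroup Ω} (hK : kerSub α ≤ Q)
    (hfa : F.IsFullyAutomized p Q) : F'.IsFullyAutomized p (imageAlong α Q) := by
  obtain ⟨hQ, R, hR⟩ := hfa
  haveI : Finite Q := finite_of_le hQ
  refine ⟨im_le_S' F F' α hα Q, ?_⟩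
  let ρ' : F.autGroup Q →* F'.autGroup (imageAlong α Q) :=
    (rho hS F F' α hα hQ).codRestrict _ (rho_mem hS F F' α hα hQ)
  have hsurj : Function.Surjective ρ' := by
    rintro ⟨β', hβ'⟩
    obtain ⟨β, hβ⟩ := rho_surj hS F F' α hα hQ hK β' hβ'
    exact ⟨β, Subtype.ext hβ⟩
  refine ⟨R.mapSurjective hsurj, ?_⟩
  rw [Sylow.coe_mapSurjective, hR]
  ext ⟨β', hβ'⟩
  rw [Subgroup.mem_subgroupOf]
  constructor
  · rintro ⟨β, hβ, hββ'⟩
    have : β' = rho hS F F' α hα hQ β := congrArg Subtype.val hββ'.symm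
    show β' ∈ autInducedBy S' (imageAlong α Q)
    rw [this]
    exact rho_autS hS F F' α hα hQ β (Subgroup.mem_subgroupOf.mp hβ)
  · intro h
    obtain ⟨β, hβ, hββ'⟩ := rho_autS_surj hS F F' α hα hQ hK β' h
    exact ⟨β, Subgroup.mem_subgroupOf.mpr hβ, Subtype.ext hββ'⟩


/-- Two `F`-automorphisms of `Q` inducing the same automorphism of the image differ by an element
of the kernel of `rho`. -/
theorem inv_mul_mem_ker_rho {Q : Subgroup Ω} (hQ : Q ≤ S) (β₁ β₂ : F.autGroup Q)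
    (h : ∀ q : Q, α ⟨((β₁ : MulAut Q) q : Q), hQ ((β₁ : MulAut Q) q).2⟩ =
      α ⟨((β₂ : MulAut Q) q : Q), hQ ((β₂ : MulAut Q) q).2⟩) :
    β₁⁻¹ * β₂ ∈ (rho hS F F' α hα hQ).ker := by
  rw [MonoidHom.mem_ker, map_mul, map_inv, inv_mul_eq_one]
  ext y
  obtain ⟨x, rfl⟩ := resHom_surjective α hQ y
  rw [rho_apply, rho_apply, resHom_coe, resHom_coe]
  exact h x

theorem ker_rho_apply {Q : Subgroup Ω} (hQ : Q ≤ S) (β : F.autGroup Q)
    (hβ : β ∈ (rho hS F F' α hα hQ).ker) (q : Q) :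
    α ⟨((β : MulAut Q) q : Q), hQ ((β : MulAut Q) q).2⟩ = α ⟨q, hQ q.2⟩ := by
  rw [MonoidHom.mem_ker] at hβ
  have h1 := rho_apply hS F F' α hα hQ β q
  rw [hβ] at h1
  have h2 := congrArg (fun z : imageAlong α Q => (z : Ω')) h1
  simp only [MulAut.one_apply, resHom_coe] at h2
  exact h2.symm

end Fusion

end Cfsg.Agent.Lib.Helper85
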