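import Cfsg.Agent.Lib.Helper85.Morphism

set_option autoImplicit false
set_option maxHeartbeats 400000

namespace Cfsg.Agent.Lib.Helper85

open Cfsg Cfsg.FusionSystem Cfsg.Agent.Lib.Helper87 Cfsg.Agent.S5132

variable {Ω : Type*} [Group Ω] {S : Subgroup Ω} {Ω' : Type*} [Group Ω'] {S' : Subgroup Ω'}

variable [Finite S] {p : ℕ} [Fact p.Prime] (hS : IsPGroup p S) (F : FusionSystem S)
  (F' : FusionSystem S') (α : S →* Ω') (hα : F.IsSurjectiveMorphism F' α)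

include hS hα in
/-- a lift of a map of `F'` onto `α(Q)` has range `Q` (when `Q` contains the kernel). -/
theorem range_lift_eq {Q : Subgroup Ω} (hQ : Q ≤ S) (hK : kerSub α ≤ Q) {R' : Subgroup Ω'}
    (hR'S' : R' ≤ S') {φ' : R' →* Ω'} (hr' : φ'.range = imageAlong α Q)
    {φ : ↥(preimageAlong α R') →* Ω} (hφ : φ ∈ F.Hom (preimageAlong α R'))
    (hφS : ∀ x, φ x ∈ S) (hR' : ∀ x : ↥(preimageAlong α R'), α ⟨x, pre_le α R' x.2⟩ ∈ R')
    (hind : ∀ x : ↥(preimageAlong α R'),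
      φ' ⟨α ⟨x, pre_le α R' x.2⟩, hR' x⟩ = α ⟨φ x, hφS x⟩) : φ.range = Q := by
  have hKsc := kerSub_stronglyClosed hS F F' α hα
  have hrange : α.range = S' := hα.2.1
  have hKR : kerSub α ≤ preimageAlong α R' := kerSub_le_pre α R'
  have heqQ := pre_im α hQ hK
  apply le_antisymm
  · rintro _ ⟨x, rfl⟩
    apply heqQ.le
    rw [mem_pre]
    refine ⟨hφS x, ?_⟩
    rw [← hind x, ← hr']
    exact ⟨_, rfl⟩
  · intro y hy
    have h1 : α ⟨y, hQ hy⟩ ∈ φ'.range := by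
      rw [hr']; exact mem_im.mpr ⟨⟨y, hQ hy⟩, hy, rfl⟩
    obtain ⟨r', hr'y⟩ := h1
    have h2 : (r' : Ω') ∈ α.range := hrange ▸ hR'S' r'.2
    obtain ⟨s, hs⟩ := h2
    have hsR : (s : Ω) ∈ preimageAlong α R' := mem_pre.mpr ⟨s.2, by rw [hs]; exact r'.2⟩
    have h3 := hind ⟨s, hsR⟩
    have e : (⟨α ⟨(s : Ω), pre_le α R' hsR⟩, hR' ⟨s, hsR⟩⟩ : R') = r' := Subtype.ext hs
    rw [e, hr'y] at h3
    have hk : (φ ⟨s, hsR⟩)⁻¹ * y ∈ kerSub α := by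
      rw [mem_kerSub]
      refine ⟨S.mul_mem (S.inv_mem (hφS _)) (hQ hy), ?_⟩
      have : (⟨(φ ⟨s, hsR⟩)⁻¹ * y, S.mul_mem (S.inv_mem (hφS _)) (hQ hy)⟩ : S) =
          ⟨φ ⟨s, hsR⟩, hφS _⟩⁻¹ * ⟨y, hQ hy⟩ := rfl
      rw [this, map_mul, map_inv, ← h3, inv_mul_cancel]
    obtain ⟨k₀, hk₀, hk₀e⟩ := exists_preimage_S₀ F (kerSub α) hKsc hKR hφ hk
    refine ⟨⟨s, hsR⟩ * ⟨k₀, hKR hk₀⟩, ?_⟩
    rw [map_mul, hk₀e]; group



/-- A normal subgroup of a subgroup `A`, pushed to the ambient group, is normalized by `A`. -/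
theorem le_normalizer_map_subtype {G : Type*} [Group G] (A : Subgroup G) (N : Subgroup A)
    [hn : N.Normal] : A ≤ Subgroup.normalizer ((N.map A.subtype : Subgroup G) : Set G) := by
  have key : ∀ γ ∈ A, ∀ β ∈ N.map A.subtype, γ * β * γ⁻¹ ∈ N.map A.subtype := by
    rintro γ hγ _ ⟨b, hb, rfl⟩
    exact ⟨⟨γ, hγ⟩ * b * ⟨γ, hγ⟩⁻¹, hn.conj_mem b hb _, rfl⟩
  intro γ hγ
  rw [Subgroup.mem_normalizer_iff]
  intro β
  constructor
  · exact key γ hγ β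
  · intro h
    have := key γ⁻¹ (A.inv_mem hγ) _ h
    have e1 : γ⁻¹ * (γ * β * γ⁻¹) * γ⁻¹⁻¹ = β := by group
    rwa [e1] at this

/-- The automorphisms in `Aut_F(Q)` inducing the identity on `α(Q)`. -/
noncomputable def kerRho {Q : Subgroup Ω} (hQ : Q ≤ S) : Subgroup (MulAut Q) :=
  ((rho hS F F' α hα hQ).ker).map (F.autGroup Q).subtype

theorem kerRho_le {Q : Subgroup Ω} (hQ : Q ≤ S) : kerRho hS F F' α hα hQ ≤ F.autGroup Q := by
  rintro _ ⟨β, -, rfl⟩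
  exact β.2

theorem autGroup_le_normalizer_kerRho {Q : Subgroup Ω} (hQ : Q ≤ S) :
    F.autGroup Q ≤
      Subgroup.normalizer ((kerRho hS F F' α hα hQ : Subgroup (MulAut Q)) : Set (MulAut Q)) := by
  haveI : ((rho hS F F' α hα hQ).ker).Normal := MonoidHom.normal_ker _
  exact le_normalizer_map_subtype _ _

theorem inv_mul_mem_kerRho {Q : Subgroup Ω} (hQ : Q ≤ S) {β₁ β₂ : MulAut Q}
    (h₁ : β₁ ∈ F.autGroup Q) (h₂ : β₂ ∈ F.autGroup Q)
    (h : ∀ q : Q, α ⟨(β₁ q : Q), hQ (β₁ q).2⟩ = α ⟨(β₂ q : Q), hQ (β₂ q).2⟩) :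
    β₁⁻¹ * β₂ ∈ kerRho hS F F' α hα hQ := by
  have hker := inv_mul_mem_ker_rho hS F F' α hα hQ ⟨β₁, h₁⟩ ⟨β₂, h₂⟩ h
  have h3 := Subgroup.mem_map_of_mem (F.autGroup Q).subtype hker
  rw [map_mul, map_inv] at h3
  exact h3

theorem kerRho_apply {Q : Subgroup Ω} (hQ : Q ≤ S) {β : MulAut Q}
    (hβ : β ∈ kerRho hS F F' α hα hQ) (q : Q) :
    α ⟨(β q : Q), hQ (β q).2⟩ = α ⟨q, hQ q.2⟩ := by
  obtain ⟨b, hb, rfl⟩ := hβ
  exact ker_rho_apply hS F F' α hα hQ b hb q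

/-- Step (a): conjugation by an element of the preimage of the extender, transported to `Q`,
lies in `Aut_S(Q) · ker ρ`. -/
theorem stepa {Q : Subgroup Ω} (hQ : Q ≤ S) (hK : kerSub α ≤ Q) {R' : Subgroup Ω'}
    {φ' : R' →* Ω'} (hr' : φ'.range = imageAlong α Q)
    {φ : ↥(preimageAlong α R') →* Ω} (hφ : φ ∈ F.Hom (preimageAlong α R'))
    (hφS : ∀ x, φ x ∈ S) (hR' : ∀ x : ↥(preimageAlong α R'), α ⟨x, pre_le α R' x.2⟩ ∈ R')
    (hind : ∀ x : ↥(preimageAlong α R'),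
      φ' ⟨α ⟨x, pre_le α R' x.2⟩, hR' x⟩ = α ⟨φ x, hφS x⟩)
    (hr : φ.range = Q) (e : ↥(preimageAlong α R') ≃* Q) (he : ∀ x, ((e x : Q) : Ω) = φ x)
    {g : Ω} (hg : g ∈ preimageAlong α (extender S' R' φ')) :
    ∃ hgN : g ∈ Subgroup.normalizer ((preimageAlong α R' : Subgroup Ω) : Set Ω),
      MulAut.congr e (conjAut (preimageAlong α R') g hgN) ∈
        autInducedBy S Q ⊔ kerRho hS F F' α hα hQ := by
  haveI : Finite Q := finite_of_le hQ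
  have hrange : α.range = S' := hα.2.1
  have heqQ := pre_im α hQ hK
  have hRS : preimageAlong α R' ≤ S := pre_le α R'
  haveI : Finite ↥(preimageAlong α R') := finite_of_le hRS
  have hASA : autInducedBy S Q ≤ F.autGroup Q := autInducedBy_le_autGroup F hQ
  obtain ⟨hgS, hαg⟩ := mem_pre.mp hg
  obtain ⟨-, hαgN, h', hh'S', Hh'⟩ := (mem_extender_iff φ').mp hαg
  have hgN : g ∈ Subgroup.normalizer ((preimageAlong α R' : Subgroup Ω) : Set Ω) := by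
    apply mem_normalizer_of_conj_mem
    intro x hx
    obtain ⟨hxS, hαx⟩ := mem_pre.mp hx
    rw [mem_pre]
    refine ⟨S.mul_mem (S.mul_mem hgS hxS) (S.inv_mem hgS), ?_⟩
    have : (⟨g * x * g⁻¹, S.mul_mem (S.mul_mem hgS hxS) (S.inv_mem hgS)⟩ : S) =
        ⟨g, hgS⟩ * ⟨x, hxS⟩ * ⟨g, hgS⟩⁻¹ := rfl
    rw [this, map_mul, map_mul, map_inv]
    exact (Subgroup.mem_normalizer_iff.mp hαgN _).mp hαx
  have hh'r : h' ∈ α.range := hrange ▸ hh'S'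
  obtain ⟨h, rfl⟩ := hh'r
  -- the basic computation
  have hcomp : ∀ x : ↥(preimageAlong α R'),
      α ⟨φ (conjAut _ g hgN x), hφS _⟩ = α h * α ⟨φ x, hφS x⟩ * (α h)⁻¹ := by
    intro x
    have hx' : α ⟨g, hgS⟩ * ((⟨α ⟨x, hRS x.2⟩, hR' x⟩ : R') : Ω') * (α ⟨g, hgS⟩)⁻¹ ∈ R' :=
      (Subgroup.mem_normalizer_iff.mp hαgN _).mp (hR' x)
    have h1 := Hh' ⟨α ⟨x, hRS x.2⟩, hR' x⟩ hx'
    rw [hind x] at h1
    rw [← h1, ← hind (conjAut _ g hgN x)]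
    congr 1
    apply Subtype.ext
    show α ⟨((conjAut _ g hgN x : ↥(preimageAlong α R')) : Ω), _⟩ = _
    have : (⟨((conjAut _ g hgN x : ↥(preimageAlong α R')) : Ω), hRS (conjAut _ g hgN x).2⟩ : S) =
        ⟨g, hgS⟩ * ⟨x, hRS x.2⟩ * ⟨g, hgS⟩⁻¹ := rfl
    rw [this, map_mul, map_mul, map_inv]
  have hhN : (h : Ω) ∈ Subgroup.normalizer (Q : Set Ω) := by
    apply mem_normalizer_of_conj_mem
    intro q hq
    apply heqQ.le
    rw [mem_pre]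
    refine ⟨S.mul_mem (S.mul_mem h.2 (hQ hq)) (S.inv_mem h.2), ?_⟩
    obtain ⟨x, hx⟩ : ∃ x, φ x = q := by rw [← hr] at hq; exact hq
    subst hx
    have : (⟨(h : Ω) * φ x * (h : Ω)⁻¹, S.mul_mem (S.mul_mem h.2 (hQ hq)) (S.inv_mem h.2)⟩ : S) =
        h * ⟨φ x, hφS x⟩ * h⁻¹ := Subtype.ext rfl
    rw [this, map_mul, map_mul, map_inv, ← hcomp x, ← hind, ← hr']
    exact ⟨_, rfl⟩
  refine ⟨hgN, ?_⟩
  have hlamA : MulAut.congr e (conjAut (preimageAlong α R') g hgN) ∈ F.autGroup Q :=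
    autGroup_congr_mem F hφ hr e he
      (autInducedBy_le_autGroup F hRS (conjAut_mem_autInducedBy hgS hgN))
  have hetaAS : conjAut Q h hhN ∈ autInducedBy S Q := conjAut_mem_autInducedBy h.2 hhN
  have hmemC := inv_mul_mem_kerRho hS F F' α hα hQ (hASA hetaAS) hlamA (by
    intro q
    obtain ⟨x, rfl⟩ := e.surjective q
    have h2 : MulAut.congr e (conjAut (preimageAlong α R') g hgN) (e x) =
        e (conjAut (preimageAlong α R') g hgN x) := by simp [MulAut.congr]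
    have h3 : (⟨((MulAut.congr e (conjAut (preimageAlong α R') g hgN) (e x) : Q) : Ω),
        hQ (MulAut.congr e (conjAut (preimageAlong α R') g hgN) (e x)).2⟩ : S) =
        ⟨φ (conjAut _ g hgN x), hφS _⟩ := by
      apply Subtype.ext
      show ((MulAut.congr e (conjAut (preimageAlong α R') g hgN) (e x) : Q) : Ω) = _
      rw [h2, he]
    rw [h3, hcomp x]
    have h4 : (⟨((conjAut Q h hhN (e x) : Q) : Ω), hQ (conjAut Q h hhN (e x)).2⟩ : S) =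
        h * ⟨φ x, hφS x⟩ * h⁻¹ := by
      apply Subtype.ext
      show (h : Ω) * ((e x : Q) : Ω) * (h : Ω)⁻¹ = (h : Ω) * φ x * (h : Ω)⁻¹
      rw [he]
    rw [h4, map_mul, map_mul, map_inv])
  have e5 : MulAut.congr e (conjAut (preimageAlong α R') g hgN) = conjAut Q h hhN *
      ((conjAut Q h hhN)⁻¹ * MulAut.congr e (conjAut (preimageAlong α R') g hgN)) := by group
  rw [e5]
  exact Subgroup.mul_mem_sup hetaAS hmemC

end Cfsg.Agent.Lib.Helper85
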