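import Mathlib
import Cfsg.Prelude.Def_Solvable
import Cfsg.Prelude.Def_Transfer

set_option autoImplicit false

/-!
Group-theoretic lemmas for normal subsystems of fusion systems of groups of characteristic `p`:
the subgroup of elements acting trivially on `Q/N`, stability groups are `p`-groups, coprime tricks.
-/

namespace Cfsg.Agent.Lib.Helper85.NS

open Subgroup

variable {G : Type*} [Group G]

/-- Elements `g` with `[g, Q] ≤ N`, for `N` normal. -/
def stabSub (Q N : Subgroup G) (hN : N.Normal) : Subgroup G where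
  carrier := {g | ∀ x ∈ Q, g * x * g⁻¹ * x⁻¹ ∈ N}
  one_mem' := by
    intro x _
    simp
  mul_mem' := by
    intro a b ha hb x hx
    have h1 := hN.conj_mem _ (hb x hx) a
    have h2 := N.mul_mem h1 (ha x hx)
    have e : a * (b * x * b⁻¹ * x⁻¹) * a⁻¹ * (a * x * a⁻¹ * x⁻¹) = a * b * x * (a * b)⁻¹ * x⁻¹ := by
      group
    rwa [e] at h2
  inv_mem' := by
    intro a ha x hx
    have h1 := hN.conj_mem _ (N.inv_mem (ha x hx)) a⁻¹
    have e : a⁻¹ * (a * x * a⁻¹ * x⁻¹)⁻¹ * a⁻¹⁻¹ = a⁻¹ * x * a⁻¹⁻¹ * x⁻¹ := by group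
    rwa [e] at h1

theorem mem_stabSub {Q N : Subgroup G} {hN : N.Normal} {g : G} :
    g ∈ stabSub Q N hN ↔ ∀ x ∈ Q, g * x * g⁻¹ * x⁻¹ ∈ N := Iff.rfl

theorem stabSub_normal (Q N : Subgroup G) (hN : N.Normal) (hQ : Q.Normal) :
    (stabSub Q N hN).Normal := by
  constructor
  intro n hn g x hx
  have hy : g⁻¹ * x * g ∈ Q := by
    have := hQ.conj_mem x hx g⁻¹
    simpa using this
  have h1 := hN.conj_mem _ (hn _ hy) g
  have e : g * (n * (g⁻¹ * x * g) * n⁻¹ * (g⁻¹ * x * g)⁻¹) * g⁻¹ =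
      g * n * g⁻¹ * x * (g * n * g⁻¹)⁻¹ * x⁻¹ := by group
  rwa [e] at h1

/-- Coprime stabilizing: if `a = [g,x]` satisfies `[g,a] ∈ N` and the order of `a` is prime to the (finite)
order of `g`, then `a ∈ N`. -/
theorem mem_of_coprime_stab {N : Subgroup G} (hN : N.Normal) {g x : G}
    (h2 : g * (g * x * g⁻¹ * x⁻¹) * g⁻¹ * (g * x * g⁻¹ * x⁻¹)⁻¹ ∈ N)
    (hg : 0 < orderOf g) (hcop : (orderOf g).Coprime (orderOf (g * x * g⁻¹ * x⁻¹))) :
    g * x * g⁻¹ * x⁻¹ ∈ N := by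
  have := hN
  set a := g * x * g⁻¹ * x⁻¹ with ha
  let π := QuotientGroup.mk' N
  have hga : π g * π a * (π g)⁻¹ = π a := by
    have : π (g * a * g⁻¹ * a⁻¹) = 1 := (QuotientGroup.eq_one_iff _).mpr h2
    simp only [map_mul, map_inv] at this
    have h3 : π g * π a * (π g)⁻¹ * (π a)⁻¹ * π a = 1 * π a := by rw [this]
    simpa using h3
  have hgx : π g * π x * (π g)⁻¹ = π a * π x := by
    have : π a = π g * π x * (π g)⁻¹ * (π x)⁻¹ := by
      rw [ha]; simp only [map_mul, map_inv]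
    rw [this]; group
  have hpow : ∀ n : ℕ, (π g) ^ n * π x * ((π g) ^ n)⁻¹ = (π a) ^ n * π x := by
    intro n
    induction n with
    | zero => simp
    | succ n ih =>
      have h4 : (π g) ^ (n + 1) * π x * ((π g) ^ (n + 1))⁻¹ =
          π g * ((π g) ^ n * π x * ((π g) ^ n)⁻¹) * (π g)⁻¹ := by
        rw [pow_succ']; group
      rw [h4, ih]
      have h5 : π g * ((π a) ^ n * π x) * (π g)⁻¹ =
          (π g * π a * (π g)⁻¹) ^ n * (π g * π x * (π g)⁻¹) := by
        rw [conj_pow]; group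
      rw [h5, hga, hgx, pow_succ]; group
  have h6 := hpow (orderOf g)
  have hgo : (π g) ^ (orderOf g) = 1 := by rw [← map_pow, pow_orderOf_eq_one, map_one]
  rw [hgo] at h6
  have h7 : (π a) ^ (orderOf g) = 1 := by
    have : (π a) ^ (orderOf g) * π x = 1 * π x := by rw [← h6]; simp
    exact mul_right_cancel this
  have h8 : a ^ (orderOf g) ∈ N := by
    rw [← QuotientGroup.eq_one_iff, ← h7]; rfl
  obtain ⟨m, hm⟩ := exists_pow_eq_self_of_coprime hcop
  rw [← hm]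
  exact N.pow_mem h8 m

/-- In a normal subgroup `X` a `p'`-element that is a product of an element of `X` with a `p`-element lies in `X`. -/
theorem mem_of_coprime_of_mul {p : ℕ} (X : Subgroup G) (hX : X.Normal) {a x ξ : G} (hx : x ∈ X)
    (ha : a = x * ξ) (hξ : ∃ j : ℕ, ξ ^ (p ^ j) = 1) (hcop : (orderOf a).Coprime p) : a ∈ X := by
  have := hX
  let π := QuotientGroup.mk' X
  obtain ⟨j, hj⟩ := hξ
  have h1 : π a = π ξ := by
    rw [ha, map_mul]
    have : π x = 1 := (QuotientGroup.eq_one_iff _).mpr hx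
    rw [this, one_mul]
  have h2 : (π a) ^ (p ^ j) = 1 := by rw [h1, ← map_pow, hj, map_one]
  have h3 : orderOf (π a) ∣ p ^ j := orderOf_dvd_of_pow_eq_one h2
  have h4 : orderOf (π a) ∣ orderOf a := orderOf_map_dvd π a
  have h5 : (orderOf (π a)).Coprime (p ^ j) := (Nat.Coprime.coprime_dvd_left h4 hcop).pow_right j
  have h6 : orderOf (π a) = 1 := Nat.Coprime.eq_one_of_dvd h5 h3
  rw [orderOf_eq_one_iff] at h6
  exact (QuotientGroup.eq_one_iff _).mp h6

/-- Variant inside a subgroup `Y` normalizing `X`: a `p'`-element `a = x ξ` with `x ∈ X` and `ξ ∈ Y` a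
`p`-element lies in `X`. -/
theorem mem_of_coprime_of_mul' {p : ℕ} {X Y : Subgroup G}
    (hnorm : ∀ y ∈ Y, ∀ x ∈ X, y * x * y⁻¹ ∈ X) {a x ξ : G} (hx : x ∈ X) (hξY : ξ ∈ Y)
    (ha : a = x * ξ) (hξ : ∃ j : ℕ, ξ ^ (p ^ j) = 1) (hcop : (orderOf a).Coprime p) : a ∈ X := by
  obtain ⟨j, hj⟩ := hξ
  have key : ∀ n : ℕ, a ^ n * (ξ ^ n)⁻¹ ∈ X := by
    intro n
    induction n with
    | zero => simp
    | succ n ih =>
      have h1 := hnorm _ (Y.pow_mem hξY n) x hx
      have e : a ^ (n + 1) * (ξ ^ (n + 1))⁻¹ = (a ^ n * (ξ ^ n)⁻¹) * (ξ ^ n * x * (ξ ^ n)⁻¹) := by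
        rw [pow_succ, pow_succ, ha]; group
      rw [e]
      exact X.mul_mem ih h1
  have h2 := key (p ^ j)
  rw [hj, inv_one, mul_one] at h2
  have hc : (p ^ j).Coprime (orderOf a) := (hcop.pow_right j).symm
  obtain ⟨m, hm⟩ := exists_pow_eq_self_of_coprime hc
  rw [← hm]
  exact X.pow_mem h2 m

/-- Powers of an element stabilizing `Q ≥ N ≥ 1` (centralizing `N`). -/
theorem conj_pow_stab {Q N : Subgroup G} (hN : N.Normal) {g : G} (hg : g ∈ stabSub Q N hN)
    (hc : g ∈ centralizer (N : Set G)) {x : G} (hx : x ∈ Q) (n : ℕ) :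
    g ^ n * x * (g ^ n)⁻¹ = (g * x * g⁻¹ * x⁻¹) ^ n * x := by
  induction n with
  | zero => simp
  | succ n ih =>
    have h4 : g ^ (n + 1) * x * (g ^ (n + 1))⁻¹ = g * (g ^ n * x * (g ^ n)⁻¹) * g⁻¹ := by
      rw [pow_succ']; group
    rw [h4, ih]
    have hδ : (g * x * g⁻¹ * x⁻¹) ^ n ∈ N := N.pow_mem (hg x hx) n
    have hcomm : (g * x * g⁻¹ * x⁻¹) ^ n * g = g * (g * x * g⁻¹ * x⁻¹) ^ n :=
      (mem_centralizer_iff.mp hc) _ hδ
    have h5 : g * ((g * x * g⁻¹ * x⁻¹) ^ n * x) * g⁻¹ =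
        (g * (g * x * g⁻¹ * x⁻¹) ^ n) * (x * g⁻¹) := by group
    rw [h5, ← hcomm, pow_succ]
    group

/-- The stability group of the chain `Q ≥ N ≥ 1` lies in `O_p(G)` when `Q` is a normal `p`-subgroup
containing its centralizer. -/
theorem stabKer_le_pCore {p : ℕ} [Fact p.Prime] [Finite G] (Q N : Subgroup G) (hN : N.Normal)
    (hQ : Q.Normal) (hNQ : N ≤ Q) (hQp : IsPGroup p Q) (hC : centralizer (Q : Set G) ≤ Q) :
    stabSub Q N hN ⊓ centralizer (N : Set G) ≤ Cfsg.pCore p G := by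
  have hN' := hN
  have hS := stabSub_normal Q N hN hQ
  have hK : (stabSub Q N hN ⊓ centralizer (N : Set G)).Normal := inferInstance
  have hNp : IsPGroup p N := hQp.to_le hNQ
  obtain ⟨a, ha⟩ := (IsPGroup.iff_card).mp hNp
  obtain ⟨b, hb⟩ := (IsPGroup.iff_card).mp hQp
  have hKp : IsPGroup p (stabSub Q N hN ⊓ centralizer (N : Set G) : Subgroup G) := by
    rintro ⟨g, hg1, hg2⟩
    refine ⟨a + b, ?_⟩
    apply Subtype.ext
    rw [Subgroup.coe_pow]
    show g ^ p ^ (a + b) = 1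
    have h1 : g ^ (p ^ a) ∈ centralizer (Q : Set G) := by
      rw [mem_centralizer_iff]
      intro x hx
      have h2 := conj_pow_stab hN hg1 hg2 hx (p ^ a)
      have h3 : (g * x * g⁻¹ * x⁻¹) ^ (p ^ a) = 1 := by
        have := pow_card_eq_one' (G := N) (x := ⟨_, hg1 x hx⟩)
        rw [ha] at this
        exact congrArg Subtype.val this
      rw [h3, one_mul] at h2
      calc x * g ^ p ^ a = g ^ p ^ a * x * (g ^ p ^ a)⁻¹ * g ^ p ^ a := by rw [h2]
        _ = g ^ p ^ a * x := by group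
    have h4 : g ^ (p ^ a) ∈ Q := hC h1
    have h5 : (g ^ (p ^ a)) ^ (p ^ b) = 1 := by
      have := pow_card_eq_one' (G := Q) (x := ⟨_, h4⟩)
      rw [hb] at this
      exact congrArg Subtype.val this
    rw [pow_add, pow_mul]
    exact h5
  exact le_sSup ⟨hK, hKp⟩

end Cfsg.Agent.Lib.Helper85.NS
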