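import Cfsg.Agent.Lib.Helper85.NS1
import Cfsg.Agent.Lib.Helper85.DetAut
import Cfsg.Agent.Lib.Helper85.SimpleCrit
import Cfsg.Agent.Lib.Helper85.RelSaturated
import Cfsg.Agent.Lib.Helper85.Saturated
import Cfsg.Agent.Lib.Helper87.Lemma26
import Cfsg.Agent.Lib.Helper87.EssentialCrit
import Cfsg.Agent.Lib.Helper87.HypAct
import Cfsg.Agent.Lib.Helper49.PCoreBasics
import Cfsg.Agent.Lib.Helper48.PCore
import Cfsg.Agent.S5119
import Cfsg.Agent.S5093

set_option autoImplicit false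

/-!
Normal subsystems of `F_S(G)` for `G` of characteristic `p`: construction of the normal subgroup.
-/

namespace Cfsg.Agent.Lib.Helper85.NS

open Subgroup Cfsg Cfsg.FusionSystem

variable {G : Type*} [Group G]

/-- closure of a conjugation invariant set is normal -/
theorem closure_normal_of_conj_mem {s : Set G} (h : ∀ g : G, ∀ x ∈ s, g * x * g⁻¹ ∈ s) :
    (closure s).Normal := by
  constructor
  intro n hn g
  have h1 : (closure s).map (MulAut.conj g).toMonoidHom ≤ closure s := by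
    rw [MonoidHom.map_closure, closure_le]
    rintro _ ⟨x, hx, rfl⟩
    exact subset_closure (h g x hx)
  exact h1 ⟨n, hn, rfl⟩

/-- Elements of `G` inducing on `U` an automorphism lying in `Aut_E(U)`. -/
def autSub {T : Subgroup G} (E : FusionSystem T) (U : Subgroup G) : Subgroup G where
  carrier := {g | ∃ β ∈ E.autGroup U, ∀ x : U, ((β x : U) : G) = g * x * g⁻¹}
  one_mem' := ⟨1, one_mem _, fun x => by simp⟩
  mul_mem' := by
    rintro a b ⟨β, hβ, h1⟩ ⟨γ, hγ, h2⟩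
    refine ⟨β * γ, mul_mem hβ hγ, fun x => ?_⟩
    rw [MulAut.mul_apply, h1, h2]
    group
  inv_mem' := by
    rintro a ⟨β, hβ, h1⟩
    refine ⟨β⁻¹, inv_mem hβ, fun x => ?_⟩
    have h := h1 (β⁻¹ x)
    rw [MulAut.apply_inv_self] at h
    rw [h]
    group

theorem mem_autSub {T : Subgroup G} {E : FusionSystem T} {U : Subgroup G} {g : G} :
    g ∈ autSub E U ↔ ∃ β ∈ E.autGroup U, ∀ x : U, ((β x : U) : G) = g * x * g⁻¹ := Iff.rfl

/-- the inverse of a conjugation automorphism -/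
theorem conjAut_inv_coe (U : Subgroup G) (g : G) (hg : g ∈ normalizer (U : Set G)) (x : U) :
    (((Helper87.conjAut U g hg)⁻¹ x : U) : G) = g⁻¹ * x * g := by
  have h := Helper87.conjAut_coe U g hg ((Helper87.conjAut U g hg)⁻¹ x)
  rw [MulAut.apply_inv_self] at h
  rw [h]
  group

theorem autSub_normal {S T : Subgroup G} (E : FusionSystem T) (hTS : T ≤ S)
    (hinv : StrongInv E (groupFusionSystem S)) {U : Subgroup G} (hUT : U ≤ T) (hU : U.Normal) :
    (autSub E U).Normal := by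
  constructor
  rintro n ⟨β, hβ, h1⟩ g
  have hg : g ∈ normalizer (U : Set G) := by
    rw [Subgroup.normalizer_eq_top_iff.mpr hU]; exact mem_top g
  have hγ : Helper87.conjAut U g hg ∈ (groupFusionSystem S).autGroup U := by
    rw [autGroup_groupFusionSystem (hUT.trans hTS)]
    exact Helper85.mem_autInducedBy_iff.mpr ⟨g, mem_top g, fun x => Helper87.conjAut_coe U g hg x⟩
  refine ⟨_, autE_conj_mem E (groupFusionSystem S) hTS hinv hUT hβ hγ, fun x => ?_⟩
  rw [MulAut.mul_apply, MulAut.mul_apply, Helper87.conjAut_coe, h1, conjAut_inv_coe]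
  group

section Setup

variable [Finite G] {p : ℕ} [Fact p.Prime]

/-- The hypotheses: `G` of characteristic `p`, `E` normal in `F_S(G)` over `T`. -/
structure Hyp (p : ℕ) [Fact p.Prime] (S : Sylow p G) (T : Subgroup G) (E : FusionSystem T) : Prop where
  hG : centralizer ((pCore p G : Subgroup G) : Set G) ≤ pCore p G
  hTS : T ≤ S
  hE : E.IsNormalIn (groupFusionSystem (S : Subgroup G)) p

/-- conjugates inside `S` of elements of a strongly closed subgroup stay in it -/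
theorem sc_conj {S T : Subgroup G} (hT : (groupFusionSystem S).StronglyClosed T) {t g : G} (ht : t ∈ T)
    (hg : g * t * g⁻¹ ∈ S) : g * t * g⁻¹ ∈ T := by
  have hR : zpowers t ≤ T := zpowers_le.mpr ht
  have hφ : conjHom (zpowers t) g ∈ (groupFusionSystem S).Hom (zpowers t) := by
    apply conjHom_mem_groupFusionSystem (hR.trans hT.1)
    rw [MonoidHom.map_zpowers]
    exact zpowers_le.mpr hg
  exact hT.2 _ hR _ hφ ⟨t, mem_zpowers t⟩

namespace Hyp

variable {S : Sylow p G} {T : Subgroup G} {E : FusionSystem T} (h : Hyp p S T E)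
include h

theorem hSp : IsPGroup p (S : Subgroup G) := S.isPGroup'
theorem hTp : IsPGroup p T := h.hSp.to_le h.hTS
theorem hF : (groupFusionSystem (S : Subgroup G)).IsSaturated p := groupFusionSystem_isSaturated S
theorem hEsat : E.IsSaturated p := h.hE.1.1
theorem hinvar : E.IsInvariantIn (groupFusionSystem (S : Subgroup G)) := h.hE.1.2.2
theorem hsub : E.IsSubsystemOf (groupFusionSystem (S : Subgroup G)) := h.hinvar.1
theorem hsc : (groupFusionSystem (S : Subgroup G)).StronglyClosed T := h.hinvar.2.1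
theorem strongInv : StrongInv E (groupFusionSystem (S : Subgroup G)) :=
  (Cfsg.Agent.S5119.result p h.hSp _ h.hF E h.hsub h.hsc).mp h.hinvar

theorem Q_normal : (pCore p G).Normal := Helper49.pCore_normal' p G
theorem Q_pgroup : IsPGroup p (pCore p G) := Helper49.pCore_isPGroup' p G
theorem Q_le_S : pCore p G ≤ S := Helper48.pCore_le_sylow S

theorem T_conj_S {s t : G} (hs : s ∈ (S : Subgroup G)) (ht : t ∈ T) : s * t * s⁻¹ ∈ T :=
  sc_conj h.hsc ht ((S : Subgroup G).mul_mem ((S : Subgroup G).mul_mem hs (h.hTS ht))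
    ((S : Subgroup G).inv_mem hs))

theorem T0_normal : (T ⊓ pCore p G).Normal := by
  constructor
  rintro x ⟨hxT, hxQ⟩ g
  have hQ := h.Q_normal.conj_mem x hxQ g
  exact ⟨sc_conj h.hsc hxT (h.Q_le_S hQ), hQ⟩

/-- `H₁`: elements acting trivially on `Q/T₀` and inducing an `E`-automorphism on `T₀ = T ∩ Q`. -/
def H1 : Subgroup G :=
  stabSub (pCore p G) (T ⊓ pCore p G) h.T0_normal ⊓ autSub E (T ⊓ pCore p G)

theorem H1_normal : h.H1.Normal := by
  have h1 := stabSub_normal (pCore p G) (T ⊓ pCore p G) h.T0_normal h.Q_normal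
  have h2 := autSub_normal E h.hTS h.strongInv (inf_le_left : T ⊓ pCore p G ≤ T) h.T0_normal
  unfold H1
  infer_instance

theorem T_le_stabSub : T ≤ stabSub (pCore p G) (T ⊓ pCore p G) h.T0_normal := by
  intro t ht x hx
  constructor
  · have h1 : x * t⁻¹ * x⁻¹ ∈ T := h.T_conj_S (h.Q_le_S hx) (T.inv_mem ht)
    have h2 := T.mul_mem ht h1
    have e : t * (x * t⁻¹ * x⁻¹) = t * x * t⁻¹ * x⁻¹ := by group
    rwa [e] at h2
  · exact (pCore p G).mul_mem (h.Q_normal.conj_mem x hx t) ((pCore p G).inv_mem hx)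

theorem T_le_autSub : T ≤ autSub E (T ⊓ pCore p G) := by
  intro t ht
  have hn : t ∈ normalizer ((T ⊓ pCore p G : Subgroup G) : Set G) := by
    rw [Subgroup.normalizer_eq_top_iff.mpr h.T0_normal]; exact mem_top t
  refine ⟨Helper87.conjAut _ t hn, ?_, fun x => Helper87.conjAut_coe _ t hn x⟩
  apply Helper87.autInducedBy_le_autGroup E inf_le_left
  exact Helper85.mem_autInducedBy_iff.mpr ⟨t, ht, fun x => Helper87.conjAut_coe _ t hn x⟩

theorem T_le_H1 : T ≤ h.H1 := le_inf h.T_le_stabSub h.T_le_autSub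

theorem T0_fn : E.IsFullyNormalized (T ⊓ pCore p G) := by
  apply Helper87.fullyNormalized_of_le_normalizer E inf_le_left
  rw [Subgroup.normalizer_eq_top_iff.mpr h.T0_normal]
  exact le_top

theorem T0_fa : E.IsFullyAutomized p (T ⊓ pCore p G) :=
  (Helper87.fc_fa_of_fullyNormalized h.hTp E h.hEsat h.T0_fn).2

theorem T0_rec : E.IsReceptive (T ⊓ pCore p G) :=
  Helper87.receptive_of_fullyNormalized h.hTp E h.hEsat h.T0_fn

/-- `Aut_S(U) ∩ Aut_E(U) = Aut_T(U)` for `U` fully automized in `E`. -/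
theorem autS_inf_autE_le {U : Subgroup G} (hfa : E.IsFullyAutomized p U) {β : MulAut U}
    (hβE : β ∈ E.autGroup U) (hβS : β ∈ autInducedBy (S : Subgroup G) U) : β ∈ autInducedBy T U := by
  obtain ⟨hUT, R, hR⟩ := hfa
  have hB : IsPGroup p ((autInducedBy (S : Subgroup G) U).subgroupOf (E.autGroup U)) :=
    (Helper87.autInducedBy_isPGroup h.hSp U).comap_subtype
  have hRB : (R : Subgroup (E.autGroup U)) ≤ (autInducedBy (S : Subgroup G) U).subgroupOf (E.autGroup U) := by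
    rw [hR]
    intro a ha
    rw [mem_subgroupOf] at ha ⊢
    obtain ⟨g, hg, hga⟩ := (Helper87.mem_autInducedBy_iff T U _).mp ha
    exact (Helper87.mem_autInducedBy_iff _ U _).mpr ⟨g, h.hTS hg, hga⟩
  have heq := R.is_maximal' hB hRB
  have hmem : (⟨β, hβE⟩ : E.autGroup U) ∈ (autInducedBy (S : Subgroup G) U).subgroupOf (E.autGroup U) := by
    rw [mem_subgroupOf]; exact hβS
  rw [heq, hR, mem_subgroupOf] at hmem
  exact hmem

/-- The stability kernel lies in `Q`. -/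
theorem stabKer_le : stabSub (pCore p G) (T ⊓ pCore p G) h.T0_normal ⊓
    centralizer ((T ⊓ pCore p G : Subgroup G) : Set G) ≤ pCore p G :=
  stabKer_le_pCore _ _ h.T0_normal h.Q_normal inf_le_right h.Q_pgroup h.hG

/-- `S ∩ H₁ ≤ T Q`. -/
theorem inf_H1_le_mul {s : G} (hsS : s ∈ (S : Subgroup G)) (hsH : s ∈ h.H1) :
    ∃ t ∈ T, ∃ q ∈ pCore p G, s = t * q := by
  obtain ⟨hs1, β, hβ, hβs⟩ := Subgroup.mem_inf.mp hsH
  have hβS : β ∈ autInducedBy (S : Subgroup G) (T ⊓ pCore p G) :=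
    (Helper87.mem_autInducedBy_iff _ _ _).mpr ⟨s, hsS, hβs⟩
  obtain ⟨t, ht, hβt⟩ := (Helper87.mem_autInducedBy_iff _ _ _).mp (h.autS_inf_autE_le h.T0_fa hβ hβS)
  refine ⟨t, ht, t⁻¹ * s, ?_, by group⟩
  apply h.stabKer_le
  refine Subgroup.mem_inf.mpr ⟨?_, ?_⟩
  · exact Subgroup.mul_mem _ (Subgroup.inv_mem _ (h.T_le_stabSub ht)) hs1
  · rw [mem_centralizer_iff]
    intro x hx
    have e := (hβs ⟨x, hx⟩).symm.trans (hβt ⟨x, hx⟩)
    -- s x s⁻¹ = t x t⁻¹
    have e' : s * x * s⁻¹ = t * x * t⁻¹ := e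
    calc x * (t⁻¹ * s) = t⁻¹ * (t * x * t⁻¹) * s := by group
      _ = t⁻¹ * (s * x * s⁻¹) * s := by rw [e']
      _ = t⁻¹ * s * x := by group

/-- The key commutator computation: `x⁻¹ (g x g⁻¹) ∈ T` for `x ∈ S ∩ H₁`, `g ∈ H₁`, `g x g⁻¹ ∈ S`. -/
theorem comm_mem_T {x g : G} (hxS : x ∈ (S : Subgroup G)) (hxH : x ∈ h.H1)
    (hg : g ∈ stabSub (pCore p G) (T ⊓ pCore p G) h.T0_normal)
    (hgx : g * x * g⁻¹ ∈ (S : Subgroup G)) : x⁻¹ * (g * x * g⁻¹) ∈ T := by
  obtain ⟨t, ht, q, hq, rfl⟩ := h.inf_H1_le_mul hxS hxH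
  have hqS : q ∈ (S : Subgroup G) := h.Q_le_S hq
  have hgq : g * q * g⁻¹ ∈ pCore p G := h.Q_normal.conj_mem q hq g
  have hgt : g * t * g⁻¹ ∈ T := by
    apply sc_conj h.hsc ht
    have : g * t * g⁻¹ = (g * (t * q) * g⁻¹) * (g * q * g⁻¹)⁻¹ := by group
    rw [this]
    exact Subgroup.mul_mem _ hgx (Subgroup.inv_mem _ (h.Q_le_S hgq))
  have h1 : q⁻¹ * (t⁻¹ * (g * t * g⁻¹)) * q⁻¹⁻¹ ∈ T :=
    h.T_conj_S (Subgroup.inv_mem _ hqS) (Subgroup.mul_mem _ (Subgroup.inv_mem _ ht) hgt)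
  have h2 : q⁻¹ * (g * q * g⁻¹ * q⁻¹) * q⁻¹⁻¹ ∈ T :=
    (h.T0_normal.conj_mem _ (hg q hq) q⁻¹).1
  have e : (t * q)⁻¹ * (g * (t * q) * g⁻¹) =
      (q⁻¹ * (t⁻¹ * (g * t * g⁻¹)) * q⁻¹⁻¹) * (q⁻¹ * (g * q * g⁻¹ * q⁻¹) * q⁻¹⁻¹) := by group
  rw [e]
  exact Subgroup.mul_mem _ h1 h2

end Hyp

end Setup

end Cfsg.Agent.Lib.Helper85.NS
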