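import Cfsg.Agent.Lib.Helper85.NS2

set_option autoImplicit false

/-!
Normal subsystems of `F_S(G)` for `G` of characteristic `p`: the normal subgroup `H = O^p(H₁) T`,
`S ∩ H = T`, `H ⊴ G`.
-/

namespace Cfsg.Agent.Lib.Helper85.NS

open Subgroup Cfsg Cfsg.FusionSystem

variable {G : Type*} [Group G] [Finite G] {p : ℕ} [Fact p.Prime]

namespace Hyp

variable {S : Sylow p G} {T : Subgroup G} {E : FusionSystem T} (h : Hyp p S T E)
include h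

/-- `O^p(H₁)` as a subgroup of `G`. -/
def OpH1 : Subgroup G := closure {g | g ∈ h.H1 ∧ (orderOf g).Coprime p}

theorem OpH1_le_H1 : h.OpH1 ≤ h.H1 := (closure_le _).mpr (fun _ hg => hg.1)

theorem mem_OpH1_of_coprime {g : G} (hg : g ∈ h.H1) (hc : (orderOf g).Coprime p) : g ∈ h.OpH1 :=
  subset_closure ⟨hg, hc⟩

theorem OpH1_normal : h.OpH1.Normal := by
  apply closure_normal_of_conj_mem
  rintro g x ⟨hx, hc⟩
  refine ⟨h.H1_normal.conj_mem x hx g, ?_⟩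
  have : orderOf (g * x * g⁻¹) = orderOf x :=
    orderOf_injective (MulAut.conj g).toMonoidHom (MulAut.conj g).injective x
  rwa [this]

theorem OpH1_eq_map : h.OpH1 = (pResidual p ↥h.H1).map h.H1.subtype := by
  unfold OpH1 pResidual
  rw [MonoidHom.map_closure]
  congr 1
  ext g
  constructor
  · rintro ⟨hg, hc⟩
    refine ⟨⟨g, hg⟩, ?_, rfl⟩
    show (orderOf (⟨g, hg⟩ : h.H1)).Coprime p
    rwa [Subgroup.orderOf_mk]
  · rintro ⟨⟨g', hg'⟩, hc, rfl⟩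
    refine ⟨hg', ?_⟩
    have hc' : (orderOf (⟨g', hg'⟩ : h.H1)).Coprime p := hc
    rwa [Subgroup.orderOf_mk] at hc'

theorem sylIn_inf_H1 : SylIn p ((S : Subgroup G) ⊓ h.H1) h.H1 := by
  apply (sylIn_top S).inf_normal le_top le_top
  rw [Subgroup.normalizer_eq_top_iff.mpr h.H1_normal]

/-- `S ∩ O^p(H₁) ≤ T` (hyperfocal subgroup theorem in `H₁`). -/
theorem inf_OpH1_le : (S : Subgroup G) ⊓ h.OpH1 ≤ T := by
  obtain ⟨S', hS'⟩ := h.sylIn_inf_H1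
  have key := Cfsg.Agent.S5093.result p S'
  have hle : (groupFusionSystem (S' : Subgroup ↥h.H1)).hyperfocalSubgroup p ≤ T.subgroupOf h.H1 := by
    unfold hyperfocalSubgroup
    rw [closure_le]
    rintro y ⟨P, α, x, hP, -, rfl⟩
    have hα := (Helper87.mem_autGroup_iff _ hP α.1).mp α.2
    obtain ⟨-, -, g, hg⟩ := mem_groupFusionSystem_hom.mp hα
    rw [SetLike.mem_coe, mem_subgroupOf]
    have hPle : ∀ z : ↥h.H1, z ∈ P → (z : G) ∈ (S : Subgroup G) ⊓ h.H1 := by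
      intro z hz
      have := hP hz
      rw [hS'] at this
      exact mem_subgroupOf.mp this
    have hx := hPle _ x.2
    have hαx := hPle _ ((α : MulAut P) x).2
    have hgx : (((α : MulAut P) x : P) : ↥h.H1) = g * (x : ↥h.H1) * g⁻¹ := hg x
    have hgx' : (((((α : MulAut P) x : P) : ↥h.H1)) : G) = (g : G) * ((x : ↥h.H1) : G) * (g : G)⁻¹ := by
      rw [hgx]; rfl
    have := h.comm_mem_T hx.1 hx.2 (Subgroup.mem_inf.mp g.2).1 (by rw [← hgx']; exact hαx.1)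
    rw [← hgx'] at this
    exact this
  rintro y ⟨hyS, hyO⟩
  have hyH := h.OpH1_le_H1 hyO
  have hmem : (⟨y, hyH⟩ : ↥h.H1) ∈ (groupFusionSystem (S' : Subgroup ↥h.H1)).hyperfocalSubgroup p := by
    rw [key]
    refine Subgroup.mem_inf.mpr ⟨?_, ?_⟩
    · rw [hS', mem_subgroupOf]
      exact ⟨hyS, hyH⟩
    · rw [h.OpH1_eq_map] at hyO
      obtain ⟨z, hz, hzy⟩ := hyO
      have : z = ⟨y, hyH⟩ := Subtype.ext hzy
      rwa [← this]
  exact mem_subgroupOf.mp (hle hmem)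

/-- The normal subgroup `H = O^p(H₁) T`. -/
def H : Subgroup G := h.OpH1 ⊔ T

theorem T_le_H : T ≤ h.H := le_sup_right

theorem OpH1_le_H : h.OpH1 ≤ h.H := le_sup_left

theorem H_le_H1 : h.H ≤ h.H1 := sup_le h.OpH1_le_H1 h.T_le_H1

theorem mem_H_iff {x : G} : x ∈ h.H ↔ ∃ a ∈ h.OpH1, ∃ t ∈ T, x = a * t := by
  have := h.OpH1_normal
  unfold H
  rw [← SetLike.mem_coe, Subgroup.normal_mul]
  constructor
  · rintro ⟨a, ha, t, ht, rfl⟩
    exact ⟨a, ha, t, ht, rfl⟩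
  · rintro ⟨a, ha, t, ht, rfl⟩
    exact ⟨a, ha, t, ht, rfl⟩

theorem inf_H_eq : (S : Subgroup G) ⊓ h.H = T := by
  apply le_antisymm
  · rintro x ⟨hxS, hxH⟩
    obtain ⟨a, ha, t, ht, rfl⟩ := h.mem_H_iff.mp hxH
    have haS : a ∈ (S : Subgroup G) := by
      have : a = a * t * t⁻¹ := by group
      rw [this]
      exact Subgroup.mul_mem _ hxS (Subgroup.inv_mem _ (h.hTS ht))
    exact Subgroup.mul_mem _ (h.inf_OpH1_le ⟨haS, ha⟩) ht
  · exact le_inf h.hTS h.T_le_H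

/-- `H₁ = (S ∩ H₁) O^p(H₁)`. -/
theorem H1_decomp {k : G} (hk : k ∈ h.H1) :
    ∃ s ∈ (S : Subgroup G) ⊓ h.H1, ∃ b ∈ h.OpH1, k = s * b := by
  obtain ⟨S', hS'⟩ := h.sylIn_inf_H1
  obtain ⟨s, hs, b, hb, hsb⟩ := exists_sylow_mul_pResidual S' (⟨k, hk⟩ : ↥h.H1)
  rw [hS', mem_subgroupOf] at hs
  refine ⟨s, hs, b, ?_, congrArg Subtype.val hsb⟩
  rw [h.OpH1_eq_map]
  exact ⟨b, hb, rfl⟩

theorem T_conj_mem_H {t : G} (n : G) (ht : t ∈ T) : n * t * n⁻¹ ∈ h.H := by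
  have hL : T.map (cj n) ≤ h.H1 := by
    rintro _ ⟨y, hy, rfl⟩
    exact h.H1_normal.conj_mem y (h.T_le_H1 hy) n
  have hLp : IsPGroup p (T.map (cj n)) := h.hTp.map _
  obtain ⟨k, hk, hkL⟩ := h.sylIn_inf_H1.exists_conj_le hL hLp
  have ht' : k * (n * t * n⁻¹) * k⁻¹ ∈ T := by
    have h1 : k * (n * t * n⁻¹) * k⁻¹ ∈ (S : Subgroup G) :=
      (hkL ⟨n * t * n⁻¹, ⟨t, ht, rfl⟩, rfl⟩).1
    have e : k * (n * t * n⁻¹) * k⁻¹ = (k * n) * t * (k * n)⁻¹ := by group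
    rw [e] at h1 ⊢
    exact sc_conj h.hsc ht h1
  set t' := k * (n * t * n⁻¹) * k⁻¹ with ht'def
  obtain ⟨s, hs, b, hb, hsb⟩ := h.H1_decomp (Subgroup.inv_mem _ hk)
  have hOn := h.OpH1_normal
  have h1 : s * (b * (t' * b⁻¹ * t'⁻¹)) * s⁻¹ ∈ h.OpH1 :=
    hOn.conj_mem _ (Subgroup.mul_mem _ hb (hOn.conj_mem _ (Subgroup.inv_mem _ hb) t')) s
  have h2 : s * t' * s⁻¹ ∈ T := h.T_conj_S hs.1 ht'
  have e : n * t * n⁻¹ = (s * (b * (t' * b⁻¹ * t'⁻¹)) * s⁻¹) * (s * t' * s⁻¹) := by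
    have e1 : n * t * n⁻¹ = k⁻¹ * t' * k := by rw [ht'def]; group
    have e2 : k = (s * b)⁻¹ := by rw [← hsb, inv_inv]
    rw [e1, hsb, e2]
    group
  rw [e]
  exact h.mem_H_iff.mpr ⟨_, h1, _, h2, rfl⟩

theorem H_normal : h.H.Normal := by
  constructor
  intro x hx n
  obtain ⟨a, ha, t, ht, rfl⟩ := h.mem_H_iff.mp hx
  have e : n * (a * t) * n⁻¹ = (n * a * n⁻¹) * (n * t * n⁻¹) := by group
  rw [e]
  exact Subgroup.mul_mem _ (h.OpH1_le_H (h.OpH1_normal.conj_mem a ha n)) (h.T_conj_mem_H n ht)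

theorem sylIn_T_H : SylIn p T h.H := by
  have h1 : SylIn p ((S : Subgroup G) ⊓ h.H) h.H := by
    apply (sylIn_top S).inf_normal le_top le_top
    rw [Subgroup.normalizer_eq_top_iff.mpr h.H_normal]
  rwa [h.inf_H_eq] at h1

end Hyp

end Cfsg.Agent.Lib.Helper85.NS
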