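import Cfsg.Agent.Lib.Helper85.NS3
import Cfsg.Agent.Lib.Helper85.PPowerNormal1

set_option autoImplicit false

/-!
Normal subsystems of `F_S(G)` for `G` of characteristic `p`: `Aut_E(T) ≤ Aut_H(T)` from the extension condition.
-/

namespace Cfsg.Agent.Lib.Helper85.NS

open Subgroup Cfsg Cfsg.FusionSystem

variable {G : Type*} [Group G]

/-- The extension property of an element: it normalizes `T` and moves `C_S(T)` only by `Z(T)`. -/
def ExtP (S T : Subgroup G) (g : G) : Prop :=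
  g ∈ normalizer (T : Set G) ∧
    ∀ c ∈ centralizerIn S T, c⁻¹ * (g * c * g⁻¹) ∈ T ⊓ centralizer (T : Set G)

theorem conj_mem_ZT {T : Subgroup G} {g z : G} (hg : g ∈ normalizer (T : Set G))
    (hz : z ∈ T ⊓ centralizer (T : Set G)) : g * z * g⁻¹ ∈ T ⊓ centralizer (T : Set G) := by
  refine ⟨(mem_normalizer_iff.mp hg z).mp hz.1, ?_⟩
  have h2 := normalizer_le_normalizer_centralizer (T : Set G) hg
  exact (mem_normalizer_iff.mp h2 z).mp hz.2

theorem ExtP.one (S T : Subgroup G) : ExtP S T 1 := by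
  refine ⟨Subgroup.one_mem _, fun c _ => ?_⟩
  have : c⁻¹ * (1 * c * 1⁻¹) = 1 := by group
  rw [this]
  exact Subgroup.one_mem _

theorem ExtP.mul {S T : Subgroup G} {g g' : G} (hg : ExtP S T g) (hg' : ExtP S T g') :
    ExtP S T (g * g') := by
  refine ⟨Subgroup.mul_mem _ hg.1 hg'.1, fun c hc => ?_⟩
  have h1 := hg.2 c hc
  have h2 := conj_mem_ZT hg.1 (hg'.2 c hc)
  have e : c⁻¹ * (g * g' * c * (g * g')⁻¹) =
      (c⁻¹ * (g * c * g⁻¹)) * (g * (c⁻¹ * (g' * c * g'⁻¹)) * g⁻¹) := by group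
  rw [e]
  exact Subgroup.mul_mem _ h1 h2

theorem ExtP.pow {S T : Subgroup G} {g : G} (hg : ExtP S T g) (k : ℕ) : ExtP S T (g ^ k) := by
  induction k with
  | zero => rw [pow_zero]; exact ExtP.one S T
  | succ k ih => rw [pow_succ]; exact ih.mul hg

/-- powers of an automorphism induced by conjugation -/
theorem ind_pow {U : Subgroup G} {α : MulAut U} {g : G}
    (hα : ∀ x : U, ((α x : U) : G) = g * x * g⁻¹) (k : ℕ) :
    ∀ x : U, (((α ^ k) x : U) : G) = g ^ k * x * (g ^ k)⁻¹ := by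
  induction k with
  | zero => intro x; simp
  | succ k ih =>
    intro x
    rw [pow_succ, MulAut.mul_apply, ih, hα, pow_succ]
    group

theorem ind_inv {U : Subgroup G} {α : MulAut U} {g : G}
    (hα : ∀ x : U, ((α x : U) : G) = g * x * g⁻¹) (x : U) :
    ((α⁻¹ x : U) : G) = g⁻¹ * x * g := by
  have h := hα (α⁻¹ x)
  rw [MulAut.apply_inv_self] at h
  rw [h]
  group

variable [Finite G] {p : ℕ} [Fact p.Prime]

namespace Hyp

variable {S : Sylow p G} {T : Subgroup G} {E : FusionSystem T} (h : Hyp p S T E)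
include h

theorem S_le_normalizer_T : (S : Subgroup G) ≤ normalizer (T : Set G) := by
  intro s hs
  rw [mem_normalizer_iff]
  intro y
  constructor
  · intro hy
    exact h.T_conj_S hs hy
  · intro hy
    have := h.T_conj_S (Subgroup.inv_mem _ hs) hy
    have e : s⁻¹ * (s * y * s⁻¹) * s⁻¹⁻¹ = y := by group
    rwa [e] at this

theorem T_fn : E.IsFullyNormalized T :=
  Helper87.fullyNormalized_of_le_normalizer E le_rfl le_normalizer

theorem T_fa : E.IsFullyAutomized p T :=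
  (Helper87.fc_fa_of_fullyNormalized h.hTp E h.hEsat h.T_fn).2

/-- an element of `Q` whose conjugation on `T` lies in `Aut_E(T)` is in `T C_S(T)` -/
theorem mem_mul_of_autE {a : G} (haS : a ∈ (S : Subgroup G)) {δ : MulAut T} (hδ : δ ∈ E.autGroup T)
    (hδa : ∀ y : T, ((δ y : T) : G) = a * y * a⁻¹) :
    ∃ t ∈ T, ∃ c ∈ centralizerIn (S : Subgroup G) T, a = t * c := by
  have hδS : δ ∈ autInducedBy (S : Subgroup G) T :=
    (Helper87.mem_autInducedBy_iff _ _ _).mpr ⟨a, haS, hδa⟩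
  obtain ⟨t, ht, hδt⟩ := (Helper87.mem_autInducedBy_iff _ _ _).mp (h.autS_inf_autE_le h.T_fa hδ hδS)
  refine ⟨t, ht, t⁻¹ * a, Subgroup.mem_inf.mpr
    ⟨Subgroup.mul_mem _ (Subgroup.inv_mem _ (h.hTS ht)) haS, ?_⟩, by group⟩
  rw [mem_centralizer_iff]
  intro y hy
  have e' : a * y * a⁻¹ = t * y * t⁻¹ := (hδa ⟨y, hy⟩).symm.trans (hδt ⟨y, hy⟩)
  calc y * (t⁻¹ * a) = t⁻¹ * (t * y * t⁻¹) * a := by group
    _ = t⁻¹ * (a * y * a⁻¹) * a := by rw [e']
    _ = t⁻¹ * a * y := by group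

/-- A `p'`-element with the extension property inducing an `E`-automorphism of `T` acts trivially
on `Q/T₀`. -/
theorem mem_stabSub_of_ext {g : G} {α : MulAut T} (hα : α ∈ E.autGroup T)
    (hαg : ∀ x : T, ((α x : T) : G) = g * x * g⁻¹) (hext : ExtP (S : Subgroup G) T g)
    (hcop : (orderOf g).Coprime p) : g ∈ stabSub (pCore p G) (T ⊓ pCore p G) h.T0_normal := by
  intro x hx
  have hQn := h.Q_normal
  have haQ : g * x * g⁻¹ * x⁻¹ ∈ pCore p G :=
    Subgroup.mul_mem _ (hQn.conj_mem x hx g) (Subgroup.inv_mem _ hx)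
  have haS : g * x * g⁻¹ * x⁻¹ ∈ (S : Subgroup G) := h.Q_le_S haQ
  apply mem_of_coprime_stab h.T0_normal _ (orderOf_pos g)
  · -- coprimality
    obtain ⟨j, hj⟩ := h.Q_pgroup ⟨_, haQ⟩
    have hj' : (g * x * g⁻¹ * x⁻¹) ^ (p ^ j) = 1 := congrArg Subtype.val hj
    obtain ⟨i, -, hi⟩ := (Nat.dvd_prime_pow (Fact.out : p.Prime)).mp (orderOf_dvd_of_pow_eq_one hj')
    rw [hi]
    exact hcop.pow_right i
  · set a := g * x * g⁻¹ * x⁻¹ with ha
    have hxN : x ∈ normalizer (T : Set G) := h.S_le_normalizer_T (h.Q_le_S hx)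
    have hξF : Helper87.conjAut T x hxN ∈ (groupFusionSystem (S : Subgroup G)).autGroup T := by
      rw [autGroup_groupFusionSystem h.hTS]
      exact Helper85.mem_autInducedBy_iff.mpr ⟨x, mem_top x, fun y => Helper87.conjAut_coe T x hxN y⟩
    have hδ : α * (Helper87.conjAut T x hxN * α⁻¹ * (Helper87.conjAut T x hxN)⁻¹) ∈ E.autGroup T :=
      Subgroup.mul_mem _ hα (autE_conj_mem E _ h.hTS h.strongInv le_rfl (Subgroup.inv_mem _ hα) hξF)
    have hδa : ∀ y : T, (((α * (Helper87.conjAut T x hxN * α⁻¹ * (Helper87.conjAut T x hxN)⁻¹)) y : T) : G)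
        = a * y * a⁻¹ := by
      intro y
      rw [MulAut.mul_apply, MulAut.mul_apply, MulAut.mul_apply, hαg, Helper87.conjAut_coe,
        ind_inv hαg, conjAut_inv_coe, ha]
      group
    obtain ⟨t, ht, c, hc, hatc⟩ := h.mem_mul_of_autE haS hδ hδa
    refine Subgroup.mem_inf.mpr ⟨?_, Subgroup.mul_mem _ (hQn.conj_mem a haQ g) (Subgroup.inv_mem _ haQ)⟩
    have hz := hext.2 c hc
    set z := c⁻¹ * (g * c * g⁻¹) with hzdef
    have hcomm : z * c = c * z := (mem_centralizer_iff.mp (Subgroup.mem_inf.mp hc).2) z hz.1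
    have hczc : c * z * c⁻¹ = z := by rw [← hcomm]; group
    have e : g * a * g⁻¹ * a⁻¹ = (g * t * g⁻¹) * (c * z * c⁻¹) * t⁻¹ := by
      rw [hatc, hzdef]; group
    rw [e, hczc]
    exact Subgroup.mul_mem _ (Subgroup.mul_mem _ ((mem_normalizer_iff.mp hext.1 t).mp ht) hz.1)
      (Subgroup.inv_mem _ ht)

/-- Restricting an `E`-automorphism of `T` induced by `g` to `T₀`. -/
theorem mem_autSub_T0_of_autT {g : G} {α : MulAut T} (hα : α ∈ E.autGroup T)
    (hαg : ∀ x : T, ((α x : T) : G) = g * x * g⁻¹) : g ∈ autSub E (T ⊓ pCore p G) := by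
  have hφ := Helper87.restrict_mem E ((Helper87.mem_autGroup_iff E le_rfl α).mp hα)
    (inf_le_left : T ⊓ pCore p G ≤ T)
  have hval : ∀ z : (T ⊓ pCore p G : Subgroup G),
      ((T.subtype.comp α.toMonoidHom).comp (Subgroup.inclusion inf_le_left)) z = g * z * g⁻¹ := by
    intro z
    exact hαg (Subgroup.inclusion inf_le_left z)
  obtain ⟨γ, hγ, hγz⟩ := Helper87.exists_aut_of_hom E hφ (fun z => by
    rw [hval z]; exact h.T0_normal.conj_mem z z.2 g)
  exact ⟨γ, hγ, fun z => (hγz z).trans (hval z)⟩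

/-- Every `p'`-element of `Aut_E(T)` is induced by a `p'`-element of `H₁` normalizing `T`. -/
theorem exists_of_coprime {α : MulAut T} (hα : α ∈ E.autGroup T) (hc : (orderOf α).Coprime p) :
    ∃ g ∈ h.H1, (orderOf g).Coprime p ∧ g ∈ normalizer (T : Set G) ∧
      ∀ x : T, ((α x : T) : G) = g * x * g⁻¹ := by
  obtain ⟨β, hβ, hβT, hβC⟩ := h.hE.2 α hα
  have hR : T ⊔ centralizerIn (S : Subgroup G) T ≤ (S : Subgroup G) := sup_le h.hTS inf_le_left
  rw [autGroup_groupFusionSystem hR] at hβ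
  obtain ⟨g₀, -, hg₀⟩ := Helper85.mem_autInducedBy_iff.mp hβ
  have hαg₀ : ∀ x : T, ((α x : T) : G) = g₀ * x * g₀⁻¹ := fun x => (hβT x).symm.trans (hg₀ _)
  have hnorm : g₀ ∈ normalizer (T : Set G) := by
    rw [mem_normalizer_iff]
    intro y
    constructor
    · intro hy
      have := (α ⟨y, hy⟩).2
      rwa [hαg₀] at this
    · intro hz
      have := (α⁻¹ ⟨g₀ * y * g₀⁻¹, hz⟩).2
      rw [ind_inv hαg₀] at this
      have e : g₀⁻¹ * (g₀ * y * g₀⁻¹) * g₀ = y := by group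
      rwa [e] at this
  have hext₀ : ExtP (S : Subgroup G) T g₀ := by
    refine ⟨hnorm, fun c hc => ?_⟩
    have := hβC ⟨c, (le_sup_right : centralizerIn (S : Subgroup G) T ≤ _) hc⟩ hc
    rwa [hg₀] at this
  obtain ⟨k, hk1, hk2⟩ := Helper87.exists_pow_coprime α hc g₀
  have hαg : ∀ x : T, ((α x : T) : G) = g₀ ^ k * x * (g₀ ^ k)⁻¹ := by
    have := ind_pow hαg₀ k
    rwa [hk1] at this
  have hext := hext₀.pow k
  exact ⟨g₀ ^ k, Subgroup.mem_inf.mpr ⟨h.mem_stabSub_of_ext hα hαg hext hk2,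
    h.mem_autSub_T0_of_autT hα hαg⟩, hk2, hext.1, hαg⟩

/-- `Aut_E(T) ≤ Aut_H(T)`. -/
theorem autE_T_le : E.autGroup T ≤ autInducedBy h.H T := by
  apply autGroup_le_of_gen E h.T_fa
  · intro a ha
    obtain ⟨t, ht, hta⟩ := (Helper87.mem_autInducedBy_iff _ _ _).mp ha
    exact (Helper87.mem_autInducedBy_iff _ _ _).mpr ⟨t, h.T_le_H ht, hta⟩
  · intro β hβ hc
    obtain ⟨g, hgH, hgc, -, hg⟩ := h.exists_of_coprime hβ hc
    exact (Helper87.mem_autInducedBy_iff _ _ _).mpr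
      ⟨g, h.OpH1_le_H (h.mem_OpH1_of_coprime hgH hgc), hg⟩

end Hyp

end Cfsg.Agent.Lib.Helper85.NS
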