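import Cfsg.Agent.Lib.Helper85.NS4

set_option autoImplicit false

/-!
Normal subsystems of `F_S(G)` for `G` of characteristic `p`: `Aut_H(T) ≤ Aut_E(T)` and `E = F_T(H)`.
-/

namespace Cfsg.Agent.Lib.Helper85.NS

open Subgroup Cfsg Cfsg.FusionSystem

variable {G : Type*} [Group G]

theorem mem_normalizer_of_ind {T : Subgroup G} {α : MulAut T} {g : G}
    (hαg : ∀ x : T, ((α x : T) : G) = g * x * g⁻¹) : g ∈ normalizer (T : Set G) := by
  rw [mem_normalizer_iff]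
  intro y
  constructor
  · intro hy
    have := (α ⟨y, hy⟩).2
    rwa [hαg] at this
  · intro hz
    have := (α⁻¹ ⟨g * y * g⁻¹, hz⟩).2
    rw [ind_inv hαg] at this
    have e : g⁻¹ * (g * y * g⁻¹) * g = y := by group
    rwa [e] at this

/-- the order of an automorphism induced by `g` divides the order of `g` -/
theorem orderOf_dvd_of_ind {U : Subgroup G} {α : MulAut U} {g : G}
    (hαg : ∀ x : U, ((α x : U) : G) = g * x * g⁻¹) : orderOf α ∣ orderOf g := by
  apply orderOf_dvd_of_pow_eq_one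
  ext x
  rw [ind_pow hαg, pow_orderOf_eq_one]
  simp

/-- powers of an automorphism of `T` restricting to `γ` on `U ≤ T` restrict to the powers of `γ`. -/
theorem restr_pow {T U : Subgroup G} (hUT : U ≤ T) {γ' : MulAut T} {γ : MulAut U}
    (hres : ∀ z : U, ((γ' (Subgroup.inclusion hUT z) : T) : G) = ((γ z : U) : G)) (n : ℕ) :
    ∀ z : U, (((γ' ^ n) (Subgroup.inclusion hUT z) : T) : G) = (((γ ^ n) z : U) : G) := by
  induction n with
  | zero => intro z; simp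
  | succ n ih =>
    intro z
    rw [pow_succ, MulAut.mul_apply, pow_succ, MulAut.mul_apply]
    have e : γ' (Subgroup.inclusion hUT z) = Subgroup.inclusion hUT (γ z) := Subtype.ext (hres z)
    rw [e, ih]

variable [Finite G] {p : ℕ} [Fact p.Prime]

namespace Hyp

variable {S : Sylow p G} {T : Subgroup G} {E : FusionSystem T} (h : Hyp p S T E)
include h

/-- An `E`-automorphism of `T₀` induced by an element normalizing `T` extends to an `E`-automorphism of `T`. -/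
theorem exists_extend_T0 {g : G} (hgT : g ∈ normalizer (T : Set G)) {γ : MulAut (T ⊓ pCore p G : Subgroup G)}
    (hγ : γ ∈ E.autGroup (T ⊓ pCore p G))
    (hγg : ∀ z : (T ⊓ pCore p G : Subgroup G), ((γ z : (T ⊓ pCore p G : Subgroup G)) : G) = g * z * g⁻¹) :
    ∃ γ' ∈ E.autGroup T, ∀ z : (T ⊓ pCore p G : Subgroup G),
      ((γ' (Subgroup.inclusion inf_le_left z) : T) : G) = ((γ z : (T ⊓ pCore p G : Subgroup G)) : G) := by
  have hT0T : T ⊓ pCore p G ≤ T := inf_le_left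
  have hφ := (Helper87.mem_autGroup_iff E hT0T γ).mp hγ
  have hr : ((T ⊓ pCore p G : Subgroup G).subtype.comp γ.toMonoidHom).range = T ⊓ pCore p G := by
    ext y
    constructor
    · rintro ⟨x, rfl⟩
      exact (γ x).2
    · intro hy
      exact ⟨γ.symm ⟨y, hy⟩, by simp⟩
  obtain ⟨ψ, hψ, hψx⟩ := Helper87.extend_to_normalizer E hφ hr h.T0_rec (by
    intro t ht
    refine ⟨g * t * g⁻¹, (mem_normalizer_iff.mp hgT t).mp ht.1, fun x hx => ?_⟩
    show ((γ ⟨t * x * t⁻¹, hx⟩ : (T ⊓ pCore p G : Subgroup G)) : G) =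
      g * t * g⁻¹ * ((γ x : (T ⊓ pCore p G : Subgroup G)) : G) * (g * t * g⁻¹)⁻¹
    rw [hγg, hγg]
    group)
  have hle : T ≤ normalizerIn T (T ⊓ pCore p G) := by
    intro t ht
    refine ⟨ht, ?_⟩
    rw [Subgroup.normalizer_eq_top_iff.mpr h.T0_normal]
    exact mem_top t
  have hψ' := Helper87.restrict_mem E hψ hle
  obtain ⟨γ', hγ', hγ'z⟩ := Helper87.exists_aut_of_hom E hψ' (fun z => (E.le_of_mem hψ').2 z)
  refine ⟨γ', hγ', fun z => ?_⟩
  rw [hγ'z]
  exact hψx z (hle (hT0T z.2))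

/-- `p'`-elements of `Aut_H(T)` lie in `Aut_E(T)`. -/
theorem mem_autE_of_coprime {β : MulAut T} (hβH : β ∈ autInducedBy h.H T)
    (hc : (orderOf β).Coprime p) : β ∈ E.autGroup T := by
  obtain ⟨h₀, hh₀, hβh₀⟩ := (Helper87.mem_autInducedBy_iff _ _ _).mp hβH
  obtain ⟨k, hk1, hk2⟩ := Helper87.exists_pow_coprime β hc h₀
  have hhH : h₀ ^ k ∈ h.H := Subgroup.pow_mem _ hh₀ k
  have hβhh : ∀ x : T, ((β x : T) : G) = h₀ ^ k * x * (h₀ ^ k)⁻¹ := by
    have := ind_pow hβh₀ k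
    rwa [hk1] at this
  have hhN : h₀ ^ k ∈ normalizer (T : Set G) := mem_normalizer_of_ind hβhh
  obtain ⟨hst, γ, hγ, hγh⟩ := Subgroup.mem_inf.mp (h.H_le_H1 hhH)
  obtain ⟨γ', hγ', hres⟩ := h.exists_extend_T0 hhN hγ hγh
  have hγcop : (orderOf γ).Coprime p := Nat.Coprime.coprime_dvd_left (orderOf_dvd_of_ind hγh) hk2
  obtain ⟨k', hk'1, hk'2⟩ := Helper87.exists_pow_coprime γ hγcop γ'
  have hα₁ : γ' ^ k' ∈ E.autGroup T := Subgroup.pow_mem _ hγ' k'
  have hα₁res : ∀ z : (T ⊓ pCore p G : Subgroup G),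
      (((γ' ^ k') (Subgroup.inclusion inf_le_left z) : T) : G) = h₀ ^ k * z * (h₀ ^ k)⁻¹ := by
    intro z
    rw [restr_pow _ hres k' z, hk'1, hγh]
  obtain ⟨g, hgH1, hgc, hgN, hgα⟩ := h.exists_of_coprime hα₁ hk'2
  have hkQ : g⁻¹ * h₀ ^ k ∈ pCore p G := by
    apply h.stabKer_le
    refine Subgroup.mem_inf.mpr ⟨Subgroup.mul_mem _ (Subgroup.inv_mem _ (Subgroup.mem_inf.mp hgH1).1) hst, ?_⟩
    rw [mem_centralizer_iff]
    intro z hz
    have e1 : g * z * g⁻¹ = h₀ ^ k * z * (h₀ ^ k)⁻¹ :=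
      (hgα (Subgroup.inclusion inf_le_left ⟨z, hz⟩)).symm.trans (hα₁res ⟨z, hz⟩)
    calc z * (g⁻¹ * h₀ ^ k) = g⁻¹ * (g * z * g⁻¹) * h₀ ^ k := by group
      _ = g⁻¹ * (h₀ ^ k * z * (h₀ ^ k)⁻¹) * h₀ ^ k := by rw [e1]
      _ = g⁻¹ * h₀ ^ k * z := by group
  have hkS := h.Q_le_S hkQ
  have hkN := h.S_le_normalizer_T hkS
  have hξS : Helper87.conjAut T (g⁻¹ * h₀ ^ k) hkN ∈ autInducedBy (S : Subgroup G) T :=
    Helper87.conjAut_mem_autInducedBy hkS hkN
  have hβeq : β = γ' ^ k' * Helper87.conjAut T (g⁻¹ * h₀ ^ k) hkN := by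
    ext x
    rw [MulAut.mul_apply, hβhh, hgα, Helper87.conjAut_coe]
    group
  have hξp : ∃ j : ℕ, (Helper87.conjAut T (g⁻¹ * h₀ ^ k) hkN) ^ (p ^ j) = 1 := by
    obtain ⟨j, hj⟩ := (Helper87.autInducedBy_isPGroup h.hSp T) ⟨_, hξS⟩
    exact ⟨j, congrArg Subtype.val hj⟩
  exact mem_of_coprime_of_mul' (Y := (groupFusionSystem (S : Subgroup G)).autGroup T)
    (fun y hy x hx => autE_conj_mem E _ h.hTS h.strongInv le_rfl hx hy) hα₁
    (Helper87.autInducedBy_le_autGroup _ h.hTS hξS) hβeq hξp hc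

/-- The fusion system of `H` on `T`. -/
noncomputable def E' : FusionSystem T := fusionSystemOfSubgroup h.H T h.T_le_H

theorem E'_sat : h.E'.IsSaturated p := fusionSystemOfSubgroup_isSaturated h.T_le_H h.sylIn_T_H

theorem E'_autGroup {R : Subgroup G} (hR : R ≤ T) : h.E'.autGroup R = autInducedBy h.H R :=
  autGroup_fusionSystemOfSubgroup h.T_le_H hR

/-- `Aut_H(T) ≤ Aut_E(T)`. -/
theorem autH_T_le : h.E'.autGroup T ≤ E.autGroup T := by
  have hfn : h.E'.IsFullyNormalized T :=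
    Helper87.fullyNormalized_of_le_normalizer h.E' le_rfl le_normalizer
  have hfa := (Helper87.fc_fa_of_fullyNormalized h.hTp h.E' h.E'_sat hfn).2
  apply autGroup_le_of_gen h.E' hfa
  · exact Helper87.autInducedBy_le_autGroup E le_rfl
  · intro β hβ hc
    rw [h.E'_autGroup le_rfl] at hβ
    exact h.mem_autE_of_coprime hβ hc

end Hyp

end Cfsg.Agent.Lib.Helper85.NS
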