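import Cfsg.Agent.Lib.Helper85.NS5

set_option autoImplicit false

/-!
Normal subsystems of `F_S(G)` for `G` of characteristic `p`: `E = F_T(H)` and uniqueness of `H`.
-/

namespace Cfsg.Agent.Lib.Helper85.NS

open Subgroup Cfsg Cfsg.FusionSystem

variable {G : Type*} [Group G] [Finite G] {p : ℕ} [Fact p.Prime]

namespace Hyp

variable {S : Sylow p G} {T : Subgroup G} {E : FusionSystem T} (h : Hyp p S T E)
include h

theorem exists_conj_of_autE {R : Subgroup G} (hR : R ≤ T) {α : MulAut R} (hα : α ∈ E.autGroup R) :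
    ∃ g : G, ∀ x : R, ((α x : R) : G) = g * x * g⁻¹ := by
  have h1 := h.hsub R ((Helper87.mem_autGroup_iff E hR α).mp hα)
  obtain ⟨-, -, g, hg⟩ := mem_groupFusionSystem_hom.mp h1
  exact ⟨g, hg⟩

/-- `E = F_T(H)`. -/
theorem hom_eq (P : Subgroup G) : E.Hom P = h.E'.Hom P := by
  apply Set.Subset.antisymm
  · apply DetAut.le_of_autGroup_top_le h.hTp E h.hEsat h.E'
    · intro R hR α hα β hβ
      rw [h.E'_autGroup hR] at hβ ⊢
      obtain ⟨g, hg⟩ := h.exists_conj_of_autE hR hα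
      obtain ⟨k, hk, hβk⟩ := (Helper87.mem_autInducedBy_iff _ _ _).mp hβ
      refine (Helper87.mem_autInducedBy_iff _ _ _).mpr ⟨g * k * g⁻¹, h.H_normal.conj_mem k hk g, fun x => ?_⟩
      rw [MulAut.mul_apply, MulAut.mul_apply, hg, hβk, ind_inv hg]
      group
    · rw [h.E'_autGroup le_rfl]
      exact h.autE_T_le
  · apply DetAut.le_of_autGroup_top_le h.hTp h.E' h.E'_sat E
    · intro R hR α hα β hβ
      rw [h.E'_autGroup hR] at hα
      have hαF : α ∈ (groupFusionSystem (S : Subgroup G)).autGroup R := by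
        rw [autGroup_groupFusionSystem (hR.trans h.hTS)]
        obtain ⟨k, -, hk⟩ := (Helper87.mem_autInducedBy_iff _ _ _).mp hα
        exact (Helper87.mem_autInducedBy_iff _ _ _).mpr ⟨k, mem_top k, hk⟩
      exact autE_conj_mem E _ h.hTS h.strongInv hR hβ hαF
    · exact h.autH_T_le

/-- If `H'` realizes `E` and lies in `H₁`, then `H₁ = H' (H₁ ∩ Q)`. -/
theorem decomp_of_realizes {H' : Subgroup G} (hTH' : T ≤ H') (hH'1 : H' ≤ h.H1)
    (hEq : ∀ P : Subgroup G, E.Hom P = (fusionSystemOfSubgroup H' T hTH').Hom P) {g : G}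
    (hg : g ∈ h.H1) : ∃ k ∈ H', ∃ q ∈ pCore p G, g = k * q := by
  obtain ⟨hst, γ, hγ, hγg⟩ := Subgroup.mem_inf.mp hg
  have h1 := (Helper87.mem_autGroup_iff E (inf_le_left : T ⊓ pCore p G ≤ T) γ).mp hγ
  rw [hEq] at h1
  obtain ⟨-, -, k, hk, hγk⟩ := mem_fusionSystemOfSubgroup_hom.mp h1
  refine ⟨k, hk, k⁻¹ * g, ?_, by group⟩
  apply h.stabKer_le
  refine Subgroup.mem_inf.mpr ⟨Subgroup.mul_mem _ (Subgroup.inv_mem _ (Subgroup.mem_inf.mp (hH'1 hk)).1) hst, ?_⟩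
  rw [mem_centralizer_iff]
  intro z hz
  have e1 : g * z * g⁻¹ = k * z * k⁻¹ := (hγg ⟨z, hz⟩).symm.trans (hγk ⟨z, hz⟩)
  calc z * (k⁻¹ * g) = k⁻¹ * (k * z * k⁻¹) * g := by group
    _ = k⁻¹ * (g * z * g⁻¹) * g := by rw [e1]
    _ = k⁻¹ * g * z := by group

/-- Uniqueness of the normal subgroup realizing `E`. -/
theorem unique {H' : Subgroup G} (hTH' : T ≤ H') (hn : H'.Normal) (hsyl : SylIn p T H')
    (hEq : ∀ P : Subgroup G, E.Hom P = (fusionSystemOfSubgroup H' T hTH').Hom P) : H' = h.H := by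
  -- S ∩ H' = T
  have hinf : (S : Subgroup G) ⊓ H' = T := by
    have h1 : SylIn p ((S : Subgroup G) ⊓ H') H' := by
      apply (sylIn_top S).inf_normal le_top le_top
      rw [Subgroup.normalizer_eq_top_iff.mpr hn]
    have c1 := (sylIn_iff_card hTH').mp hsyl
    have c2 := (sylIn_iff_card (inf_le_right : (S : Subgroup G) ⊓ H' ≤ H')).mp h1
    exact (Subgroup.eq_of_le_of_card_ge (le_inf h.hTS hTH') (by rw [c1, c2])).symm
  -- H' ≤ H₁
  have hH'1 : H' ≤ h.H1 := by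
    intro k hk
    refine Subgroup.mem_inf.mpr ⟨?_, ?_⟩
    · intro x hx
      have hQ : k * x * k⁻¹ * x⁻¹ ∈ pCore p G :=
        Subgroup.mul_mem _ (h.Q_normal.conj_mem x hx k) (Subgroup.inv_mem _ hx)
      have hH : k * x * k⁻¹ * x⁻¹ ∈ H' := by
        have e : k * x * k⁻¹ * x⁻¹ = k * (x * k⁻¹ * x⁻¹) := by group
        rw [e]
        exact Subgroup.mul_mem _ hk (hn.conj_mem _ (Subgroup.inv_mem _ hk) x)
      have hT : k * x * k⁻¹ * x⁻¹ ∈ T := by
        rw [← hinf]; exact ⟨h.Q_le_S hQ, hH⟩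
      exact ⟨hT, hQ⟩
    · have hkN : k ∈ normalizer ((T ⊓ pCore p G : Subgroup G) : Set G) := by
        rw [Subgroup.normalizer_eq_top_iff.mpr h.T0_normal]; exact mem_top k
      refine ⟨Helper87.conjAut _ k hkN, ?_, fun z => Helper87.conjAut_coe _ k hkN z⟩
      rw [Helper87.mem_autGroup_iff E (inf_le_left : T ⊓ pCore p G ≤ T), hEq]
      refine mem_fusionSystemOfSubgroup_hom.mpr ⟨inf_le_left, fun z => ?_, k, hk, fun z => rfl⟩
      exact (inf_le_left : T ⊓ pCore p G ≤ T) (Helper87.conjAut _ k hkN z).2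
  -- H ≤ H'
  have hHH' : h.H ≤ H' := by
    apply sup_le _ hTH'
    unfold OpH1
    rw [closure_le]
    rintro g ⟨hg, hc⟩
    obtain ⟨k, hk, q, hq, hgkq⟩ := h.decomp_of_realizes hTH' hH'1 hEq hg
    obtain ⟨j, hj⟩ := h.Q_pgroup ⟨q, hq⟩
    exact mem_of_coprime_of_mul H' hn hk hgkq ⟨j, congrArg Subtype.val hj⟩ hc
  -- H' ≤ H
  apply le_antisymm _ hHH'
  intro k' hk'
  obtain ⟨k, hk, q, hq, hkq⟩ := h.decomp_of_realizes h.T_le_H h.H_le_H1 h.hom_eq (hH'1 hk')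
  have hqH' : q ∈ H' := by
    have e : q = k⁻¹ * k' := by rw [hkq]; group
    rw [e]
    exact Subgroup.mul_mem _ (Subgroup.inv_mem _ (hHH' hk)) hk'
  have hqT : q ∈ T := by
    rw [← hinf]; exact ⟨h.Q_le_S hq, hqH'⟩
  rw [hkq]
  exact Subgroup.mul_mem _ hk (h.T_le_H hqT)

end Hyp

end Cfsg.Agent.Lib.Helper85.NS
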