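import Mathlib
import Cfsg.Agent.Lib.Helper67.OgDefs

/-!
# Og hive, leaf OG-SWAP (helper85): the swapped Levi datum

`L' A = L (A⁻ᵀ)` is a Levi datum for the family with the roles of `e` and `f` exchanged.
-/

set_option autoImplicit false
set_option linter.unusedSectionVars false
set_option linter.unusedVariables false

namespace Cfsg.Agent.Lib.Helper67.Og

open Matrix Module QuadraticMap
open Cfsg.Agent.Lib.Helper37 Cfsg.Agent.Lib.Helper8

section abstract

variable {ι : Type} [Fintype ι] [DecidableEq ι] {F : Type*} [Field F]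
variable (Q : QuadraticForm F (ι → F)) (hQ : (QuadraticMap.polarBilin Q).Nondegenerate)
variable {k : ℕ} {e f : Fin k → ι → F}
variable {L : Matrix.SpecialLinearGroup (Fin k) F →* ↥(Cfsg.isometryGroup F ⇑Q)}

/-- the automorphism `A ↦ A⁻ᵀ` of `SL_k` -/
noncomputable def swap_invT (k : ℕ) (F : Type*) [Field F] :
    Matrix.SpecialLinearGroup (Fin k) F →* Matrix.SpecialLinearGroup (Fin k) F where
  toFun A := (A⁻¹).transpose
  map_one' := by
    apply Subtype.ext
    simp [Matrix.SpecialLinearGroup.coe_transpose]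
  map_mul' A B := by
    apply Subtype.ext
    rw [_root_.mul_inv_rev]
    simp [Matrix.SpecialLinearGroup.coe_transpose, Matrix.transpose_mul]

theorem swap_invT_coe (A : Matrix.SpecialLinearGroup (Fin k) F) (i j : Fin k) :
    ((swap_invT k F A : Matrix.SpecialLinearGroup (Fin k) F) : Matrix (Fin k) (Fin k) F) i j
      = ((A⁻¹ : Matrix.SpecialLinearGroup (Fin k) F) : Matrix (Fin k) (Fin k) F) j i := rfl

theorem swap_invT_inv_coe (A : Matrix.SpecialLinearGroup (Fin k) F) (i j : Fin k) :
    (((swap_invT k F A)⁻¹ : Matrix.SpecialLinearGroup (Fin k) F) :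
        Matrix (Fin k) (Fin k) F) i j
      = (A : Matrix (Fin k) (Fin k) F) j i := by
  have h : (swap_invT k F A)⁻¹ = swap_invT k F A⁻¹ := (map_inv (swap_invT k F) A).symm
  rw [h, swap_invT_coe, inv_inv]

theorem swap_hypFam (h : HypFam Q k e f) : HypFam Q k f e where
  qe := h.qf
  qf := h.qe
  ee := h.ff
  ff := h.ee
  ef := fun i i' => by
    rw [polar_comm, h.ef]
    by_cases hii : i = i'
    · subst hii; simp
    · rw [if_neg hii, if_neg (fun h' => hii h'.symm)]

theorem inW_swap {w : ι → F} (hw : InW Q e f w) : InW Q f e w :=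
  fun i => ⟨(hw i).2, (hw i).1⟩

theorem wpart_swap (x : ι → F) : Wpart Q f e x = Wpart Q e f x := by
  unfold Wpart
  congr 1
  apply Finset.sum_congr rfl
  intro i _
  rw [add_comm]

theorem exists_swap (D : LeviData Q k e f L) :
    ∃ L' : Matrix.SpecialLinearGroup (Fin k) F →* ↥(Cfsg.isometryGroup F ⇑Q),
      LeviData Q k f e L' ∧ ∀ A, ∃ A', L' A = L A' := by
  refine ⟨L.comp (swap_invT k F), ⟨swap_hypFam Q D.fam, ?_, ?_, ?_⟩, fun A => ⟨swap_invT k F A, rfl⟩⟩
  · intro A i
    rw [MonoidHom.comp_apply, D.act_f]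
    apply Finset.sum_congr rfl
    intro j _
    rw [swap_invT_inv_coe]
  · intro A i
    rw [MonoidHom.comp_apply, D.act_e]
    apply Finset.sum_congr rfl
    intro j _
    rw [swap_invT_coe]
  · intro A w hw
    rw [MonoidHom.comp_apply]
    exact D.act_w _ w (inW_swap Q hw)

end abstract

end Cfsg.Agent.Lib.Helper67.Og
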