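import Mathlib
import Cfsg.Agent.Lib.Helper40.OpBNDefs
import Cfsg.Agent.Lib.Helper85.OpBN_CONJS

/-!
# S2548 hive (OpBN, owner helper40), leaf OPBN-CONJD `conjD` (helper85)

Conjugating the root subgroups `X_{e_k + e_k'}`, `X_{-e_k - e_k'}` by a monomial isometry: one of the two
conjugates lies in `B`.  With `p = π⁻¹(e_k)`, `q = π⁻¹(e_k')`: `n⁻¹ x_D(t) n - 1` is supported on
`(p, q̄), (q, p̄)`, and `n⁻¹ x_Dm(t) n - 1` on `(q̄, p), (p̄, q)`.
-/

set_option autoImplicit false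

namespace Cfsg.Agent.Lib.Helper40.OpBN

open Matrix Cfsg Cfsg.Agent.Lib.Helper13 Cfsg.Agent.Lib.Helper41.SpBN

variable {F : Type*} [Field F] {m : ℕ}

/-- **LEAF CONJD**. -/
theorem conjD {k k' : Fin m} (hkk : k ≠ k') :
    ∀ n ∈ NoAll F m, (∀ x ∈ XD F m k k', n⁻¹ * x * n ∈ Bo F m) ∨
      (∀ y ∈ XDm F m k k', n⁻¹ * y * n ∈ Bo F m) := by
  rintro n ⟨π, d, hn⟩
  have hπ : ∀ s, π s.swap = (π s).swap := (isMono_swap hn).1
  -- preimages
  obtain ⟨p, hp⟩ : ∃ p, π p = Sum.inl k := ⟨π.symm (Sum.inl k), by simp⟩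
  obtain ⟨q, hq⟩ : ∃ q, π q = Sum.inl k' := ⟨π.symm (Sum.inl k'), by simp⟩
  have hp' : π p.swap = Sum.inr k := by rw [hπ, hp]; rfl
  have hq' : π q.swap = Sum.inr k' := by rw [hπ, hq]; rfl
  -- the two criteria
  have crit1 : (¬ conjs_bad p q.swap ∧ ¬ conjs_bad q p.swap) →
      ∀ x ∈ XD F m k k', n⁻¹ * x * n ∈ Bo F m := by
    rintro ⟨g1, g2⟩ x ⟨t, hx⟩
    exact conjs_crit hn hp hq' hq hp' g1 g2 hx
  have crit2 : (¬ conjs_bad q.swap p ∧ ¬ conjs_bad p.swap q) →
      ∀ y ∈ XDm F m k k', n⁻¹ * y * n ∈ Bo F m := by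
    rintro ⟨g1, g2⟩ x ⟨t, hx⟩
    exact conjs_crit hn hq' hp hp' hq g1 g2 hx
  rcases p with i | i <;> rcases q with j | j
  · left
    apply crit1
    simp [conjs_bad]
  · by_cases hij : (j : ℕ) < (i : ℕ)
    · right
      apply crit2
      simp only [conjs_bad, Sum.swap_inl, Sum.swap_inr, not_false_eq_true, and_true]
      omega
    · left
      apply crit1
      simp only [conjs_bad, Sum.swap_inl, Sum.swap_inr, not_false_eq_true, and_true]
      exact hij
  · by_cases hij : (i : ℕ) < (j : ℕ)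
    · right
      apply crit2
      simp only [conjs_bad, Sum.swap_inl, Sum.swap_inr, not_false_eq_true, true_and]
      omega
    · left
      apply crit1
      simp only [conjs_bad, Sum.swap_inl, Sum.swap_inr, not_false_eq_true, true_and]
      exact hij
  · right
    apply crit2
    simp [conjs_bad]

end Cfsg.Agent.Lib.Helper40.OpBN
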