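import Cfsg.Agent.Lib.Helper85.PPowerNormal1

set_option autoImplicit false

/-!
Transport of automorphism groups along an element of `Aut_F(T)` and invariance of a saturated
subsystem of `p`-power index.
-/

namespace Cfsg.Agent.Lib.Helper85

open Cfsg Cfsg.FusionSystem Cfsg.Agent.Lib.Helper87 Cfsg.Agent.Lib.Helper88

variable {Ω : Type*} [Group Ω] {S T : Subgroup Ω}

/-- The restriction of an automorphism of `T` to a subgroup, as a map into `Ω`. -/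
def resAutHom (α : MulAut T) {R : Subgroup Ω} (hRT : R ≤ T) : R →* Ω :=
  (T.subtype.comp α.toMonoidHom).comp (Subgroup.inclusion hRT)

theorem resAutHom_apply (α : MulAut T) {R : Subgroup Ω} (hRT : R ≤ T) (x : R) :
    resAutHom α hRT x = ((α ⟨x, hRT x.2⟩ : T) : Ω) := rfl

theorem resAutHom_mem (F : FusionSystem S) (hTS : T ≤ S) {α : MulAut T} (hα : α ∈ F.autGroup T)
    {R : Subgroup Ω} (hRT : R ≤ T) : resAutHom α hRT ∈ F.Hom R :=
  restrict_mem F (subtype_aut_mem F hTS hα) hRT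

theorem resAutHom_injective (α : MulAut T) {R : Subgroup Ω} (hRT : R ≤ T) :
    Function.Injective (resAutHom α hRT) := by
  intro x y h
  have h1 : (α ⟨x, hRT x.2⟩ : T) = α ⟨y, hRT y.2⟩ := Subtype.ext h
  have h2 := α.injective h1
  exact Subtype.ext (congrArg (fun z : T => (z : Ω)) h2)

theorem range_resAutHom (α : MulAut T) {R : Subgroup Ω} (hRT : R ≤ T) :
    (resAutHom α hRT).range = img α R := by
  ext y
  rw [mem_img]
  constructor
  · rintro ⟨x, rfl⟩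
    exact ⟨⟨x, hRT x.2⟩, x.2, rfl⟩
  · rintro ⟨x, hx, rfl⟩
    exact ⟨⟨x, hx⟩, rfl⟩

/-- The isomorphism `R ≃* α(R)`. -/
noncomputable def isoImg (α : MulAut T) {R : Subgroup Ω} (hRT : R ≤ T) : R ≃* img α R :=
  isoOfHom (resAutHom α hRT) (resAutHom_injective α hRT) (range_resAutHom α hRT)

theorem isoImg_coe (α : MulAut T) {R : Subgroup Ω} (hRT : R ≤ T) (x : R) :
    ((isoImg α hRT x : img α R) : Ω) = ((α ⟨x, hRT x.2⟩ : T) : Ω) := rfl

theorem congr_isoImg_apply (α : MulAut T) {R : Subgroup Ω} (hRT : R ≤ T) (β : MulAut R) (x : R) :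
    MulAut.congr (isoImg α hRT) β (isoImg α hRT x) = isoImg α hRT (β x) := by
  simp [MulAut.congr]

/-- Transport of `Aut_E(R)` to `Aut_E(α R)` for `α ∈ Aut_F(T)`, `E` of `p`-power index in `F` and
`R` fully automized in `E`. -/
theorem congr_mem_autGroup_of_ppower [Finite T] {p : ℕ} [Fact p.Prime] {F : FusionSystem S}
    {E : FusionSystem T} (hTS : T ≤ S) (hEi : E.HasPPowerIndexIn F p) {α : MulAut T}
    (hα : α ∈ F.autGroup T) {R : Subgroup Ω} (hRT : R ≤ T) (hfa : E.IsFullyAutomized p R)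
    {β : MulAut R} (hβ : β ∈ E.autGroup R) :
    MulAut.congr (isoImg α hRT) β ∈ E.autGroup (img α R) := by
  have key : E.autGroup R ≤
      (E.autGroup (img α R)).comap (MulAut.congr (isoImg α hRT)).toMonoidHom := by
    apply autGroup_le_of_gen E hfa
    · intro γ hγ
      show MulAut.congr (isoImg α hRT) γ ∈ E.autGroup (img α R)
      apply autInducedBy_le_autGroup E (img_le α R)
      obtain ⟨g, hg, h⟩ := (Helper87.mem_autInducedBy_iff T R γ).mp hγ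
      rw [Helper87.mem_autInducedBy_iff]
      refine ⟨((α ⟨g, hg⟩ : T) : Ω), (α ⟨g, hg⟩).2, fun y => ?_⟩
      obtain ⟨x, rfl⟩ := (isoImg α hRT).surjective y
      rw [congr_isoImg_apply, isoImg_coe, isoImg_coe]
      have e : (⟨((γ x : R) : Ω), hRT (γ x).2⟩ : T) = ⟨g, hg⟩ * ⟨x, hRT x.2⟩ * ⟨g, hg⟩⁻¹ :=
        Subtype.ext (h x)
      rw [e, map_mul, map_mul, map_inv]
      rfl
    · intro γ hγ hcop
      show MulAut.congr (isoImg α hRT) γ ∈ E.autGroup (img α R)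
      have hγF : γ ∈ F.autGroup R := autGroup_le_of_subsystem hEi.1 R hγ
      have h1 : MulAut.congr (isoImg α hRT) γ ∈ F.autGroup (img α R) :=
        autGroup_congr_mem F (resAutHom_mem F hTS hα hRT) (range_resAutHom α hRT)
          (isoImg α hRT) (fun x => rfl) hγF
      have h2 : (orderOf (MulAut.congr (isoImg α hRT) γ)).Coprime p := by
        rw [MulEquiv.orderOf_eq]
        exact hcop
      exact hEi.2.2 (img α R) (img_le α R) (mem_map_pResidual h1 h2)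
  exact key hβ

/-- The conclusion of invariance for a single map. -/
def InvAt (E : FusionSystem T) (α : MulAut T) (P : Subgroup Ω) (φ : P →* Ω) : Prop :=
  ∃ χ ∈ E.Hom (img α P), ∀ (x : T) (hx : (x : Ω) ∈ P) (hφx : φ ⟨x, hx⟩ ∈ T)
    (hαx : ((α x : T) : Ω) ∈ img α P), χ ⟨α x, hαx⟩ = ((α ⟨φ ⟨x, hx⟩, hφx⟩ : T) : Ω)

theorem invAt_of_alpGen [Finite T] {p : ℕ} [Fact p.Prime] {F : FusionSystem S}
    {E : FusionSystem T} (hTS : T ≤ S) (hEi : E.HasPPowerIndexIn F p) {α : MulAut T}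
    (hα : α ∈ F.autGroup T) :
    ∀ (P : Subgroup Ω) (φ : P →* Ω), AlpGen E p P φ → InvAt E α P φ := by
  intro P φ h
  induction h with
  | @aut P R hR β hβ hPR =>
    have hRT : R ≤ T := hR.1.1
    have hβ' := congr_mem_autGroup_of_ppower hTS hEi hα hRT hR.1 hβ
    refine ⟨((img α R).subtype.comp (MulAut.congr (isoImg α hRT) β).toMonoidHom).comp
      (Subgroup.inclusion (img_mono α hPR)),
      restrict_mem E (subtype_aut_mem E (img_le α R) hβ') (img_mono α hPR), ?_⟩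
    intro x hx hφx hαx
    show ((MulAut.congr (isoImg α hRT) β ⟨((α x : T) : Ω), img_mono α hPR hαx⟩ : img α R) : Ω) = _
    have e1 : (⟨((α x : T) : Ω), img_mono α hPR hαx⟩ : img α R) =
        isoImg α hRT ⟨x, hPR hx⟩ := Subtype.ext rfl
    rw [e1, congr_isoImg_apply, isoImg_coe]
    rfl
  | @comp P Q φ₁ ψ hφ₁ hψ h ih1 ih2 =>
    obtain ⟨χ₁, hχ₁, h1⟩ := ih1
    obtain ⟨χ₂, hχ₂, h2⟩ := ih2
    have hφ₁T : ∀ x : P, φ₁ x ∈ T := fun x => hom_mem_S E hφ₁.mem_hom x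
    have hmem : ∀ y : img α P, χ₁ y ∈ img α Q := by
      intro y
      obtain ⟨x, hx, hxy⟩ := mem_img.mp y.2
      have e : y = ⟨((α x : T) : Ω), hxy ▸ y.2⟩ := Subtype.ext hxy.symm
      rw [e, h1 x hx (hφ₁T ⟨x, hx⟩)]
      exact mem_img.mpr ⟨⟨φ₁ ⟨x, hx⟩, hφ₁T ⟨x, hx⟩⟩, h ⟨x, hx⟩, rfl⟩
    obtain ⟨χ, hχ, hχe⟩ := comp_mem' E hχ₁ hχ₂ hmem
    refine ⟨χ, hχ, ?_⟩
    intro x hx hφx hαx
    rw [hχe]
    have e1 := h1 x hx (hφ₁T ⟨x, hx⟩) hαx
    have hαx₁ : ((α ⟨φ₁ ⟨x, hx⟩, hφ₁T ⟨x, hx⟩⟩ : T) : Ω) ∈ img α Q :=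
      mem_img.mpr ⟨⟨φ₁ ⟨x, hx⟩, hφ₁T ⟨x, hx⟩⟩, h ⟨x, hx⟩, rfl⟩
    have e2 : (⟨χ₁ ⟨((α x : T) : Ω), hαx⟩, hmem _⟩ : img α Q) =
        ⟨((α ⟨φ₁ ⟨x, hx⟩, hφ₁T ⟨x, hx⟩⟩ : T) : Ω), hαx₁⟩ := Subtype.ext e1
    rw [e2]
    exact h2 ⟨φ₁ ⟨x, hx⟩, hφ₁T ⟨x, hx⟩⟩ (h ⟨x, hx⟩) hφx hαx₁

/-- Invariance of a saturated subsystem of `p`-power index under `Aut_F(T)`. -/
theorem invariance_of_ppower [Finite S] {p : ℕ} [Fact p.Prime] (hS : IsPGroup p S)
    {F : FusionSystem S} {E : FusionSystem T} (hTS : T ≤ S) (hEsat : E.IsSaturated p)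
    (hEi : E.HasPPowerIndexIn F p) :
    ∀ (P : Subgroup Ω) (hPT : P ≤ T) (φ : P →* Ω), φ ∈ E.Hom P → ∀ α ∈ F.autGroup T,
      ∃ χ ∈ E.Hom ((P.subgroupOf T).map (T.subtype.comp α.toMonoidHom)),
        ∀ (x : P) (hφx : φ x ∈ T)
          (hαx : ((α ⟨x, hPT x.2⟩ : T) : Ω) ∈ (P.subgroupOf T).map (T.subtype.comp α.toMonoidHom)),
          χ ⟨(α ⟨x, hPT x.2⟩ : T), hαx⟩ = ((α ⟨φ x, hφx⟩ : T) : Ω) := by
  intro P hPT φ hφ α hα
  haveI : Finite T := finite_of_le hTS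
  have hT : IsPGroup p T := hS.of_injective (Subgroup.inclusion hTS) (Subgroup.inclusion_injective hTS)
  obtain ⟨χ, hχ, h⟩ := invAt_of_alpGen hTS hEi hα P φ (alperin hT E hEsat P φ hφ)
  exact ⟨χ, hχ, fun x hφx hαx => h ⟨x, hPT x.2⟩ x.2 hφx hαx⟩

end Cfsg.Agent.Lib.Helper85
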