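import Cfsg.Agent.Lib.Helper85.PPowerNormal2
import Cfsg.Agent.Lib.Helper85.RobertsShpectorov

set_option autoImplicit false

/-!
The Frattini property for a saturated subsystem of `p`-power index over a normal subgroup.
-/

namespace Cfsg.Agent.Lib.Helper85

open Cfsg Cfsg.FusionSystem Cfsg.Agent.Lib.Helper87 Cfsg.Agent.Lib.Helper88

variable {Ω : Type*} [Group Ω] {S T : Subgroup Ω}

/-- Automorphisms of `R` whose restriction to `R ⊓ T` is an automorphism in `E`. -/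
def resSub (E : FusionSystem T) (R : Subgroup Ω) : Subgroup (MulAut R) where
  carrier := {b | ∃ b' ∈ E.autGroup (R ⊓ T), ∀ x : ↥(R ⊓ T),
    ((b' x : ↥(R ⊓ T)) : Ω) = ((b ⟨x, x.2.1⟩ : R) : Ω)}
  one_mem' := ⟨1, one_mem _, fun x => rfl⟩
  mul_mem' := by
    rintro a b ⟨a', ha', ha⟩ ⟨b', hb', hb⟩
    refine ⟨a' * b', mul_mem ha' hb', fun x => ?_⟩
    rw [MulAut.mul_apply, MulAut.mul_apply, ha]
    congr 2
    exact Subtype.ext (hb x)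
  inv_mem' := by
    rintro b ⟨b', hb', hb⟩
    refine ⟨b'⁻¹, inv_mem hb', fun x => ?_⟩
    have h1 := hb (b'⁻¹ x)
    rw [MulAut.apply_inv_self] at h1
    have h2 : (⟨x, x.2.1⟩ : R) = b ⟨((b'⁻¹ x : ↥(R ⊓ T)) : Ω), (b'⁻¹ x).2.1⟩ := Subtype.ext h1
    rw [h2, MulAut.inv_apply_self]

theorem pResidual_le_resSub [Finite S] {p : ℕ} [Fact p.Prime] {F : FusionSystem S}
    {E : FusionSystem T} (hTsc : F.StronglyClosed T) (hEi : E.HasPPowerIndexIn F p)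
    {R : Subgroup Ω} (hRS : R ≤ S) :
    Cfsg.pResidual p (F.autGroup R) ≤ (resSub E R).comap (F.autGroup R).subtype := by
  unfold Cfsg.pResidual
  rw [Subgroup.closure_le]
  intro g hg
  show (g : MulAut R) ∈ resSub E R
  have hRT : R ⊓ T ≤ S := inf_le_left.trans hRS
  haveI : Finite ↥(R ⊓ T) := finite_of_le hRT
  have hψ : (R.subtype.comp (g : MulAut R).toMonoidHom).comp
      (Subgroup.inclusion (inf_le_left : R ⊓ T ≤ R)) ∈ F.Hom (R ⊓ T) :=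
    restrict_mem F (subtype_aut_mem F hRS g.2) inf_le_left
  have hmem : ∀ z : ↥(R ⊓ T), ((R.subtype.comp (g : MulAut R).toMonoidHom).comp
      (Subgroup.inclusion (inf_le_left : R ⊓ T ≤ R))) z ∈ R ⊓ T :=
    fun z => ⟨((g : MulAut R) _).2, hTsc.2 (R ⊓ T) inf_le_right _ hψ z⟩
  obtain ⟨b', hb', hb'e⟩ := exists_aut_of_hom F hψ hmem
  have hcop : (orderOf b').Coprime p := by
    have hdvd : orderOf b' ∣ orderOf (g : MulAut R) := by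
      apply orderOf_dvd_of_pow_eq_one
      ext x
      have := pow_restrict (inf_le_left : R ⊓ T ≤ R) (g : MulAut R) b'
        (fun x => (hb'e x).symm) (orderOf (g : MulAut R)) x
      rw [pow_orderOf_eq_one] at this
      exact this.symm
    exact Nat.Coprime.coprime_dvd_left hdvd (by rw [Subgroup.orderOf_coe]; exact hg)
  exact ⟨b', hEi.2.2 (R ⊓ T) inf_le_right (mem_map_pResidual hb' hcop), fun x => hb'e x⟩

/-- The Frattini decomposition of a single map. -/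
def FratAt (E : FusionSystem T) (F : FusionSystem S) (P : Subgroup Ω) (φ : P →* Ω) : Prop :=
  ∃ α ∈ F.autGroup T, ∃ φ₀ ∈ E.Hom P, ∀ (x : P) (hx : φ₀ x ∈ T), φ x = ((α ⟨φ₀ x, hx⟩ : T) : Ω)

theorem invAt_of_mem [Finite S] {p : ℕ} [Fact p.Prime] (hS : IsPGroup p S)
    {F : FusionSystem S} {E : FusionSystem T} (hTS : T ≤ S) (hEsat : E.IsSaturated p)
    (hEi : E.HasPPowerIndexIn F p) {P : Subgroup Ω} {φ : P →* Ω} (hφ : φ ∈ E.Hom P)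
    {α : MulAut T} (hα : α ∈ F.autGroup T) : InvAt E α P φ := by
  haveI : Finite T := finite_of_le hTS
  have hT : IsPGroup p T :=
    hS.of_injective (Subgroup.inclusion hTS) (Subgroup.inclusion_injective hTS)
  exact invAt_of_alpGen hTS hEi hα P φ (alperin hT E hEsat P φ hφ)

theorem fratAt_of_alpGen [Finite S] {p : ℕ} [Fact p.Prime] (hS : IsPGroup p S)
    {F : FusionSystem S} {E : FusionSystem T} (hTsc : F.StronglyClosed T)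
    (hEsat : E.IsSaturated p) (hEi : E.HasPPowerIndexIn F p) :
    ∀ (P : Subgroup Ω) (φ : P →* Ω), AlpGen F p P φ →
      ∀ (P' : Subgroup Ω) (hP'P : P' ≤ P), P' ≤ T →
        FratAt E F P' (φ.comp (Subgroup.inclusion hP'P)) := by
  intro P φ h
  induction h with
  | @aut P R hR β hβ hPR =>
    intro P' hP'P hP'T
    obtain ⟨⟨hRS, Syl, hSyl⟩, -, -, -⟩ := hR
    have hfinR : Finite R := finite_of_le hRS
    haveI : Finite (F.autGroup R) := inferInstance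
    obtain ⟨t, ht, b, hb, hab⟩ := exists_sylow_mul_pResidual Syl ⟨β, hβ⟩
    rw [hSyl, Subgroup.mem_subgroupOf] at ht
    obtain ⟨s, hs, hst⟩ := (Helper87.mem_autInducedBy_iff S R _).mp ht
    have hβ' : β = (t : MulAut R) * (b : MulAut R) := congrArg Subtype.val hab
    obtain ⟨b', hb', hb'e⟩ := pResidual_le_resSub hTsc hEi hRS hb
    haveI : Finite T := finite_of_le hTsc.1
    have hcs : conjHom T s ∈ F.Hom T := F.conj_mem hTsc.1 hs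
    obtain ⟨α, hα, hαe⟩ := exists_aut_of_hom F hcs (fun z => hTsc.2 T le_rfl _ hcs z)
    have hP'RT : P' ≤ R ⊓ T := le_inf (hP'P.trans hPR) hP'T
    refine ⟨α, hα, ((R ⊓ T).subtype.comp b'.toMonoidHom).comp (Subgroup.inclusion hP'RT),
      restrict_mem E (subtype_aut_mem E inf_le_right hb') hP'RT, fun x hx => ?_⟩
    rw [hαe]
    show ((β ⟨x, hPR (hP'P x.2)⟩ : R) : Ω) =
      s * ((b' ⟨x, hP'RT x.2⟩ : ↥(R ⊓ T)) : Ω) * s⁻¹
    rw [hβ', MulAut.mul_apply, hst, hb'e]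
    rfl
  | @comp P Q φ₁ ψ hφ₁ hψ h ih1 ih2 =>
    intro P' hP'P hP'T
    obtain ⟨α₁, hα₁, φ₀₁, hφ₀₁, h1⟩ := ih1 P' hP'P hP'T
    have hφ₁' : φ₁.comp (Subgroup.inclusion hP'P) ∈ F.Hom P' :=
      restrict_mem F hφ₁.mem_hom hP'P
    obtain ⟨Q', hQ'⟩ : ∃ Q' : Subgroup Ω, Q' = (φ₁.comp (Subgroup.inclusion hP'P)).range :=
      ⟨_, rfl⟩
    have hyQ' : ∀ x : P', (φ₁.comp (Subgroup.inclusion hP'P)) x ∈ Q' := fun x => by
      rw [hQ']; exact ⟨x, rfl⟩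
    have hQ'Q : Q' ≤ Q := by
      rw [hQ']
      rintro _ ⟨x, rfl⟩
      exact h _
    have hQ'T : Q' ≤ T := by
      rw [hQ']
      rintro _ ⟨x, rfl⟩
      exact hTsc.2 P' hP'T _ hφ₁' x
    obtain ⟨α₂, hα₂, φ₀₂, hφ₀₂, h2⟩ := ih2 Q' hQ'Q hQ'T
    obtain ⟨χ, hχ, hχe⟩ := invAt_of_mem hS hTsc.1 hEsat hEi hφ₀₂ (inv_mem hα₁)
    have hφ₀₁T : ∀ x : P', φ₀₁ x ∈ T := fun x => hom_mem_S E hφ₀₁ x
    have hφ₀₂T : ∀ y : Q', φ₀₂ y ∈ T := fun y => hom_mem_S E hφ₀₂ y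
    -- key relation: α₁⁻¹ (φ₁ x) = φ₀₁ x
    have hrel : ∀ x : P', α₁⁻¹ ⟨(φ₁.comp (Subgroup.inclusion hP'P)) x, hQ'T (hyQ' x)⟩ =
        ⟨φ₀₁ x, hφ₀₁T x⟩ := by
      intro x
      have e : (⟨(φ₁.comp (Subgroup.inclusion hP'P)) x, hQ'T (hyQ' x)⟩ : T) =
          α₁ ⟨φ₀₁ x, hφ₀₁T x⟩ := Subtype.ext (h1 x (hφ₀₁T x))
      rw [e, MulAut.inv_apply_self]
    have hmem : ∀ x : P', φ₀₁ x ∈ img α₁⁻¹ Q' := fun x =>
      mem_img.mpr ⟨⟨_, hQ'T (hyQ' x)⟩, hyQ' x, congrArg (fun z : T => (z : Ω)) (hrel x)⟩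
    obtain ⟨φ₀, hφ₀, hφ₀e⟩ := comp_mem' E hφ₀₁ hχ hmem
    have hφ₀val : ∀ x : P', φ₀ x =
        ((α₁⁻¹ ⟨φ₀₂ ⟨(φ₁.comp (Subgroup.inclusion hP'P)) x, hyQ' x⟩, hφ₀₂T _⟩ : T) : Ω) := by
      intro x
      rw [hφ₀e]
      have hαx : ((α₁⁻¹ ⟨(φ₁.comp (Subgroup.inclusion hP'P)) x, hQ'T (hyQ' x)⟩ : T) : Ω) ∈
          img α₁⁻¹ Q' := mem_img.mpr ⟨_, hyQ' x, rfl⟩
      have e : (⟨φ₀₁ x, hmem x⟩ : img α₁⁻¹ Q') =
          ⟨((α₁⁻¹ ⟨(φ₁.comp (Subgroup.inclusion hP'P)) x, hQ'T (hyQ' x)⟩ : T) : Ω), hαx⟩ :=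
        Subtype.ext (congrArg (fun z : T => (z : Ω)) (hrel x)).symm
      rw [e]
      exact hχe ⟨_, hQ'T (hyQ' x)⟩ (hyQ' x) (hφ₀₂T _) hαx
    refine ⟨α₂ * α₁, mul_mem hα₂ hα₁, φ₀, hφ₀, fun x hx => ?_⟩
    have e : (⟨φ₀ x, hx⟩ : T) =
        α₁⁻¹ ⟨φ₀₂ ⟨(φ₁.comp (Subgroup.inclusion hP'P)) x, hyQ' x⟩, hφ₀₂T _⟩ :=
      Subtype.ext (hφ₀val x)
    rw [e, MulAut.mul_apply, MulAut.apply_inv_self]
    exact h2 ⟨(φ₁.comp (Subgroup.inclusion hP'P)) x, hyQ' x⟩ (hφ₀₂T _)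

/-- The Frattini property of a saturated subsystem of `p`-power index over a strongly closed
subgroup. -/
theorem frattini_of_ppower [Finite S] {p : ℕ} [Fact p.Prime] (hS : IsPGroup p S)
    {F : FusionSystem S} (hF : F.IsSaturated p) {E : FusionSystem T}
    (hTsc : F.StronglyClosed T) (hEsat : E.IsSaturated p) (hEi : E.HasPPowerIndexIn F p) :
    ∀ (P : Subgroup Ω), P ≤ T → ∀ (φ : P →* Ω), φ ∈ F.Hom P →
      ∃ α ∈ F.autGroup T, ∃ φ₀ ∈ E.Hom P,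
        ∀ (x : P) (hx : φ₀ x ∈ T), φ x = ((α ⟨φ₀ x, hx⟩ : T) : Ω) := by
  intro P hPT φ hφ
  obtain ⟨α, hα, φ₀, hφ₀, h⟩ :=
    fratAt_of_alpGen hS hTsc hEsat hEi P φ (alperin hS F hF P φ hφ) P le_rfl hPT
  exact ⟨α, hα, φ₀, hφ₀, fun x hx => h x hx⟩

end Cfsg.Agent.Lib.Helper85
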