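import Mathlib
import Cfsg.Agent.Lib.Helper85.PSpDefs
import Cfsg.Agent.Lib.Helper40.PSpL1
import Cfsg.Agent.Lib.Helper79.PSpL14

set_option autoImplicit false

/-! Leaves L7, L10, L11 of the S5171 skeleton. -/

namespace Cfsg.Agent.Lib.Helper85.PSp

open Matrix Cfsg.Agent.Lib.Helper45.SpAut Cfsg.Agent.Lib.Helper41.PSLn

variable {F : Type*} [Field F] [Fintype F] {m : ℕ}

theorem l7_tor_one : (tor (1 : Fin m → Fˣ) : SpG m F) = 1 := by
  apply Subtype.ext
  rw [tor_coe]
  simp only [Pi.one_apply, inv_one, Units.val_one]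
  show fromBlocks (diagonal fun _ => (1 : F)) 0 0 (diagonal fun _ => (1 : F)) = 1
  rw [diagonal_one, fromBlocks_one]

theorem l7_tor_inv (d : Fin m → Fˣ) : (tor d : SpG m F)⁻¹ = tor d⁻¹ := by
  apply inv_eq_of_mul_eq_one_right
  rw [l14_tor_mul, mul_inv_cancel, l7_tor_one]

theorem l7_tor_eq_diag (d : Fin m → Fˣ) : (tor d : SpG m F).1 =
    diagonal (Sum.elim (fun i => ((d i : Fˣ) : F)) (fun i => (((d i)⁻¹ : Fˣ) : F))) := by
  rw [tor_coe, fromBlocks_diagonal]

/-- L7. the torus normalises `US`. -/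
theorem tor_conj_mem_US (d : Fin m → Fˣ) {x : SpG m F} (hx : x ∈ US m F) :
    tor d * x * (tor d)⁻¹ ∈ US m F := by
  obtain ⟨h1, h2⟩ := mem_US_iff.mp hx
  rw [mem_US_iff]
  have hcoe : (tor d * x * (tor d)⁻¹).1 = (tor d : SpG m F).1 * x.1 * (tor d⁻¹ : SpG m F).1 := by
    rw [l7_tor_inv]
    rfl
  constructor
  · intro i j
    rw [hcoe, l7_tor_eq_diag, l7_tor_eq_diag, Matrix.mul_diagonal, Matrix.diagonal_mul, h1 i j,
      mul_zero, zero_mul]
  · intro i j hji
    rw [hcoe, l7_tor_eq_diag, l7_tor_eq_diag, Matrix.mul_diagonal, Matrix.diagonal_mul, h2 i j hji]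
    simp only [Sum.elim_inl, Pi.inv_apply]
    by_cases hij : i = j
    · subst hij
      rw [Matrix.one_apply_eq, mul_one, ← Units.val_mul, mul_inv_cancel, Units.val_one]
    · rw [Matrix.one_apply_ne hij, mul_zero, zero_mul]

/-- L10. if a transvection `T v 1` lies in `US` then `v ∈ L`. -/
theorem inL_of_T_mem_US {v : Vec m F} (h : T v 1 ∈ US m F) : InL v := by
  have h1 : ∀ i : Fin m, InL ((B (eV i) v) • v) := by
    intro i
    have h2 := US_inL h (inL_eV (F := F) i)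
    rw [T_mulVec, one_mul] at h2
    have h3 := h2.sub (inL_eV (F := F) i)
    rwa [add_sub_cancel_left] at h3
  by_cases hall : ∀ i : Fin m, B (eV i) v = 0
  · rw [inL_iff_perp]
    intro i
    rw [B_swap, hall i, neg_zero]
  · push_neg at hall
    obtain ⟨i, hi⟩ := hall
    intro k
    have h4 := h1 i k
    rw [Pi.smul_apply, smul_eq_mul] at h4
    rcases mul_eq_zero.mp h4 with h5 | h5
    · exact absurd h5 hi
    · exact h5

/-- L11. an element normalising `US` preserves `L`. -/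
theorem lowerLeft_zero_of_normalizes (n : SpG m F) (hn : ∀ x ∈ US m F, n * x * n⁻¹ ∈ US m F) :
    ∀ i j : Fin m, n.1 (Sum.inr i) (Sum.inl j) = 0 := by
  intro i j
  have h1 : T (eV j : Vec m F) 1 ∈ US m F := NS_le_US (T_mem_NS (inL_eV j) 1)
  have h2 := hn _ h1
  rw [conj_T] at h2
  have h3 := inL_of_T_mem_US h2 i
  have h4 : (n.1 *ᵥ (eV j : Vec m F)) (Sum.inr i) = n.1 (Sum.inr i) (Sum.inl j) := by
    unfold eV
    rw [mulVec_single_one]
    rfl
  rw [← h4]
  exact h3

end Cfsg.Agent.Lib.Helper85.PSp
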