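import Mathlib
import Cfsg.Agent.Lib.Helper85.PSpDefs
import Cfsg.Agent.Lib.Helper25.PSLnT13
import Cfsg.Agent.Lib.Helper94.PSLnT6
import Cfsg.Agent.Lib.Helper94.PSLnT7

set_option autoImplicit false

/-! Leaves L8, L9, L16 of the S5171 skeleton. -/

namespace Cfsg.Agent.Lib.Helper85.PSp

open Matrix Cfsg.Agent.Lib.Helper45.SpAut Cfsg.Agent.Lib.Helper41.PSLn

variable {F : Type*} [Field F] [Fintype F] {m : ℕ}

/-- L8. `Uni` (Helper5) and `UU` (helper41) are the same subgroup of `SL_m`. -/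
theorem Uni_eq_UU : Cfsg.Agent.Lib.Helper5.AutPSLn.Uni m F = UU m F := by
  ext g
  constructor
  · intro hg
    have hg' : Cfsg.Agent.Lib.Helper5.AutPSLn.IsUni g.1 := hg
    rw [mem_UU]
    constructor
    · intro i j hji
      rw [hg' i j (le_of_lt hji), Matrix.one_apply_ne (ne_of_gt hji)]
    · intro i
      rw [hg' i i le_rfl, Matrix.one_apply_eq]
  · intro hg
    obtain ⟨h1, h2⟩ := mem_UU.mp hg
    show Cfsg.Agent.Lib.Helper5.AutPSLn.IsUni g.1
    intro i j hji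
    rcases lt_or_eq_of_le hji with h | h
    · rw [h1 i j h, Matrix.one_apply_ne (ne_of_gt h)]
    · rw [h, h2 i, Matrix.one_apply_eq]

/-- L9. from L8 and `UU_le_closure_tv` (T13). -/
theorem DS_le_of_tv_mem {T : Subgroup (SpG m F)}
    (h : ∀ (i j : Fin m) (hij : i < j) (c : F), dHom (tv (ne_of_lt hij) c) ∈ T) : DS m F ≤ T := by
  rintro _ ⟨A, hA, rfl⟩
  have hA' : A ∈ UU m F := by
    rw [← Uni_eq_UU]
    exact hA
  have h1 := UU_le_closure_tv hA'
  have h2 : Subgroup.closure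
      {g : SLn m F | ∃ (i j : Fin m) (hij : i < j) (c : F), g = tv (ne_of_lt hij) c} ≤
      T.comap dHom := by
    rw [Subgroup.closure_le]
    rintro _ ⟨i, j, hij, c, rfl⟩
    exact h i j hij c
  exact h2 h1

/-- L16. from `dg_mem_closure_hh` (T6) and `hh_eq_tv` (T7), mapped by `dHom`. -/
theorem dHom_dg_mem_closure [NeZero m] (δ : Fin m → F) (hδ : ∏ i, δ i = 1) :
    dHom (dg δ hδ) ∈ Subgroup.closure
      {g : SpG m F | ∃ (i j : Fin m) (hij : i ≠ j) (c : F), g = dHom (tv hij c)} := by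
  have h1 := dg_mem_closure_hh (0 : Fin m) δ hδ
  have h2 : Subgroup.closure
      {h : SLn m F | ∃ (i : Fin m) (hil : i ≠ 0) (t : Fˣ), h = hh i 0 hil t} ≤
      (Subgroup.closure
        {g : SpG m F | ∃ (i j : Fin m) (hij : i ≠ j) (c : F), g = dHom (tv hij c)}).comap dHom := by
    rw [Subgroup.closure_le]
    rintro _ ⟨i, hil, t, rfl⟩
    show dHom (hh i 0 hil t) ∈ Subgroup.closure
        {g : SpG m F | ∃ (i j : Fin m) (hij : i ≠ j) (c : F), g = dHom (tv hij c)}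
    rw [hh_eq_tv hil t, map_mul, map_mul, map_mul]
    refine Subgroup.mul_mem _ (Subgroup.mul_mem _ (Subgroup.mul_mem _ ?_ ?_) ?_) ?_
    · exact Subgroup.subset_closure ⟨i, 0, hil, _, rfl⟩
    · exact Subgroup.subset_closure ⟨0, i, hil.symm, _, rfl⟩
    · exact Subgroup.subset_closure ⟨i, 0, hil, _, rfl⟩
    · exact Subgroup.subset_closure ⟨0, i, hil.symm, _, rfl⟩
  exact h2 h1

end Cfsg.Agent.Lib.Helper85.PSp
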