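import Mathlib
import Cfsg.Agent.Lib.Helper85.PSpDefs
import Cfsg.Agent.Lib.Helper85.PSpL7
import Cfsg.Agent.Lib.Helper85.PSpL8
import Cfsg.Agent.Lib.Helper85.PSpL12

set_option autoImplicit false

/-! Leaf L13 of the S5171 skeleton: `N(US) = US · torus`. -/

namespace Cfsg.Agent.Lib.Helper85.PSp

open Matrix Cfsg.Agent.Lib.Helper45.SpAut Cfsg.Agent.Lib.Helper41.PSLn

variable {F : Type*} [Field F] [Fintype F] {m : ℕ}

/-- upper-left block -/
def l13_A (g : SpG m F) : Matrix (Fin m) (Fin m) F := fun i j => g.1 (Sum.inl i) (Sum.inl j)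

theorem l13_inv_normalizes (n : SpG m F) (hn : ∀ x ∈ US m F, n * x * n⁻¹ ∈ US m F) :
    ∀ x ∈ US m F, n⁻¹ * x * n⁻¹⁻¹ ∈ US m F := by
  intro x hx
  let f : ↥(US m F) → ↥(US m F) := fun y => ⟨n * (y : SpG m F) * n⁻¹, hn y y.2⟩
  have hinj : Function.Injective f := by
    intro a b hab
    have h1 : n * (a : SpG m F) * n⁻¹ = n * (b : SpG m F) * n⁻¹ := congrArg Subtype.val hab
    exact Subtype.ext (mul_left_cancel (mul_right_cancel h1))
  obtain ⟨y, hy⟩ := Finite.surjective_of_injective hinj ⟨x, hx⟩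
  have h1 : n * (y : SpG m F) * n⁻¹ = x := congrArg Subtype.val hy
  have h2 : n⁻¹ * x * n⁻¹⁻¹ = y := by
    rw [← h1]
    group
  rw [h2]
  exact y.2

/-- product of upper-left blocks when the lower-left block of the right factor vanishes -/
theorem l13_A_mul (g h : SpG m F) (hh : ∀ i j : Fin m, h.1 (Sum.inr i) (Sum.inl j) = 0) :
    l13_A (g * h) = l13_A g * l13_A h := by
  ext i j
  show (g.1 * h.1) (Sum.inl i) (Sum.inl j) = _
  rw [Matrix.mul_apply, Fintype.sum_sum_type, Matrix.mul_apply]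
  have h0 : ∑ k : Fin m, g.1 (Sum.inl i) (Sum.inr k) * h.1 (Sum.inr k) (Sum.inl j) = 0 :=
    Finset.sum_eq_zero (fun k _ => by rw [hh k j, mul_zero])
  rw [h0, add_zero]
  rfl

theorem l13_lowerLeft_mul (g h : SpG m F) (hg : ∀ i j : Fin m, g.1 (Sum.inr i) (Sum.inl j) = 0)
    (hh : ∀ i j : Fin m, h.1 (Sum.inr i) (Sum.inl j) = 0) :
    ∀ i j : Fin m, (g * h).1 (Sum.inr i) (Sum.inl j) = 0 := by
  intro i j
  show (g.1 * h.1) (Sum.inr i) (Sum.inl j) = 0
  rw [Matrix.mul_apply, Fintype.sum_sum_type]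
  have h0 : ∑ k : Fin m, g.1 (Sum.inr i) (Sum.inr k) * h.1 (Sum.inr k) (Sum.inl j) = 0 :=
    Finset.sum_eq_zero (fun k _ => by rw [hh k j, mul_zero])
  have h1 : ∑ k : Fin m, g.1 (Sum.inr i) (Sum.inl k) * h.1 (Sum.inl k) (Sum.inl j) = 0 :=
    Finset.sum_eq_zero (fun k _ => by rw [hg i k, zero_mul])
  rw [h0, h1, add_zero]

theorem l13_A_one : l13_A (1 : SpG m F) = 1 := by
  ext i j
  show (1 : Matrix (Fin m ⊕ Fin m) (Fin m ⊕ Fin m) F) (Sum.inl i) (Sum.inl j) = _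
  rw [Matrix.one_apply, Matrix.one_apply]
  simp only [Sum.inl.injEq]

theorem l13_A_dHom (u : SLn m F) : l13_A (dHom u : SpG m F) = u.1 := by
  ext i j
  show (dHom u : SpG m F).1 (Sum.inl i) (Sum.inl j) = _
  rw [dHom_coe]
  rfl

theorem l13_lowerLeft_dHom (u : SLn m F) :
    ∀ i j : Fin m, (dHom u : SpG m F).1 (Sum.inr i) (Sum.inl j) = 0 := by
  intro i j
  rw [dHom_coe]
  rfl

/-- L13. -/
theorem normalizer_US_decomp (n : SpG m F) (hn : ∀ x ∈ US m F, n * x * n⁻¹ ∈ US m F) :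
    ∃ u ∈ US m F, ∃ d : Fin m → Fˣ, n = u * tor d := by
  classical
  have hn' := l13_inv_normalizes n hn
  have hC := lowerLeft_zero_of_normalizes n hn
  have hC' := lowerLeft_zero_of_normalizes n⁻¹ hn'
  set A := l13_A n with hA
  set A' := l13_A n⁻¹ with hA'
  have h1 : A * A' = 1 := by
    rw [hA, hA', ← l13_A_mul n n⁻¹ hC', mul_inv_cancel, l13_A_one]
  have h2 : A' * A = 1 := by
    rw [hA, hA', ← l13_A_mul n⁻¹ n hC, inv_mul_cancel, l13_A_one]
  have hconj : ∀ u : SLn m F, l13_A (n * dHom u * n⁻¹) = A * u.1 * A' := by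
    intro u
    rw [l13_A_mul _ _ hC', l13_A_mul _ _ (l13_lowerLeft_dHom u), l13_A_dHom]
  have hconj' : ∀ u : SLn m F, l13_A (n⁻¹ * dHom u * n⁻¹⁻¹) = A' * u.1 * A := by
    intro u
    rw [inv_inv, l13_A_mul _ _ hC, l13_A_mul _ _ (l13_lowerLeft_dHom u), l13_A_dHom]
  have hdU : ∀ u ∈ UU m F, (dHom u : SpG m F) ∈ US m F := by
    intro u hu
    refine DS_le_US ⟨u, ?_, rfl⟩
    rw [Uni_eq_UU]
    exact hu
  have hup : ∀ i j : Fin m, j < i → A i j = 0 := by
    apply upper_of_normalizes_UU A A' h1 h2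
    intro u hu i j hji
    rw [← hconj u]
    exact (mem_US_iff.mp (hn _ (hdU u hu))).2 i j hji
  have hup' : ∀ i j : Fin m, j < i → A' i j = 0 := by
    apply upper_of_normalizes_UU A' A h2 h1
    intro u hu i j hji
    rw [← hconj' u]
    exact (mem_US_iff.mp (hn' _ (hdU u hu))).2 i j hji
  have hdiag : ∀ i : Fin m, A i i * A' i i = 1 := by
    intro i
    have h3 : (A * A') i i = 1 := by rw [h1, Matrix.one_apply_eq]
    rw [Matrix.mul_apply, Finset.sum_eq_single i] at h3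
    · exact h3
    · intro k _ hki
      rcases lt_or_gt_of_ne hki with h | h
      · rw [hup i k h, zero_mul]
      · rw [hup' k i h, mul_zero]
    · intro h
      exact absurd (Finset.mem_univ i) h
  have hne : ∀ i : Fin m, A i i ≠ 0 := by
    intro i h
    have := hdiag i
    rw [h, zero_mul] at this
    exact zero_ne_one this
  let d : Fin m → Fˣ := fun i => Units.mk0 (A i i) (hne i)
  refine ⟨n * (tor d)⁻¹, ?_, d, by rw [inv_mul_cancel_right]⟩
  rw [mem_US_iff]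
  have hcoe : (n * (tor d)⁻¹).1 = n.1 * (tor d⁻¹ : SpG m F).1 := by
    rw [l7_tor_inv]
    rfl
  constructor
  · intro i j
    rw [hcoe, l7_tor_eq_diag, Matrix.mul_diagonal, hC i j, zero_mul]
  · intro i j hji
    rw [hcoe, l7_tor_eq_diag, Matrix.mul_diagonal]
    simp only [Sum.elim_inl, Pi.inv_apply]
    show A i j * _ = _
    rcases lt_or_eq_of_le hji with h | h
    · rw [hup i j h, zero_mul, Matrix.one_apply_ne (ne_of_gt h)]
    · subst h
      rw [Matrix.one_apply_eq]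
      show A j j * ((Units.mk0 (A j j) (hne j))⁻¹ : Fˣ) = 1
      rw [Units.val_inv_eq_inv_val, Units.val_mk0, mul_inv_cancel₀ (hne j)]

end Cfsg.Agent.Lib.Helper85.PSp
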