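import Mathlib
import Cfsg.Agent.Lib.Helper85.PSpDefs
import Cfsg.Agent.Lib.Helper41.PSLnA

set_option autoImplicit false

/-! Leaves L17, L18 of the S5171 skeleton. -/

namespace Cfsg.Agent.Lib.Helper85.PSp

open Matrix Cfsg.Agent.Lib.Helper45.SpAut Cfsg.Agent.Lib.Helper41.PSLn

variable {F : Type*} [Field F] [Fintype F] {m : ℕ}

/-- L17. orders. -/
theorem orderOf_T (p : ℕ) [hp : Fact p.Prime] [CharP F p] (v : Vec m F) (c : F) :
    ∃ k : ℕ, orderOf (T v c) = p ^ k := by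
  have h1 : (T v c) ^ p = 1 := by
    rw [T_pow, CharP.cast_eq_zero, zero_mul, T_zero]
  have h2 : orderOf (T v c) ∣ p ^ 1 := by
    rw [pow_one]
    exact orderOf_dvd_of_pow_eq_one h1
  obtain ⟨k, _, hk⟩ := (Nat.dvd_prime_pow hp.out).mp h2
  exact ⟨k, hk⟩

theorem orderOf_dHom_tv (p : ℕ) [hp : Fact p.Prime] [CharP F p] {i j : Fin m} (hij : i ≠ j) (c : F) :
    ∃ k : ℕ, orderOf (dHom (tv hij c) : SpG m F) = p ^ k := by
  obtain ⟨k, hk⟩ := orderOf_tv p hij c
  have h2 : orderOf (dHom (tv hij c) : SpG m F) ∣ p ^ k := hk ▸ orderOf_map_dvd dHom (tv hij c)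
  obtain ⟨j', _, hj'⟩ := (Nat.dvd_prime_pow hp.out).mp h2
  exact ⟨j', hj'⟩

/-- L18. anything in the image of `dHom` normalises `NS`. -/
theorem dHom_mem_normalizer_NS (A : SLn m F) :
    dHom A ∈ Subgroup.normalizer (NS m F : Set (SpG m F)) := by
  rw [Subgroup.mem_normalizer_iff]
  intro h
  constructor
  · intro hh y hy
    rw [mul_mulVec, mul_mulVec, ← map_inv, hh _ (dHom_inL _ hy), ← mul_mulVec, ← map_mul,
      mul_inv_cancel, map_one, one_mulVec']
  · intro hh y hy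
    have h1 := hh _ (dHom_inL A hy)
    rw [mul_mulVec, mul_mulVec, inv_mulVec_mulVec] at h1
    exact mulVec_injective (dHom A) h1

theorem US_le_normalizer_NS : US m F ≤ Subgroup.normalizer (NS m F : Set (SpG m F)) :=
  sup_le DS_le_normalizer Subgroup.le_normalizer

end Cfsg.Agent.Lib.Helper85.PSp
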