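import Mathlib
import Cfsg.Agent.Lib.Helper85.PSpDefs

set_option autoImplicit false

/-! Leaf L22 of the S5171 skeleton: the centraliser of `QS`. -/

namespace Cfsg.Agent.Lib.Helper85.PSp

open Matrix Cfsg.Agent.Lib.Helper45.SpAut Cfsg.Agent.Lib.Helper13

variable {F : Type*} [Field F] {m : ℕ}

theorem l22_B_e0_e0 [NeZero m] : B (eV 0 : Vec m F) (eV 0) = 0 := sympForm_self m _

theorem l22_B_f0_e0 [NeZero m] : B (fV 0 : Vec m F) (eV 0) = 1 := by
  rw [B_eV_right]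
  simp [fV]

theorem l22_T_e0_mem [NeZero m] (c : F) : T (eV 0 : Vec m F) c ∈ QS m F := by
  rw [mem_QS]
  constructor
  · rw [T_mulVec, l22_B_e0_e0, mul_zero, zero_smul, add_zero]
  · intro x hx
    refine ⟨0, ?_⟩
    rw [T_mulVec, hx, mul_zero, zero_smul]

/-- the action of `E w = T (w + e_0) 1 * T w (-1)`, for `w ⟂ e_0` -/
theorem l22_E_mulVec [NeZero m] {w : Vec m F} (hw : B w (eV 0) = 0) (x : Vec m F) :
    (T (w + eV 0) 1 * T w (-1)).1 *ᵥ x =
      x + B x (eV 0) • w + (B x w + B x (eV 0)) • (eV 0 : Vec m F) := by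
  rw [mul_mulVec, T_mulVec, T_mulVec]
  have hww : B w w = 0 := sympForm_self m w
  have h1 : B (x + (-1 * B x w) • w) (w + eV 0) = B x w + B x (eV 0) := by
    show Cfsg.sympForm m F _ _ = _
    rw [sympForm_add_left, sympForm_smul_left, sympForm_add_right, sympForm_add_right]
    show B x w + B x (eV 0) + -1 * B x w * (B w w + B w (eV 0)) = _
    rw [hww, hw]
    ring
  rw [h1, one_mul]
  module

theorem l22_E_mem [NeZero m] {w : Vec m F} (hw : B w (eV 0) = 0) :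
    T (w + eV 0) 1 * T w (-1) ∈ QS m F := by
  rw [mem_QS]
  constructor
  · rw [l22_E_mulVec hw, l22_B_e0_e0, zero_smul, add_zero]
    have : B (eV 0 : Vec m F) w = 0 := by rw [B_swap, hw, neg_zero]
    rw [this, add_zero, zero_smul, add_zero]
  · intro x hx
    refine ⟨B x w, ?_⟩
    rw [l22_E_mulVec hw, hx, zero_smul, add_zero, add_zero]

/-- a vector orthogonal to `e_0^⊥` is a multiple of `e_0` -/
theorem l22_perp_perp [NeZero m] {y : Vec m F}
    (hy : ∀ w : Vec m F, B w (eV 0) = 0 → B y w = 0) : ∃ c : F, y = c • (eV 0 : Vec m F) := by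
  refine ⟨y (Sum.inl 0), ?_⟩
  funext s
  rcases s with j | j
  · by_cases hj : j = 0
    · subst hj
      simp [eV]
    · have h1 : B (fV j : Vec m F) (eV 0) = 0 := by
        rw [B_eV_right]
        simp [fV, hj]
      have h2 := hy (fV j) h1
      rw [B_fV_right] at h2
      have h3 : y (Sum.inl j) = 0 := neg_eq_zero.mp h2
      rw [h3]
      simp [eV, hj]
  · have h1 : B (eV j : Vec m F) (eV 0) = 0 := by
      rw [B_eV_right]
      simp [eV]
    have h2 := hy (eV j) h1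
    rw [B_eV_right] at h2
    rw [h2]
    simp [eV]

/-- L22. -/
theorem centralizer_QS [NeZero m] (g : SpG m F) (hg : ∀ r ∈ QS m F, g * r = r * g) :
    ∃ z ∈ Subgroup.center (SpG m F), ∃ r ∈ QS m F, g = z * r := by
  have : Nonempty (Fin m) := ⟨0⟩
  -- `g e_0 = λ e_0` with `λ² = 1`
  have h1 : T (g.1 *ᵥ (eV 0 : Vec m F)) 1 = T (eV 0) 1 := by
    rw [← conj_T, hg _ (l22_T_e0_mem 1), mul_assoc, mul_inv_cancel, mul_one]
  have h2 : ∀ x : Vec m F, B x (g.1 *ᵥ (eV 0 : Vec m F)) • (g.1 *ᵥ (eV 0 : Vec m F)) =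
      B x (eV 0) • (eV 0 : Vec m F) := by
    intro x
    have := congrArg (fun t : SpG m F => t.1 *ᵥ x) h1
    simp only [T_mulVec, one_mul] at this
    exact add_left_cancel this
  have h3 := h2 (fV 0)
  rw [l22_B_f0_e0, one_smul] at h3
  set μ := B (fV 0 : Vec m F) (g.1 *ᵥ (eV 0 : Vec m F)) with hμ
  have hμ0 : μ ≠ 0 := by
    intro h
    rw [h, zero_smul] at h3
    exact eV_ne_zero 0 h3.symm
  have hge : g.1 *ᵥ (eV 0 : Vec m F) = μ⁻¹ • (eV 0 : Vec m F) := by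
    calc g.1 *ᵥ (eV 0 : Vec m F) = μ⁻¹ • (μ • (g.1 *ᵥ (eV 0 : Vec m F))) := by
          rw [smul_smul, inv_mul_cancel₀ hμ0, one_smul]
      _ = μ⁻¹ • (eV 0 : Vec m F) := by rw [h3]
  have hμ2 : μ⁻¹ * μ⁻¹ = 1 := by
    have h4 := h2 (fV 0)
    rw [hge] at h4
    have h5 : B (fV 0 : Vec m F) (μ⁻¹ • (eV 0 : Vec m F)) = μ⁻¹ := by
      show Cfsg.sympForm m F _ _ = _
      rw [sympForm_smul_right]
      show μ⁻¹ * B (fV 0 : Vec m F) (eV 0) = _
      rw [l22_B_f0_e0, mul_one]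
    rw [h5, l22_B_f0_e0, one_smul, smul_smul] at h4
    have h6 := congrFun h4 (Sum.inl 0)
    simpa [eV] using h6
  -- `g x = λ x + c e_0` for `x ⟂ e_0`
  have hperp : ∀ x : Vec m F, B x (eV 0) = 0 → B (g.1 *ᵥ x) (eV 0) = 0 := by
    intro x hx
    have h4 : B (g.1 *ᵥ x) (g.1 *ᵥ (eV 0 : Vec m F)) = 0 := by rw [B_mulVec, hx]
    rw [hge] at h4
    have h5 : B (g.1 *ᵥ x) (μ⁻¹ • (eV 0 : Vec m F)) = μ⁻¹ * B (g.1 *ᵥ x) (eV 0) :=
      sympForm_smul_right m _ _ _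
    rw [h5] at h4
    rcases mul_eq_zero.mp h4 with h | h
    · exact absurd h (inv_ne_zero hμ0)
    · exact h
  have hact : ∀ x : Vec m F, B x (eV 0) = 0 →
      ∃ c : F, g.1 *ᵥ x = μ⁻¹ • x + c • (eV 0 : Vec m F) := by
    intro x hx
    have hy : ∀ w : Vec m F, B w (eV 0) = 0 → B (g.1 *ᵥ x - μ⁻¹ • x) w = 0 := by
      intro w hw
      have h4 : g.1 *ᵥ ((T (w + eV 0) 1 * T w (-1)).1 *ᵥ x) =
          (T (w + eV 0) 1 * T w (-1)).1 *ᵥ (g.1 *ᵥ x) := by
        rw [← mul_mulVec, ← mul_mulVec, hg _ (l22_E_mem hw)]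
      rw [l22_E_mulVec hw, l22_E_mulVec hw, hx, hperp x hx, zero_smul, add_zero,
        add_zero, add_zero, add_zero, mulVec_add, mulVec_smul, hge, smul_smul] at h4
      have h5 : (B x w * μ⁻¹) • (eV 0 : Vec m F) = B (g.1 *ᵥ x) w • (eV 0 : Vec m F) :=
        add_left_cancel h4
      have h6 := congrFun h5 (Sum.inl 0)
      have h7 : B x w * μ⁻¹ = B (g.1 *ᵥ x) w := by simpa [eV] using h6
      show Cfsg.sympForm m F _ _ = 0
      rw [sympForm_sub_left, sympForm_smul_left]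
      show B (g.1 *ᵥ x) w - μ⁻¹ * B x w = 0
      rw [← h7]
      ring
    obtain ⟨c, hc⟩ := l22_perp_perp hy
    exact ⟨c, by rw [← hc]; abel⟩
  -- the two cases `λ = 1`, `λ = -1`
  have hcases : μ⁻¹ = 1 ∨ μ⁻¹ = -1 := by
    have : (μ⁻¹ - 1) * (μ⁻¹ + 1) = 0 := by linear_combination hμ2
    rcases mul_eq_zero.mp this with h | h
    · exact Or.inl (sub_eq_zero.mp h)
    · exact Or.inr (eq_neg_of_add_eq_zero_left h)
  rcases hcases with h | h
  · refine ⟨1, Subgroup.one_mem _, g, ?_, (one_mul g).symm⟩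
    rw [mem_QS]
    refine ⟨by rw [hge, h, one_smul], fun x hx => ?_⟩
    obtain ⟨c, hc⟩ := hact x hx
    exact ⟨c, by rw [hc, h, one_smul]⟩
  · have hneg : (-1 : Matrix (Fin m ⊕ Fin m) (Fin m ⊕ Fin m) F) ∈ symplecticGroup (Fin m) F :=
      SymplecticGroup.neg_mem (Submonoid.one_mem _)
    let z : SpG m F := ⟨-1, hneg⟩
    have hz : z ∈ Subgroup.center (SpG m F) :=
      (Cfsg.Agent.Lib.Helper5.mem_center_symplecticGroup_iff z).mpr (Or.inr rfl)
    have hzz : z * z = 1 := by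
      apply Subtype.ext
      show (-1 : Matrix (Fin m ⊕ Fin m) (Fin m ⊕ Fin m) F) * -1 = 1
      simp
    have hzv : ∀ x : Vec m F, (z * g).1 *ᵥ x = -(g.1 *ᵥ x) := by
      intro x
      rw [mul_mulVec]
      show (-1 : Matrix (Fin m ⊕ Fin m) (Fin m ⊕ Fin m) F) *ᵥ _ = _
      rw [neg_mulVec, one_mulVec]
    refine ⟨z, hz, z * g, ?_, by rw [← mul_assoc, hzz, one_mul]⟩
    rw [mem_QS]
    refine ⟨by rw [hzv, hge, h, neg_smul, one_smul, neg_neg], fun x hx => ?_⟩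
    obtain ⟨c, hc⟩ := hact x hx
    refine ⟨-c, ?_⟩
    rw [hzv, hc, h, neg_smul, one_smul, neg_add, neg_neg, neg_smul]

end Cfsg.Agent.Lib.Helper85.PSp
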