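import Mathlib
import Cfsg.Agent.Lib.Helper85.PSpDefs
import Cfsg.Agent.Lib.Helper79.PSpL15
import Cfsg.Agent.Lib.Helper41.PSLnA

set_option autoImplicit false

/-! Leaf L24 of the S5171 skeleton: a Weyl element conjugating `nElt (offS i j c)` to
`dHom (tv i j c)`. -/

namespace Cfsg.Agent.Lib.Helper85.PSp

open Matrix Cfsg.Agent.Lib.Helper45.SpAut Cfsg.Agent.Lib.Helper41.PSLn

variable {F : Type*} [Field F] [Fintype F] {m : ℕ}

/-- the Weyl element of the `j`-th hyperbolic plane -/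
def l24_w (j : Fin m) : SpG m F := T (eV j) 1 * T (fV j) 1 * T (eV j) 1

theorem l24_w_inl (j : Fin m) (x : Vec m F) (k : Fin m) :
    ((l24_w j : SpG m F).1 *ᵥ x) (Sum.inl k) = if k = j then x (Sum.inr j) else x (Sum.inl k) := by
  unfold l24_w
  rw [mul_mulVec, mul_mulVec, l15_Te_inl, l15_Tf_inl, l15_Te_inl, l15_Tf_inr, l15_Te_inr,
    l15_Te_inl]
  by_cases h : k = j
  · subst h
    simp
  · simp [h]

theorem l24_w_inr (j : Fin m) (x : Vec m F) (k : Fin m) :
    ((l24_w j : SpG m F).1 *ᵥ x) (Sum.inr k) = if k = j then - x (Sum.inl j) else x (Sum.inr k) := by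
  unfold l24_w
  rw [mul_mulVec, mul_mulVec, l15_Te_inr, l15_Tf_inr, l15_Te_inr, l15_Te_inl]
  by_cases h : k = j
  · subst h
    simp
  · simp [h]

theorem l24_nElt_inl (S : Matrix (Fin m) (Fin m) F) (hS : Sᵀ = S) (x : Vec m F) (k : Fin m) :
    ((nElt S hS).1 *ᵥ x) (Sum.inl k) = x (Sum.inl k) + (S *ᵥ (x ∘ Sum.inr)) k := by
  rw [nElt_mulVec]
  rfl

theorem l24_nElt_inr (S : Matrix (Fin m) (Fin m) F) (hS : Sᵀ = S) (x : Vec m F) (k : Fin m) :
    ((nElt S hS).1 *ᵥ x) (Sum.inr k) = x (Sum.inr k) := by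
  rw [nElt_mulVec]
  rfl

theorem l24_dHom_inl (A : SLn m F) (x : Vec m F) (k : Fin m) :
    ((dHom A : SpG m F).1 *ᵥ x) (Sum.inl k) = (A.1 *ᵥ (x ∘ Sum.inl)) k := by
  rw [dHom_mulVec]
  rfl

theorem l24_dHom_inr (A : SLn m F) (x : Vec m F) (k : Fin m) :
    ((dHom A : SpG m F).1 *ᵥ x) (Sum.inr k) = (((A⁻¹).1)ᵀ *ᵥ (x ∘ Sum.inr)) k := by
  rw [dHom_mulVec]
  rfl

theorem l24_single_mulVec (i j : Fin m) (c : F) (y : Fin m → F) (k : Fin m) :
    (single i j c *ᵥ y) k = if k = i then c * y j else 0 := by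
  rw [single_mulVec, Function.update_apply]
  rfl

theorem l24_offS_mulVec (i j : Fin m) (c : F) (y : Fin m → F) (k : Fin m) :
    (offS i j c *ᵥ y) k = (if k = i then c * y j else 0) + (if k = j then c * y i else 0) := by
  unfold offS
  rw [Matrix.add_mulVec, Pi.add_apply, l24_single_mulVec, l24_single_mulVec]

theorem l24_tv_mulVec {i j : Fin m} (hij : i ≠ j) (c : F) (v : Fin m → F) (k : Fin m) :
    ((tv hij c : SLn m F).1 *ᵥ v) k = v k + if k = i then c * v j else 0 := by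
  rw [tv_coe, Matrix.add_mulVec, Matrix.one_mulVec, Pi.add_apply, l24_single_mulVec]

theorem l24_tv_inv {k l : Fin m} (hkl : k ≠ l) (c : F) :
    (tv hkl c : SLn m F)⁻¹ = tv hkl (-c) := by
  apply inv_eq_of_mul_eq_one_right
  rw [← SpecialLinearGroup.transvection_add, add_neg_cancel]
  exact SpecialLinearGroup.transvection_coeff_zero hkl

theorem l24_tvT_mulVec {i j : Fin m} (hij : i ≠ j) (c : F) (v : Fin m → F) (k : Fin m) :
    ((((tv hij c : SLn m F)⁻¹).1)ᵀ *ᵥ v) k = v k + if k = j then -c * v i else 0 := by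
  rw [l24_tv_inv, tv_coe, transpose_add, transpose_one, transpose_single, Matrix.add_mulVec,
    Matrix.one_mulVec, Pi.add_apply, l24_single_mulVec]

/-- L24. -/
theorem exists_conj_nElt_offS {i j : Fin m} (hij : i ≠ j) :
    ∃ (w : SpG m F) (ε : F), ε ≠ 0 ∧ ∀ c : F,
      w * nElt (offS i j c) (offS_symm i j c) * w⁻¹ = dHom (tv hij (ε * c)) := by
  refine ⟨l24_w j, 1, one_ne_zero, fun c => ?_⟩
  rw [one_mul, mul_inv_eq_iff_eq_mul]
  apply sp_ext
  intro x
  funext s
  rcases s with k | k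
  · rw [mul_mulVec, mul_mulVec, l24_w_inl, l24_nElt_inr, l24_nElt_inl, l24_dHom_inl,
      l24_tv_mulVec, l24_offS_mulVec]
    simp only [Function.comp_apply, l24_w_inl]
    by_cases hkj : k = j
    · subst hkj
      simp [hij.symm]
    · by_cases hki : k = i
      · subst hki
        simp [hij]
      · simp [hkj, hki]
  · rw [mul_mulVec, mul_mulVec, l24_w_inr, l24_nElt_inr, l24_nElt_inl, l24_dHom_inr,
      l24_tvT_mulVec, l24_offS_mulVec]
    simp only [Function.comp_apply, l24_w_inr]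
    by_cases hkj : k = j
    · subst hkj
      simp [hij, hij.symm]
      ring
    · simp [hkj]

end Cfsg.Agent.Lib.Helper85.PSp
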