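import Mathlib
import Cfsg.Agent.Lib.Helper85.PSpDefs
import Cfsg.Agent.Lib.Helper40.PSpL1
import Cfsg.Agent.Lib.Helper49.PSpL2
import Cfsg.Agent.Lib.Helper49.PSpL3
import Cfsg.Agent.Lib.Helper25.PSpL5
import Cfsg.Agent.Lib.Helper49.PSpL6
import Cfsg.Agent.Lib.Helper85.PSpL7
import Cfsg.Agent.Lib.Helper85.PSpL8
import Cfsg.Agent.Lib.Helper85.PSpL12
import Cfsg.Agent.Lib.Helper85.PSpL13
import Cfsg.Agent.Lib.Helper79.PSpL14
import Cfsg.Agent.Lib.Helper79.PSpL15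
import Cfsg.Agent.Lib.Helper85.PSpL17
import Cfsg.Agent.Lib.Helper40.PSpL19
import Cfsg.Agent.Lib.Helper49.PSpL20
import Cfsg.Agent.Lib.Helper49.PSpL21
import Cfsg.Agent.Lib.Helper85.PSpL22
import Cfsg.Agent.Lib.Helper97.PSpL23
import Cfsg.Agent.Lib.Helper85.PSpL24
import Cfsg.Agent.Lib.Helper25.PSpL25
import Cfsg.Agent.Lib.Helper25.PSpL26

/-! All leaves of the S5171 skeleton (`tools/helper85/PSpSkel.lean.txt`), one copy each.
L1, L19: helper40; L2, L3, L4, L6, L20, L21: helper49; L5, L25, L26: helper25; L14, L15: helper79;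
L23: helper97; L7, L8, L9, L10, L11, L12, L13, L16, L17, L18, L22, L24: helper85. -/
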