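import Mathlib
import Cfsg.Agent.Lib.Helper85.PSpLeaves
import Cfsg.Agent.Lib.Helper41.PSLnB
import Cfsg.Agent.Lib.Helper32.PGroupCenter

set_option autoImplicit false

/-! `PropA (US)` for S5171: assembly from the leaves. -/

namespace Cfsg.Agent.Lib.Helper85.PSp

open Matrix Cfsg.Agent.Lib.Helper45.SpAut Cfsg.Agent.Lib.Helper41.PSLn
  Cfsg.Agent.Lib.Helper95.Fusion

variable {F : Type*} [Field F] [Fintype F] {m : ℕ}

theorem pa_diag_single_diag (d : Fin m → F) (i j : Fin m) (c : F) :
    diagonal d * single i j c * diagonal d = single i j (d i * c * d j) := by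
  ext r s
  rw [Matrix.mul_diagonal, Matrix.diagonal_mul, single_apply, single_apply]
  by_cases h : i = r ∧ j = s
  · obtain ⟨rfl, rfl⟩ := h
    simp
  · rw [if_neg h, if_neg h, mul_zero, zero_mul]

theorem pa_tv_mem_Uni {i j : Fin m} (hij : i < j) (c : F) :
    tv (ne_of_lt hij) c ∈ Cfsg.Agent.Lib.Helper5.AutPSLn.Uni m F := by
  rw [Uni_eq_UU]
  exact tv_mem_UU hij c

theorem pa_dHom_tv_mem_US {i j : Fin m} (hij : i < j) (c : F) :
    dHom (tv (ne_of_lt hij) c) ∈ US m F :=
  DS_le_US ⟨_, pa_tv_mem_Uni hij c, rfl⟩

theorem pa_exists_ne (h3 : 3 ≤ Fintype.card F) : ∃ u : F, u ≠ 0 ∧ u ≠ 1 := by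
  classical
  by_contra hcon
  push_neg at hcon
  have hsub : (Finset.univ : Finset F) ⊆ {0, 1} := by
    intro u _
    by_cases hu : u = 0
    · simp [hu]
    · simp [hcon u hu]
  have := Finset.card_le_card hsub
  rw [Finset.card_univ] at this
  have h2 : ({0, 1} : Finset F).card ≤ 2 := Finset.card_insert_le _ _
  omega

theorem propA_US (p : ℕ) [Fact p.Prime] [CharP F p] [NeZero m] (hm : 2 ≤ m)
    (hex : m = 2 → 3 ≤ Fintype.card F) : PropA (US m F) := by
  classical
  intro T hTU hT hsc
  have hnorm : ∀ x ∈ T, ∀ u ∈ US m F, u * x * u⁻¹ ∈ T := by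
    intro x hx u hu
    apply hsc x hx u
    exact (US m F).mul_mem ((US m F).mul_mem hu (hTU hx)) ((US m F).inv_mem hu)
  -- the predicate on symmetric matrices
  let P : Matrix (Fin m) (Fin m) F → Prop := fun S => ∃ hS : Sᵀ = S, nElt S hS ∈ T
  have hP0 : P 0 := ⟨transpose_zero, by
    rw [(nElt_eq_one_iff 0 transpose_zero).mpr rfl]; exact T.one_mem⟩
  have hPadd : ∀ S S', P S → P S' → P (S + S') := by
    rintro S S' ⟨hS, h⟩ ⟨hS', h'⟩
    exact ⟨_, by rw [← nElt_mul S S' hS hS']; exact T.mul_mem h h'⟩
  have hPneg : ∀ S, P S → P (-S) := by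
    rintro S ⟨hS, h⟩
    exact ⟨_, by rw [← nElt_inv S hS]; exact T.inv_mem h⟩
  have hPsub : ∀ S S', P (S + S') → P S → P S' := by
    intro S S' h1 h2
    have := hPadd _ _ h1 (hPneg _ h2)
    have e : S + S' + -S = S' := by abel
    rwa [e] at this
  have hPSL : ∀ (A : SLn m F) (S : Matrix (Fin m) (Fin m) F), P S → P (A.1 * S * A.1ᵀ) := by
    rintro A S ⟨hS, h⟩
    refine ⟨by rw [transpose_mul, transpose_mul, transpose_transpose, hS, Matrix.mul_assoc], ?_⟩
    rw [← dHom_conj_nElt A S hS]
    apply hsc _ h
    rw [dHom_conj_nElt]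
    exact NS_le_US (nElt_mem_NS _ _)
  have hPtor : ∀ (d : Fin m → Fˣ) (S : Matrix (Fin m) (Fin m) F), P S →
      P (diagonal (fun i => ((d i : Fˣ) : F)) * S * diagonal (fun i => ((d i : Fˣ) : F))) := by
    rintro d S ⟨hS, h⟩
    refine ⟨by rw [transpose_mul, transpose_mul, diagonal_transpose, hS, Matrix.mul_assoc], ?_⟩
    rw [← tor_conj_nElt d S hS]
    apply hsc _ h
    rw [tor_conj_nElt]
    exact NS_le_US (nElt_mem_NS _ _)
  -- a central element
  have hTn : (T.subgroupOf (US m F)).Normal := ⟨fun x hx u => hnorm x.1 hx u.1 u.2⟩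
  have hne : T.subgroupOf (US m F) ≠ ⊥ := by
    intro h
    apply hT
    rw [eq_bot_iff]
    intro x hx
    have h1 : (⟨x, hTU hx⟩ : US m F) ∈ T.subgroupOf (US m F) := hx
    rw [h, Subgroup.mem_bot] at h1
    rw [Subgroup.mem_bot]
    exact congrArg Subtype.val h1
  obtain ⟨z, hzT, hzc, hz1⟩ := Cfsg.Agent.Lib.Helper32.exists_ne_one_mem_normal_inf_center
    (US_isPGroup p) (T.subgroupOf (US m F)) hne
  have hzT' : (z : SpG m F) ∈ T := hzT
  have hzc' : ∀ u ∈ US m F, (z : SpG m F) * u = u * z := by
    intro u hu
    have h1 := Subgroup.mem_center_iff.mp hzc ⟨u, hu⟩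
    exact (congrArg Subtype.val h1).symm
  have hz1' : (z : SpG m F) ≠ 1 := fun h => hz1 (Subtype.ext h)
  obtain ⟨i1, h1⟩ : ∃ i1 : Fin m, (i1 : ℕ) = 1 := ⟨⟨1, hm⟩, rfl⟩
  have h01 : (0 : Fin m) ≠ i1 := by
    intro h
    have := congrArg Fin.val h
    rw [h1] at this
    simp at this
  obtain ⟨a, b, h2b, hS, hzS⟩ := center_US_form h1 z.2 hzc'
  have hPz : P (single 0 0 a + offS 0 i1 b) := ⟨hS, hzS ▸ hzT'⟩
  -- a long root element in `T`
  have hlong : ∃ a' : F, a' ≠ 0 ∧ P (single 0 0 a') := by
    by_cases hb : b = 0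
    · subst hb
      have e : (single 0 0 a + offS 0 i1 0 : Matrix (Fin m) (Fin m) F) = single 0 0 a := by
        unfold offS
        rw [single_zero, single_zero, add_zero, add_zero]
      refine ⟨a, ?_, e ▸ hPz⟩
      rintro rfl
      apply hz1'
      rw [hzS]
      rw [nElt_eq_one_iff]
      unfold offS
      rw [single_zero, single_zero, single_zero, add_zero, add_zero]
    · have h2 : (2 : F) = 0 := by
        rcases mul_eq_zero.mp h2b with h | h
        · exact h
        · exact absurd h hb
      have hshort : (∃ a' : F, a' ≠ 0 ∧ P (single 0 0 a')) ∨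
          ∃ j : Fin m, (0 : Fin m) < j ∧ P (offS 0 j b) := by
        by_cases hm3 : 3 ≤ m
        · right
          obtain ⟨i2, h2'⟩ : ∃ i2 : Fin m, (i2 : ℕ) = 2 := ⟨⟨2, hm3⟩, rfl⟩
          have h21 : i2 ≠ i1 := by
            intro h
            have := congrArg Fin.val h
            omega
          have h02 : (0 : Fin m) ≠ i2 := by
            intro h
            have := congrArg Fin.val h
            rw [h2'] at this
            simp at this
          refine ⟨i2, ?_, ?_⟩
          · rw [Fin.lt_def, h2']
            simp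
          · have hA := hPSL (tv h21 1) _ hPz
            rw [tv_mul_mul_transpose h21 1] at hA
            have e1 : single i2 i1 (1 : F) * (single 0 0 a + offS 0 i1 b) = single i2 0 b := by
              unfold offS
              rw [Matrix.mul_add, Matrix.mul_add, single_mul_single_of_ne (h := h01.symm),
                single_mul_single_of_ne (h := h01.symm), single_mul_single_same, one_mul, zero_add,
                zero_add]
            have e2 : (single 0 0 a + offS 0 i1 b) * single i1 i2 (1 : F) = single 0 i2 b := by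
              unfold offS
              rw [Matrix.add_mul, Matrix.add_mul, single_mul_single_of_ne (h := h01),
                single_mul_single_same, single_mul_single_of_ne (h := h01), mul_one, zero_add,
                add_zero]
            have e3 : (single 0 0 a + offS 0 i1 b : Matrix (Fin m) (Fin m) F) i1 i1 = 0 := by
              unfold offS
              rw [Matrix.add_apply, Matrix.add_apply,
                single_apply_of_row_ne h01, single_apply_of_row_ne h01,
                single_apply_of_col_ne _ _ h01, add_zero, add_zero]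
            rw [e1, e2, e3, mul_zero, single_zero, add_zero, one_smul] at hA
            have e4 : (single i2 0 b + single 0 i2 b : Matrix (Fin m) (Fin m) F) = offS 0 i2 b := by
              unfold offS
              rw [add_comm]
            rw [e4] at hA
            exact hPsub _ _ hA hPz
        · have hm2 : m = 2 := by omega
          by_cases ha : a = 0
          · right
            refine ⟨i1, ?_, ?_⟩
            · rw [Fin.lt_def, h1]
              simp
            · have e : (single 0 0 a + offS 0 i1 b : Matrix (Fin m) (Fin m) F) = offS 0 i1 b := by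
                rw [ha, single_zero, zero_add]
              exact e ▸ hPz
          · left
            obtain ⟨u, hu0, hu1⟩ := pa_exists_ne (hex hm2)
            let d : Fin m → Fˣ :=
              Function.update (Function.update (fun _ => (1 : Fˣ)) 0 (Units.mk0 u hu0)) i1
                (Units.mk0 u hu0)⁻¹
            have hd0 : ((d 0 : Fˣ) : F) = u := by
              show ((Function.update (Function.update (fun _ => (1 : Fˣ)) 0 (Units.mk0 u hu0)) i1
                (Units.mk0 u hu0)⁻¹ 0 : Fˣ) : F) = u
              rw [Function.update_of_ne h01, Function.update_self]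
              rfl
            have hd1 : ((d i1 : Fˣ) : F) = u⁻¹ := by
              show ((Function.update (Function.update (fun _ => (1 : Fˣ)) 0 (Units.mk0 u hu0)) i1
                (Units.mk0 u hu0)⁻¹ i1 : Fˣ) : F) = u⁻¹
              rw [Function.update_self]
              simp
            have hA := hPtor d _ hPz
            unfold offS at hA
            rw [Matrix.mul_add, Matrix.mul_add, Matrix.add_mul, Matrix.add_mul,
              pa_diag_single_diag, pa_diag_single_diag, pa_diag_single_diag, hd0, hd1] at hA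
            have e1 : u * b * u⁻¹ = b := by field_simp
            have e2 : u⁻¹ * b * u = b := by field_simp
            rw [e1, e2] at hA
            have hPz' : P (single 0 0 a + (single 0 i1 b + single i1 0 b)) := hPz
            have hB := hPadd _ _ hA (hPneg _ hPz')
            have e3 : (single 0 0 (u * a * u) + (single 0 i1 b + single i1 0 b) +
                -(single 0 0 a + (single 0 i1 b + single i1 0 b)) : Matrix (Fin m) (Fin m) F) =
                single 0 0 (u * a * u - a) := by
              rw [sub_eq_add_neg, single_add, ← single_neg]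
              abel
            rw [e3] at hB
            refine ⟨u * a * u - a, ?_, hB⟩
            have e4 : u * a * u - a = a * (u - 1) ^ 2 := by
              have h2' : (2 : F) * (a * u - a) = 0 := by rw [h2, zero_mul]
              linear_combination h2'
            rw [e4]
            exact mul_ne_zero ha (pow_ne_zero 2 (sub_ne_zero.mpr hu1))
      rcases hshort with h | ⟨j, h0j, hPj⟩
      · exact h
      · obtain ⟨w, ε, hε, hw⟩ := exists_conj_nElt_offS (F := F) (ne_of_lt h0j)
        obtain ⟨hSj, hTj⟩ := hPj
        have hx : dHom (tv (ne_of_lt h0j) (ε * b)) ∈ T := by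
          rw [← hw b]
          apply hsc _ hTj
          rw [hw b]
          exact pa_dHom_tv_mem_US h0j _
        -- commutator with `nElt (single j j ε⁻¹)`
        have hn : nElt (single j j ε⁻¹) (single_symm j ε⁻¹) ∈ US m F :=
          NS_le_US (nElt_mem_NS _ _)
        have hcomm : dHom (tv (ne_of_lt h0j) (ε * b)) * nElt (single j j ε⁻¹) (single_symm j ε⁻¹) *
            (dHom (tv (ne_of_lt h0j) (ε * b)))⁻¹ * (nElt (single j j ε⁻¹) (single_symm j ε⁻¹))⁻¹
            ∈ T := by
          have h3 := hnorm _ (T.inv_mem hx) _ hn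
          have h4 := T.mul_mem hx h3
          have e : dHom (tv (ne_of_lt h0j) (ε * b)) *
              (nElt (single j j ε⁻¹) (single_symm j ε⁻¹) *
                (dHom (tv (ne_of_lt h0j) (ε * b)))⁻¹ *
                (nElt (single j j ε⁻¹) (single_symm j ε⁻¹))⁻¹) =
              dHom (tv (ne_of_lt h0j) (ε * b)) * nElt (single j j ε⁻¹) (single_symm j ε⁻¹) *
                (dHom (tv (ne_of_lt h0j) (ε * b)))⁻¹ *
                (nElt (single j j ε⁻¹) (single_symm j ε⁻¹))⁻¹ := by group
          rwa [e] at h4
        rw [dHom_conj_nElt, nElt_inv, nElt_mul] at hcomm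
        have hPc : P ((tv (ne_of_lt h0j) (ε * b) : SLn m F).1 * single j j ε⁻¹ *
            (tv (ne_of_lt h0j) (ε * b) : SLn m F).1ᵀ + -single j j ε⁻¹) := ⟨_, hcomm⟩
        rw [tv_mul_mul_transpose (ne_of_lt h0j)] at hPc
        have e1 : single (0 : Fin m) j (1 : F) * single j j ε⁻¹ = single (0 : Fin m) j ε⁻¹ := by
          rw [single_mul_single_same, one_mul]
        have e2 : single j j ε⁻¹ * single j (0 : Fin m) (1 : F) = single j (0 : Fin m) ε⁻¹ := by
          rw [single_mul_single_same, mul_one]
        have e3 : (single j j ε⁻¹ : Matrix (Fin m) (Fin m) F) j j = ε⁻¹ := single_apply_same _ _ _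
        rw [e1, e2, e3] at hPc
        have e4 : (single j j ε⁻¹ + (ε * b) • (single 0 j ε⁻¹ + single j 0 ε⁻¹) +
            single 0 0 ((ε * b) ^ 2 * ε⁻¹) + -single j j ε⁻¹ : Matrix (Fin m) (Fin m) F) =
            offS 0 j b + single 0 0 (ε * b ^ 2) := by
          unfold offS
          rw [smul_add, smul_single, smul_single, smul_eq_mul]
          have e5 : ε * b * ε⁻¹ = b := by field_simp
          have e6 : (ε * b) ^ 2 * ε⁻¹ = ε * b ^ 2 := by field_simp
          rw [e5, e6]
          abel
        rw [e4] at hPc
        refine ⟨ε * b ^ 2, mul_ne_zero hε (pow_ne_zero 2 hb), ?_⟩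
        exact hPsub _ _ hPc ⟨hSj, hTj⟩
  obtain ⟨a', ha', hPa'⟩ := hlong
  have hall := all_symm_of_single P hP0 hPadd hPneg hPSL hPtor ha' hPa'
  have hNS : NS m F ≤ T := by
    intro g hg
    obtain ⟨S, hS, rfl⟩ := exists_nElt_eq_of_mem_NS hg
    obtain ⟨_, h⟩ := hall S hS
    exact h
  have hDS : DS m F ≤ T := by
    apply DS_le_of_tv_mem
    intro i j hij c
    obtain ⟨w, ε, hε, hw⟩ := exists_conj_nElt_offS (F := F) (ne_of_lt hij)
    have h3 := hw (ε⁻¹ * c)
    rw [mul_inv_cancel_left₀ hε] at h3
    rw [← h3]
    apply hsc _ (hNS (nElt_mem_NS _ _))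
    rw [h3]
    exact pa_dHom_tv_mem_US hij c
  exact le_antisymm hTU (sup_le hDS hNS)

end Cfsg.Agent.Lib.Helper85.PSp
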