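import Cfsg.Agent.Lib.Helper85.SimpleGroupCrit3
import Cfsg.Agent.Lib.Helper41.FusionFam

set_option autoImplicit false

/-!
# Lifting `Helper41.FusionFam.isSimple_of_family_one` along a central `p'`-quotient

`π : G →* H` surjective, `ker π` central of order prime to `p`.  If the hypotheses of
`FusionFam.isSimple_of_family_one` hold in `G` for a Sylow `p`-subgroup `S0` and a family `R i`,
with "`C_G(R i) ≤ R i`" weakened to "`C_G(R i) ≤ ker π · R i`", then the `p`-fusion system of `H`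
is simple.
-/

namespace Cfsg.Agent.Lib.Helper85.SGC

open Cfsg Cfsg.FusionSystem Subgroup Cfsg.Agent.Lib.Helper95.Fusion

variable {G H : Type*} [Group G] [Group H]

/-- `PropA` passes to the image under a homomorphism -/
theorem propA_map (π : G →* H) {S : Subgroup G} (hA : PropA S) : PropA (S.map π) := by
  intro T' hT'S hT'1 hT'cl
  have hTmap : (S ⊓ T'.comap π).map π = T' := by
    ext y
    constructor
    · rintro ⟨x, ⟨_, hx2⟩, rfl⟩
      exact hx2
    · intro hy
      obtain ⟨s, hs, rfl⟩ := hT'S hy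
      exact ⟨s, ⟨hs, hy⟩, rfl⟩
  have hT1 : S ⊓ T'.comap π ≠ ⊥ := by
    intro hbot
    apply hT'1
    rw [← hTmap, hbot, Subgroup.map_bot]
  have hTS : S ⊓ T'.comap π = S := by
    apply hA _ inf_le_left hT1
    intro x hx g hgx
    refine ⟨hgx, ?_⟩
    show π (g * x * g⁻¹) ∈ T'
    have h1 : π (g * x * g⁻¹) = π g * π x * (π g)⁻¹ := by simp
    rw [h1]
    apply hT'cl (π x) hx.2 (π g)
    rw [← h1]
    exact ⟨_, hgx, rfl⟩
  rw [← hTmap, hTS]

/-- the requested lift (statement of helper41, board #2674) -/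
theorem isSimple_of_family_lift [Finite G] [Finite H] {p : ℕ} [hp : Fact p.Prime]
    (π : G →* H) (hπ : Function.Surjective π) (hZ : π.ker ≤ Subgroup.center G)
    (hpZ : (Nat.card π.ker).Coprime p)
    (S0 : Sylow p G) (hS : (S0 : Subgroup G) ≠ ⊥) (hA : PropA (S0 : Subgroup G))
    {ι : Type*} (R : ι → Subgroup G) (hRS : ∀ i, R i ≤ (S0 : Subgroup G))
    (hSR : ∀ i, (S0 : Subgroup G) ≤ Subgroup.normalizer (R i : Set G))
    (hcent : ∀ i, ∀ g : G, (∀ x ∈ R i, g * x = x * g) → ∃ z ∈ π.ker, ∃ r ∈ R i, g = z * r)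
    (hgen : ∀ n : G, (∀ x ∈ (S0 : Subgroup G), n * x * n⁻¹ ∈ (S0 : Subgroup G)) →
      n ∈ Subgroup.closure (((S0 : Subgroup G) : Set G) ∪
        {h : G | (∀ x ∈ (S0 : Subgroup G), h * x * h⁻¹ ∈ (S0 : Subgroup G)) ∧
          ∃ i, h ∈ Subgroup.closure {g : G | g ∈ Subgroup.normalizer (R i : Set G) ∧
            ∃ k : ℕ, orderOf g = p ^ k}}))
    (S : Sylow p H) : (groupFusionSystem (S : Subgroup H)).IsSimple p := by
  classical
  have hpZ' : ¬ p ∣ Nat.card π.ker :=
    (Nat.Prime.coprime_iff_not_dvd hp.out).mp hpZ.symm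
  have hSp : IsPGroup p (S0 : Subgroup G) := S0.isPGroup'
  have hnorm : ∀ (Q : Subgroup G) (g : G), g ∈ normalizer (Q : Set G) →
      π g ∈ normalizer ((Q.map π : Subgroup H) : Set H) :=
    fun Q g hg => le_normalizer_map π ⟨g, hg, rfl⟩
  have hcoe : ((S0.mapSurjective hπ : Sylow p H) : Subgroup H) = (S0 : Subgroup G).map π :=
    Sylow.coe_mapSurjective hπ S0
  apply Cfsg.Agent.Lib.Helper41.FusionFam.isSimple_of_family_one (S0.mapSurjective hπ) ?_ ?_
    (fun i => (R i).map π) ?_ ?_ ?_ ?_ S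
  · -- `π S0 ≠ 1`
    rw [hcoe]
    intro hbot
    apply hS
    apply eq_of_map_eq π hZ hpZ' hSp IsPGroup.of_bot
    rw [hbot, Subgroup.map_bot]
  · rw [hcoe]
    exact propA_map π hA
  · intro i
    rw [hcoe]
    exact Subgroup.map_mono (hRS i)
  · intro i
    rw [hcoe]
    rintro _ ⟨s, hs, rfl⟩
    exact hnorm (R i) s (hSR i hs)
  · -- centralisers
    intro i h' hh'
    obtain ⟨g, rfl⟩ := hπ h'
    have hRp : IsPGroup p (R i) := hSp.to_le (hRS i)
    have hgc : π g ∈ centralizer (((R i).map π : Subgroup H) : Set H) := by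
      rw [mem_centralizer_iff]
      intro y hy
      exact (hh' y hy).symm
    have hg := mem_centralizer_of_map_mem π hZ hpZ' hRp hgc
    rw [mem_centralizer_iff] at hg
    obtain ⟨z, hz, r, hr, rfl⟩ := hcent i g (fun x hx => (hg x hx).symm)
    refine ⟨r, hr, ?_⟩
    rw [map_mul, MonoidHom.mem_ker.mp hz, one_mul]
  · -- generation
    intro n' hn'
    rw [hcoe] at hn' ⊢
    obtain ⟨n, rfl⟩ := hπ n'
    have hnS : ∀ x ∈ (S0 : Subgroup G), n * x * n⁻¹ ∈ (S0 : Subgroup G) := by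
      have hle : (S0 : Subgroup G).map (MulAut.conj n).toMonoidHom ≤ (S0 : Subgroup G) := by
        apply le_of_map_le π hZ hpZ' (hSp.map _) hSp
        rintro _ ⟨_, ⟨x, hx, rfl⟩, rfl⟩
        have h1 : π ((MulAut.conj n).toMonoidHom x) = π n * π x * (π n)⁻¹ := by
          simp [MulAut.conj_apply]
        rw [h1]
        exact hn' (π x) ⟨x, hx, rfl⟩
      intro x hx
      have h2 : (MulAut.conj n).toMonoidHom x ∈ (S0 : Subgroup G) := hle ⟨x, hx, rfl⟩
      simpa [MulAut.conj_apply] using h2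
    have h1 : π n ∈ (Subgroup.closure (((S0 : Subgroup G) : Set G) ∪
        {h : G | (∀ x ∈ (S0 : Subgroup G), h * x * h⁻¹ ∈ (S0 : Subgroup G)) ∧
          ∃ i, h ∈ Subgroup.closure {g : G | g ∈ Subgroup.normalizer (R i : Set G) ∧
            ∃ k : ℕ, orderOf g = p ^ k}})).map π := ⟨n, hgen n hnS, rfl⟩
    rw [MonoidHom.map_closure] at h1
    refine Subgroup.closure_mono ?_ h1
    rintro _ ⟨g, (hg | ⟨hgS, i, hgi⟩), rfl⟩
    · exact Or.inl ⟨g, hg, rfl⟩
    · right
      refine ⟨?_, i, ?_⟩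
      · rintro _ ⟨x, hx, rfl⟩
        refine ⟨g * x * g⁻¹, hgS x hx, ?_⟩
        simp
      · have h2 : π g ∈ (Subgroup.closure {h : G | h ∈ normalizer (R i : Set G) ∧
              ∃ k : ℕ, orderOf h = p ^ k}).map π := ⟨g, hgi, rfl⟩
        rw [MonoidHom.map_closure] at h2
        refine Subgroup.closure_mono ?_ h2
        rintro _ ⟨h, ⟨hhR, k, hk⟩, rfl⟩
        refine ⟨hnorm (R i) h hhR, ?_⟩
        have h3 : orderOf (π h) ∣ p ^ k := hk ▸ orderOf_map_dvd π h
        obtain ⟨j, _, hj⟩ := (Nat.dvd_prime_pow hp.out).mp h3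
        exact ⟨j, hj⟩

end Cfsg.Agent.Lib.Helper85.SGC
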