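import Mathlib
import Cfsg.Agent.Lib.Helper85.PSpPropA
import Cfsg.Agent.Lib.Helper85.SimpleGroupCrit4

set_option autoImplicit false

/-! S5171: the `p`-fusion system of `PSp_{2m}(F)`, `char F = p`, is simple: `hgen` and final assembly. -/

namespace Cfsg.Agent.Lib.Helper85.PSp

open Matrix Cfsg Cfsg.Agent.Lib.Helper45.SpAut Cfsg.Agent.Lib.Helper41.PSLn
  Cfsg.Agent.Lib.Helper95.Fusion

variable {F : Type*} [Field F] [Fintype F] {m : ℕ}

/-- the family: `true ↦ NS`, `false ↦ QS` -/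
def famSp (m : ℕ) (F : Type*) [Field F] [NeZero m] : Bool → Subgroup (SpG m F) :=
  fun b => cond b (NS m F) (QS m F)

theorem hgen_US (p : ℕ) [Fact p.Prime] [CharP F p] [NeZero m] (hm : 2 ≤ m) (n : SpG m F)
    (hn : ∀ x ∈ US m F, n * x * n⁻¹ ∈ US m F) :
    n ∈ Subgroup.closure (((US m F : Subgroup (SpG m F)) : Set (SpG m F)) ∪
        {h : SpG m F | (∀ x ∈ US m F, h * x * h⁻¹ ∈ US m F) ∧
          ∃ i, h ∈ Subgroup.closure {g : SpG m F |
            g ∈ Subgroup.normalizer (famSp m F i : Set (SpG m F)) ∧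
            ∃ k : ℕ, orderOf g = p ^ k}}) := by
  obtain ⟨u, hu, d, rfl⟩ := normalizer_US_decomp n hn
  obtain ⟨l, hl⟩ : ∃ l : Fin m, l ≠ 0 := by
    refine ⟨⟨1, hm⟩, ?_⟩
    intro h
    have := congrArg Fin.val h
    simp at this
  obtain ⟨δ, hδ, d', τ, h1, h2⟩ := tor_eq_dHom_mul_torAt d l
  rw [h2, ← mul_assoc]
  refine Subgroup.mul_mem _ (Subgroup.mul_mem _ (Subgroup.subset_closure (Or.inl hu)) ?_) ?_
  · apply Subgroup.subset_closure
    right
    refine ⟨fun x hx => tor_conj_mem_US d' hx, true, ?_⟩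
    rw [← h1]
    refine Subgroup.closure_mono ?_ (dHom_dg_mem_closure δ hδ)
    rintro _ ⟨i, j, hij, c, rfl⟩
    exact ⟨dHom_mem_normalizer_NS _, orderOf_dHom_tv p hij c⟩
  · apply Subgroup.subset_closure
    right
    refine ⟨fun x hx => tor_conj_mem_US _ hx, false, ?_⟩
    refine Subgroup.closure_mono ?_ (torAt_mem_closure l τ)
    rintro _ ⟨c, rfl | rfl⟩
    · exact ⟨T_eV_mem_normalizer_QS hl c, orderOf_T p _ c⟩
    · exact ⟨T_fV_mem_normalizer_QS hl c, orderOf_T p _ c⟩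

theorem psp_isSimple (p : ℕ) [Fact p.Prime] [CharP F p] (m : ℕ) (hm : 2 ≤ m)
    (hex : m = 2 → 3 ≤ Fintype.card F) (S : Sylow p (Cfsg.PSp m F)) :
    (groupFusionSystem (S : Subgroup (Cfsg.PSp m F))).IsSimple p := by
  haveI : NeZero m := ⟨by omega⟩
  obtain ⟨S0, hS0⟩ := exists_sylow_US (F := F) (m := m) p
  have hker : Subgroup.center (SpG m F) ≤ (pr : SpG m F →* Cfsg.PSp m F).ker := by
    intro z hz
    rw [MonoidHom.mem_ker]
    exact (QuotientGroup.eq_one_iff z).mpr hz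
  refine Cfsg.Agent.Lib.Helper85.SGC.isSimple_of_family_lift (pr : SpG m F →* Cfsg.PSp m F)
    pr_surjective ker_pr_le_center (card_ker_pr_coprime p) S0 ?_ ?_ (famSp m F) ?_ ?_ ?_ ?_ S
  · rw [hS0]
    exact US_ne_bot
  · rw [hS0]
    exact propA_US p hm hex
  · intro i
    rw [hS0]
    cases i
    · exact QS_le_US
    · exact NS_le_US
  · intro i
    rw [hS0]
    cases i
    · exact US_le_normalizer_QS
    · exact US_le_normalizer_NS
  · intro i g hg
    cases i
    · obtain ⟨z, hz, r, hr, e⟩ := centralizer_QS g hg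
      exact ⟨z, hker hz, r, hr, e⟩
    · obtain ⟨z, hz, r, hr, e⟩ := centralizer_NS g hg
      exact ⟨z, hker hz, r, hr, e⟩
  · intro n hn
    rw [hS0] at hn ⊢
    exact hgen_US p hm n hn

end Cfsg.Agent.Lib.Helper85.PSp
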