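import Cfsg.Agent.Lib.Helper84.FusionAut
import Cfsg.Agent.Lib.Helper87.Alperin
import Cfsg.Agent.Lib.Helper87.AutTransport
import Cfsg.Agent.Lib.Helper22.CharP
import Cfsg.Agent.Lib.Helper11.Quad

/-!
# `p`-stability of fusion systems: transport of the condition along isomorphisms of the system
-/

set_option autoImplicit false

namespace Cfsg.Agent.Lib.Helper85.PS

open Cfsg Cfsg.FusionSystem Cfsg.Agent.Lib.Helper84

variable {Ω : Type*} [Group Ω] {S : Subgroup Ω}

/-- Quadratic action of an automorphism: `[Q, χ, χ] = 1`, in the form used by the statement. -/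
def Quad {Q : Subgroup Ω} (χ : MulAut Q) : Prop :=
  ∀ a : Q, (χ a⁻¹) * a * (χ a⁻¹) * (χ (χ a)) = 1

/-- `χ ∈ O_p(Aut_F(Q))`, in the form used by the statement. -/
def InOp (p : ℕ) (F : FusionSystem S) (Q : Subgroup Ω) (χ : MulAut Q) : Prop :=
  χ ∈ ((pCore p ↥(F.autGroup Q)).map (F.autGroup Q).subtype : Subgroup (MulAut Q))

/-- `χ` lies in a `p`-subgroup of `Aut_F(Q)` normalized by `Aut_F(Q)`. -/
def InOp' (p : ℕ) (F : FusionSystem S) (Q : Subgroup Ω) (χ : MulAut Q) : Prop :=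
  ∃ N : Subgroup (MulAut Q), N ≤ F.autGroup Q ∧ (∀ a ∈ F.autGroup Q, ∀ n ∈ N, a * n * a⁻¹ ∈ N) ∧
    IsPGroup p N ∧ χ ∈ N

theorem finite_autGroup [Finite S] (F : FusionSystem S) {Q : Subgroup Ω} (hQ : Q ≤ S) :
    Finite ↥(F.autGroup Q) := by
  have : Finite Q := finite_of_le hQ
  have : Finite (MulAut Q) := Finite.of_injective (fun α : MulAut Q => (α : Q → Q))
    (fun α β h => by ext x; exact congrArg Subtype.val (congrFun h x))
  exact Finite.of_injective (F.autGroup Q).subtype (Subgroup.subtype_injective _)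

theorem inOp_iff [Finite S] {p : ℕ} [Fact p.Prime] (F : FusionSystem S) {Q : Subgroup Ω} (hQ : Q ≤ S)
    (χ : MulAut Q) : InOp p F Q χ ↔ InOp' p F Q χ := by
  have hfin : Finite ↥(F.autGroup Q) := finite_autGroup F hQ
  constructor
  · intro h
    refine ⟨(pCore p ↥(F.autGroup Q)).map (F.autGroup Q).subtype, ?_, ?_, ?_, h⟩
    · rintro _ ⟨x, _, rfl⟩; exact x.2
    · rintro a ha _ ⟨x, hx, rfl⟩
      have hn := Cfsg.Agent.Lib.Helper22.pCore_normal' p ↥(F.autGroup Q)
      exact ⟨⟨a, ha⟩ * x * ⟨a, ha⟩⁻¹, hn.conj_mem x hx ⟨a, ha⟩, rfl⟩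
    · exact (Cfsg.Agent.Lib.Helper22.pCore_isPGroup' p ↥(F.autGroup Q)).map _
  · rintro ⟨N, hNle, hNn, hNp, hχ⟩
    have h1 := Cfsg.Agent.Lib.Helper22.subgroupOf_le_pCore (F.autGroup Q) N hNp (by
      intro a ha
      rw [Subgroup.mem_normalizer_iff]
      intro n
      constructor
      · intro hn; exact hNn a ha n hn
      · intro hn
        have := hNn a⁻¹ ((F.autGroup Q).inv_mem ha) _ hn
        simpa [mul_assoc] using this)
    exact ⟨⟨χ, hNle hχ⟩, h1 (Subgroup.mem_subgroupOf.mpr hχ), rfl⟩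

theorem congr_symm_congr {P Q : Subgroup Ω} (e : P ≃* Q) (α : MulAut P) :
    MulAut.congr e.symm (MulAut.congr e α) = α := by
  ext x
  simp [MulAut.congr]

theorem congr_congr_symm {P Q : Subgroup Ω} (e : P ≃* Q) (α : MulAut Q) :
    MulAut.congr e (MulAut.congr e.symm α) = α := by
  ext x
  simp [MulAut.congr]

theorem congr_apply {P Q : Subgroup Ω} (e : P ≃* Q) (α : MulAut P) (y : Q) :
    MulAut.congr e α y = e (α (e.symm y)) := rfl

theorem congr_mem_autGroup_iff (F : FusionSystem S) {P Q : Subgroup Ω} {e : P ≃* Q} (he : IsIso F e)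
    (α : MulAut P) : MulAut.congr e α ∈ F.autGroup Q ↔ α ∈ F.autGroup P := by
  rw [mem_autGroup_iff F he.le_right, mem_autGroup_iff F he.le_left]
  constructor
  · intro h
    have := isIso_congr he.symm h
    rwa [congr_symm_congr] at this
  · intro h
    exact isIso_congr (F := F) (P := Q) (Q := P) (e := e) he h

theorem inOp'_congr {p : ℕ} (F : FusionSystem S) {P Q : Subgroup Ω} {e : P ≃* Q} (he : IsIso F e)
    {χ : MulAut P} (h : InOp' p F P χ) : InOp' p F Q (MulAut.congr e χ) := by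
  obtain ⟨N, hNle, hNn, hNp, hχ⟩ := h
  refine ⟨N.map (MulAut.congr e).toMonoidHom, ?_, ?_, hNp.map _, Subgroup.mem_map_of_mem _ hχ⟩
  · rintro _ ⟨n, hn, rfl⟩
    exact (congr_mem_autGroup_iff F he n).mpr (hNle hn)
  · rintro b hb _ ⟨n, hn, rfl⟩
    have ha : MulAut.congr e.symm b ∈ F.autGroup P := by
      rw [← congr_mem_autGroup_iff F he, congr_congr_symm]; exact hb
    refine ⟨MulAut.congr e.symm b * n * (MulAut.congr e.symm b)⁻¹, hNn _ ha n hn, ?_⟩
    change MulAut.congr e (MulAut.congr e.symm b * n * (MulAut.congr e.symm b)⁻¹) = b * MulAut.congr e n * b⁻¹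
    rw [map_mul, map_mul, map_inv, congr_congr_symm]

theorem inOp'_congr_iff {p : ℕ} (F : FusionSystem S) {P Q : Subgroup Ω} {e : P ≃* Q} (he : IsIso F e)
    (χ : MulAut P) : InOp' p F Q (MulAut.congr e χ) ↔ InOp' p F P χ := by
  constructor
  · intro h
    have := inOp'_congr F he.symm h
    rwa [congr_symm_congr] at this
  · exact inOp'_congr F he

theorem quad_congr {P Q : Subgroup Ω} (e : P ≃* Q) {χ : MulAut P} (h : Quad χ) :
    Quad (MulAut.congr e χ) := by
  intro b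
  have := h (e.symm b)
  simp only [congr_apply]
  rw [map_inv e.symm, MulEquiv.symm_apply_apply]
  have h2 := congrArg e this
  rw [map_mul, map_mul, map_mul, map_one, MulEquiv.apply_symm_apply] at h2
  exact h2

/-- Membership in `Aut_N(Q)` for a normalizer system gives membership in `Aut_F(Q)`. -/
theorem autGroup_le_of_normalizerSystem (F : FusionSystem S) {R : Subgroup Ω}
    {N : FusionSystem (normalizerIn S R)} (hN : F.IsNormalizerSystem R N) {Q : Subgroup Ω}
    (hQ : Q ≤ normalizerIn S R) : N.autGroup Q ≤ F.autGroup Q := by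
  intro α hα
  have hQS : Q ≤ S := hQ.trans inf_le_left
  rw [Cfsg.Agent.Lib.Helper87.mem_autGroup_iff F hQS]
  have h1 := (Cfsg.Agent.Lib.Helper87.mem_autGroup_iff N hQ α).mp hα
  rw [hN Q] at h1
  exact h1.1

/-- **Forward direction**: if `F` is `p`-stable then so is every normalizer system. -/
theorem forward [Finite S] {p : ℕ} [Fact p.Prime] (F : FusionSystem S)
    (hst : ∀ Q : Subgroup Ω, F.IsFullyNormalized Q → ∀ χ : MulAut Q, χ ∈ F.autGroup Q → Quad χ → InOp p F Q χ)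
    {R : Subgroup Ω} {N : FusionSystem (normalizerIn S R)} (hN : F.IsNormalizerSystem R N)
    {Q : Subgroup Ω} (hQ : Q ≤ normalizerIn S R) {χ : MulAut Q} (hχ : χ ∈ N.autGroup Q) (hq : Quad χ) :
    InOp p N Q χ := by
  have hQS : Q ≤ S := hQ.trans inf_le_left
  have hfinN : Finite ↥(normalizerIn S R) := finite_of_le inf_le_left
  have hχF : χ ∈ F.autGroup Q := autGroup_le_of_normalizerSystem F hN hQ hχ
  obtain ⟨Q', hc, hfn⟩ := Cfsg.Agent.Lib.Helper87.exists_fullyNormalized_conj F hQS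
  obtain ⟨e, he⟩ := (isConj_iff_exists_iso F).mp hc
  have h1 : InOp p F Q' (MulAut.congr e χ) :=
    hst Q' hfn _ ((congr_mem_autGroup_iff F he χ).mpr hχF) (quad_congr e hq)
  have h2 : InOp' p F Q χ := (inOp'_congr_iff F he χ).mp ((inOp_iff F he.le_right _).mp h1)
  obtain ⟨M, hMle, hMn, hMp, hχM⟩ := h2
  rw [inOp_iff N hQ]
  refine ⟨M ⊓ N.autGroup Q, inf_le_right, ?_, hMp.to_le inf_le_left, ⟨hχM, hχ⟩⟩
  intro a ha n hn
  exact ⟨hMn a (autGroup_le_of_normalizerSystem F hN hQ ha) n hn.1,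
    (N.autGroup Q).mul_mem ((N.autGroup Q).mul_mem ha hn.2) ((N.autGroup Q).inv_mem ha)⟩

end Cfsg.Agent.Lib.Helper85.PS
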