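import Cfsg.Agent.Lib.Helper85.PStable1
import Cfsg.Agent.Lib.Helper85.Morphism
import Cfsg.Agent.Lib.Helper87.Lemma26
import Cfsg.Agent.Lib.Helper87.Saturation

/-!
# `p`-stability of fusion systems: reduction to the normalizers of centric radical subgroups
-/

set_option autoImplicit false

namespace Cfsg.Agent.Lib.Helper85.PS

open Cfsg Cfsg.FusionSystem Cfsg.Agent.Lib.Helper84

variable {Ω : Type*} [Group Ω] {S : Subgroup Ω}

/-- Every element of `Aut_F(Q₀)` extends to an element of `Aut_F(R₀)`. -/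
def Ext (F : FusionSystem S) (Q₀ R₀ : Subgroup Ω) : Prop :=
  ∃ h : Q₀ ≤ R₀, R₀ ≤ S ∧ ∀ α ∈ F.autGroup Q₀, ∃ β ∈ F.autGroup R₀,
    ∀ x : Q₀, ((β (Subgroup.inclusion h x) : R₀) : Ω) = ((α x : Q₀) : Ω)

theorem ext_refl (F : FusionSystem S) {Q₀ : Subgroup Ω} (h : Q₀ ≤ S) : Ext F Q₀ Q₀ :=
  ⟨le_rfl, h, fun α hα => ⟨α, hα, fun _ => rfl⟩⟩

theorem ext_trans (F : FusionSystem S) {Q₀ R₀ M : Subgroup Ω} (h₁ : Ext F Q₀ R₀) (hRM : R₀ ≤ M) (hM : M ≤ S)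
    (h₂ : ∀ β ∈ F.autGroup R₀, ∃ β' ∈ F.autGroup M,
      ∀ x : R₀, ((β' (Subgroup.inclusion hRM x) : M) : Ω) = ((β x : R₀) : Ω)) : Ext F Q₀ M := by
  obtain ⟨h, _, hext⟩ := h₁
  refine ⟨h.trans hRM, hM, fun α hα => ?_⟩
  obtain ⟨β, hβ, hβα⟩ := hext α hα
  obtain ⟨β', hβ', hβ'β⟩ := h₂ β hβ
  refine ⟨β', hβ', fun x => ?_⟩
  have := hβ'β (Subgroup.inclusion h x)
  rw [← hβα x, ← this]
  rfl

/-- Transport of the extension property along an isomorphism of the system. -/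
theorem ext_transport (F : FusionSystem S) {Q₀ R₀ R₁ : Subgroup Ω} {e : R₀ ≃* R₁} (he : IsIso F e)
    (hE : Ext F Q₀ R₀) : ∃ Q₁ : Subgroup Ω, F.IsConj Q₀ Q₁ ∧ Ext F Q₁ R₁ := by
  obtain ⟨h, _, hext⟩ := hE
  obtain ⟨φ₀, hφ₀, hφ₀eq⟩ : ∃ φ₀ : Q₀ →* Ω, φ₀ ∈ F.Hom Q₀ ∧
      ∀ x, φ₀ x = ((e (Subgroup.inclusion h x) : R₁) : Ω) :=
    ⟨_, Cfsg.Agent.Lib.Helper87.restrict_mem F he h, fun _ => rfl⟩
  obtain ⟨e₀, he₀, he₀x⟩ := exists_iso_of_hom F hφ₀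
  have hQ₁R₁ : φ₀.range ≤ R₁ := by
    rintro _ ⟨x, rfl⟩
    rw [hφ₀eq]
    exact (e (Subgroup.inclusion h x)).2
  refine ⟨φ₀.range, ⟨φ₀, hφ₀, rfl⟩, hQ₁R₁, he.le_right, fun α₁ hα₁ => ?_⟩
  have hα : MulAut.congr e₀.symm α₁ ∈ F.autGroup Q₀ :=
    (congr_mem_autGroup_iff F he₀.symm α₁).mpr hα₁
  obtain ⟨β, hβ, hβα⟩ := hext _ hα
  refine ⟨MulAut.congr e β, (congr_mem_autGroup_iff F he β).mpr hβ, fun y => ?_⟩
  rw [congr_apply]
  have hy : e.symm (Subgroup.inclusion hQ₁R₁ y) = Subgroup.inclusion h (e₀.symm y) := by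
    apply e.injective
    rw [MulEquiv.apply_symm_apply]
    apply Subtype.ext
    have := he₀x (e₀.symm y)
    rw [MulEquiv.apply_symm_apply, hφ₀eq] at this
    rw [Subgroup.coe_inclusion, this]
  rw [hy]
  have h1 : β (Subgroup.inclusion h (e₀.symm y)) =
      Subgroup.inclusion h (MulAut.congr e₀.symm α₁ (e₀.symm y)) := Subtype.ext (hβα _)
  rw [h1, congr_apply]
  simp only [MulEquiv.symm_symm, MulEquiv.apply_symm_apply]
  have := he₀x (e₀.symm (α₁ y))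
  rw [MulEquiv.apply_symm_apply, hφ₀eq] at this
  rw [this]

/-- The preimage in `S` of `O_p(Aut_F(R))`. -/
def radSub (p : ℕ) (F : FusionSystem S) (R : Subgroup Ω) : Subgroup Ω where
  carrier := {g | g ∈ S ∧ ∃ γ : MulAut R, InOp p F R γ ∧ ∀ x : R, ((γ x : R) : Ω) = g * x * g⁻¹}
  one_mem' := ⟨S.one_mem, 1, Subgroup.one_mem _, fun x => by simp⟩
  mul_mem' := by
    rintro g₁ g₂ ⟨h₁, γ₁, hγ₁, hc₁⟩ ⟨h₂, γ₂, hγ₂, hc₂⟩
    refine ⟨S.mul_mem h₁ h₂, γ₁ * γ₂, Subgroup.mul_mem _ hγ₁ hγ₂, fun x => ?_⟩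
    rw [MulAut.mul_apply, hc₁, hc₂]
    group
  inv_mem' := by
    rintro g ⟨h, γ, hγ, hc⟩
    refine ⟨S.inv_mem h, γ⁻¹, Subgroup.inv_mem _ hγ, fun x => ?_⟩
    have := hc (γ⁻¹ x)
    rw [MulAut.apply_inv_self] at this
    rw [this]
    group

theorem mem_radSub {p : ℕ} {F : FusionSystem S} {R : Subgroup Ω} {g : Ω} :
    g ∈ radSub p F R ↔ g ∈ S ∧ ∃ γ : MulAut R, InOp p F R γ ∧ ∀ x : R, ((γ x : R) : Ω) = g * x * g⁻¹ :=
  Iff.rfl

theorem radSub_le {p : ℕ} (F : FusionSystem S) (R : Subgroup Ω) : radSub p F R ≤ S := fun _ h => h.1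

theorem le_radSub {p : ℕ} [Fact p.Prime] (hS : IsPGroup p S) (F : FusionSystem S) {R : Subgroup Ω}
    (hR : R ≤ S) : R ≤ radSub p F R := by
  intro g hg
  refine ⟨hR hg, MulAut.conj ⟨g, hg⟩, ?_, fun x => ?_⟩
  · exact Cfsg.Agent.Lib.Helper87.inn_le_pCore hS F hR ⟨⟨g, hg⟩, rfl⟩
  · simp [MulAut.conj_apply]

theorem centralizerIn_le_radSub {p : ℕ} (F : FusionSystem S) (R : Subgroup Ω) :
    centralizerIn S R ≤ radSub p F R := by
  intro g hg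
  refine ⟨hg.1, 1, Subgroup.one_mem _, fun x => ?_⟩
  have := hg.2 x x.2
  simp only [MulAut.one_apply]
  rw [← this]
  group

/-- An injective homomorphism of a finite subgroup into itself is an automorphism. -/
theorem exists_aut_of_hom_le {M : Subgroup Ω} [Finite M] (ψ : M →* Ω) (hinj : Function.Injective ψ)
    (hle : ∀ x : M, ψ x ∈ M) : ∃ β' : MulAut M, ∀ x : M, ((β' x : M) : Ω) = ψ x := by
  have hinj' : Function.Injective (ψ.codRestrict M hle) := by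
    intro a b hab
    apply hinj
    exact congrArg Subtype.val hab
  have hbij : Function.Bijective (ψ.codRestrict M hle) := Finite.injective_iff_bijective.mp hinj'
  exact ⟨MulEquiv.ofBijective (ψ.codRestrict M hle) hbij, fun x => rfl⟩

/-- `O_p(Aut_F(R))` is normalized by `Aut_F(R)`. -/
theorem inOp_conj [Finite S] {p : ℕ} [Fact p.Prime] (F : FusionSystem S) {R : Subgroup Ω} (hR : R ≤ S)
    {β γ : MulAut R} (hβ : β ∈ F.autGroup R) (hγ : InOp p F R γ) : InOp p F R (β * γ * β⁻¹) := by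
  rw [inOp_iff F hR] at hγ ⊢
  obtain ⟨N, hNle, hNn, hNp, hγN⟩ := hγ
  exact ⟨N, hNle, hNn, hNp, hNn β hβ γ hγN⟩

/-- Elements of `O_p(Aut_F(R))` are induced by `S` when `R` is fully automized. -/
theorem inOp_induced [Finite S] {p : ℕ} [Fact p.Prime] (F : FusionSystem S) {R : Subgroup Ω}
    (hfa : F.IsFullyAutomized p R) {γ : MulAut R} (hγ : InOp p F R γ) :
    ∃ h ∈ S, ∀ y : R, ((γ y : R) : Ω) = h * y * h⁻¹ := by
  obtain ⟨hR, Sy, hSy⟩ := hfa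
  have hfin : Finite ↥(F.autGroup R) := finite_autGroup F hR
  obtain ⟨x, hx, rfl⟩ := hγ
  have h1 : x ∈ (Sy : Subgroup ↥(F.autGroup R)) := Cfsg.Agent.Lib.Helper11.pCore_le_sylow Sy hx
  rw [hSy] at h1
  have h2 : (x : MulAut R) ∈ autInducedBy S R := Subgroup.mem_subgroupOf.mp h1
  exact (mem_autInducedBy_iff S R _).mp h2

/-- Every element of `Aut_F(R)`, `R` fully automized and receptive, extends to the preimage of `O_p(Aut_F(R))`. -/
theorem exists_ext_radSub [Finite S] {p : ℕ} [Fact p.Prime] (F : FusionSystem S)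
    {R : Subgroup Ω} (hfa : F.IsFullyAutomized p R) (hrec : F.IsReceptive R) (hRM : R ≤ radSub p F R)
    {β : MulAut R} (hβ : β ∈ F.autGroup R) :
    ∃ β' ∈ F.autGroup (radSub p F R),
      ∀ x : R, ((β' (Subgroup.inclusion hRM x) : ↥(radSub p F R)) : Ω) = ((β x : R) : Ω) := by
  have hR : R ≤ S := hfa.1
  set M := radSub p F R with hM
  have hMS : M ≤ S := radSub_le F R
  have hfinM : Finite M := finite_of_le hMS
  have hφ : R.subtype.comp β.toMonoidHom ∈ F.Hom R :=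
    (Cfsg.Agent.Lib.Helper87.mem_autGroup_iff F hR β).mp hβ
  set φ := R.subtype.comp β.toMonoidHom with hφdef
  have hr : φ.range = R := by
    ext y
    constructor
    · rintro ⟨x, rfl⟩; exact (β x).2
    · intro hy
      exact ⟨β⁻¹ ⟨y, hy⟩, by simp [hφdef]⟩
  -- the key property of elements of `M`
  have key : ∀ g ∈ M, ∃ δ : MulAut R, InOp p F R δ ∧ ∃ h ∈ S, (∀ y : R, ((δ y : R) : Ω) = h * y * h⁻¹) ∧
      ∀ x : R, ∀ hx : g * (x : Ω) * g⁻¹ ∈ R, δ (β x) = β ⟨g * x * g⁻¹, hx⟩ := by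
    rintro g ⟨_, γ, hγ, hc⟩
    have hδ : InOp p F R (β * γ * β⁻¹) := inOp_conj F hR hβ hγ
    obtain ⟨h, hh, hhc⟩ := inOp_induced F hfa hδ
    refine ⟨β * γ * β⁻¹, hδ, h, hh, hhc, fun x hx => ?_⟩
    simp only [MulAut.mul_apply, MulAut.inv_apply_self]
    congr 1
    exact Subtype.ext (hc x)
  have hnorm : ∀ g ∈ M, g ∈ Subgroup.normalizer (R : Set Ω) := by
    rintro g ⟨_, γ, _, hc⟩
    rw [Subgroup.mem_normalizer_iff]
    intro x
    constructor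
    · intro hx
      have := hc ⟨x, hx⟩
      rw [← this]; exact (γ ⟨x, hx⟩).2
    · intro hx
      have := hc (γ⁻¹ ⟨g * x * g⁻¹, hx⟩)
      rw [MulAut.apply_inv_self] at this
      have h2 : x = ((γ⁻¹ ⟨g * x * g⁻¹, hx⟩ : R) : Ω) := by
        have h3 : g * x * g⁻¹ = g * ((γ⁻¹ ⟨g * x * g⁻¹, hx⟩ : R) : Ω) * g⁻¹ := this
        exact mul_left_cancel (mul_right_cancel h3)
      rw [h2]; exact (γ⁻¹ ⟨g * x * g⁻¹, hx⟩).2
  have hMext : M ≤ extender S R φ := by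
    intro g hg
    rw [Cfsg.Agent.Lib.Helper85.mem_extender_iff]
    obtain ⟨δ, _, h, hh, hhc, hδβ⟩ := key g hg
    refine ⟨hMS hg, hnorm g hg, h, hh, fun x hx => ?_⟩
    change ((β ⟨g * x * g⁻¹, hx⟩ : R) : Ω) = h * ((β x : R) : Ω) * h⁻¹
    rw [← hδβ x hx, hhc]
  obtain ⟨ψ, hψ, hψφ⟩ := Cfsg.Agent.Lib.Helper87.extend_to_sub F hφ hr hrec hMext
  have hψR : ∀ x : R, ψ (Subgroup.inclusion hRM x) = ((β x : R) : Ω) := fun x =>
    hψφ (x : Ω) x.2 (hRM x.2)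
  have hψM : ∀ g : M, ψ g ∈ M := by
    intro g
    obtain ⟨δ, hδ, h, hh, hhc, hδβ⟩ := key g g.2
    refine ⟨Cfsg.Agent.Lib.Helper87.hom_mem_S F hψ g, δ, hδ, fun y => ?_⟩
    -- `y = β x`
    obtain ⟨x, rfl⟩ : ∃ x : R, β x = y := ⟨β⁻¹ y, by simp⟩
    have hx : (g : Ω) * (x : Ω) * (g : Ω)⁻¹ ∈ R :=
      (Subgroup.mem_normalizer_iff.mp (hnorm g g.2) x).mp x.2
    rw [hδβ x hx]
    have h1 : ψ (Subgroup.inclusion hRM ⟨(g : Ω) * x * (g : Ω)⁻¹, hx⟩) =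
        ψ g * ψ (Subgroup.inclusion hRM x) * (ψ g)⁻¹ := by
      rw [← map_inv, ← map_mul, ← map_mul]
      congr 1
    rw [← hψR, h1, hψR]
  obtain ⟨β', hβ'⟩ := exists_aut_of_hom_le ψ (F.injective_of_mem hψ) hψM
  refine ⟨β', ?_, fun x => ?_⟩
  · rw [Cfsg.Agent.Lib.Helper87.mem_autGroup_iff F hMS]
    have e : M.subtype.comp β'.toMonoidHom = ψ := by
      ext x
      exact hβ' x
    rw [e]; exact hψ
  · rw [hβ', hψR]

/-- If the preimage of `O_p(Aut_F(R))` is `R` itself then `R` is centric and radical. -/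
theorem centric_radical_of_radSub_le [Finite S] {p : ℕ} [Fact p.Prime] (hS : IsPGroup p S)
    (F : FusionSystem S) {R : Subgroup Ω} (hfa : F.IsFullyAutomized p R) (hrec : F.IsReceptive R)
    (hle : radSub p F R ≤ R) : F.IsCentric R ∧ F.IsRadical p R := by
  have hR : R ≤ S := hfa.1
  refine ⟨Cfsg.Agent.Lib.Helper87.centric_of_receptive F hrec
    ((centralizerIn_le_radSub F R).trans hle), hR, ?_⟩
  apply le_antisymm
  · intro γ hγ
    obtain ⟨h, hh, hhc⟩ := inOp_induced F hfa hγ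
    have hhM : h ∈ radSub p F R := ⟨hh, γ, hγ, hhc⟩
    refine ⟨⟨h, hle hhM⟩, ?_⟩
    ext y
    rw [hhc]
    simp [MulAut.conj_apply]
  · exact Cfsg.Agent.Lib.Helper87.inn_le_pCore hS F hR

end Cfsg.Agent.Lib.Helper85.PS
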