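import Cfsg.Agent.Lib.Helper85.PStable2
import Cfsg.Agent.S5096

/-!
# `p`-stability of fusion systems is detected on the normalizers of the centric radical subgroups
-/

set_option autoImplicit false

namespace Cfsg.Agent.Lib.Helper85.PS

open Cfsg Cfsg.FusionSystem Cfsg.Agent.Lib.Helper84

variable {Ω : Type*} [Group Ω] {S : Subgroup Ω}

theorem isConj_trans (F : FusionSystem S) {P Q R : Subgroup Ω} (h₁ : F.IsConj P Q) (h₂ : F.IsConj Q R) :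
    F.IsConj P R := by
  obtain ⟨e, he⟩ := (isConj_iff_exists_iso F).mp h₁
  obtain ⟨f, hf⟩ := (isConj_iff_exists_iso F).mp h₂
  exact (isConj_iff_exists_iso F).mpr ⟨e.trans f, he.trans hf⟩

/-- Every subgroup `Q` has a conjugate `Q₀` inside a fully normalized centric radical subgroup `R₀`
such that every element of `Aut_F(Q₀)` extends to an element of `Aut_F(R₀)`. -/
theorem exists_frc_pair [Finite S] {p : ℕ} [Fact p.Prime] (hS : IsPGroup p S) (F : FusionSystem S)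
    (hF : F.IsSaturated p) {Q : Subgroup Ω} (hQ : Q ≤ S) :
    ∃ Q₀ R₀ : Subgroup Ω, F.IsConj Q Q₀ ∧ Ext F Q₀ R₀ ∧ F.IsFullyNormalized R₀ ∧ F.IsCentric R₀ ∧
      F.IsRadical p R₀ := by
  classical
  let P : ℕ → Prop := fun n => ∃ Q₀ R₀ : Subgroup Ω, F.IsConj Q Q₀ ∧ Ext F Q₀ R₀ ∧
    F.IsFullyNormalized R₀ ∧ Nat.card R₀ = n
  have hbound : ∀ n, P n → n ≤ Nat.card S := by
    rintro n ⟨Q₀, R₀, _, hE, _, rfl⟩
    obtain ⟨_, hR₀S, _⟩ := hE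
    exact Subgroup.card_le_of_le hR₀S
  have hex : ∃ n, P n := by
    obtain ⟨Q', hc, hfn⟩ := Cfsg.Agent.Lib.Helper87.exists_fullyNormalized_conj F hQ
    exact ⟨_, Q', Q', hc, ext_refl F hfn.1, hfn, rfl⟩
  obtain ⟨n₀, hn₀⟩ := hex
  have hPn : P (Nat.findGreatest P (Nat.card S)) := Nat.findGreatest_spec (hbound n₀ hn₀) hn₀
  obtain ⟨Q₀, R₀, hQQ₀, hE, hfn, hcard⟩ := hPn
  have hR₀S : R₀ ≤ S := hfn.1
  obtain ⟨hfc, hfa⟩ := Cfsg.Agent.Lib.Helper87.fc_fa_of_fullyNormalized hS F hF hfn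
  have hrec := Cfsg.Agent.Lib.Helper87.receptive_of_fullyCentralized hS F hF hfc
  have hRM : R₀ ≤ radSub p F R₀ := le_radSub hS F hR₀S
  have hMS : radSub p F R₀ ≤ S := radSub_le F R₀
  have hEM : Ext F Q₀ (radSub p F R₀) :=
    ext_trans F hE hRM hMS (fun β hβ => exists_ext_radSub F hfa hrec hRM hβ)
  obtain ⟨M₁, hc, hfnM₁⟩ := Cfsg.Agent.Lib.Helper87.exists_fullyNormalized_conj F hMS
  obtain ⟨e, he⟩ := (isConj_iff_exists_iso F).mp hc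
  obtain ⟨Q₁, hQ₀Q₁, hE₁⟩ := ext_transport F he hEM
  have hP₁ : P (Nat.card M₁) := ⟨Q₁, M₁, isConj_trans F hQQ₀ hQ₀Q₁, hE₁, hfnM₁, rfl⟩
  have hle : Nat.card M₁ ≤ Nat.card R₀ := by
    rw [hcard]
    exact Nat.le_findGreatest (hbound _ hP₁) hP₁
  have hcardM : Nat.card (radSub p F R₀) = Nat.card M₁ := Nat.card_congr e.toEquiv
  have hfinM : Finite ↥(radSub p F R₀) := finite_of_le hMS
  have hEq : R₀ = radSub p F R₀ := Subgroup.eq_of_le_of_card_ge hRM (by rw [hcardM]; exact hle)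
  obtain ⟨hcen, hrad⟩ := centric_radical_of_radSub_le hS F hfa hrec hEq.ge
  exact ⟨Q₀, R₀, hQQ₀, hE, hfn, hcen, hrad⟩

/-- **Backward direction**: if the normalizer systems of the fully normalized centric radical subgroups are
`p`-stable then so is `F`. -/
theorem backward [Finite S] {p : ℕ} [Fact p.Prime] (hS : IsPGroup p S) (F : FusionSystem S)
    (hF : F.IsSaturated p)
    (h : ∀ R : Subgroup Ω, F.IsFullyNormalized R → F.IsCentric R → F.IsRadical p R →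
      ∀ N : FusionSystem (normalizerIn S R), F.IsNormalizerSystem R N →
        ∀ Q : Subgroup Ω, N.IsFullyNormalized Q → ∀ χ : MulAut Q, χ ∈ N.autGroup Q → Quad χ → InOp p N Q χ)
    {Q : Subgroup Ω} (hQ : Q ≤ S) {χ : MulAut Q} (hχ : χ ∈ F.autGroup Q) (hq : Quad χ) : InOp p F Q χ := by
  obtain ⟨Q₀, R₀, hQQ₀, hE, hfn, hcen, hrad⟩ := exists_frc_pair hS F hF hQ
  obtain ⟨e, he⟩ := (isConj_iff_exists_iso F).mp hQQ₀
  obtain ⟨hQR, hR₀S, hext⟩ := hE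
  obtain ⟨N, hN⟩ := Cfsg.Agent.S5096.result F R₀ hR₀S
  have hfinN : Finite ↥(normalizerIn S R₀) := finite_of_le inf_le_left
  have hQ₀N : Q₀ ≤ normalizerIn S R₀ := hQR.trans (self_le_normalizerIn hR₀S)
  have hQ₀S : Q₀ ≤ S := hQR.trans hR₀S
  -- `Aut_F(Q₀) ≤ Aut_N(Q₀)`
  have hle : F.autGroup Q₀ ≤ N.autGroup Q₀ := by
    intro α hα
    rw [Cfsg.Agent.Lib.Helper87.mem_autGroup_iff N hQ₀N, hN Q₀]
    obtain ⟨β, hβ, hβα⟩ := hext α hα
    have hsup : Q₀ ⊔ R₀ ≤ R₀ := sup_le hQR le_rfl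
    have hRsup : R₀ ≤ Q₀ ⊔ R₀ := le_sup_right
    have hβF : R₀.subtype.comp β.toMonoidHom ∈ F.Hom R₀ :=
      (Cfsg.Agent.Lib.Helper87.mem_autGroup_iff F hR₀S β).mp hβ
    refine ⟨(Cfsg.Agent.Lib.Helper87.mem_autGroup_iff F hQ₀S α).mp hα, hQ₀N,
      fun x => hQ₀N (α x).2, (R₀.subtype.comp β.toMonoidHom).comp (Subgroup.inclusion hsup),
      Cfsg.Agent.Lib.Helper87.restrict_mem F hβF hsup, fun x => ?_, ?_⟩
    · exact hβα x
    · ext y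
      constructor
      · rintro ⟨z, _, rfl⟩
        exact (β (Subgroup.inclusion hsup z)).2
      · intro hy
        refine ⟨⟨(β⁻¹ ⟨y, hy⟩ : R₀), hRsup (β⁻¹ ⟨y, hy⟩ : R₀).2⟩, ?_, ?_⟩
        · exact Subgroup.mem_subgroupOf.mpr (β⁻¹ ⟨y, hy⟩ : R₀).2
        · change ((β (Subgroup.inclusion hsup ⟨(β⁻¹ ⟨y, hy⟩ : R₀), _⟩) : R₀) : Ω) = y
          have : Subgroup.inclusion hsup ⟨((β⁻¹ ⟨y, hy⟩ : R₀) : Ω), hRsup (β⁻¹ ⟨y, hy⟩ : R₀).2⟩ =
              β⁻¹ ⟨y, hy⟩ := Subtype.ext rfl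
          rw [this, MulAut.apply_inv_self]
  have hχ₀F : MulAut.congr e χ ∈ F.autGroup Q₀ := (congr_mem_autGroup_iff F he χ).mpr hχ
  have hχ₀N : MulAut.congr e χ ∈ N.autGroup Q₀ := hle hχ₀F
  obtain ⟨Q₁, hc₁, hfn₁⟩ := Cfsg.Agent.Lib.Helper87.exists_fullyNormalized_conj N hQ₀N
  obtain ⟨θ, hθ⟩ := (isConj_iff_exists_iso N).mp hc₁
  have h1 : InOp p N Q₁ (MulAut.congr θ (MulAut.congr e χ)) :=
    h R₀ hfn hcen hrad N hN Q₁ hfn₁ _ ((congr_mem_autGroup_iff N hθ _).mpr hχ₀N)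
      (quad_congr θ (quad_congr e hq))
  have h2 : InOp' p N Q₀ (MulAut.congr e χ) :=
    (inOp'_congr_iff N hθ _).mp ((inOp_iff N hθ.le_right _).mp h1)
  obtain ⟨N₀, hN₀le, hN₀n, hN₀p, hχN₀⟩ := h2
  have h3 : InOp' p F Q₀ (MulAut.congr e χ) :=
    ⟨N₀, hN₀le.trans (autGroup_le_of_normalizerSystem F hN hQ₀N),
      fun a ha n hn => hN₀n a (hle ha) n hn, hN₀p, hχN₀⟩
  exact (inOp_iff F hQ χ).mpr ((inOp'_congr_iff F he χ).mp h3)

end Cfsg.Agent.Lib.Helper85.PS
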