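import Mathlib

namespace Cfsg.Agent.Lib.Helper85.PowRing

theorem add_one_pow_prime {B : Type*} [CommRing B] (p : ℕ) (hp : p.Prime) (g : B) :
    ∃ r : B, (1 + g) ^ p = 1 + g ^ p + (p : B) * g * (1 + g * r) := by
  obtain ⟨q, rfl⟩ : ∃ q, p = q + 2 := ⟨p - 2, by have := hp.two_le; omega⟩
  refine ⟨∑ m ∈ Finset.range q, g ^ m * (((q+2).choose (m+2) / (q+2) : ℕ) : B), ?_⟩
  rw [add_comm 1 g, add_pow]
  rw [Finset.sum_range_succ, Finset.sum_range_succ', Finset.sum_range_succ']
  have h1 : ∀ m ∈ Finset.range q, g ^ (m + 1 + 1) * 1 ^ (q + 2 - (m + 1 + 1)) * (((q + 2).choose (m + 1 + 1) : ℕ) : B)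
      = ((q + 2 : ℕ) : B) * g * g * (g ^ m * (((q+2).choose (m+2) / (q+2) : ℕ) : B)) := by
    intro m hm
    have hm' : m < q := Finset.mem_range.mp hm
    have hd : (q + 2) ∣ (q + 2).choose (m + 2) := hp.dvd_choose_self (by omega) (by omega)
    obtain ⟨k, hk⟩ := hd
    have hk' : (q + 2).choose (m + 2) / (q + 2) = k := by
      rw [hk]; exact Nat.mul_div_cancel_left _ (by omega)
    rw [hk', show m + 1 + 1 = m + 2 from rfl, hk]
    push_cast
    ring
  rw [Finset.sum_congr rfl h1, ← Finset.mul_sum]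
  simp
  ring

theorem pow_mul_eq_zero_comm {B : Type*} [CommRing B] (p : ℕ) (hp : p.Prime) (n : ℕ) (g : B)
    (h1 : (1 + g) ^ p = 1) (h2 : g ^ (n * (p - 1) + 1) = 0) : (p : B) ^ n * g = 0 := by
  obtain ⟨r, hr⟩ := add_one_pow_prime p hp g
  set w : B := 1 + g * r with hw
  have hpw : (p : B) * g * w = - (g * g ^ (p - 1)) := by
    have : g * g ^ (p - 1) = g ^ p := by
      rw [← pow_succ']; congr 1; have := hp.two_le; omega
    rw [this]
    have h3 : 1 + g ^ p + (p : B) * g * w = 1 := by rw [← hr, h1]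
    linear_combination h3
  have key : ∀ j : ℕ, (p : B) ^ j * g * w ^ j = (-1) ^ j * g ^ (j * (p - 1) + 1) := by
    intro j
    induction j with
    | zero => simp
    | succ j ih =>
      have e : (j + 1) * (p - 1) + 1 = (j * (p - 1) + 1) + (p - 1) := by ring
      rw [pow_succ (p : B) j, pow_succ w j, pow_succ (-1 : B) j, e, pow_add g]
      generalize g ^ (j * (p - 1) + 1) = G at ih ⊢
      generalize g ^ (p - 1) = G' at hpw ⊢
      generalize (p : B) ^ j = P at ih ⊢
      generalize w ^ j = W at ih ⊢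
      generalize (-1 : B) ^ j = E at ih ⊢
      linear_combination (P * W) * hpw - G' * ih
  have hnil : IsNilpotent (g * r) := by
    refine ⟨n * (p - 1) + 1, ?_⟩
    rw [mul_pow, h2, zero_mul]
  have hu : IsUnit w := by
    rw [hw]; exact hnil.isUnit_one_add
  have hk := key n
  rw [h2, mul_zero] at hk
  exact (hu.pow n).mul_left_eq_zero.mp hk

theorem pow_mul_eq_zero {A : Type*} [Ring A] (p : ℕ) (hp : p.Prime) (n : ℕ) (g : A)
    (h1 : (1 + g) ^ p = 1) (h2 : g ^ (n * (p - 1) + 1) = 0) : (p : A) ^ n * g = 0 := by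
  have hc : IsMulCommutative (Algebra.adjoin ℤ ({g} : Set A)) :=
    Algebra.isMulCommutative_adjoin ℤ (by
      intro a ha b hb
      rw [Set.mem_singleton_iff] at ha hb
      rw [ha, hb])
  let _ : CommRing (Algebra.adjoin ℤ ({g} : Set A)) :=
    { (inferInstance : Ring (Algebra.adjoin ℤ ({g} : Set A))) with
      mul_comm := hc.is_comm.comm }
  let g' : Algebra.adjoin ℤ ({g} : Set A) := ⟨g, Algebra.subset_adjoin (Set.mem_singleton g)⟩
  have h := pow_mul_eq_zero_comm p hp n g' (Subtype.ext (by simpa [g'] using h1))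
    (Subtype.ext (by simpa [g'] using h2))
  have := congrArg Subtype.val h
  simpa [g'] using this

theorem map_pow_eq_of_iterate {Z : Type*} [CommGroup Z] (p : ℕ) (hp : p.Prime) (n : ℕ) (σ : Z →* Z)
    (hσ : ∀ z, σ^[p] z = z) (hδ : ∀ z, (fun y => σ y * y⁻¹)^[n * (p - 1) + 1] z = 1) (z : Z) :
    σ (z ^ (p ^ n)) = z ^ (p ^ n) := by
  let s : AddMonoid.End (Additive Z) := MonoidHom.toAdditive σ
  let g : AddMonoid.End (Additive Z) := s - 1
  have hs : ∀ (k : ℕ) (y : Additive Z), (s ^ k) y = Additive.ofMul (σ^[k] y.toMul) := by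
    intro k
    induction k with
    | zero => intro y; simp
    | succ k ih =>
      intro y
      rw [pow_succ']
      show s ((s ^ k) y) = _
      rw [ih, Function.iterate_succ_apply']
      rfl
  have hg1 : ∀ y : Additive Z, g y = Additive.ofMul (σ y.toMul * y.toMul⁻¹) := by
    intro y
    have e : g y = s y - y := AddMonoidHom.sub_apply s (1 : AddMonoid.End (Additive Z)) y
    rw [e, sub_eq_add_neg]
    rfl
  have hg : ∀ (k : ℕ) (y : Additive Z),
      (g ^ k) y = Additive.ofMul ((fun y => σ y * y⁻¹)^[k] y.toMul) := by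
    intro k
    induction k with
    | zero => intro y; simp
    | succ k ih =>
      intro y
      rw [pow_succ']
      show g ((g ^ k) y) = _
      rw [ih, Function.iterate_succ_apply', hg1]
      rfl
  have h1 : (1 + g) ^ p = 1 := by
    have : 1 + g = s := by simp [g]
    rw [this]
    ext y
    rw [hs, hσ]
    rfl
  have h2 : g ^ (n * (p - 1) + 1) = 0 := by
    ext y
    rw [hg, hδ]
    rfl
  have h3 := pow_mul_eq_zero p hp n g h1 h2
  have h4 := DFunLike.congr_fun h3 (Additive.ofMul z)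
  rw [← Nat.cast_pow] at h4
  change ((p ^ n : ℕ) : AddMonoid.End (Additive Z)) (g (Additive.ofMul z)) = 0 at h4
  rw [AddMonoid.End.natCast_apply, hg1] at h4
  have h5 : (σ z * z⁻¹) ^ (p ^ n) = 1 := by
    have := congrArg Additive.toMul h4
    rw [toMul_nsmul] at this
    exact this
  rw [mul_pow, ← map_pow, inv_pow, mul_inv_eq_one] at h5
  exact h5


theorem conj_pow_eq {Ω : Type*} [Group Ω] {S : Subgroup Ω} (p : ℕ) (hp : p.Prime) (n : ℕ)
    (hcl : Subgroup.lowerCentralSeries S (n * (p - 1) + 1) = ⊥)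
    (Z : Subgroup Ω) (hZS : Z ≤ S) (hZab : ∀ a ∈ Z, ∀ b ∈ Z, a * b = b * a)
    (s : Ω) (hs : s ∈ S) (hsZ : ∀ z ∈ Z, s * z * s⁻¹ ∈ Z)
    (hsp : ∀ z ∈ Z, s ^ p * z * (s ^ p)⁻¹ = z) :
    ∀ z ∈ Z, s * z ^ (p ^ n) * s⁻¹ = z ^ (p ^ n) := by
  let _ : CommGroup Z :=
    { (inferInstance : Group Z) with mul_comm := fun a b => Subtype.ext (hZab a a.2 b b.2) }
  let σ : Z →* Z :=
    { toFun := fun z => ⟨s * z * s⁻¹, hsZ z z.2⟩
      map_one' := by ext; simp
      map_mul' := fun a b => by ext; simp }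
  have hσ1 : ∀ z : Z, ((σ z : Z) : Ω) = s * z * s⁻¹ := fun z => rfl
  have hσk : ∀ (k : ℕ) (z : Z), ((σ^[k] z : Z) : Ω) = s ^ k * z * (s ^ k)⁻¹ := by
    intro k
    induction k with
    | zero => intro z; simp
    | succ k ih =>
      intro z
      rw [Function.iterate_succ_apply', hσ1, ih, pow_succ']
      group
  have hσ : ∀ z : Z, σ^[p] z = z := by
    intro z
    apply Subtype.ext
    rw [hσk, hsp z z.2]
  have hδk : ∀ (k : ℕ) (z : Z),
      (((fun y : Z => σ y * y⁻¹)^[k] z : Z) : Ω) ∈ Subgroup.lowerCentralSeries S k := by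
    intro k
    induction k with
    | zero => intro z; exact hZS z.2
    | succ k ih =>
      intro z
      have h1 := ih z
      set y := (fun y : Z => σ y * y⁻¹)^[k] z with hy
      have h2 : (fun y : Z => σ y * y⁻¹)^[k + 1] z = σ y * y⁻¹ := by
        rw [Function.iterate_succ_apply']
      rw [Subgroup.lowerCentralSeries_succ, Subgroup.commutator_comm]
      have h3 := Subgroup.commutator_mem_commutator hs h1
      convert h3 using 1
      rw [h2]
      show ((σ y : Z) : Ω) * ((y : Z) : Ω)⁻¹ = _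
      rw [hσ1]
      rfl
  have hδ : ∀ z : Z, (fun y : Z => σ y * y⁻¹)^[n * (p - 1) + 1] z = 1 := by
    intro z
    have h1 := hδk (n * (p - 1) + 1) z
    rw [hcl, Subgroup.mem_bot] at h1
    apply Subtype.ext
    exact h1
  intro z hz
  have h := map_pow_eq_of_iterate p hp n σ hσ hδ ⟨z, hz⟩
  have h' := congrArg (fun x : Z => (x : Ω)) h
  simpa [hσ1] using h'

end Cfsg.Agent.Lib.Helper85.PowRing
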