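import Cfsg.Agent.Lib.Helper12.PsDefs

/-!
# Ps hive (S4321, helper12, route B): leaf `psG`.  `P` is normal in `G`.
-/

set_option autoImplicit false

namespace Cfsg.Agent.Lib.Helper12.Ps

open Subgroup Cfsg.Agent.Lib.Helper22.Cg

universe u

/-- a `p`-element normalizing a Sylow `p`-subgroup lies in it (private copy of `psU`). -/
theorem psg_mem {G : Type u} [Group G] [Finite G] (p : ℕ) [Fact p.Prime] (P : Sylow p G) (w : G)
    (hw : ∃ n : ℕ, orderOf w = p ^ n) (hn : ∀ y ∈ P, w * y * w⁻¹ ∈ P) : w ∈ P := by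
  obtain ⟨n, hn'⟩ := hw
  have hpg : IsPGroup p (zpowers w) := by
    apply IsPGroup.of_card (n := n)
    rw [Nat.card_zpowers, hn']
  have hnorm : w ∈ normalizer ((P : Subgroup G) : Set G) :=
    Subgroup.mem_normalizer_fintype (fun y hy => hn y hy)
  have h2 := hpg.inf_normalizer_sylow P
  have h3 : w ∈ zpowers w ⊓ (P : Subgroup G) := by
    rw [← h2]
    exact ⟨Subgroup.mem_zpowers w, hnorm⟩
  exact h3.2

/-- PSG. (psU) `P` is normal in `G`. -/
theorem psG {G : Type u} [Group G] [Finite G] (p : ℕ) [Fact p.Prime] (b : G) (P : Sylow p G)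
    (hdec : ∀ w : G, b * w = w * b →
      ∃ y ∈ P, ∃ c : G, b * c = c * b ∧ (∀ y' ∈ P, c * y' = y' * c) ∧ w = c * y)
    (hPcen : ∀ y ∈ P, ∀ h : G, y * (h * b * h⁻¹) = (h * b * h⁻¹) * y) :
    ∀ h : G, ∀ y ∈ P, h * y * h⁻¹ ∈ P := by
  intro h y hy
  -- `w = h y h⁻¹` commutes with `b`
  have hcomm : b * (h * y * h⁻¹) = (h * y * h⁻¹) * b := by
    have e := hPcen y hy h⁻¹
    rw [inv_inv] at e
    -- e : y * (h⁻¹ * b * h) = (h⁻¹ * b * h) * y
    have e2 : h * (y * (h⁻¹ * b * h)) * h⁻¹ = h * ((h⁻¹ * b * h) * y) * h⁻¹ := by rw [e]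
    have l : h * (y * (h⁻¹ * b * h)) * h⁻¹ = (h * y * h⁻¹) * b := by group
    have r : h * ((h⁻¹ * b * h) * y) * h⁻¹ = b * (h * y * h⁻¹) := by group
    rw [l, r] at e2
    exact e2.symm
  obtain ⟨y', hy', c, _, hcP, hw⟩ := hdec (h * y * h⁻¹) hcomm
  -- `w` is a `p`-element
  have hord : ∃ n : ℕ, orderOf (h * y * h⁻¹) = p ^ n := by
    obtain ⟨n, hn⟩ := (IsPGroup.iff_orderOf.mp P.isPGroup') ⟨y, hy⟩
    refine ⟨n, ?_⟩
    rw [Subgroup.orderOf_mk] at hn
    have := orderOf_injective (MulAut.conj h).toMonoidHom (MulAut.conj h).injective y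
    simp only [MulEquiv.coe_toMonoidHom, MulAut.conj_apply] at this
    rw [this, hn]
  -- `w` normalizes `P`
  apply psg_mem p P _ hord
  intro z hz
  rw [hw]
  have e : c * y' * z * (c * y')⁻¹ = c * (y' * z * y'⁻¹) * c⁻¹ := by group
  rw [e]
  have hz' : y' * z * y'⁻¹ ∈ P := P.mul_mem (P.mul_mem hy' hz) (P.inv_mem hy')
  rw [hcP _ hz']
  rw [mul_assoc, mul_inv_cancel, mul_one]
  exact hz'

end Cfsg.Agent.Lib.Helper12.Ps
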