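import Cfsg.Agent.Lib.Helper12.PsDefs
import Cfsg.Agent.Lib.Helper49.CgCG8c
import Cfsg.Agent.Lib.Helper9.CoprimeIndex

/-!
# Ps hive (S4321, helper12, route B): leaf `psH1`.
Covering: an element of `P` with class size coprime to `cs b` is `P`-conjugate into `C_P(Q)`.
-/

set_option autoImplicit false

namespace Cfsg.Agent.Lib.Helper12.Ps

open Subgroup Cfsg.Agent.Lib.Helper22.Cg

universe u

/-- PSH1. covering: an element of `P` with `p ∣ cs g` is `P`-conjugate into `C_P(Q)`. -/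
theorem psH1 {G : Type u} [Group G] [Finite G] (p q : ℕ) [Fact p.Prime] [Fact q.Prime] (b : G)
    (P : Sylow p G) (Q : Sylow q G) (hq : q ∣ cs b)
    (hdec : ∀ w : G, b * w = w * b →
      ∃ y ∈ P, ∃ c : G, b * c = c * b ∧ (∀ y' ∈ P, c * y' = y' * c) ∧ w = c * y)
    (g : G) (hgP : g ∈ P) (hcop : (cs g).Coprime (cs b)) :
    ∃ y ∈ P, ∀ x ∈ Q, (y * g * y⁻¹) * x = x * (y * g * y⁻¹) := by
  have hqp : q.Prime := Fact.out
  -- `q ∤ cs g`
  have hqg : ¬ q ∣ cs g := by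
    intro h
    have h1 : q ∣ Nat.gcd (cs g) (cs b) := Nat.dvd_gcd h hq
    rw [Nat.Coprime.gcd_eq_one hcop] at h1
    exact hqp.one_lt.ne' (Nat.dvd_one.mp h1)
  -- a Sylow `q`-subgroup `Q'` centralizes `g`; `Q' = k Q k⁻¹`
  obtain ⟨Q', hQ'⟩ := cg8c q g hqg
  obtain ⟨k, hk⟩ := MulAction.exists_smul_eq G Q Q'
  have hkx : ∀ x ∈ Q, k * x * k⁻¹ ∈ Q' := by
    intro x hx
    have hmem : k * x * k⁻¹ ∈ ((k • Q : Sylow q G) : Subgroup G) := by
      rw [Sylow.coe_subgroup_smul]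
      refine (Subgroup.mem_smul_pointwise_iff_exists _ _ _).mpr ⟨x, hx, ?_⟩
      rw [MulAut.smul_def, MulAut.conj_apply]
    rw [hk] at hmem
    exact hmem
  -- `k⁻¹ g k` centralizes `Q`
  have hcen : ∀ x ∈ Q, (k⁻¹ * g * k) * x = x * (k⁻¹ * g * k) := by
    intro x hx
    have e := hQ' (k * x * k⁻¹) (hkx x hx)
    -- e : g * (k x k⁻¹) = (k x k⁻¹) * g
    have e2 : k⁻¹ * (g * (k * x * k⁻¹)) * k = k⁻¹ * ((k * x * k⁻¹) * g) * k := by rw [e]
    have l : k⁻¹ * (g * (k * x * k⁻¹)) * k = (k⁻¹ * g * k) * x := by group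
    have r : k⁻¹ * ((k * x * k⁻¹) * g) * k = x * (k⁻¹ * g * k) := by group
    rw [l, r] at e2
    exact e2
  -- `k⁻¹ = w * c'` with `w ∈ C(b)`, `c' ∈ C(g)`
  have hcop' : (centralizer ({b} : Set G)).index.Coprime (centralizer ({g} : Set G)).index :=
    hcop.symm
  obtain ⟨w, hw, c', hc', hkw⟩ :=
    Cfsg.Agent.Lib.Helper9.exists_mul_of_coprime_index (centralizer ({b} : Set G))
      (centralizer ({g} : Set G)) hcop' k⁻¹
  rw [Subgroup.mem_centralizer_singleton_iff] at hw hc'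
  -- hw : w * b = b * w ; hc' : c' * g = g * c'
  obtain ⟨y, hy, c, _, hcP, hwc⟩ := hdec w hw.symm
  refine ⟨y, hy, ?_⟩
  have hyg : y * g * y⁻¹ ∈ P := P.mul_mem (P.mul_mem hy hgP) (P.inv_mem hy)
  have hkey : k⁻¹ * g * k = y * g * y⁻¹ := by
    have hk' : k = (w * c')⁻¹ := by rw [← hkw, inv_inv]
    have e1 : k⁻¹ * g * k = w * (c' * g * c'⁻¹) * w⁻¹ := by
      rw [hk']; group
    have e2 : c' * g * c'⁻¹ = g := by rw [hc', mul_assoc, mul_inv_cancel, mul_one]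
    rw [e1, e2, hwc]
    have e3 : c * y * g * (c * y)⁻¹ = c * (y * g * y⁻¹) * c⁻¹ := by group
    rw [e3, hcP _ hyg, mul_assoc, mul_inv_cancel, mul_one]
  intro x hx
  rw [← hkey]
  exact hcen x hx

end Cfsg.Agent.Lib.Helper12.Ps
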