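import Cfsg.Agent.Lib.Helper85.ResLimit1
import Cfsg.Agent.S5199
import Cfsg.Prelude.Def_FusionReduction
import Cfsg.Prelude.Def_FusionComponents

/-!
# Uniqueness of the residual limit of a saturated fusion system
-/

set_option autoImplicit false

namespace Cfsg.Agent.Lib.Helper85.RL

open Cfsg Cfsg.FusionSystem Cfsg.Agent.Lib.Helper87

universe u

variable {Ω : Type u} [Group Ω]

/-- Two fusion systems over the same subgroup with the same maps are equal. -/
theorem fs_ext {S : Subgroup Ω} {F₁ F₂ : FusionSystem S} (h : ∀ P : Subgroup Ω, F₁.Hom P = F₂.Hom P) :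
    F₁ = F₂ := by
  cases F₁; cases F₂
  congr
  funext P
  exact h P

/-- Two fusion systems (over possibly different subgroups) have the same maps. -/
def SameSys {S₁ S₂ : Subgroup Ω} (F₁ : FusionSystem S₁) (F₂ : FusionSystem S₂) : Prop :=
  ∀ P : Subgroup Ω, F₁.Hom P = F₂.Hom P

theorem SameSys.refl {S : Subgroup Ω} (F : FusionSystem S) : SameSys F F := fun _ => rfl

theorem SameSys.symm {S₁ S₂ : Subgroup Ω} {F₁ : FusionSystem S₁} {F₂ : FusionSystem S₂}
    (h : SameSys F₁ F₂) : SameSys F₂ F₁ := fun P => (h P).symm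

theorem SameSys.trans {S₁ S₂ S₃ : Subgroup Ω} {F₁ : FusionSystem S₁} {F₂ : FusionSystem S₂}
    {F₃ : FusionSystem S₃} (h : SameSys F₁ F₂) (h' : SameSys F₂ F₃) : SameSys F₁ F₃ :=
  fun P => (h P).trans (h' P)

theorem SameSys.of_sub {S₁ S₂ : Subgroup Ω} {F₁ : FusionSystem S₁} {F₂ : FusionSystem S₂}
    (h : F₁.IsSubsystemOf F₂) (h' : F₂.IsSubsystemOf F₁) : SameSys F₁ F₂ :=
  fun P => Set.Subset.antisymm (h P) (h' P)

theorem SameSys.subgroup_eq {S₁ S₂ : Subgroup Ω} {F₁ : FusionSystem S₁} {F₂ : FusionSystem S₂}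
    (h : SameSys F₁ F₂) : S₁ = S₂ := by
  apply le_antisymm
  · have h1 : S₁.subtype ∈ F₁.Hom S₁ := subtype_mem F₁ le_rfl
    rw [h S₁] at h1
    exact hom_le F₂ h1
  · have h1 : S₂.subtype ∈ F₂.Hom S₂ := subtype_mem F₂ le_rfl
    rw [← h S₂] at h1
    exact hom_le F₁ h1

/-- Elimination principle: to prove something about systems with the same maps one may assume they are equal. -/
theorem SameSys.elim {motive : ∀ {S₁ S₂ : Subgroup Ω}, FusionSystem S₁ → FusionSystem S₂ → Prop}
    (hm : ∀ {S : Subgroup Ω} (F : FusionSystem S), motive F F)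
    {S₁ S₂ : Subgroup Ω} {F₁ : FusionSystem S₁} {F₂ : FusionSystem S₂} (h : SameSys F₁ F₂) :
    motive F₁ F₂ := by
  obtain rfl := h.subgroup_eq
  obtain rfl := fs_ext h
  exact hm F₁

theorem SameSys.hyperfocal_eq {S₁ S₂ : Subgroup Ω} {F₁ : FusionSystem S₁} {F₂ : FusionSystem S₂}
    (h : SameSys F₁ F₂) (p : ℕ) : F₁.hyperfocalSubgroup p = F₂.hyperfocalSubgroup p :=
  SameSys.elim (motive := fun F₁ F₂ => F₁.hyperfocalSubgroup p = F₂.hyperfocalSubgroup p)
    (fun _ => rfl) h

theorem SameSys.residualLimit {S₁ S₂ : Subgroup Ω} {F₁ : FusionSystem S₁} {F₂ : FusionSystem S₂}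
    (h : SameSys F₁ F₂) {p : ℕ} {V : Subgroup Ω} {X : FusionSystem V}
    (hX : IsResidualLimitOf X F₁ p) : IsResidualLimitOf X F₂ p :=
  SameSys.elim (motive := fun F₁ F₂ => IsResidualLimitOf X F₁ p → IsResidualLimitOf X F₂ p)
    (fun _ => id) h hX

/-- The `p'`-residual subsystem is unique. -/
theorem pPrimeResidual_unique {S : Subgroup Ω} {D X₁ X₂ : FusionSystem S} {p : ℕ}
    (h₁ : D.IsPPrimeResidual p X₁) (h₂ : D.IsPPrimeResidual p X₂) : X₁ = X₂ :=
  fs_ext (SameSys.of_sub (h₁.2.2 X₂ h₂.1 h₂.2.1) (h₂.2.2 X₁ h₁.1 h₁.2.1))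

theorem SameSys.pPrimeResidual {S₁ S₂ : Subgroup Ω} {D₁ D₁' : FusionSystem S₁} {D₂ D₂' : FusionSystem S₂}
    (h : SameSys D₁ D₂) {p : ℕ} (h₁ : D₁.IsPPrimeResidual p D₁') (h₂ : D₂.IsPPrimeResidual p D₂') :
    SameSys D₁' D₂' := by
  obtain rfl := h.subgroup_eq
  obtain rfl := fs_ext h
  obtain rfl := pPrimeResidual_unique h₁ h₂
  exact SameSys.refl _

theorem SameSys.pPrimeResidual_self {S₁ S₂ : Subgroup Ω} {D₁ : FusionSystem S₁} {D₂ : FusionSystem S₂}
    (h : SameSys D₁ D₂) {p : ℕ} (h₁ : D₁.IsPPrimeResidual p D₁) : D₂.IsPPrimeResidual p D₂ :=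
  SameSys.elim (motive := fun D₁ D₂ => D₁.IsPPrimeResidual p D₁ → D₂.IsPPrimeResidual p D₂)
    (fun _ => id) h h₁

theorem finite_hyperfocal {S : Subgroup Ω} [Finite S] {p : ℕ} (F : FusionSystem S) :
    Finite ↥(F.hyperfocalSubgroup p) :=
  Finite.of_injective (Subgroup.inclusion (Cfsg.Agent.Lib.Helper85.hyperfocal_le F p))
    (Subgroup.inclusion_injective _)

section
variable {S : Subgroup Ω} [Finite S] {p : ℕ} [Fact p.Prime]

/-- The `p`-residual subsystem is unique. -/
theorem pResidual_unique (hS : IsPGroup p S) (F : FusionSystem S)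
    {D₁ D₂ : FusionSystem (F.hyperfocalSubgroup p)} (h₁ : F.IsPResidual p D₁) (h₂ : F.IsPResidual p D₂) :
    D₁ = D₂ :=
  fs_ext (SameSys.of_sub
    (Cfsg.Agent.S5199.sub_of_pPowerIndex hS F D₁ h₁.1 h₁.2.1 D₂ le_rfl h₂.2.2.2)
    (Cfsg.Agent.S5199.sub_of_pPowerIndex hS F D₂ h₂.1 h₂.2.1 D₁ le_rfl h₁.2.2.2))

/-- A saturated system whose hyperfocal subgroup is everything is its own `p`-residual. -/
theorem pResidual_sameSys_of_hyp_eq (hS : IsPGroup p S) (F : FusionSystem S) (hF : F.IsSaturated p)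
    (hhyp : F.hyperfocalSubgroup p = S)
    {D : FusionSystem (F.hyperfocalSubgroup p)} (h : F.IsPResidual p D) : SameSys D F :=
  SameSys.of_sub h.2.1
    (Cfsg.Agent.S5199.sub_of_pPowerIndex hS F F hF (fun _ _ h => h) D hhyp.ge h.2.2.2)

end

/-- A stable system is its only residual limit. -/
theorem residualLimit_of_stable {V S : Subgroup Ω} {X : FusionSystem V} {G : FusionSystem S} {p : ℕ}
    (h : IsResidualLimitOf X G p) : ∀ [Finite S] [Fact p.Prime], IsPGroup p S →
      G.hyperfocalSubgroup p = S → G.IsPPrimeResidual p G → SameSys X G := by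
  induction h with
  | stable F p _ _ =>
    intro _ _ _ _ _
    exact SameSys.refl _
  | step F p D D' hD hD' _ ih =>
    intro _ _ hS hhyp hres
    have hDF : SameSys D F := pResidual_sameSys_of_hyp_eq hS F hres.1 hhyp hD
    have hD'F : SameSys D' F := hDF.pPrimeResidual hD' hres
    have hfin : Finite ↥(F.hyperfocalSubgroup p) := finite_hyperfocal F
    have hSp : IsPGroup p ↥(F.hyperfocalSubgroup p) :=
      hS.to_le (Cfsg.Agent.Lib.Helper85.hyperfocal_le F p)
    have h1 : D'.hyperfocalSubgroup p = F.hyperfocalSubgroup p := hD'F.hyperfocal_eq p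
    have h2 : D'.IsPPrimeResidual p D' := hD'F.symm.pPrimeResidual_self hres
    exact (ih hSp h1 h2).trans hD'F

/-- The residual limit of a system over a finite `p`-group is unique. -/
theorem residualLimit_unique {V₁ S : Subgroup Ω} {X₁ : FusionSystem V₁} {F : FusionSystem S} {p : ℕ}
    (h : IsResidualLimitOf X₁ F p) : ∀ [Finite S] [Fact p.Prime], IsPGroup p S →
      ∀ {V₂ : Subgroup Ω} (X₂ : FusionSystem V₂), IsResidualLimitOf X₂ F p → SameSys X₁ X₂ := by
  induction h with
  | stable F p hhyp hres =>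
    intro _ _ hS V₂ X₂ h₂
    exact (residualLimit_of_stable h₂ hS hhyp hres).symm
  | step F p D D' hD hD' hlim ih =>
    intro _ _ hS V₂ X₂ h₂
    have hfin : Finite ↥(F.hyperfocalSubgroup p) := finite_hyperfocal F
    have hSp : IsPGroup p ↥(F.hyperfocalSubgroup p) :=
      hS.to_le (Cfsg.Agent.Lib.Helper85.hyperfocal_le F p)
    cases h₂ with
    | stable _ _ hhyp hres =>
      exact residualLimit_of_stable (IsResidualLimitOf.step F p D D' hD hD' hlim) hS hhyp hres
    | step _ _ E₂ E₂' hE₂ hE₂' hlim₂ =>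
      obtain rfl := pResidual_unique hS F hD hE₂
      obtain rfl := pPrimeResidual_unique hD' hE₂'
      exact ih hSp X₂ hlim₂

/-- A subsystem of `p`-power index has the same residual limit. -/
theorem residualLimit_of_pPowerIndex {S : Subgroup Ω} [Finite S] {p : ℕ} [Fact p.Prime] (hS : IsPGroup p S)
    (F : FusionSystem S) (hF : F.IsSaturated p) {T : Subgroup Ω} (E : FusionSystem T)
    (hEsat : E.IsSaturated p) (hidx : E.HasPPowerIndexIn F p) {U V : Subgroup Ω}
    (Finf : FusionSystem U) (hFinf : IsResidualLimitOf Finf F p)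
    (Einf : FusionSystem V) (hEinf : IsResidualLimitOf Einf E p) : SameSys Finf Einf := by
  have hEF : E.IsSubsystemOf F := hidx.1
  have hTS : T ≤ S := hom_le F (hEF T (subtype_mem E le_rfl))
  have hfinT : Finite T := Finite.of_injective (Subgroup.inclusion hTS) (Subgroup.inclusion_injective hTS)
  have hTp : IsPGroup p T := hS.to_le hTS
  have hhypEF : E.hyperfocalSubgroup p = F.hyperfocalSubgroup p :=
    le_antisymm (hyperfocal_mono E F p hEF) (hyperfocal_le_of_pPowerIndex hS E F hidx)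
  have hfin : Finite ↥(F.hyperfocalSubgroup p) := finite_hyperfocal F
  have hSp : IsPGroup p ↥(F.hyperfocalSubgroup p) :=
    hS.to_le (Cfsg.Agent.Lib.Helper85.hyperfocal_le F p)
  cases hFinf with
  | stable _ _ hhyp hres =>
    -- `F` stable: then `E` has the same maps as `F`
    have hEFs : SameSys E F :=
      SameSys.of_sub hEF (Cfsg.Agent.S5199.sub_of_pPowerIndex hS F F hF (fun _ _ h => h) E
        (hhyp.ge.trans hidx.2.1) hidx.2.2)
    exact (residualLimit_of_stable (hEFs.residualLimit hEinf) hS hhyp hres).symm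
  | step _ _ DF DF' hDF hDF' hlimF =>
    cases hEinf with
    | stable _ _ hhypE hresE =>
      -- `E` stable: `DF` has the same maps as `E`
      have h1 : SameSys DF E :=
        SameSys.of_sub
          (Cfsg.Agent.S5199.sub_of_pPowerIndex hS F DF hDF.1 hDF.2.1 E hidx.2.1 hidx.2.2)
          (Cfsg.Agent.S5199.sub_of_pPowerIndex hS F E hEsat hEF DF (hhypE.symm.trans hhypEF).le
            hDF.2.2.2)
      have h2 : SameSys DF' E := h1.pPrimeResidual hDF' hresE
      exact residualLimit_of_stable (h2.residualLimit hlimF) hTp hhypE hresE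
    | step _ _ DE DE' hDE hDE' hlimE =>
      have hDEF : DE.IsSubsystemOf F := fun P φ hφ => hEF P (hDE.2.1 P hφ)
      have h1 : SameSys DE DF := by
        refine SameSys.of_sub
          (Cfsg.Agent.S5199.sub_of_pPowerIndex hS F DE hDE.1 hDEF DF hhypEF.le hDF.2.2.2)
          (Cfsg.Agent.S5199.sub_of_pPowerIndex hS F DF hDF.1 hDF.2.1 DE hhypEF.ge ?_)
        intro P hP
        have hPT : P ≤ T := hP.trans (Cfsg.Agent.Lib.Helper85.hyperfocal_le E p)
        refine le_trans ?_ (hDE.2.2.2 P hP)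
        rw [Subgroup.map_le_iff_le_comap]
        unfold Cfsg.pResidual
        rw [Subgroup.closure_le]
        intro g hg
        have hgE : (g : MulAut P) ∈ E.autGroup P :=
          hidx.2.2 P hPT ⟨g, Subgroup.subset_closure hg, rfl⟩
        have hcop : (orderOf (g : MulAut P)).Coprime p := by
          rw [Subgroup.orderOf_coe]; exact hg
        exact mem_map_pResidual hgE hcop
      have h2 : SameSys DE' DF' := h1.pPrimeResidual hDE' hDF'
      exact residualLimit_unique hlimF hSp Einf (h2.residualLimit hlimE)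

end Cfsg.Agent.Lib.Helper85.RL
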