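import Mathlib

/-! # Rh hive (helper38): a general counting lemma for RH-ZCNT (Mathlib only).

`T ≤ G`, `P` a conjugation-invariant property such that the elements of `T` with `P` force `g ∈ N(T)` whenever one
of their `g`-conjugates lies in `T`.  Then
`|{y : P y, y in a conjugate of T}| · |N(T)| = |G| · |{t ∈ T : P t}|`. -/

set_option autoImplicit false

namespace Cfsg.Agent.Lib.Helper38.Rh

section general
variable {G : Type*} [Group G]

/-- a chosen conjugating element -/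
noncomputable def zcnt_rep (T : Subgroup G) (P : G → Prop)
    (y : {y : G // P y ∧ ∃ g : G, g⁻¹ * y * g ∈ T}) : G := Classical.choose y.2.2

theorem zcnt_rep_spec (T : Subgroup G) (P : G → Prop)
    (y : {y : G // P y ∧ ∃ g : G, g⁻¹ * y * g ∈ T}) :
    (zcnt_rep T P y)⁻¹ * (y : G) * zcnt_rep T P y ∈ T := Classical.choose_spec y.2.2

theorem zcnt_general [Finite G] (T : Subgroup G) (P : G → Prop)
    (hP : ∀ g x : G, P (g * x * g⁻¹) ↔ P x)
    (hTI : ∀ g : G, ∀ t ∈ T, P t → g * t * g⁻¹ ∈ T → g ∈ Subgroup.normalizer (T : Set G)) :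
    Nat.card {y : G // P y ∧ ∃ g : G, g⁻¹ * y * g ∈ T} * Nat.card ↥(Subgroup.normalizer (T : Set G)) =
      Nat.card G * Nat.card {t : G // t ∈ T ∧ P t} := by
  classical
  have hP' : ∀ g x : G, P (g⁻¹ * x * g) ↔ P x := by
    intro g x
    have := hP g⁻¹ x
    rwa [inv_inv] at this
  -- the map
  have hmem : ∀ (y : {y : G // P y ∧ ∃ g : G, g⁻¹ * y * g ∈ T})
      (n : ↥(Subgroup.normalizer (T : Set G))),
      (zcnt_rep T P y * n)⁻¹ * (y : G) * (zcnt_rep T P y * n) ∈ T ∧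
        P ((zcnt_rep T P y * n)⁻¹ * (y : G) * (zcnt_rep T P y * n)) := by
    intro y n
    refine ⟨?_, (hP' _ _).mpr y.2.1⟩
    have h1 := zcnt_rep_spec T P y
    have h2 := (Subgroup.mem_set_normalizer_iff''.mp n.2) ((zcnt_rep T P y)⁻¹ * (y : G) * zcnt_rep T P y)
    have e : (zcnt_rep T P y * (n : G))⁻¹ * (y : G) * (zcnt_rep T P y * n) =
        (n : G)⁻¹ * ((zcnt_rep T P y)⁻¹ * (y : G) * zcnt_rep T P y) * n := by group
    rw [e]
    exact h2.mp h1
  let f : {y : G // P y ∧ ∃ g : G, g⁻¹ * y * g ∈ T} × ↥(Subgroup.normalizer (T : Set G)) →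
      G × {t : G // t ∈ T ∧ P t} := fun p =>
    (zcnt_rep T P p.1 * p.2, ⟨(zcnt_rep T P p.1 * p.2)⁻¹ * (p.1 : G) * (zcnt_rep T P p.1 * p.2),
      hmem p.1 p.2⟩)
  have hinj : Function.Injective f := by
    rintro ⟨y, n⟩ ⟨y', n'⟩ h
    have h1 : zcnt_rep T P y * (n : G) = zcnt_rep T P y' * (n' : G) := congrArg Prod.fst h
    have h2 : (zcnt_rep T P y * (n : G))⁻¹ * (y : G) * (zcnt_rep T P y * n) =
        (zcnt_rep T P y' * (n' : G))⁻¹ * (y' : G) * (zcnt_rep T P y' * n') :=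
      congrArg (fun q => (q.2 : G)) h
    rw [← h1] at h2
    have h3 : (y : G) = y' := by
      have := mul_left_cancel (mul_right_cancel h2)
      exact this
    have h4 : y = y' := Subtype.ext h3
    subst h4
    have h5 : (n : G) = n' := mul_left_cancel h1
    have h6 : n = n' := Subtype.ext h5
    rw [h6]
  have hsurj : Function.Surjective f := by
    rintro ⟨g, ⟨t, htT, htP⟩⟩
    have hy : P (g * t * g⁻¹) ∧ ∃ k : G, k⁻¹ * (g * t * g⁻¹) * k ∈ T :=
      ⟨(hP g t).mpr htP, g, by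
        have e : g⁻¹ * (g * t * g⁻¹) * g = t := by group
        rw [e]; exact htT⟩
    set y : {y : G // P y ∧ ∃ g : G, g⁻¹ * y * g ∈ T} := ⟨g * t * g⁻¹, hy⟩ with hydef
    have hr := zcnt_rep_spec T P y
    have hrP : P ((zcnt_rep T P y)⁻¹ * (y : G) * zcnt_rep T P y) := (hP' _ _).mpr y.2.1
    have hn : (zcnt_rep T P y)⁻¹ * g ∈ Subgroup.normalizer (T : Set G) := by
      have h1 := hTI ((zcnt_rep T P y)⁻¹ * g)⁻¹ _ hr hrP (by
        have e : ((zcnt_rep T P y)⁻¹ * g)⁻¹ * ((zcnt_rep T P y)⁻¹ * (y : G) * zcnt_rep T P y) *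
            ((zcnt_rep T P y)⁻¹ * g)⁻¹⁻¹ = t := by
          show ((zcnt_rep T P y)⁻¹ * g)⁻¹ * ((zcnt_rep T P y)⁻¹ * (g * t * g⁻¹) * zcnt_rep T P y) *
            ((zcnt_rep T P y)⁻¹ * g)⁻¹⁻¹ = t
          group
        rw [e]; exact htT)
      have h2 := Subgroup.inv_mem _ h1
      rwa [inv_inv] at h2
    refine ⟨(y, ⟨(zcnt_rep T P y)⁻¹ * g, hn⟩), ?_⟩
    have e1 : zcnt_rep T P y * ((zcnt_rep T P y)⁻¹ * g) = g := by group
    apply Prod.ext
    · exact e1
    · apply Subtype.ext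
      show (zcnt_rep T P y * ((zcnt_rep T P y)⁻¹ * g))⁻¹ * (g * t * g⁻¹) *
        (zcnt_rep T P y * ((zcnt_rep T P y)⁻¹ * g)) = t
      rw [e1]
      group
  have hcard := Nat.card_congr (Equiv.ofBijective f ⟨hinj, hsurj⟩)
  rw [Nat.card_prod, Nat.card_prod] at hcard
  exact hcard

end general

end Cfsg.Agent.Lib.Helper38.Rh
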