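import Cfsg.Agent.Lib.Helper38.RhDefsB
import Cfsg.Agent.Lib.Helper85.RhZCNTgen

/-! # Rh hive (helper38), leaf RH-ZCNT: the core, with the statements of RH-C1A / RH-C1B / RH-C1V as hypotheses. -/

set_option autoImplicit false

namespace Cfsg.Agent.Lib.Helper38.Rh

section core
variable {G : Type*} [Group G]

theorem zcnt_orderOf_conj (g x : G) : orderOf (g * x * g⁻¹) = orderOf x := by
  have := orderOf_injective (MulAut.conj g).toMonoidHom (MulAut.conj g).injective x
  simpa using this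

theorem zcnt_sq_conj (g x : G) : (g * x * g⁻¹) * (g * x * g⁻¹) ≠ 1 ↔ x * x ≠ 1 := by
  have e : (g * x * g⁻¹) * (g * x * g⁻¹) = g * (x * x) * g⁻¹ := by group
  rw [e, not_iff_not]
  constructor
  · intro h
    have h2 : x * x = g⁻¹ * (g * (x * x) * g⁻¹) * g := by group
    rw [h2, h]; group
  · intro h
    rw [h]; group

theorem zcnt_core [Finite G] {m : ℕ} {C : Subgroup G} (hC : IsC1 m C)
    (hA : ∀ C' : Subgroup G, IsC1 m C' → Nat.card ↥C' = qq m + 1 ∧ (∀ x ∈ C', ∀ z ∈ C', x * z = z * x) ∧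
      ∀ g ∈ C', g ≠ 1 → Odd (orderOf g) → Subgroup.centralizer ({g} : Set G) = C')
    (hB : ∀ C₁ C₂ : Subgroup G, IsC1 m C₁ → IsC1 m C₂ →
      ∃ g : G, C₂ = C₁.map (MulAut.conj g).toMonoidHom)
    (hV : ∀ C' : Subgroup G, IsC1 m C' → Nat.card {g : G // g ∈ C' ∧ g * g = 1} = 4 ∧
      ∀ g ∈ C', g * g ≠ 1 → g ∈ Zset G m) :
    Nat.card ↥(Zset G m) * Nat.card ↥(Subgroup.normalizer (C : Set G)) = Nat.card G * (qq m - 3) := by
  classical
  -- the general counting lemma
  have hgen := zcnt_general C (fun y => y * y ≠ 1) (fun g x => zcnt_sq_conj g x) (by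
    intro g t ht htt hgt
    obtain ⟨ℓ, hℓ, hℓ2, hℓq, hℓt⟩ := (hV C hC).2 t ht htt
    set y := t ^ (orderOf t / ℓ) with hy
    have hoy : orderOf y = ℓ := orderOf_pow_orderOf_div (orderOf_pos t).ne' hℓt
    have hyC : y ∈ C := Subgroup.pow_mem _ ht _
    have hy1 : y ≠ 1 := by
      intro h1
      rw [h1, orderOf_one] at hoy
      exact hℓ.one_lt.ne hoy
    have hodd : Odd (orderOf y) := by rw [hoy]; exact hℓ.odd_of_ne_two hℓ2
    have hCy := (hA C hC).2.2 y hyC hy1 hodd
    have hy'C : g * y * g⁻¹ ∈ C := by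
      have e : g * y * g⁻¹ = (g * t * g⁻¹) ^ (orderOf t / ℓ) := by rw [hy, conj_pow]
      rw [e]
      exact Subgroup.pow_mem _ hgt _
    have hy'1 : g * y * g⁻¹ ≠ 1 := by
      intro h1
      apply hy1
      have e : y = g⁻¹ * (g * y * g⁻¹) * g := by group
      rw [e, h1]; group
    have hodd' : Odd (orderOf (g * y * g⁻¹)) := by rw [zcnt_orderOf_conj]; exact hodd
    have hCy' := (hA C hC).2.2 _ hy'C hy'1 hodd'
    rw [Subgroup.mem_set_normalizer_iff]
    intro x
    have h1 : x ∈ C ↔ x * y = y * x := by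
      rw [← hCy, Subgroup.mem_centralizer_singleton_iff]
    have h2 : g * x * g⁻¹ ∈ C ↔ (g * x * g⁻¹) * (g * y * g⁻¹) = (g * y * g⁻¹) * (g * x * g⁻¹) := by
      conv_lhs => rw [← hCy']
      rw [Subgroup.mem_centralizer_singleton_iff]
    show x ∈ C ↔ g * x * g⁻¹ ∈ C
    rw [h1, h2]
    have e1 : (g * x * g⁻¹) * (g * y * g⁻¹) = g * (x * y) * g⁻¹ := by group
    have e2 : (g * y * g⁻¹) * (g * x * g⁻¹) = g * (y * x) * g⁻¹ := by group
    rw [e1, e2]
    constructor
    · intro h; rw [h]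
    · intro h
      have := mul_left_cancel (mul_right_cancel h)
      exact this)
  -- identification of the left set with `Zset`
  have hset : ∀ y : G, (y * y ≠ 1 ∧ ∃ g : G, g⁻¹ * y * g ∈ C) ↔ y ∈ Zset G m := by
    intro y
    constructor
    · rintro ⟨hyy, g, hg⟩
      have h1 : (g⁻¹ * y * g) * (g⁻¹ * y * g) ≠ 1 := by
        have := (zcnt_sq_conj g⁻¹ y).mpr hyy
        rwa [inv_inv] at this
      obtain ⟨ℓ, hℓ, hℓ2, hℓq, hℓt⟩ := (hV C hC).2 _ hg h1
      refine ⟨ℓ, hℓ, hℓ2, hℓq, ?_⟩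
      have := zcnt_orderOf_conj g⁻¹ y
      rw [inv_inv] at this
      rwa [this] at hℓt
    · rintro ⟨ℓ, hℓ, hℓ2, hℓq, hℓy⟩
      constructor
      · intro hyy
        have h2 : orderOf y ∣ 2 := orderOf_dvd_of_pow_eq_one (by rw [pow_two]; exact hyy)
        have h3 : ℓ ∣ 2 := hℓy.trans h2
        exact hℓ2 ((Nat.prime_dvd_prime_iff_eq hℓ Nat.prime_two).mp h3)
      · set x := y ^ (orderOf y / ℓ) with hx
        have hox : orderOf x = ℓ := orderOf_pow_orderOf_div (orderOf_pos y).ne' hℓy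
        have hCx : IsC1 m (Subgroup.centralizer ({x} : Set G)) := ⟨x, ℓ, hℓ, hℓ2, hℓq, hox, rfl⟩
        obtain ⟨g, hg⟩ := hB C _ hC hCx
        refine ⟨g, ?_⟩
        have hyx : y ∈ Subgroup.centralizer ({x} : Set G) := by
          rw [Subgroup.mem_centralizer_singleton_iff]
          exact ((Commute.refl y).pow_right _).eq
        rw [hg] at hyx
        obtain ⟨t, ht, hty⟩ := hyx
        have e : g⁻¹ * y * g = t := by
          rw [← hty]
          simp only [MulEquiv.coe_toMonoidHom, MulAut.conj_apply]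
          group
        rw [e]; exact ht
  have hcardZ : Nat.card ↥(Zset G m) = Nat.card {y : G // y * y ≠ 1 ∧ ∃ g : G, g⁻¹ * y * g ∈ C} :=
    Nat.card_congr (Equiv.subtypeEquivRight (fun y => (hset y).symm))
  -- the count on `C`
  have hcount : Nat.card {t : G // t ∈ C ∧ t * t ≠ 1} = qq m - 3 := by
    have : Fintype G := Fintype.ofFinite G
    have h4 := (hV C hC).1
    have hq := (hA C hC).1
    have hCcard : Nat.card ↥C = (Finset.univ.filter (fun t : G => t ∈ C)).card := by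
      rw [Nat.card_eq_fintype_card]
      exact Fintype.card_subtype _
    rw [Nat.card_eq_fintype_card, Fintype.card_subtype] at h4 ⊢
    have hsplit := Finset.card_filter_add_card_filter_not
      (s := Finset.univ.filter (fun t : G => t ∈ C)) (fun t : G => t * t = 1)
    rw [Finset.filter_filter, Finset.filter_filter] at hsplit
    rw [hCcard] at hq
    have e1 : (Finset.univ.filter (fun t : G => t ∈ C ∧ ¬ t * t = 1)).card =
        (Finset.univ.filter (fun t : G => t ∈ C ∧ t * t ≠ 1)).card := rfl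
    omega
  rw [hcardZ, hgen, hcount]

end core

end Cfsg.Agent.Lib.Helper38.Rh
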