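import Cfsg.Agent.Lib.Helper87.PCore
import Mathlib.GroupTheory.Sylow
import Mathlib.GroupTheory.OrderOfElement

set_option autoImplicit false

namespace Cfsg.Agent.Lib.Helper85

open Subgroup

/-- Averaging a cocycle: if `A` is an abelian normal `p`-subgroup of the finite group `G`, `T` a subgroup of index prime to `p`,
and `ψ` an automorphism of `G` fixing `T` elementwise with `ψ g * g⁻¹ ∈ A` for all `g`, then `ψ` is conjugation by an
element of `A`. -/
theorem conj_of_cocycle {G : Type*} [Group G] [Finite G] {p : ℕ} [Fact p.Prime]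
    (A : Subgroup G) [hAn : A.Normal] (hAp : IsPGroup p A) (hAc : ∀ a ∈ A, ∀ b ∈ A, a * b = b * a)
    (T : Subgroup G) (hT : ¬ p ∣ T.index)
    (ψ : G ≃* G) (hψT : ∀ t ∈ T, ψ t = t) (hψA : ∀ g : G, ψ g * g⁻¹ ∈ A) :
    ∃ z ∈ A, ∀ g : G, ψ g = z * g * z⁻¹ := by
  classical
  let _ : Fintype (G ⧸ T) := Fintype.ofFinite _
  let instA : CommGroup A :=
    { (inferInstance : Group A) with
      mul_comm := fun a b => Subtype.ext (hAc a a.2 b b.2) }
  -- the cocycle
  let a' : G → A := fun g => ⟨ψ g * g⁻¹, hψA g⟩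
  have hcoc : ∀ g h : G, a' (g * h) = a' g * (MulAut.conjNormal g (a' h)) := by
    intro g h
    apply Subtype.ext
    show ψ (g * h) * (g * h)⁻¹ = ψ g * g⁻¹ * (g * (ψ h * h⁻¹) * g⁻¹)
    rw [map_mul]
    group
  have hT1 : ∀ t ∈ T, a' t = 1 := by
    intro t ht
    apply Subtype.ext
    show ψ t * t⁻¹ = 1
    rw [hψT t ht, mul_inv_cancel]
  have hconst : ∀ g g' : G, g⁻¹ * g' ∈ T → a' g' = a' g := by
    intro g g' h
    have h1 : g' = g * (g⁻¹ * g') := by group
    rw [h1, hcoc, hT1 _ h, map_one, mul_one]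
  let w : A := ∏ c : G ⧸ T, a' (Quotient.out c)
  set n := Fintype.card (G ⧸ T) with hn
  have hnidx : n = T.index := by
    rw [hn, Subgroup.index, Nat.card_eq_fintype_card]
  have key : ∀ x : G, MulAut.conjNormal x w = (a' x)⁻¹ ^ n * w := by
    intro x
    have h1 : MulAut.conjNormal x w = ∏ c : G ⧸ T, MulAut.conjNormal x (a' (Quotient.out c)) :=
      map_prod (MulAut.conjNormal x : MulAut A) _ _
    have h2 : ∀ c : G ⧸ T, MulAut.conjNormal x (a' (Quotient.out c)) =
        (a' x)⁻¹ * a' (Quotient.out (x • c)) := by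
      intro c
      have h3 := hcoc x (Quotient.out c)
      have h4 : a' (Quotient.out (x • c)) = a' (x * Quotient.out c) := by
        apply hconst
        rw [← QuotientGroup.eq]
        have e1 : ((Quotient.out c : G) : G ⧸ T) = c := Quotient.out_eq' c
        have e2 : ((Quotient.out (x • c) : G) : G ⧸ T) = x • c := Quotient.out_eq' (x • c)
        have e3 : ((x * Quotient.out c : G) : G ⧸ T) = x • ((Quotient.out c : G) : G ⧸ T) := rfl
        rw [e3, e1]
        exact e2.symm
      rw [h4, h3]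
      group
    rw [h1]
    simp_rw [h2]
    rw [Finset.prod_mul_distrib, Finset.prod_const, Finset.card_univ]
    congr 1
    exact Equiv.prod_comp (MulAction.toPerm x : G ⧸ T ≃ G ⧸ T) (fun c => a' (Quotient.out c))
  -- root extraction
  have hcop : (Nat.card A).Coprime n := by
    obtain ⟨k, hk⟩ := IsPGroup.iff_card.mp hAp
    rw [hk, hnidx]
    exact Nat.Coprime.pow_left k ((Nat.Prime.coprime_iff_not_dvd Fact.out).mpr hT)
  let e := powCoprime hcop
  have he : ∀ b : A, e b = b ^ n := fun b => rfl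
  obtain ⟨z, hz⟩ : ∃ z : A, z ^ n = w := ⟨e.symm w, by rw [← he]; exact e.apply_symm_apply w⟩
  have hax : ∀ x : G, a' x = z * (MulAut.conjNormal x z)⁻¹ := by
    intro x
    apply e.injective
    rw [he, he, mul_pow, inv_pow, ← map_pow (MulAut.conjNormal x : MulAut A) z n, hz, key x, inv_pow]
    group
  refine ⟨z, z.2, fun g => ?_⟩
  have h1 := congrArg Subtype.val (hax g)
  have h2 : ψ g * g⁻¹ = (z : G) * (g * (z : G) * g⁻¹)⁻¹ := h1
  have h3 : ψ g = ψ g * g⁻¹ * g := by group
  rw [h3, h2]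
  group

end Cfsg.Agent.Lib.Helper85
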