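import Cfsg.Agent.Lib.Helper85.SimpleGroupCrit2

set_option autoImplicit false

/-!
# `FamilyHyp` passes to the quotient by a central `p'`-subgroup

If `π : G →* H` is surjective with kernel central in `G` and of order prime to `p`, and `S` is a
`p`-subgroup of `G` satisfying `FamilyHyp p S`, then `FamilyHyp p (S.map π)` holds in `H`.
So the hypotheses of `SGC.isSimple_of_family` for `PSL_n`, `PSp_{2m}`, `PSU_n` in the defining
characteristic can be checked upstairs, in `SL_n`, `Sp_{2m}`, `SU_n`.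
-/

namespace Cfsg.Agent.Lib.Helper85.SGC

open Cfsg Cfsg.FusionSystem Subgroup

variable {G H : Type*} [Group G] [Group H]

section central

variable [Finite G] {p : ℕ} [hp : Fact p.Prime] (π : G →* H) (hZ : π.ker ≤ Subgroup.center G)
  (hpZ : ¬ p ∣ Nat.card π.ker)

include hZ hpZ

/-- an element of the kernel that is a `p`-element is trivial -/
theorem ker_pow_eq_one {z : G} (hz : z ∈ π.ker) {k : ℕ} (hk : z ^ p ^ k = 1) : z = 1 := by
  have h1 : orderOf z ∣ p ^ k := orderOf_dvd_of_pow_eq_one hk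
  have h2 : orderOf z ∣ Nat.card π.ker := by
    have : orderOf (⟨z, hz⟩ : π.ker) ∣ Nat.card π.ker := orderOf_dvd_natCard _
    rwa [Subgroup.orderOf_mk] at this
  have hcop : Nat.Coprime (p ^ k) (Nat.card π.ker) :=
    Nat.Coprime.pow_left k ((Nat.Prime.coprime_iff_not_dvd hp.out).mpr hpZ)
  have h3 : orderOf z ∣ 1 := by
    have := Nat.dvd_gcd h1 h2
    rwa [hcop] at this
  exact orderOf_eq_one_iff.mp (Nat.dvd_one.mp h3)

/-- `p`-subgroups of `G` are determined by their images -/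
theorem le_of_map_le {P₁ P₂ : Subgroup G} (h₁ : IsPGroup p P₁) (h₂ : IsPGroup p P₂)
    (h : P₁.map π ≤ P₂.map π) : P₁ ≤ P₂ := by
  intro x₁ hx₁
  obtain ⟨x₂, hx₂, hx⟩ := h ⟨x₁, hx₁, rfl⟩
  obtain ⟨k₁, hk₁⟩ := h₁ ⟨x₁, hx₁⟩
  obtain ⟨k₂, hk₂⟩ := h₂ ⟨x₂, hx₂⟩
  have hk₁' : x₁ ^ p ^ k₁ = 1 := congrArg Subtype.val hk₁
  have hk₂' : x₂ ^ p ^ k₂ = 1 := congrArg Subtype.val hk₂
  have hzker : x₂⁻¹ * x₁ ∈ π.ker := by
    rw [MonoidHom.mem_ker, map_mul, map_inv, hx, inv_mul_cancel]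
  have hzc : x₂⁻¹ * x₁ ∈ Subgroup.center G := hZ hzker
  have hcomm : Commute x₂ (x₂⁻¹ * x₁) := (Subgroup.mem_center_iff.mp hzc x₂)
  have hx₁eq : x₁ = x₂ * (x₂⁻¹ * x₁) := by group
  have hpow : (x₂⁻¹ * x₁) ^ p ^ (k₁ + k₂) = 1 := by
    have h1 : x₁ ^ p ^ (k₁ + k₂) = 1 := by rw [pow_add, pow_mul, hk₁', one_pow]
    have h2 : x₂ ^ p ^ (k₁ + k₂) = 1 := by rw [pow_add, mul_comm, pow_mul, hk₂', one_pow]
    have h3 : x₁ ^ p ^ (k₁ + k₂) = x₂ ^ p ^ (k₁ + k₂) * (x₂⁻¹ * x₁) ^ p ^ (k₁ + k₂) := by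
      conv_lhs => rw [hx₁eq]
      exact hcomm.mul_pow _
    rw [h1, h2, one_mul] at h3
    exact h3.symm
  have hz1 := ker_pow_eq_one π hZ hpZ hzker hpow
  have : x₁ = x₂ := by
    have := inv_mul_eq_one.mp hz1
    exact this.symm
  rw [this]
  exact hx₂

theorem eq_of_map_eq {P₁ P₂ : Subgroup G} (h₁ : IsPGroup p P₁) (h₂ : IsPGroup p P₂)
    (h : P₁.map π = P₂.map π) : P₁ = P₂ :=
  le_antisymm (le_of_map_le π hZ hpZ h₁ h₂ h.le) (le_of_map_le π hZ hpZ h₂ h₁ h.ge)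

/-- normalizers of `p`-subgroups can be computed in the quotient -/
theorem mem_normalizer_of_map_mem {P : Subgroup G} (hP : IsPGroup p P) {g : G}
    (hg : π g ∈ normalizer ((P.map π : Subgroup H) : Set H)) :
    g ∈ normalizer (P : Set G) := by
  have hPg : IsPGroup p (P.map (MulAut.conj g).toMonoidHom) := hP.map _
  have himg : (P.map (MulAut.conj g).toMonoidHom).map π = P.map π := by
    ext y
    constructor
    · rintro ⟨_, ⟨x, hx, rfl⟩, rfl⟩
      have : π ((MulAut.conj g).toMonoidHom x) = π g * π x * (π g)⁻¹ := by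
        simp [MulAut.conj_apply]
      rw [this]
      exact (mem_normalizer_iff.mp hg (π x)).mp ⟨x, hx, rfl⟩
    · rintro ⟨x, hx, rfl⟩
      have h1 : (π g)⁻¹ * π x * ((π g)⁻¹)⁻¹ ∈ P.map π :=
        (mem_normalizer_iff.mp (inv_mem hg) (π x)).mp ⟨x, hx, rfl⟩
      obtain ⟨w, hw, hwx⟩ := h1
      refine ⟨(MulAut.conj g).toMonoidHom w, ⟨w, hw, rfl⟩, ?_⟩
      have : π ((MulAut.conj g).toMonoidHom w) = π g * π w * (π g)⁻¹ := by
        simp [MulAut.conj_apply]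
      rw [this, hwx]
      group
  have heq := eq_of_map_eq π hZ hpZ hPg hP himg
  rw [mem_normalizer_iff]
  intro x
  constructor
  · intro hx
    have : (MulAut.conj g).toMonoidHom x ∈ P.map (MulAut.conj g).toMonoidHom := ⟨x, hx, rfl⟩
    rw [heq] at this
    simpa [MulAut.conj_apply] using this
  · intro hx
    have h2 : g * x * g⁻¹ ∈ P.map (MulAut.conj g).toMonoidHom := by rw [heq]; exact hx
    obtain ⟨y, hy, hyx⟩ := h2
    have : y = x := by
      have h3 : g * y * g⁻¹ = g * x * g⁻¹ := by simpa [MulAut.conj_apply] using hyx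
      have h4 : y = g⁻¹ * (g * y * g⁻¹) * g := by group
      rw [h4, h3]
      group
    exact this ▸ hy

/-- centralizers of `p`-subgroups can be computed in the quotient -/
theorem mem_centralizer_of_map_mem {P : Subgroup G} (hP : IsPGroup p P) {g : G}
    (hg : π g ∈ centralizer ((P.map π : Subgroup H) : Set H)) :
    g ∈ centralizer (P : Set G) := by
  rw [mem_centralizer_iff]
  intro r hr
  -- `c = g r g⁻¹ r⁻¹` lies in the kernel
  have hc : ∀ x ∈ P, g * x * g⁻¹ * x⁻¹ ∈ π.ker := by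
    intro x hx
    have h1 : π x * π g = π g * π x := (mem_centralizer_iff.mp hg) (π x) ⟨x, hx, rfl⟩
    rw [MonoidHom.mem_ker, map_mul, map_mul, map_mul, map_inv, map_inv, ← h1]
    group
  have hcr := hc r hr
  have hcen : g * r * g⁻¹ * r⁻¹ ∈ Subgroup.center G := hZ hcr
  have hpowc : ∀ n : ℕ, g * r ^ n * g⁻¹ * (r ^ n)⁻¹ = (g * r * g⁻¹ * r⁻¹) ^ n := by
    intro n
    induction n with
    | zero => simp
    | succ n ih =>
      have hcomm := Subgroup.mem_center_iff.mp hcen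
      calc g * r ^ (n + 1) * g⁻¹ * (r ^ (n + 1))⁻¹
          = (g * r ^ n * g⁻¹) * (g * r * g⁻¹ * r⁻¹) * (r ^ n)⁻¹ := by
            rw [pow_succ]; group
        _ = (g * r * g⁻¹ * r⁻¹) * (g * r ^ n * g⁻¹) * (r ^ n)⁻¹ := by
            rw [hcomm (g * r ^ n * g⁻¹)]
        _ = (g * r * g⁻¹ * r⁻¹) * (g * r ^ n * g⁻¹ * (r ^ n)⁻¹) := by group
        _ = (g * r * g⁻¹ * r⁻¹) ^ (n + 1) := by rw [ih, pow_succ']
  obtain ⟨k, hk⟩ := hP ⟨r, hr⟩
  have hk' : r ^ p ^ k = 1 := congrArg Subtype.val hk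
  have h1 : (g * r * g⁻¹ * r⁻¹) ^ p ^ k = 1 := by
    rw [← hpowc, hk']
    group
  have h2 := ker_pow_eq_one π hZ hpZ hcr h1
  have h3 : g * r = r * g := by
    have : g * r = (g * r * g⁻¹ * r⁻¹) * r * g := by group
    rw [this, h2, one_mul]
  exact h3.symm


omit hZ hpZ in
/-- every `p`-subgroup of the quotient is the image of a `p`-subgroup -/
theorem exists_pGroup_map_eq (hπ : Function.Surjective π) {K' : Subgroup H}
    (hK' : IsPGroup p K') : ∃ K : Subgroup G, IsPGroup p K ∧ K.map π = K' := by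
  classical
  have hf : Function.Surjective (π.subgroupComap K') :=
    π.subgroupComap_surjective_of_surjective K' hπ
  obtain ⟨P⟩ : Nonempty (Sylow p (K'.comap π)) := inferInstance
  have hKtop : IsPGroup p (⊤ : Subgroup K') := hK'.to_subgroup (⊤ : Subgroup K')
  have hPtop : ((P.mapSurjective hf : Sylow p K') : Subgroup K') = ⊤ :=
    ((P.mapSurjective hf).is_maximal' hKtop le_top).symm
  rw [Sylow.coe_mapSurjective] at hPtop
  refine ⟨(P : Subgroup (K'.comap π)).map (K'.comap π).subtype, P.isPGroup'.map _, ?_⟩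
  ext y
  constructor
  · rintro ⟨_, ⟨x, _, rfl⟩, rfl⟩
    exact x.2
  · intro hy
    have hmem : (⟨y, hy⟩ : K') ∈ (P : Subgroup (K'.comap π)).map (π.subgroupComap K') := by
      rw [hPtop]; trivial
    obtain ⟨x, hx, hxy⟩ := hmem
    exact ⟨x.1, ⟨x, hx, rfl⟩, congrArg Subtype.val hxy⟩

end central

/-- The hypotheses of `isSimple_of_family` "modulo a central subgroup `Z`": the same as
`FamilyHyp p S`, except that `C_G(R) ≤ R` is weakened to `C_G(R) ≤ Z R`.  With `Z = 1` this is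
`FamilyHyp p S`; with `Z = ker π` central of order prime to `p` it gives `FamilyHyp p (π S)`
(`FamilyHypMod.map_of_central`). -/
def FamilyHypMod (p : ℕ) (Z S : Subgroup G) : Prop :=
  S ≠ ⊥ ∧
  (∀ T : Subgroup G, T ≤ S → T ≠ ⊥ →
      (∀ x ∈ T, ∀ g : G, g * x * g⁻¹ ∈ S → g * x * g⁻¹ ∈ T) → T = S) ∧
  ∃ ℛ : Set (Subgroup G),
    (∀ R ∈ ℛ, R ≤ S ∧ S ≤ normalizer (R : Set G) ∧
      (∀ g ∈ centralizer (R : Set G), ∃ z ∈ Z, ∃ r ∈ R, g = z * r) ∧
      ∀ K : Subgroup G, K ≤ normalizer (R : Set G) →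
        normalizer (R : Set G) ≤ normalizer (K : Set G) → IsPGroup p K → K ≤ R) ∧
    ∀ n ∈ normalizer (S : Set G),
      ∃ m ∈ Subgroup.closure {g : G | g ∈ normalizer (S : Set G) ∧ ∃ R ∈ ℛ,
          g ∈ Subgroup.closure {h : G | h ∈ normalizer (R : Set G) ∧ ∃ k : ℕ, orderOf h = p ^ k}},
        ∀ x ∈ S, n * x * n⁻¹ = m * x * m⁻¹

theorem familyHypMod_intro {p : ℕ} {Z S : Subgroup G} (hS1 : S ≠ ⊥)
    (hA : ∀ T : Subgroup G, T ≤ S → T ≠ ⊥ →
      (∀ x ∈ T, ∀ g : G, g * x * g⁻¹ ∈ S → g * x * g⁻¹ ∈ T) → T = S)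
    (ℛ : Set (Subgroup G))
    (hℛ : ∀ R ∈ ℛ, R ≤ S ∧ S ≤ normalizer (R : Set G) ∧
      (∀ g ∈ centralizer (R : Set G), ∃ z ∈ Z, ∃ r ∈ R, g = z * r) ∧
      ∀ K : Subgroup G, K ≤ normalizer (R : Set G) →
        normalizer (R : Set G) ≤ normalizer (K : Set G) → IsPGroup p K → K ≤ R)
    (hB : ∀ n ∈ normalizer (S : Set G),
      ∃ m ∈ Subgroup.closure {g : G | g ∈ normalizer (S : Set G) ∧ ∃ R ∈ ℛ,
          g ∈ Subgroup.closure {h : G | h ∈ normalizer (R : Set G) ∧ ∃ k : ℕ, orderOf h = p ^ k}},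
        ∀ x ∈ S, n * x * n⁻¹ = m * x * m⁻¹) : FamilyHypMod p Z S :=
  ⟨hS1, hA, ℛ, hℛ, hB⟩

theorem FamilyHyp.toMod {p : ℕ} {S : Subgroup G} (h : FamilyHyp p S) (Z : Subgroup G) :
    FamilyHypMod p Z S := by
  obtain ⟨hS1, hA, ℛ, hℛ, hB⟩ := h
  refine ⟨hS1, hA, ℛ, ?_, hB⟩
  intro R hR
  obtain ⟨h1, h2, h3, h4⟩ := hℛ R hR
  exact ⟨h1, h2, fun g hg => ⟨1, one_mem _, g, h3 hg, (one_mul g).symm⟩, h4⟩

/-- **`FamilyHyp` passes to central `p'`-quotients.** -/
theorem FamilyHypMod.map_of_central [Finite G] {p : ℕ} [hp : Fact p.Prime] (π : G →* H)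
    (hπ : Function.Surjective π) (hZ : π.ker ≤ Subgroup.center G)
    (hpZ : ¬ p ∣ Nat.card π.ker) {S : Subgroup G} (hSp : IsPGroup p S)
    (h : FamilyHypMod p π.ker S) : FamilyHyp p (S.map π) := by
  classical
  obtain ⟨hS1, hA, ℛ, hℛ, hB⟩ := h
  have hnormS : ∀ g : G, g ∈ normalizer (S : Set G) →
      π g ∈ normalizer ((S.map π : Subgroup H) : Set H) :=
    fun g hg => le_normalizer_map π ⟨g, hg, rfl⟩
  have hnorm : ∀ (R : Subgroup G) (g : G), g ∈ normalizer (R : Set G) →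
      π g ∈ normalizer ((R.map π : Subgroup H) : Set H) :=
    fun R g hg => le_normalizer_map π ⟨g, hg, rfl⟩
  refine ⟨?_, ?_, (fun R => R.map π) '' ℛ, ?_, ?_⟩
  · -- `π S ≠ 1`
    intro hbot
    apply hS1
    apply eq_of_map_eq π hZ hpZ hSp IsPGroup.of_bot
    rw [hbot, Subgroup.map_bot]
  · -- no proper nontrivial strongly closed subgroup
    intro T' hT'S hT'1 hT'cl
    have hTmap : (S ⊓ T'.comap π).map π = T' := by
      ext y
      constructor
      · rintro ⟨x, ⟨_, hx2⟩, rfl⟩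
        exact hx2
      · intro hy
        obtain ⟨s, hs, rfl⟩ := hT'S hy
        exact ⟨s, ⟨hs, hy⟩, rfl⟩
    have hT1 : S ⊓ T'.comap π ≠ ⊥ := by
      intro hbot
      apply hT'1
      rw [← hTmap, hbot, Subgroup.map_bot]
    have hTS : S ⊓ T'.comap π = S := by
      apply hA _ inf_le_left hT1
      intro x hx g hgx
      refine ⟨hgx, ?_⟩
      show π (g * x * g⁻¹) ∈ T'
      have h1 : π (g * x * g⁻¹) = π g * π x * (π g)⁻¹ := by simp
      rw [h1]
      apply hT'cl (π x) hx.2 (π g)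
      rw [← h1]
      exact ⟨_, hgx, rfl⟩
    rw [← hTmap, hTS]
  · -- the family
    rintro R' ⟨R, hR, rfl⟩
    obtain ⟨hRS, hSN, hcen, hrad⟩ := hℛ R hR
    have hRp : IsPGroup p R := hSp.to_le hRS
    refine ⟨Subgroup.map_mono hRS, ?_, ?_, ?_⟩
    · rintro _ ⟨s, hs, rfl⟩
      exact hnorm R s (hSN hs)
    · intro h' hh'
      obtain ⟨g, rfl⟩ := hπ h'
      have hg := mem_centralizer_of_map_mem π hZ hpZ hRp hh'
      obtain ⟨z, hz, r, hr, rfl⟩ := hcen g hg
      refine ⟨r, hr, ?_⟩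
      rw [map_mul, MonoidHom.mem_ker.mp hz, one_mul]
    · intro K' hK'N hNK' hK'p
      obtain ⟨K, hKp, rfl⟩ := exists_pGroup_map_eq π hπ hK'p
      apply Subgroup.map_mono
      apply hrad K
      · intro k hk
        exact mem_normalizer_of_map_mem π hZ hpZ hRp (hK'N ⟨k, hk, rfl⟩)
      · intro g hg
        exact mem_normalizer_of_map_mem π hZ hpZ hKp (hNK' (hnorm R g hg))
      · exact hKp
  · -- generation of `Aut_G(S)`
    intro n' hn'
    obtain ⟨n, rfl⟩ := hπ n'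
    have hn : n ∈ normalizer (S : Set G) := mem_normalizer_of_map_mem π hZ hpZ hSp hn'
    obtain ⟨m, hm, hnm⟩ := hB n hn
    refine ⟨π m, ?_, ?_⟩
    · have h1 : π m ∈ (Subgroup.closure {g : G | g ∈ normalizer (S : Set G) ∧ ∃ R ∈ ℛ,
          g ∈ Subgroup.closure {h : G | h ∈ normalizer (R : Set G) ∧
            ∃ k : ℕ, orderOf h = p ^ k}}).map π := ⟨m, hm, rfl⟩
      rw [MonoidHom.map_closure] at h1
      refine Subgroup.closure_mono ?_ h1
      rintro _ ⟨g, ⟨hgS, R, hR, hgR⟩, rfl⟩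
      refine ⟨hnormS g hgS, R.map π, ⟨R, hR, rfl⟩, ?_⟩
      have h2 : π g ∈ (Subgroup.closure {h : G | h ∈ normalizer (R : Set G) ∧
            ∃ k : ℕ, orderOf h = p ^ k}).map π := ⟨g, hgR, rfl⟩
      rw [MonoidHom.map_closure] at h2
      refine Subgroup.closure_mono ?_ h2
      rintro _ ⟨h, ⟨hhR, k, hk⟩, rfl⟩
      refine ⟨hnorm R h hhR, ?_⟩
      have h3 : orderOf (π h) ∣ p ^ k := hk ▸ orderOf_map_dvd π h
      obtain ⟨j, _, hj⟩ := (Nat.dvd_prime_pow hp.out).mp h3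
      exact ⟨j, hj⟩
    · rintro _ ⟨x, hx, rfl⟩
      have := hnm x hx
      calc π n * π x * (π n)⁻¹ = π (n * x * n⁻¹) := by simp
        _ = π (m * x * m⁻¹) := by rw [this]
        _ = π m * π x * (π m)⁻¹ := by simp

/-- The fusion system of `H = G / Z` (`Z` central of order prime to `p`) on any Sylow
`p`-subgroup is simple, if `FamilyHypMod p Z S` holds in `G` for ONE Sylow `p`-subgroup `S`
of `G`. -/
theorem isSimple_of_familyHypMod_central [Finite G] [Finite H] {p : ℕ} [hp : Fact p.Prime]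
    (π : G →* H) (hπ : Function.Surjective π) (hZ : π.ker ≤ Subgroup.center G)
    (hpZ : ¬ p ∣ Nat.card π.ker) (S : Sylow p G)
    (h : FamilyHypMod p π.ker (S : Subgroup G)) (S' : Sylow p H) :
    (groupFusionSystem (S' : Subgroup H)).IsSimple p := by
  apply isSimple_of_familyHyp_one (S.mapSurjective hπ) _ S'
  rw [Sylow.coe_mapSurjective]
  exact FamilyHypMod.map_of_central π hπ hZ hpZ S.isPGroup' h

end Cfsg.Agent.Lib.Helper85.SGC
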