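import Cfsg.Agent.S5089
import Cfsg.Agent.S5132
import Cfsg.Agent.S5133
import Cfsg.Agent.S5134

set_option autoImplicit false

namespace Cfsg.Agent.Lib.Helper85

open Cfsg Cfsg.FusionSystem Cfsg.Agent.Lib.Helper87 Cfsg.Agent.S5132
open scoped commutatorElement

variable {Ω : Type*} [Group Ω] {S : Subgroup Ω} {Ω' : Type*} [Group Ω'] {S' : Subgroup Ω'}

/-- a strongly closed subgroup is normal in `S` -/
theorem stronglyClosed_subgroupOf_normal (F : FusionSystem S) {R : Subgroup Ω}
    (hR : F.StronglyClosed R) : (R.subgroupOf S).Normal where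
  conj_mem := by
    intro n hn g
    have hn' : ((n : S) : Ω) ∈ R := Subgroup.mem_subgroupOf.mp hn
    have h1 := hR.2 R le_rfl _ (F.conj_mem hR.1 g.2) ⟨n, hn'⟩
    exact Subgroup.mem_subgroupOf.mpr h1

theorem stronglyClosed_bot (F : FusionSystem S) : F.StronglyClosed ⊥ := by
  refine ⟨bot_le, fun R hR φ _ x => ?_⟩
  have hx : x = 1 := Subtype.ext (Subgroup.mem_bot.mp (hR x.2))
  rw [hx, map_one]
  exact Subgroup.one_mem _

theorem stronglyClosed_top (F : FusionSystem S) : F.StronglyClosed S :=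
  ⟨le_rfl, fun _ _ _ hφ x => (F.le_of_mem hφ).2 x⟩

/-- the full preimage of a strongly closed subgroup under a morphism is strongly closed -/
theorem preimage_stronglyClosed (F : FusionSystem S) (E : FusionSystem S') (θ : S →* Ω')
    (hmor : F.IsMorphism E θ) {Z : Subgroup Ω'} (hZ : E.StronglyClosed Z) :
    F.StronglyClosed (preimageAlong θ Z) := by
  refine ⟨pre_le θ Z, fun P hP φ hφ x => ?_⟩
  obtain ⟨φ', hφ', hPS, hφS, hP', hind⟩ := hmor.2 P φ hφ
  have hle : imageAlong θ P ≤ Z := by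
    rintro _ ⟨s, hs, rfl⟩
    obtain ⟨_, h⟩ := mem_pre.mp (hP (Subgroup.mem_subgroupOf.mp hs))
    exact h
  have h1 := hZ.2 _ hle φ' hφ' ⟨θ ⟨x, hPS x.2⟩, hP' x⟩
  rw [hind x] at h1
  exact mem_pre.mpr ⟨hφS x, h1⟩

/-- the image of a strongly closed subgroup in a factor system is strongly closed -/
theorem image_stronglyClosed (F : FusionSystem S) {R : Subgroup Ω} (θ : S →* Ω')
    (E : FusionSystem S') (hfac : F.IsFactorSystem R θ E) {T : Subgroup Ω}
    (hT : F.StronglyClosed T) : E.StronglyClosed (imageAlong θ T) := by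
  have hrange : θ.range = S' := hfac.2.2.1
  refine ⟨?_, fun P' hP' φ' hφ' x' => ?_⟩
  · rintro _ ⟨s, -, rfl⟩
    rw [← hrange]
    exact ⟨s, rfl⟩
  · obtain ⟨-, φ, hφ, hPS, hφS, hP'', hind⟩ := (hfac.2.2.2 P' φ').mp hφ'
    obtain ⟨t, ht, htx⟩ := mem_im.mp (hP' x'.2)
    have htP : (t : Ω) ∈ preimageAlong θ P' := mem_pre.mpr ⟨t.2, by rw [htx]; exact x'.2⟩
    have h1 := hind ⟨t, htP⟩
    have e : (⟨θ ⟨(t : Ω), hPS htP⟩, hP'' ⟨t, htP⟩⟩ : P') = x' := Subtype.ext htx
    rw [e] at h1
    rw [h1, mem_im]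
    refine ⟨⟨φ ⟨t, htP⟩, hφS _⟩, ?_, rfl⟩
    have hres := restrict_mem F hφ (inf_le_left : preimageAlong θ P' ⊓ T ≤ preimageAlong θ P')
    exact hT.2 _ inf_le_right _ hres ⟨t, htP, ht⟩

/-- A chain of strongly closed subgroups from `R` up to `S` with abelian quotients. -/
def SolvChain (F : FusionSystem S) (R : Subgroup Ω) : Prop :=
  ∃ (n : ℕ) (T : Fin (n + 1) → Subgroup Ω), T 0 = R ∧ T (Fin.last n) = S ∧ Monotone T ∧
    (∀ i, F.StronglyClosed (T i)) ∧ ∀ i : Fin n, ⁅T i.succ, T i.succ⁆ ≤ T (Fin.castSucc i)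

theorem solvChain_top (F : FusionSystem S) : SolvChain F S :=
  ⟨0, fun _ => S, rfl, rfl, monotone_const, fun _ => stronglyClosed_top F, fun i => i.elim0⟩

theorem solvChain_cons (F : FusionSystem S) {R R₁ : Subgroup Ω} (hR : F.StronglyClosed R)
    (hle : R ≤ R₁) (hcomm : ⁅R₁, R₁⁆ ≤ R) (h : SolvChain F R₁) : SolvChain F R := by
  obtain ⟨n, T, h0, hl, hmono, hsc, hc⟩ := h
  refine ⟨n + 1, (Fin.cons R T : Fin (n + 1 + 1) → Subgroup Ω), Fin.cons_zero _ _, ?_, ?_, ?_, ?_⟩
  · have : Fin.last (n + 1) = (Fin.last n).succ := rfl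
    rw [this, Fin.cons_succ]
    exact hl
  · rw [Fin.monotone_iff_le_succ]
    intro i
    refine Fin.cases ?_ (fun j => ?_) i
    · rw [Fin.castSucc_zero, Fin.cons_zero, Fin.cons_succ, h0]
      exact hle
    · rw [← Fin.succ_castSucc, Fin.cons_succ, Fin.cons_succ]
      exact hmono (Fin.castSucc_lt_succ (i := j)).le
  · intro i
    refine Fin.cases ?_ (fun j => ?_) i
    · rw [Fin.cons_zero]
      exact hR
    · rw [Fin.cons_succ]
      exact hsc j
  · intro i
    refine Fin.cases ?_ (fun j => ?_) i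
    · rw [Fin.castSucc_zero, Fin.cons_zero, Fin.cons_succ, h0]
      exact hcomm
    · rw [← Fin.succ_castSucc, Fin.cons_succ, Fin.cons_succ]
      exact hc j

section sat

variable [Finite S] {p : ℕ} [Fact p.Prime]

/-- In a solvable saturated system every strongly closed subgroup starts a chain up to `S`. -/
theorem solvChain_of_solvable (hS : IsPGroup p S) (F : FusionSystem S) (hF : F.IsSaturated p)
    (hsolv : F.IsSolvableSystem) : ∀ (n : ℕ) (R : Subgroup Ω), F.StronglyClosed R →
      Nat.card S - Nat.card R = n → SolvChain F R := by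
  intro n
  induction n using Nat.strong_induction_on with
  | _ n ih =>
    intro R hR hn
    by_cases hRS : R = S
    · rw [hRS]
      exact solvChain_top F
    · haveI := stronglyClosed_subgroupOf_normal F hR
      obtain ⟨E, hE⟩ := Cfsg.Agent.S5132.result p hS F R hR
      have hcore := hsolv R hR hRS E hE
      have hmor := Cfsg.Agent.S5134.result p hS F hF R hR _ E hE
      have hEsat := Cfsg.Agent.S5133.result p hS F hF E _ hmor
      have hS' : IsPGroup p (⊤ : Subgroup (S ⧸ R.subgroupOf S)) :=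
        (hS.to_quotient _).to_subgroup _
      obtain ⟨Z, hZne, hZab, hZsc⟩ := (Cfsg.Agent.S5089.result p hS' E hEsat).mp hcore
      have hR₁ : F.StronglyClosed (preimageAlong (QuotientGroup.mk' (R.subgroupOf S)) Z) :=
        preimage_stronglyClosed F E _ hmor.1 hZsc
      have hle : R ≤ preimageAlong (QuotientGroup.mk' (R.subgroupOf S)) Z := by
        intro r hr
        refine mem_pre.mpr ⟨hR.1 hr, ?_⟩
        have : QuotientGroup.mk' (R.subgroupOf S) ⟨r, hR.1 hr⟩ = 1 := (hE.2.1 _).mpr hr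
        rw [this]
        exact Subgroup.one_mem _
      have hcomm : ⁅preimageAlong (QuotientGroup.mk' (R.subgroupOf S)) Z,
          preimageAlong (QuotientGroup.mk' (R.subgroupOf S)) Z⁆ ≤ R := by
        rw [Subgroup.commutator_le]
        intro x hx y hy
        obtain ⟨hxS, hxZ⟩ := mem_pre.mp hx
        obtain ⟨hyS, hyZ⟩ := mem_pre.mp hy
        have hc := hZab.is_comm.comm
          (⟨QuotientGroup.mk' (R.subgroupOf S) ⟨x, hxS⟩, hxZ⟩ : Z)
          ⟨QuotientGroup.mk' (R.subgroupOf S) ⟨y, hyS⟩, hyZ⟩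
        have hc' : QuotientGroup.mk' (R.subgroupOf S) ⟨x, hxS⟩ *
            QuotientGroup.mk' (R.subgroupOf S) ⟨y, hyS⟩ =
            QuotientGroup.mk' (R.subgroupOf S) ⟨y, hyS⟩ *
            QuotientGroup.mk' (R.subgroupOf S) ⟨x, hxS⟩ := congrArg Subtype.val hc
        have h1 : QuotientGroup.mk' (R.subgroupOf S) ⁅(⟨x, hxS⟩ : S), ⟨y, hyS⟩⁆ = 1 := by
          rw [map_commutatorElement, commutatorElement_def, hc']
          group
        exact (hE.2.1 _).mp h1
      have hlt : Nat.card R < Nat.card (preimageAlong (QuotientGroup.mk' (R.subgroupOf S)) Z) := by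
        by_contra hcon
        rw [not_lt] at hcon
        haveI : Finite ↥(preimageAlong (QuotientGroup.mk' (R.subgroupOf S)) Z) :=
          finite_of_le hR₁.1
        have heq := Subgroup.eq_of_le_of_card_ge hle hcon
        obtain ⟨⟨z, hz⟩, hz1⟩ := (Subgroup.ne_bot_iff_exists_ne_one.mp hZne)
        obtain ⟨s, rfl⟩ := QuotientGroup.mk'_surjective (R.subgroupOf S) z
        have hs1 : (s : Ω) ∈ preimageAlong (QuotientGroup.mk' (R.subgroupOf S)) Z :=
          mem_pre.mpr ⟨s.2, hz⟩
        rw [← heq] at hs1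
        apply hz1
        apply Subtype.ext
        exact (hE.2.1 s).mpr hs1
      have hcard : Nat.card (preimageAlong (QuotientGroup.mk' (R.subgroupOf S)) Z) ≤ Nat.card S :=
        Subgroup.card_le_of_le hR₁.1
      exact solvChain_cons F hR hle hcomm
        (ih (Nat.card S - Nat.card (preimageAlong (QuotientGroup.mk' (R.subgroupOf S)) Z))
          (by omega) _ hR₁ rfl)

/-- A chain of strongly closed subgroups with abelian quotients makes a saturated system solvable. -/
theorem solvable_of_chain (hS : IsPGroup p S) (F : FusionSystem S) (hF : F.IsSaturated p) {n : ℕ}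
    (T : Fin (n + 1) → Subgroup Ω) (h0 : T 0 = ⊥) (hl : T (Fin.last n) = S)
    (hsc : ∀ i, F.StronglyClosed (T i))
    (hc : ∀ i : Fin n, ⁅T i.succ, T i.succ⁆ ≤ T (Fin.castSucc i)) : F.IsSolvableSystem := by
  intro R hR hRS _ E hE
  have hmor := Cfsg.Agent.S5134.result p hS F hF R hR _ E hE
  have hEsat := Cfsg.Agent.S5133.result p hS F hF E _ hmor
  have hS' : IsPGroup p (⊤ : Subgroup (S ⧸ R.subgroupOf S)) :=
    (hS.to_quotient _).to_subgroup _
  have key : ∀ i : Fin (n + 1), T i ≤ R ∨ ∃ j : Fin n, T (Fin.castSucc j) ≤ R ∧ ¬ T j.succ ≤ R := by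
    intro i
    induction i using Fin.induction with
    | zero =>
      left
      rw [h0]
      exact bot_le
    | succ j ih =>
      by_cases h : T j.succ ≤ R
      · exact Or.inl h
      · rcases ih with h' | h'
        · exact Or.inr ⟨j, h', h⟩
        · exact Or.inr h'
  rcases key (Fin.last n) with h | ⟨j, hj1, hj2⟩
  · rw [hl] at h
    exact absurd (le_antisymm hR.1 h) hRS
  · rw [Cfsg.Agent.S5089.result p hS' E hEsat]
    refine ⟨imageAlong (QuotientGroup.mk' (R.subgroupOf S)) (T j.succ), ?_, ?_,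
      image_stronglyClosed F _ E hE (hsc _)⟩
    · obtain ⟨t, ht, htR⟩ := SetLike.not_le_iff_exists.mp hj2
      intro hbot
      have htS : t ∈ S := (hsc j.succ).1 ht
      have h1 : QuotientGroup.mk' (R.subgroupOf S) ⟨t, htS⟩ ∈
          imageAlong (QuotientGroup.mk' (R.subgroupOf S)) (T j.succ) :=
        mem_im.mpr ⟨⟨t, htS⟩, ht, rfl⟩
      rw [hbot, Subgroup.mem_bot] at h1
      exact htR ((hE.2.1 _).mp h1)
    · refine ⟨⟨fun a b => ?_⟩⟩
      obtain ⟨s, hs, hsa⟩ := mem_im.mp a.2
      obtain ⟨s', hs', hsb⟩ := mem_im.mp b.2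
      apply Subtype.ext
      show (a : S ⧸ R.subgroupOf S) * b = b * a
      rw [← hsa, ← hsb]
      have hcm : ⁅(s : Ω), (s' : Ω)⁆ ∈ R :=
        hj1 (hc j (Subgroup.commutator_mem_commutator hs hs'))
      have h1 : QuotientGroup.mk' (R.subgroupOf S) ⁅s, s'⁆ = 1 := (hE.2.1 _).mpr hcm
      rw [map_commutatorElement, commutatorElement_def] at h1
      calc QuotientGroup.mk' (R.subgroupOf S) s * QuotientGroup.mk' (R.subgroupOf S) s'
          = (QuotientGroup.mk' (R.subgroupOf S) s * QuotientGroup.mk' (R.subgroupOf S) s' *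
              (QuotientGroup.mk' (R.subgroupOf S) s)⁻¹ *
              (QuotientGroup.mk' (R.subgroupOf S) s')⁻¹) *
              (QuotientGroup.mk' (R.subgroupOf S) s' * QuotientGroup.mk' (R.subgroupOf S) s) := by
            group
        _ = QuotientGroup.mk' (R.subgroupOf S) s' * QuotientGroup.mk' (R.subgroupOf S) s := by
            rw [h1, one_mul]

end sat

end Cfsg.Agent.Lib.Helper85
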