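import Cfsg.Agent.Lib.Helper85.Solvable
import Cfsg.Agent.Lib.Helper87.NormalCriterion
import Cfsg.Agent.Lib.Helper88.NormalTransport

set_option autoImplicit false

namespace Cfsg.Agent.Lib.Helper85

open Cfsg Cfsg.FusionSystem Cfsg.Agent.Lib.Helper87 Cfsg.Agent.S5132
open scoped commutatorElement

variable {Ω : Type*} [Group Ω] {S : Subgroup Ω}

theorem stronglyClosed_inf (F : FusionSystem S) {A B : Subgroup Ω} (hA : F.StronglyClosed A)
    (hB : F.StronglyClosed B) : F.StronglyClosed (A ⊓ B) :=
  ⟨inf_le_left.trans hA.1, fun R hR φ hφ x =>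
    ⟨hA.2 R (hR.trans inf_le_left) φ hφ x, hB.2 R (hR.trans inf_le_right) φ hφ x⟩⟩

/-- the centralizer in `S` of a subgroup normal in `F` is strongly closed -/
theorem centralizerIn_stronglyClosed (F : FusionSystem S) {Q : Subgroup Ω} (hN : F.IsNormal Q) :
    F.StronglyClosed (centralizerIn S Q) := by
  refine ⟨inf_le_left, fun P hP φ hφ x => ?_⟩
  obtain ⟨ψ, hψ, hψP, hψQ⟩ := hN.2 P φ hφ
  refine ⟨hom_mem_S F hφ x, ?_⟩
  show φ x ∈ Subgroup.centralizer (Q : Set Ω)
  rw [Subgroup.mem_centralizer_iff]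
  intro q hq
  have hq' : q ∈ (Q.subgroupOf (P ⊔ Q)).map ψ := by rw [hψQ]; exact hq
  obtain ⟨y, hy, rfl⟩ := hq'
  have hyQ : (y : Ω) ∈ Q := Subgroup.mem_subgroupOf.mp hy
  rw [← hψP x, ← map_mul, ← map_mul]
  congr 1
  apply Subtype.ext
  show (y : Ω) * (x : Ω) = (x : Ω) * (y : Ω)
  exact (Subgroup.mem_centralizer_iff.mp (hP x.2).2) y hyQ

/-- the chain used for the subgroup `D` -/
def chainD (Q D : Subgroup Ω) : ℕ → Subgroup Ω
  | 0 => ⊥
  | 1 => Q ⊓ D
  | _ + 2 => D

theorem comm_le_self (D : Subgroup Ω) : ⁅D, D⁆ ≤ D := by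
  rw [Subgroup.commutator_le]
  intro x hx y hy
  exact D.mul_mem (D.mul_mem (D.mul_mem hx hy) (D.inv_mem hx)) (D.inv_mem hy)

section sat

variable [Finite S] {p : ℕ} [Fact p.Prime]

/-- A strongly closed subgroup `D` centralizing the normal subgroup `Q`, with `[D, D] ≤ Q`, is normal. -/
theorem isNormal_of_comm_le (hS : IsPGroup p S) (F : FusionSystem S) (hF : F.IsSaturated p)
    {Q D : Subgroup Ω} (hQ : F.StronglyClosed Q) (hD : F.StronglyClosed D)
    (hDQ : D ≤ Subgroup.centralizer (Q : Set Ω)) (hDD : ⁅D, D⁆ ≤ Q) : F.IsNormal D := by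
  apply isNormal_of_weaklyClosed_of_le_alperin hS F hF (weaklyClosed_of_stronglyClosed F hD)
  intro R hR
  have hRS : R ≤ S := hR.1.1
  have hcen : centralizerIn S R ≤ R := hR.2.2.1.2 R (isConj_refl F hRS)
  have h := le_of_centric_radical hS F hD (chainD Q D) rfl ?_ ?_ ?_ ?_ hRS hcen hR.2.2.2 2
  · exact h
  · apply monotone_nat_of_le_succ
    intro k
    match k with
    | 0 => exact bot_le
    | 1 => exact inf_le_right
    | _ + 2 => exact le_rfl
  · intro k
    match k with
    | 0 => exact bot_le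
    | 1 => exact inf_le_right
    | _ + 2 => exact le_rfl
  · intro k
    match k with
    | 0 =>
      show ⁅Q ⊓ D, D⁆ ≤ ⊥
      rw [Subgroup.commutator_le]
      intro x hx y hy
      rw [Subgroup.mem_bot, commutatorElement_def]
      have := (Subgroup.mem_centralizer_iff.mp (hDQ hy)) x hx.1
      rw [this]
      group
    | 1 =>
      show ⁅D, D⁆ ≤ Q ⊓ D
      exact le_inf hDD (comm_le_self D)
    | _ + 2 => exact comm_le_self D
  · intro k
    match k with
    | 0 => exact weaklyClosed_of_stronglyClosed F (stronglyClosed_bot F)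
    | 1 => exact weaklyClosed_of_stronglyClosed F (stronglyClosed_inf F hQ hD)
    | _ + 2 => exact weaklyClosed_of_stronglyClosed F hD

/-- A solvable saturated fusion system is constrained. -/
theorem isConstrained_of_solvable (hS : IsPGroup p S) (F : FusionSystem S) (hF : F.IsSaturated p)
    (hsolv : F.IsSolvableSystem) : F.IsConstrained p := by
  have hQN : F.IsNormal F.core := Cfsg.Agent.Lib.Helper88.isNormal_sSup F _ (fun N hN => hN)
  have hQsc := stronglyClosed_of_isNormal F hQN
  obtain ⟨n, T, h0, hl, -, hsc, hc⟩ :=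
    solvChain_of_solvable hS F hF hsolv _ ⊥ (stronglyClosed_bot F) rfl
  have hCsc := centralizerIn_stronglyClosed F hQN
  have key : ∀ i : Fin (n + 1), centralizerIn S F.core ⊓ T i ≤ F.core := by
    intro i
    induction i using Fin.induction with
    | zero =>
      rw [h0, inf_bot_eq]
      exact bot_le
    | succ j ih =>
      have hDsc : F.StronglyClosed (centralizerIn S F.core ⊓ T j.succ) :=
        stronglyClosed_inf F hCsc (hsc _)
      have hDD : ⁅centralizerIn S F.core ⊓ T j.succ, centralizerIn S F.core ⊓ T j.succ⁆ ≤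
          F.core := by
        refine le_trans (le_inf ?_ ?_) ih
        · exact (comm_le_self _).trans inf_le_left
        · exact (Subgroup.commutator_mono inf_le_right inf_le_right).trans (hc j)
      have hDN := isNormal_of_comm_le hS F hF hQsc hDsc (inf_le_left.trans inf_le_right) hDD
      exact le_sSup hDN
  have hcent : centralizerIn S F.core ≤ F.core := by
    have := key (Fin.last n)
    rw [hl] at this
    exact le_trans (le_inf le_rfl inf_le_left) this
  refine ⟨hF, F.core, hQN, hQN.1, fun Q' hconj => ?_⟩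
  obtain ⟨φ, hφ, rfl⟩ := hconj
  rw [(weaklyClosed_of_stronglyClosed F hQsc).2 φ hφ]
  exact hcent

end sat

end Cfsg.Agent.Lib.Helper85
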