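import Cfsg.Agent.Lib.Helper85.Solvable2
import Cfsg.Agent.Lib.Helper88.NormalTransport

set_option autoImplicit false

namespace Cfsg.Agent.Lib.Helper85

open Cfsg Cfsg.FusionSystem Cfsg.Agent.Lib.Helper87 Cfsg.Agent.S5132
open Cfsg.Agent.Lib.Helper88 (img mem_img img_le img_mono img_img img_one InvProp FratProp
  transport_hom)
open scoped commutatorElement

variable {Ω : Type*} [Group Ω] {S T : Subgroup Ω}

/-- the intersection of the `Aut_F(T)`-images of `U` -/
def autCore (F : FusionSystem S) (T U : Subgroup Ω) : Subgroup Ω :=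
  ⨅ α : F.autGroup T, img (α : MulAut T) U

theorem mem_autCore {F : FusionSystem S} {U : Subgroup Ω} {x : Ω} :
    x ∈ autCore F T U ↔ ∀ α ∈ F.autGroup T, x ∈ img α U := by
  unfold autCore
  rw [Subgroup.mem_iInf]
  exact ⟨fun h α hα => h ⟨α, hα⟩, fun h α => h α α.2⟩

theorem autCore_le_img {F : FusionSystem S} (U : Subgroup Ω) {α : MulAut T}
    (hα : α ∈ F.autGroup T) : autCore F T U ≤ img α U :=
  fun _ hx => mem_autCore.mp hx α hα

theorem autCore_le (F : FusionSystem S) (U : Subgroup Ω) : autCore F T U ≤ T :=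
  (autCore_le_img U (F.autGroup T).one_mem).trans (img_le _ _)

theorem autCore_mono (F : FusionSystem S) {U U' : Subgroup Ω} (h : U ≤ U') :
    autCore F T U ≤ autCore F T U' :=
  fun _ hx => mem_autCore.mpr fun α hα => img_mono α h (mem_autCore.mp hx α hα)

theorem autCore_bot (F : FusionSystem S) : autCore F T ⊥ = ⊥ := by
  rw [eq_bot_iff]
  refine (autCore_le_img ⊥ (F.autGroup T).one_mem).trans ?_
  rw [img_one bot_le]

theorem autCore_top (F : FusionSystem S) : autCore F T T = T := by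
  apply le_antisymm (autCore_le F T)
  intro x hx
  rw [mem_autCore]
  intro α _
  rw [mem_img]
  exact ⟨α⁻¹ ⟨x, hx⟩, (α⁻¹ ⟨x, hx⟩).2, by rw [MulAut.apply_inv_self]⟩

theorem autCore_comm (F : FusionSystem S) {U U' : Subgroup Ω} (h : ⁅U', U'⁆ ≤ U) :
    ⁅autCore F T U', autCore F T U'⁆ ≤ autCore F T U := by
  rw [Subgroup.commutator_le]
  intro x hx y hy
  rw [mem_autCore]
  intro α hα
  obtain ⟨x₀, hx₀, rfl⟩ := mem_img.mp (mem_autCore.mp hx α hα)
  obtain ⟨y₀, hy₀, rfl⟩ := mem_img.mp (mem_autCore.mp hy α hα)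
  rw [mem_img]
  refine ⟨⁅x₀, y₀⁆, h (Subgroup.commutator_mem_commutator hx₀ hy₀), ?_⟩
  rw [commutatorElement_def, commutatorElement_def, map_mul, map_mul, map_mul, map_inv, map_inv]
  rfl

theorem img_stronglyClosed {E : FusionSystem T} {F : FusionSystem S} (hinv : InvProp E F)
    {U : Subgroup Ω} (hU : E.StronglyClosed U) {α : MulAut T} (hα : α ∈ F.autGroup T) :
    E.StronglyClosed (img α U) := by
  refine ⟨img_le α U, fun P hP φ hφ x => ?_⟩
  have hPT : P ≤ T := hP.trans (img_le α U)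
  have hαi : α⁻¹ ∈ F.autGroup T := (F.autGroup T).inv_mem hα
  obtain ⟨χ, hχ, hχx⟩ := transport_hom hinv hPT hφ hαi rfl
  have hφT : φ x ∈ T := (E.le_of_mem hφ).2 x
  have hx' : ((α⁻¹ ⟨x, hPT x.2⟩ : T) : Ω) ∈ img α⁻¹ P := mem_img.mpr ⟨⟨x, hPT x.2⟩, x.2, rfl⟩
  have h1 := hχx x hφT hx'
  have hle : img α⁻¹ P ≤ U := by
    calc img α⁻¹ P ≤ img α⁻¹ (img α U) := img_mono _ hP
      _ = img (α⁻¹ * α) U := img_img _ _ _
      _ = U := by rw [inv_mul_cancel, img_one hU.1]
  have h2 := hU.2 _ hle χ hχ ⟨_, hx'⟩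
  rw [h1] at h2
  rw [mem_img]
  exact ⟨α⁻¹ ⟨φ x, hφT⟩, h2, by rw [MulAut.apply_inv_self]⟩

theorem autCore_stronglyClosed_sub {E : FusionSystem T} {F : FusionSystem S} (hinv : InvProp E F)
    {U : Subgroup Ω} (hU : E.StronglyClosed U) : E.StronglyClosed (autCore F T U) :=
  ⟨autCore_le F U, fun P hP φ hφ x => mem_autCore.mpr fun _ hα =>
    (img_stronglyClosed hinv hU hα).2 P (hP.trans (autCore_le_img U hα)) φ hφ x⟩

theorem autCore_invariant {F : FusionSystem S} {U : Subgroup Ω} {β : MulAut T}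
    (hβ : β ∈ F.autGroup T) (x : T) (hx : (x : Ω) ∈ autCore F T U) :
    ((β x : T) : Ω) ∈ autCore F T U := by
  rw [mem_autCore]
  intro α hα
  have h1 := mem_autCore.mp hx (β⁻¹ * α)
    ((F.autGroup T).mul_mem ((F.autGroup T).inv_mem hβ) hα)
  obtain ⟨y, hy, hyx⟩ := mem_img.mp h1
  rw [mem_img]
  refine ⟨y, hy, ?_⟩
  have h2 : (β⁻¹ * α) y = x := Subtype.ext hyx
  rw [← h2, MulAut.mul_apply, MulAut.apply_inv_self]

theorem autCore_stronglyClosed {E : FusionSystem T} {F : FusionSystem S} (hTS : T ≤ S)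
    (hinv : InvProp E F) (hfr : FratProp E F) {U : Subgroup Ω} (hU : E.StronglyClosed U) :
    F.StronglyClosed (autCore F T U) := by
  refine ⟨(autCore_le F U).trans hTS, fun P hP φ hφ x => ?_⟩
  have hPT : P ≤ T := hP.trans (autCore_le F U)
  obtain ⟨β, hβ, φ₀, hφ₀, h⟩ := hfr P hPT φ hφ
  have hφ₀T : φ₀ x ∈ T := (E.le_of_mem hφ₀).2 x
  rw [h x hφ₀T]
  exact autCore_invariant hβ _ ((autCore_stronglyClosed_sub hinv hU).2 P hP φ₀ hφ₀ x)

section sat

variable [Finite S] {p : ℕ} [Fact p.Prime]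

/-- From a solvable invariant saturated subsystem over `T` and a chain from `T` up to `S`, a chain from `⊥`. -/
theorem solvChain_bot_of_invariant (hS : IsPGroup p S) (F : FusionSystem S)
    (E : FusionSystem T) (hEsat : E.IsSaturated p) (hEinv : E.IsInvariantIn F)
    (hEsolv : E.IsSolvableSystem) (hTchain : SolvChain F T) : SolvChain F ⊥ := by
  obtain ⟨-, hTsc, hinv, hfr⟩ := hEinv
  have hTS : T ≤ S := hTsc.1
  haveI : Finite T := finite_of_le hTS
  have hTp : IsPGroup p T := hS.to_le hTS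
  obtain ⟨m, U, hU0, hUl, hUmono, hUsc, hUc⟩ :=
    solvChain_of_solvable hTp E hEsat hEsolv _ ⊥ (stronglyClosed_bot E) rfl
  have key : ∀ j : Fin (m + 1), SolvChain F (autCore F T (U j)) := by
    intro j
    induction j using Fin.reverseInduction with
    | last =>
      rw [hUl, autCore_top]
      exact hTchain
    | cast j ih =>
      exact solvChain_cons F (autCore_stronglyClosed hTS hinv hfr (hUsc _))
        (autCore_mono F (hUmono (Fin.castSucc_lt_succ (i := j)).le)) (autCore_comm F (hUc j)) ih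
  have h0 := key 0
  rwa [hU0, autCore_bot] at h0

/-- A solvable factor system modulo `T` gives a chain of strongly closed subgroups from `T` to `S`. -/
theorem solvChain_of_factor_solvable (hS : IsPGroup p S) (F : FusionSystem S)
    (hF : F.IsSaturated p) (hT : F.StronglyClosed T) {Ω' : Type*} [Group Ω'] {S' : Subgroup Ω'}
    (θ : S →* Ω') (D : FusionSystem S') (hD : F.IsFactorSystem T θ D)
    (hDsolv : D.IsSolvableSystem) : SolvChain F T := by
  have hmor := Cfsg.Agent.S5134.result p hS F hF T hT θ D hD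
  have hDsat := Cfsg.Agent.S5133.result p hS F hF D θ hmor
  have hrange : θ.range = S' := hD.2.2.1
  haveI : Finite S' := by
    have : Finite θ.range := Finite.of_surjective θ.rangeRestrict θ.rangeRestrict_surjective
    exact hrange ▸ this
  have hS' : IsPGroup p S' := by
    have : IsPGroup p θ.range := hS.of_surjective θ.rangeRestrict θ.rangeRestrict_surjective
    exact hrange ▸ this
  obtain ⟨n, V, hV0, hVl, hVmono, hVsc, hVc⟩ :=
    solvChain_of_solvable hS' D hDsat hDsolv _ ⊥ (stronglyClosed_bot D) rfl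
  refine ⟨n, fun k => preimageAlong θ (V k), ?_, ?_, ?_, ?_, ?_⟩
  · show preimageAlong θ (V 0) = T
    rw [hV0]
    ext x
    rw [mem_pre]
    constructor
    · rintro ⟨hx, h⟩
      exact (hD.2.1 _).mp (Subgroup.mem_bot.mp h)
    · intro hx
      exact ⟨hD.1 hx, Subgroup.mem_bot.mpr ((hD.2.1 _).mpr hx)⟩
  · show preimageAlong θ (V (Fin.last n)) = S
    rw [hVl]
    apply le_antisymm (pre_le θ _)
    intro x hx
    refine mem_pre.mpr ⟨hx, ?_⟩
    rw [← hrange]
    exact ⟨_, rfl⟩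
  · intro a b hab x hx
    obtain ⟨hxS, h⟩ := mem_pre.mp hx
    exact mem_pre.mpr ⟨hxS, hVmono hab h⟩
  · intro k
    exact preimage_stronglyClosed F D θ hmor.1 (hVsc k)
  · intro k
    show ⁅preimageAlong θ (V k.succ), preimageAlong θ (V k.succ)⁆ ≤ preimageAlong θ (V (Fin.castSucc k))
    rw [Subgroup.commutator_le]
    intro x hx y hy
    obtain ⟨hxS, hxV⟩ := mem_pre.mp hx
    obtain ⟨hyS, hyV⟩ := mem_pre.mp hy
    have hmem : ⁅x, y⁆ ∈ S := by
      rw [commutatorElement_def]
      exact S.mul_mem (S.mul_mem (S.mul_mem hxS hyS) (S.inv_mem hxS)) (S.inv_mem hyS)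
    refine mem_pre.mpr ⟨hmem, ?_⟩
    have e : (⟨⁅x, y⁆, hmem⟩ : S) = ⁅(⟨x, hxS⟩ : S), ⟨y, hyS⟩⁆ := rfl
    rw [e, map_commutatorElement]
    exact hVc k (Subgroup.commutator_mem_commutator hxV hyV)

/-- A chain for `F` restricts to a chain for a saturated subsystem. -/
theorem solvable_sub_of_chain (hS : IsPGroup p S) (F : FusionSystem S) (E : FusionSystem T)
    (hEsat : E.IsSaturated p) (hsub : E.IsSubsystemOf F) (hTS : T ≤ S) {n : ℕ}
    (C : Fin (n + 1) → Subgroup Ω) (h0 : C 0 = ⊥) (hl : C (Fin.last n) = S)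
    (hsc : ∀ i, F.StronglyClosed (C i))
    (hc : ∀ i : Fin n, ⁅C i.succ, C i.succ⁆ ≤ C (Fin.castSucc i)) : E.IsSolvableSystem := by
  haveI : Finite T := finite_of_le hTS
  have hTp : IsPGroup p T := hS.to_le hTS
  refine solvable_of_chain hTp E hEsat (fun i => C i ⊓ T) ?_ ?_ ?_ ?_
  · show C 0 ⊓ T = ⊥
    rw [h0, bot_inf_eq]
  · show C (Fin.last n) ⊓ T = T
    rw [hl]
    exact inf_eq_right.mpr hTS
  · intro i
    exact ⟨inf_le_right, fun P hP φ hφ x =>
      ⟨(hsc i).2 P (hP.trans inf_le_left) φ (hsub _ hφ) x, (E.le_of_mem hφ).2 x⟩⟩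
  · intro i
    exact le_inf ((Subgroup.commutator_mono inf_le_left inf_le_left).trans (hc i))
      ((Subgroup.commutator_mono inf_le_right inf_le_right).trans (comm_le_self T))

/-- A chain for `F` maps to a chain for a factor system. -/
theorem solvable_factor_of_chain (hS : IsPGroup p S) (F : FusionSystem S) (hF : F.IsSaturated p)
    (hT : F.StronglyClosed T) {Ω' : Type*} [Group Ω'] {S' : Subgroup Ω'}
    (θ : S →* Ω') (D : FusionSystem S') (hD : F.IsFactorSystem T θ D) {n : ℕ}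
    (C : Fin (n + 1) → Subgroup Ω) (h0 : C 0 = ⊥) (hl : C (Fin.last n) = S)
    (hsc : ∀ i, F.StronglyClosed (C i))
    (hc : ∀ i : Fin n, ⁅C i.succ, C i.succ⁆ ≤ C (Fin.castSucc i)) : D.IsSolvableSystem := by
  have hmor := Cfsg.Agent.S5134.result p hS F hF T hT θ D hD
  have hDsat := Cfsg.Agent.S5133.result p hS F hF D θ hmor
  have hrange : θ.range = S' := hD.2.2.1
  haveI : Finite S' := by
    have : Finite θ.range := Finite.of_surjective θ.rangeRestrict θ.rangeRestrict_surjective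
    exact hrange ▸ this
  have hS' : IsPGroup p S' := by
    have : IsPGroup p θ.range := hS.of_surjective θ.rangeRestrict θ.rangeRestrict_surjective
    exact hrange ▸ this
  refine solvable_of_chain hS' D hDsat (fun i => imageAlong θ (C i)) ?_ ?_ ?_ ?_
  · show imageAlong θ (C 0) = ⊥
    rw [h0, eq_bot_iff]
    intro y hy
    obtain ⟨s, hs, rfl⟩ := mem_im.mp hy
    have : s = 1 := Subtype.ext (Subgroup.mem_bot.mp hs)
    rw [this, map_one]
    exact Subgroup.one_mem _
  · show imageAlong θ (C (Fin.last n)) = S'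
    rw [hl, ← hrange]
    apply le_antisymm (im_le_range θ _)
    rintro _ ⟨s, rfl⟩
    exact mem_im.mpr ⟨s, s.2, rfl⟩
  · intro i
    exact image_stronglyClosed F θ D hD (hsc i)
  · intro i
    show ⁅imageAlong θ (C i.succ), imageAlong θ (C i.succ)⁆ ≤ imageAlong θ (C (Fin.castSucc i))
    rw [Subgroup.commutator_le]
    intro y hy y' hy'
    obtain ⟨s, hs, rfl⟩ := mem_im.mp hy
    obtain ⟨s', hs', rfl⟩ := mem_im.mp hy'
    rw [← map_commutatorElement]
    exact mem_im.mpr ⟨⁅s, s'⁆, hc i (Subgroup.commutator_mem_commutator hs hs'), rfl⟩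

end sat

end Cfsg.Agent.Lib.Helper85
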