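import Cfsg.Agent.Lib.Helper38.StnBruDefs
import Cfsg.Agent.Lib.Helper95.Stn_WALL
import Cfsg.Agent.Lib.Helper85.StnBru_NXcore

/-! # Stn hive (S2401), sub-hive BRU (helper38): leaf BRU-NX `NN_conj_xx` (helper85).
`N` permutes the root groups; exact-name wrapper of `brunx85_core2` over `ww_conj_xx` (Helper95.Stn_WALL). -/

set_option autoImplicit false

namespace Cfsg.Agent.Lib.Helper41.Stn

open Matrix

variable {K : Type*} [Field K] {n : ℕ}

theorem NN_conj_xx (hn : 3 ≤ n) {ν : St K n} (hν : ν ∈ NN K n) :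
    ∃ (σ : Equiv.Perm (Fin n)) (m : Fin n → K), (∀ a, m a ≠ 0) ∧
      ∀ k l : Fin n, k ≠ l → ∀ u : K, ν * xx k l u * ν⁻¹ = xx (σ k) (σ l) (m k / m l * u) :=
  brunx85_core2 (fun hij _ ht _ _ hkl u => ww_conj_xx hn hij ht hkl u) hν

end Cfsg.Agent.Lib.Helper41.Stn
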