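import Cfsg.Agent.Lib.Helper38.StnBruDefs

set_option autoImplicit false

namespace Cfsg.Agent.Lib.Helper41.Stn

open Matrix

variable {K : Type*} [Field K] {n : ℕ}

/-- order bookkeeping for a simple root: `swap i (i+1)` keeps `k < l`, `(k,l) ≠ (i,j)`. -/
theorem bruwu85_swap {i j : Fin n} (hij : (i : ℕ) + 1 = j) {k l : Fin n} (hkl : k < l)
    (hne : (k, l) ≠ (i, j)) :
    Equiv.swap i j k < Equiv.swap i j l ∧ (Equiv.swap i j k, Equiv.swap i j l) ≠ (i, j) := by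
  have hne' : ¬ ((k : ℕ) = i ∧ (l : ℕ) = j) := by
    rintro ⟨h1, h2⟩
    exact hne (Prod.ext (Fin.ext h1) (Fin.ext h2))
  rw [Fin.lt_def] at hkl
  simp only [Equiv.swap_apply_def, ne_eq, Prod.mk.injEq, Fin.lt_def, Fin.ext_iff]
  split_ifs <;> constructor <;> omega

/-- BRU-WU core: `ww_conj_xx` (STN-W-ALL, without `hn`) as a hypothesis. -/
theorem bruwu85_core
    (hwall : ∀ {i j : Fin n}, i ≠ j → ∀ {t : K}, t ≠ 0 → ∀ {k l : Fin n}, k ≠ l → ∀ (u : K),
      ww i j t * xx k l u * (ww i j t)⁻¹ =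
        xx (Equiv.swap i j k) (Equiv.swap i j l) (mu i j t k / mu i j t l * u))
    {i j : Fin n} (hij : (i : ℕ) + 1 = j) {s : K} (hs : s ≠ 0)
    {y : St K n} (hy : y ∈ Ua K n i j) : ww i j s * y * (ww i j s)⁻¹ ∈ Ua K n i j := by
  have hij' : i ≠ j := by
    intro h
    rw [h] at hij
    omega
  unfold Ua at hy
  induction hy using Subgroup.closure_induction with
  | mem x hx =>
    obtain ⟨k, l, v, hkl, hne, rfl⟩ := hx
    rw [hwall hij' hs (ne_of_lt hkl) v]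
    obtain ⟨h1, h2⟩ := bruwu85_swap hij hkl hne
    exact Subgroup.subset_closure ⟨_, _, _, h1, h2, rfl⟩
  | one =>
    simp
  | mul x y _ _ ihx ihy =>
    have e : ww i j s * (x * y) * (ww i j s)⁻¹ =
        (ww i j s * x * (ww i j s)⁻¹) * (ww i j s * y * (ww i j s)⁻¹) := by group
    rw [e]
    exact mul_mem ihx ihy
  | inv x _ ih =>
    have e : ww i j s * x⁻¹ * (ww i j s)⁻¹ = (ww i j s * x * (ww i j s)⁻¹)⁻¹ := by group
    rw [e]
    exact inv_mem ih

end Cfsg.Agent.Lib.Helper41.Stn
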