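import Cfsg.Agent.Lib.Helper41.StnDefs

set_option autoImplicit false

namespace Cfsg.Agent.Lib.Helper41.Stn

open Matrix

variable {K : Type*} [Field K] {n : ℕ}

/-- conjugation distributes over a commutator -/
theorem wpair85_conj_comm {G : Type*} [Group G] (w a b : G) :
    w * (a * b * a⁻¹ * b⁻¹) * w⁻¹ =
      (w * a * w⁻¹) * (w * b * w⁻¹) * (w * a * w⁻¹)⁻¹ * (w * b * w⁻¹)⁻¹ := by
  group

/-- there is a third index -/
theorem wpair85_exists_third (hn : 3 ≤ n) (i j : Fin n) : ∃ k : Fin n, k ≠ i ∧ k ≠ j := by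
  by_contra h
  push Not at h
  have hsub : (Finset.univ : Finset (Fin n)) ⊆ {i, j} := by
    intro k _
    by_cases hk : k = i
    · simp [hk]
    · simp [h k hk]
  have := Finset.card_le_card hsub
  have h2 : ({i, j} : Finset (Fin n)).card ≤ 2 := Finset.card_le_two
  simp at this
  omega

/-- STN-W-PAIR core: the dependencies (R3 = `xx_comm3`, STN-W-ONE) as hypotheses. -/
theorem wpair85_core
    (hcomm3 : ∀ {i j l : Fin n}, i ≠ j → j ≠ l → i ≠ l → ∀ (t u : K),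
      xx i j t * xx j l u * (xx i j t)⁻¹ * (xx j l u)⁻¹ = xx i l (t * u))
    (hone : ∀ {i j k : Fin n}, i ≠ j → k ≠ i → k ≠ j → ∀ {t : K}, t ≠ 0 → ∀ (u : K),
      ww i j t * xx i k u * (ww i j t)⁻¹ = xx j k (-t⁻¹ * u) ∧
      ww i j t * xx j k u * (ww i j t)⁻¹ = xx i k (t * u) ∧
      ww i j t * xx k i u * (ww i j t)⁻¹ = xx k j (-t * u) ∧
      ww i j t * xx k j u * (ww i j t)⁻¹ = xx k i (t⁻¹ * u))
    (hn : 3 ≤ n) {i j : Fin n} (hij : i ≠ j) {t : K} (ht : t ≠ 0) (u : K) :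
    ww i j t * xx i j u * (ww i j t)⁻¹ = xx j i (-(t ^ 2)⁻¹ * u) ∧
    ww i j t * xx j i u * (ww i j t)⁻¹ = xx i j (-t ^ 2 * u) := by
  obtain ⟨k, hki, hkj⟩ := wpair85_exists_third hn i j
  constructor
  · have h1 := hcomm3 (Ne.symm hki) hkj hij u (1 : K)
    rw [mul_one] at h1
    rw [← h1, wpair85_conj_comm]
    obtain ⟨e1, -, -, -⟩ := hone hij hki hkj ht u
    obtain ⟨-, -, -, e4⟩ := hone hij hki hkj ht (1 : K)
    rw [e1, e4, hcomm3 (Ne.symm hkj) hki (Ne.symm hij)]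
    congr 1
    field_simp
  · have h1 := hcomm3 (Ne.symm hkj) hki (Ne.symm hij) u (1 : K)
    rw [mul_one] at h1
    rw [← h1, wpair85_conj_comm]
    obtain ⟨-, e2, -, -⟩ := hone hij hki hkj ht u
    obtain ⟨-, -, e3, -⟩ := hone hij hki hkj ht (1 : K)
    rw [e2, e3, hcomm3 (Ne.symm hki) hkj hij]
    congr 1
    ring

end Cfsg.Agent.Lib.Helper41.Stn
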