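import Cfsg.Agent.Lib.Helper87.Saturation
import Cfsg.Agent.Lib.Helper85.Sylow

set_option autoImplicit false

namespace Cfsg.Agent.Lib.Helper85

open Cfsg Cfsg.FusionSystem

variable {Ω G : Type*} [Group Ω] [Group G] {S : Subgroup Ω} {T : Subgroup G}

/-- Image in `G` of a subgroup of `Ω` (through `S`) under an isomorphism `e : S ≃* T`. -/
def imE (e : S ≃* T) (P : Subgroup Ω) : Subgroup G :=
  ((P.subgroupOf S).map e.toMonoidHom).map T.subtype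

theorem mem_imE {e : S ≃* T} {P : Subgroup Ω} {y : G} :
    y ∈ imE e P ↔ ∃ x : S, (x : Ω) ∈ P ∧ ((e x : T) : G) = y := by
  constructor
  · rintro ⟨t, ⟨x, hx, rfl⟩, rfl⟩
    exact ⟨x, Subgroup.mem_subgroupOf.mp hx, rfl⟩
  · rintro ⟨x, hx, rfl⟩
    exact ⟨e x, ⟨x, Subgroup.mem_subgroupOf.mpr hx, rfl⟩, rfl⟩

theorem imE_le (e : S ≃* T) (P : Subgroup Ω) : imE e P ≤ T := by
  intro y hy
  obtain ⟨x, -, rfl⟩ := mem_imE.mp hy
  exact (e x).2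

theorem imE_mono (e : S ≃* T) {P Q : Subgroup Ω} (h : P ≤ Q) : imE e P ≤ imE e Q := by
  intro y hy
  obtain ⟨x, hx, rfl⟩ := mem_imE.mp hy
  exact mem_imE.mpr ⟨x, h hx, rfl⟩

theorem coe_mem_imE (e : S ≃* T) {P : Subgroup Ω} (hP : P ≤ S) (x : P) :
    ((e ⟨x, hP x.2⟩ : T) : G) ∈ imE e P :=
  mem_imE.mpr ⟨⟨x, hP x.2⟩, x.2, rfl⟩

/-- Preimage in `Ω` of a subgroup of `G` (through `T`). -/
def preE (e : S ≃* T) (K : Subgroup G) : Subgroup Ω :=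
  ((K.subgroupOf T).comap e.toMonoidHom).map S.subtype

theorem mem_preE {e : S ≃* T} {K : Subgroup G} {x : Ω} :
    x ∈ preE e K ↔ ∃ hx : x ∈ S, ((e ⟨x, hx⟩ : T) : G) ∈ K := by
  constructor
  · rintro ⟨s, hs, rfl⟩
    exact ⟨s.2, Subgroup.mem_subgroupOf.mp hs⟩
  · rintro ⟨hx, h⟩
    exact ⟨⟨x, hx⟩, Subgroup.mem_subgroupOf.mpr h, rfl⟩

theorem preE_le (e : S ≃* T) (K : Subgroup G) : preE e K ≤ S := by
  intro x hx
  exact (mem_preE.mp hx).1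

theorem imE_preE (e : S ≃* T) {K : Subgroup G} (hK : K ≤ T) : imE e (preE e K) = K := by
  ext y
  rw [mem_imE]
  constructor
  · rintro ⟨x, hx, rfl⟩
    obtain ⟨_, h⟩ := mem_preE.mp hx
    exact h
  · intro hy
    refine ⟨e.symm ⟨y, hK hy⟩, mem_preE.mpr ⟨(e.symm ⟨y, hK hy⟩).2, ?_⟩, ?_⟩
    · simpa using hy
    · simp

theorem preE_imE (e : S ≃* T) {P : Subgroup Ω} (hP : P ≤ S) : preE e (imE e P) = P := by
  ext x
  rw [mem_preE]
  constructor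
  · rintro ⟨hx, h⟩
    obtain ⟨x', hx', hxx'⟩ := mem_imE.mp h
    have : x' = ⟨x, hx⟩ := e.injective (Subtype.ext hxx')
    rw [this] at hx'
    exact hx'
  · intro hx
    exact ⟨hP hx, coe_mem_imE e hP ⟨x, hx⟩⟩

/-- The homomorphism `P → imE e P`. -/
def homE (e : S ≃* T) {P : Subgroup Ω} (hP : P ≤ S) : P →* imE e P :=
  ((T.subtype.comp e.toMonoidHom).comp (Subgroup.inclusion hP)).codRestrict (imE e P)
    (fun x => coe_mem_imE e hP x)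

theorem homE_bijective (e : S ≃* T) {P : Subgroup Ω} (hP : P ≤ S) :
    Function.Bijective (homE e hP) := by
  constructor
  · intro a b hab
    have h1 : ((e ⟨a, hP a.2⟩ : T) : G) = ((e ⟨b, hP b.2⟩ : T) : G) :=
      congrArg (fun z : imE e P => (z : G)) hab
    have h2 : (⟨a, hP a.2⟩ : S) = ⟨b, hP b.2⟩ := e.injective (Subtype.ext h1)
    exact Subtype.ext (congrArg (fun z : S => (z : Ω)) h2)
  · rintro ⟨y, hy⟩
    obtain ⟨x, hx, rfl⟩ := mem_imE.mp hy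
    exact ⟨⟨x, hx⟩, Subtype.ext rfl⟩

/-- The isomorphism `P ≃* imE e P` induced by `e`. -/
noncomputable def isoE (e : S ≃* T) {P : Subgroup Ω} (hP : P ≤ S) : P ≃* imE e P :=
  MulEquiv.ofBijective (homE e hP) (homE_bijective e hP)

theorem isoE_coe (e : S ≃* T) {P : Subgroup Ω} (hP : P ≤ S) (x : P) :
    ((isoE e hP x : imE e P) : G) = ((e ⟨x, hP x.2⟩ : T) : G) := rfl

theorem e_isoE_symm (e : S ≃* T) {P : Subgroup Ω} (hP : P ≤ S) (y : imE e P) :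
    ((e ⟨((isoE e hP).symm y : P), hP ((isoE e hP).symm y).2⟩ : T) : G) = y := by
  rw [← isoE_coe]
  simp

/-- Push a map `P → S` forward to a map `imE e P → T`. -/
noncomputable def pushE (e : S ≃* T) {P : Subgroup Ω} (hP : P ≤ S) (φ : P →* Ω)
    (hφ : ∀ x, φ x ∈ S) : imE e P →* G :=
  (T.subtype.comp e.toMonoidHom).comp ((φ.codRestrict S hφ).comp (isoE e hP).symm.toMonoidHom)

theorem pushE_apply (e : S ≃* T) {P : Subgroup Ω} (hP : P ≤ S) (φ : P →* Ω)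
    (hφ : ∀ x, φ x ∈ S) (x : P) :
    pushE e hP φ hφ (isoE e hP x) = ((e ⟨φ x, hφ x⟩ : T) : G) := by
  simp [pushE]

theorem pushE_mem (e : S ≃* T) {P : Subgroup Ω} (hP : P ≤ S) (φ : P →* Ω)
    (hφ : ∀ x, φ x ∈ S) (y : imE e P) : pushE e hP φ hφ y ∈ T :=
  (e _).2

/-- Pull a map `imE e P → T` back to a map `P → S`. -/
noncomputable def pullE (e : S ≃* T) {P : Subgroup Ω} (hP : P ≤ S) (φ' : imE e P →* G)
    (hφ' : ∀ y, φ' y ∈ T) : P →* Ω :=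
  (S.subtype.comp e.symm.toMonoidHom).comp ((φ'.codRestrict T hφ').comp (isoE e hP).toMonoidHom)

theorem pullE_mem (e : S ≃* T) {P : Subgroup Ω} (hP : P ≤ S) (φ' : imE e P →* G)
    (hφ' : ∀ y, φ' y ∈ T) (x : P) : pullE e hP φ' hφ' x ∈ S :=
  (e.symm _).2

theorem e_pullE (e : S ≃* T) {P : Subgroup Ω} (hP : P ≤ S) (φ' : imE e P →* G)
    (hφ' : ∀ y, φ' y ∈ T) (x : P) :
    ((e ⟨pullE e hP φ' hφ' x, pullE_mem e hP φ' hφ' x⟩ : T) : G) = φ' (isoE e hP x) := by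
  simp [pullE]

theorem pushE_pullE (e : S ≃* T) {P : Subgroup Ω} (hP : P ≤ S) (φ' : imE e P →* G)
    (hφ' : ∀ y, φ' y ∈ T) :
    pushE e hP (pullE e hP φ' hφ') (pullE_mem e hP φ' hφ') = φ' := by
  ext y
  obtain ⟨x, rfl⟩ := (isoE e hP).surjective y
  rw [pushE_apply, e_pullE]

/-- a map with the defining property of `pushE` is `pushE`. -/
theorem eq_pushE (e : S ≃* T) {P : Subgroup Ω} (hP : P ≤ S) (φ : P →* Ω)
    (hφ : ∀ x, φ x ∈ S) (φ' : imE e P →* G)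
    (h : ∀ x : P, φ' (isoE e hP x) = ((e ⟨φ x, hφ x⟩ : T) : G)) : φ' = pushE e hP φ hφ := by
  ext y
  obtain ⟨x, rfl⟩ := (isoE e hP).surjective y
  rw [pushE_apply, h]

theorem range_pushE (e : S ≃* T) {P : Subgroup Ω} (hP : P ≤ S) (φ : P →* Ω)
    (hφ : ∀ x, φ x ∈ S) : (pushE e hP φ hφ).range = imE e φ.range := by
  ext y
  rw [mem_imE]
  constructor
  · rintro ⟨z, rfl⟩
    obtain ⟨x, rfl⟩ := (isoE e hP).surjective z
    exact ⟨⟨φ x, hφ x⟩, ⟨x, rfl⟩, (pushE_apply e hP φ hφ x).symm⟩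
  · rintro ⟨s, ⟨x, hx⟩, rfl⟩
    refine ⟨isoE e hP x, ?_⟩
    rw [pushE_apply]
    congr 2
    exact Subtype.ext hx

end Cfsg.Agent.Lib.Helper85
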