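import Cfsg.Agent.Lib.Helper85.PowRing
import Cfsg.Agent.Lib.Helper85.Sylow
import Cfsg.Agent.Lib.Helper87.AGNormal
import Cfsg.Prelude.Def_PLocal

/-!
# The `p^n`-th powers of the centre of `S` are normal in a saturated fusion system of small class

If `S` has class at most `n(p-1)+1` and `F` is saturated over `S` then the subgroup generated by
the `p^n`-th powers of the elements of `Z(S)` is normal in `F`.
-/

set_option autoImplicit false

namespace Cfsg.Agent.Lib.Helper85.ZP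

open Cfsg Cfsg.FusionSystem Cfsg.Agent.Lib.Helper87 Cfsg.Agent.Lib.Helper85

variable {Ω : Type*} [Group Ω] {S : Subgroup Ω}

/-- The centre of `Q`, as a subgroup of the ambient group. -/
def ZC (Q : Subgroup Ω) : Subgroup Ω := Q ⊓ Subgroup.centralizer (Q : Set Ω)

theorem ZC_le (Q : Subgroup Ω) : ZC Q ≤ Q := inf_le_left

theorem ZC_comm (Q : Subgroup Ω) : ∀ a ∈ ZC Q, ∀ b ∈ ZC Q, a * b = b * a := by
  intro a ha b hb
  exact (ha.2 b hb.1).symm

/-- Automorphisms preserve the centre. -/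
theorem aut_mem_ZC {Q : Subgroup Ω} (α : MulAut Q) (z : Q) (hz : (z : Ω) ∈ ZC Q) :
    ((α z : Q) : Ω) ∈ ZC Q := by
  refine ⟨(α z).2, ?_⟩
  intro y hy
  have h1 : (α.symm ⟨y, hy⟩) * z = z * (α.symm ⟨y, hy⟩) := by
    apply Subtype.ext
    exact hz.2 _ (α.symm ⟨y, hy⟩).2
  have h2 := congrArg α h1
  rw [map_mul, map_mul, MulEquiv.apply_symm_apply] at h2
  exact congrArg (fun x : Q => (x : Ω)) h2

theorem powerClosure_le (p n : ℕ) (Z : Subgroup Ω) : powerClosure p n Z ≤ Z := by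
  unfold powerClosure
  rw [Subgroup.closure_le]
  rintro _ ⟨x, hx, rfl⟩
  exact Z.pow_mem hx _

/-- In an abelian subgroup, the `p^n`-th powers form a subgroup. -/
theorem mem_powerClosure_iff (p n : ℕ) (Z : Subgroup Ω) (hZ : ∀ a ∈ Z, ∀ b ∈ Z, a * b = b * a)
    (y : Ω) : y ∈ powerClosure p n Z ↔ ∃ z ∈ Z, y = z ^ (p ^ n) := by
  constructor
  · intro hy
    unfold powerClosure at hy
    refine Subgroup.closure_induction (p := fun y _ => ∃ z ∈ Z, y = z ^ (p ^ n))
      (fun y hy => hy) ⟨1, Z.one_mem, by simp⟩ ?_ ?_ hy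
    · rintro a b _ _ ⟨za, hza, rfl⟩ ⟨zb, hzb, rfl⟩
      refine ⟨za * zb, Z.mul_mem hza hzb, ?_⟩
      exact ((Commute.mul_pow (hZ za hza zb hzb) _)).symm
    · rintro a _ ⟨za, hza, rfl⟩
      exact ⟨za⁻¹, Z.inv_mem hza, by rw [inv_pow]⟩
  · rintro ⟨z, hz, rfl⟩
    exact Subgroup.subset_closure ⟨z, hz, rfl⟩

/-- For `Q` containing its centralizer in `S`, `Z(S) ≤ Z(Q)`. -/
theorem ZC_le_ZC {Q : Subgroup Ω} (hQS : Q ≤ S) (hcen : centralizerIn S Q ≤ Q) : ZC S ≤ ZC Q := by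
  intro z hz
  have h1 : z ∈ Subgroup.centralizer (Q : Set Ω) := fun y hy => hz.2 y (hQS hy)
  exact ⟨hcen ⟨hz.1, h1⟩, h1⟩

theorem isPGroup_zpowers_of_pow_mem_inn {p : ℕ} {Q : Subgroup Ω} (hQ : IsPGroup p Q)
    (x : MulAut Q) (hx : x ^ p ∈ Inn Q) : IsPGroup p (Subgroup.zpowers x) := by
  rintro ⟨y, hy⟩
  obtain ⟨i, rfl⟩ := Subgroup.mem_zpowers_iff.mp hy
  have h1 : (x ^ i) ^ p ∈ Inn Q := by
    have : (x ^ i) ^ p = (x ^ p) ^ i := by
      rw [← zpow_natCast, ← zpow_mul, mul_comm, zpow_mul, zpow_natCast]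
    rw [this]
    exact Subgroup.zpow_mem _ hx i
  obtain ⟨q, hq⟩ := h1
  obtain ⟨k, hk⟩ := hQ q
  refine ⟨k + 1, ?_⟩
  apply Subtype.ext
  show (x ^ i) ^ (p ^ (k + 1)) = 1
  rw [pow_succ', pow_mul, ← hq, ← map_pow, hk, map_one]

/-- Powers of an automorphism induced by conjugation. -/
theorem aut_pow_coe {Q : Subgroup Ω} (β : MulAut Q) (s : Ω)
    (hβ : ∀ y : Q, ((β y : Q) : Ω) = s * y * s⁻¹) (k : ℕ) (y : Q) :
    (((β ^ k) y : Q) : Ω) = s ^ k * y * (s ^ k)⁻¹ := by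
  induction k generalizing y with
  | zero => simp
  | succ k ih =>
    rw [pow_succ']
    show ((β ((β ^ k) y) : Q) : Ω) = _
    rw [hβ, ih, pow_succ']
    group

/-- An automorphism in `Aut_F(Q)` whose `p`-th power is inner fixes the `p^n`-th powers of the
elements of `Z(Q)`, when `S` has class at most `n(p-1)+1`. -/
theorem aut_fix [Finite S] {p : ℕ} [Fact p.Prime] (hS : IsPGroup p S) (F : FusionSystem S) (n : ℕ)
    (hcl : Subgroup.lowerCentralSeries S (n * (p - 1) + 1) = ⊥)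
    {Q : Subgroup Ω} (hfa : F.IsFullyAutomized p Q) (x : MulAut Q) (hxG : x ∈ F.autGroup Q)
    (hx : x ^ p ∈ Inn Q) (z : Q) (hz : (z : Ω) ∈ ZC Q) : x (z ^ (p ^ n)) = z ^ (p ^ n) := by
  have hQS : Q ≤ S := hfa.1
  have hfinQ : Finite Q := finite_of_le hQS
  have hQp : IsPGroup p Q := hS.to_le hQS
  have hxp := isPGroup_zpowers_of_pow_mem_inn hQp x hx
  have hsyl : SylIn p (autInducedBy S Q) (F.autGroup Q) := hfa.2
  have hzle : Subgroup.zpowers x ≤ F.autGroup Q := by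
    rw [Subgroup.zpowers_le]; exact hxG
  obtain ⟨m, hm, hle⟩ := hsyl.exists_conj_le hzle hxp
  have hβP : m * x * m⁻¹ ∈ autInducedBy S Q :=
    hle ⟨x, Subgroup.mem_zpowers x, rfl⟩
  obtain ⟨s, hsS, hs⟩ := (mem_autInducedBy_iff S Q _).mp hβP
  set β : MulAut Q := m * x * m⁻¹ with hβ
  have hβp : β ^ p ∈ Inn Q := by
    have : β ^ p = m * x ^ p * m⁻¹ := by
      rw [hβ]; exact conj_pow
    rw [this]
    have hn : (Inn Q).Normal := inferInstance
    exact hn.conj_mem _ hx m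
  obtain ⟨q, hq⟩ := hβp
  have key := PowRing.conj_pow_eq p Fact.out n hcl (ZC Q) ((ZC_le Q).trans hQS) (ZC_comm Q) s hsS
    (fun z' hz' => by
      have := aut_mem_ZC β ⟨z', (ZC_le Q) hz'⟩ hz'
      rwa [hs] at this)
    (fun z' hz' => by
      have h1 := aut_pow_coe β s hs p ⟨z', (ZC_le Q) hz'⟩
      rw [← h1, ← hq]
      show (q : Ω) * z' * (q : Ω)⁻¹ = z'
      rw [hz'.2 q q.2]
      group)
  -- `β` fixes the powers
  have hβfix : ∀ z' : Q, (z' : Ω) ∈ ZC Q → β (z' ^ (p ^ n)) = z' ^ (p ^ n) := by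
    intro z' hz'
    apply Subtype.ext
    rw [hs]
    exact key z' hz'
  have hxe : x = m⁻¹ * β * m := by rw [hβ]; group
  rw [hxe]
  show m⁻¹ (β (m (z ^ (p ^ n)))) = z ^ (p ^ n)
  rw [map_pow, hβfix (m z) (aut_mem_ZC m z hz), ← map_pow]
  show m.symm (m (z ^ p ^ n)) = z ^ p ^ n
  simp

theorem exists_pow_mem [Finite S] {p : ℕ} [Fact p.Prime] (hS : IsPGroup p S) {Q : Subgroup Ω}
    (hQS : Q ≤ S) (hne : Q ≠ S) : ∃ s ∈ normalizerIn S Q, s ∉ Q ∧ s ^ p ∈ Q := by
  obtain ⟨g, hgN, hgQ⟩ := exists_mem_normalizerIn_not_mem hS hQS hne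
  obtain ⟨a, ha⟩ := hS ⟨g, hgN.1⟩
  have hex : ∃ k, g ^ (p ^ k) ∈ Q := by
    refine ⟨a, ?_⟩
    have := congrArg (fun x : S => (x : Ω)) ha
    simp only [Subgroup.coe_pow, Subgroup.coe_one] at this
    rw [this]
    exact Q.one_mem
  classical
  have hk : g ^ (p ^ Nat.find hex) ∈ Q := Nat.find_spec hex
  have hk0 : Nat.find hex ≠ 0 := by
    intro h0
    rw [h0] at hk
    simp only [pow_zero, pow_one] at hk
    exact hgQ hk
  obtain ⟨j, hj⟩ : ∃ j, Nat.find hex = j + 1 := Nat.exists_eq_succ_of_ne_zero hk0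
  refine ⟨g ^ (p ^ j), Subgroup.pow_mem _ hgN _, Nat.find_min hex (by omega), ?_⟩
  rw [← pow_mul, ← pow_succ, ← hj]
  exact hk

/-- The inductive step: if the automorphisms of `Q` extending to larger subgroups preserve `W`,
then so do all of `Aut_F(Q)`. -/
theorem inv_step [Finite S] {p : ℕ} [Fact p.Prime] (hS : IsPGroup p S) (F : FusionSystem S) (n : ℕ)
    (hcl : Subgroup.lowerCentralSeries S (n * (p - 1) + 1) = ⊥)
    {Q : Subgroup Ω} (hfa : F.IsFullyAutomized p Q) (hrec : F.IsReceptive Q)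
    (hcen : centralizerIn S Q ≤ Q) (hne : Q ≠ S)
    (hext : ∀ α ∈ extSet F Q, ∀ y : Q, (y : Ω) ∈ powerClosure p n (ZC S) →
      ((α y : Q) : Ω) ∈ powerClosure p n (ZC S)) :
    ∀ α ∈ F.autGroup Q, ∀ y : Q, (y : Ω) ∈ powerClosure p n (ZC S) →
      ((α y : Q) : Ω) ∈ powerClosure p n (ZC S) := by
  have hQS : Q ≤ S := hfa.1
  have hfinQ : Finite Q := finite_of_le hQS
  have hQp : IsPGroup p Q := hS.to_le hQS
  have hPG : autInducedBy S Q ≤ F.autGroup Q := autInducedBy_le_autGroup F hQS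
  let G3 : Subgroup (MulAut Q) :=
    { carrier := {x | x ∈ F.autGroup Q ∧
        ∀ z : Q, (z : Ω) ∈ ZC Q → x (z ^ (p ^ n)) = z ^ (p ^ n)}
      one_mem' := ⟨Subgroup.one_mem _, fun z _ => rfl⟩
      mul_mem' := by
        rintro a b ⟨ha, ha'⟩ ⟨hb, hb'⟩
        refine ⟨Subgroup.mul_mem _ ha hb, fun z hz => ?_⟩
        show a (b _) = _
        rw [hb' z hz, ha' z hz]
      inv_mem' := by
        rintro a ⟨ha, ha'⟩
        refine ⟨Subgroup.inv_mem _ ha, fun z hz => ?_⟩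
        have h := ha' z hz
        conv_lhs => rw [← h]
        show a.symm (a _) = _
        simp }
  have hG3le : G3 ≤ F.autGroup Q := fun x hx => hx.1
  have hconj : ∀ g ∈ F.autGroup Q, ∀ x ∈ G3, g * x * g⁻¹ ∈ G3 := by
    intro g hg x hx
    refine ⟨Subgroup.mul_mem _ (Subgroup.mul_mem _ hg hx.1) (Subgroup.inv_mem _ hg),
      fun z hz => ?_⟩
    show g (x (g⁻¹ (z ^ (p ^ n)))) = _
    rw [map_pow, hx.2 _ (aut_mem_ZC g⁻¹ z hz), ← map_pow]
    show g (g.symm _) = _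
    simp
  have hnorm : F.autGroup Q ≤ Subgroup.normalizer (G3 : Set (MulAut Q)) := by
    intro g hg
    rw [Subgroup.mem_normalizer_iff]
    intro x
    constructor
    · exact hconj g hg x
    · intro h
      have := hconj g⁻¹ (Subgroup.inv_mem _ hg) _ h
      convert this using 1
      group
  have hsyl : SylIn p (autInducedBy S Q) (F.autGroup Q) := hfa.2
  have hsyl3 : SylIn p (autInducedBy S Q ⊓ G3) G3 := hsyl.inf_normal hPG hG3le hnorm
  obtain ⟨s₀, hs₀N, hs₀Q, hs₀p⟩ := exists_pow_mem hS hQS hne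
  set c₀ := conjAut Q s₀ hs₀N.2 with hc₀
  have hc₀P : c₀ ∈ autInducedBy S Q := conjAut_mem_autInducedBy hs₀N.1 hs₀N.2
  have hc₀p : c₀ ^ p ∈ Inn Q := by
    refine ⟨⟨s₀ ^ p, hs₀p⟩, ?_⟩
    ext y
    rw [aut_pow_coe c₀ s₀ (fun y => rfl) p y]
    rfl
  intro g hg y hy
  set x := g * c₀ * g⁻¹ with hx
  have hxG : x ∈ F.autGroup Q :=
    Subgroup.mul_mem _ (Subgroup.mul_mem _ hg (hPG hc₀P)) (Subgroup.inv_mem _ hg)
  have hxp : x ^ p ∈ Inn Q := by
    rw [hx, conj_pow]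
    exact (inferInstance : (Inn Q).Normal).conj_mem _ hc₀p g
  have hx3 : x ∈ G3 := ⟨hxG, fun z hz => aut_fix hS F n hcl hfa x hxG hxp z hz⟩
  have hzp := isPGroup_zpowers_of_pow_mem_inn hQp x hxp
  obtain ⟨k, hk, hle⟩ := hsyl3.exists_conj_le (by rw [Subgroup.zpowers_le]; exact hx3) hzp
  have hkx : k * x * k⁻¹ ∈ autInducedBy S Q := (hle ⟨x, Subgroup.mem_zpowers x, rfl⟩).1
  obtain ⟨h, hhS, hh⟩ := (mem_autInducedBy_iff S Q _).mp hkx
  have hα : k * g ∈ F.autGroup Q := Subgroup.mul_mem _ hk.1 hg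
  have hmem : k * g ∈ extSet F Q := by
    refine mem_extSet_of_conj F hrec hα hs₀N.1 hs₀N.2 hs₀Q hhS ?_
    intro y'
    have e : (k * g) (c₀ y') = (k * x * k⁻¹) ((k * g) y') := by
      have : (k * g) * c₀ = (k * x * k⁻¹) * (k * g) := by rw [hx]; group
      exact DFunLike.congr_fun this y'
    rw [e, hh]
  have h1 := hext _ hmem y hy
  obtain ⟨z, hz, hzy⟩ := (mem_powerClosure_iff p n (ZC S) (ZC_comm S) _).mp h1
  have hzQ : z ∈ ZC Q := ZC_le_ZC hQS hcen hz
  have h2 : (k * g) y = (⟨z, ZC_le Q hzQ⟩ : Q) ^ (p ^ n) := Subtype.ext hzy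
  have h3 : g y = k⁻¹ ((k * g) y) := by
    show g y = k.symm (k (g y))
    simp
  rw [h3, h2, (G3.inv_mem hk).2 _ hzQ]
  exact (mem_powerClosure_iff p n (ZC S) (ZC_comm S) _).mpr ⟨z, hz, rfl⟩

/-- Automorphisms of `S` preserve the powers of the centre. -/
theorem inv_top (p n : ℕ) (α : MulAut S) (y : S) (hy : (y : Ω) ∈ powerClosure p n (ZC S)) :
    ((α y : S) : Ω) ∈ powerClosure p n (ZC S) := by
  obtain ⟨z, hz, hzy⟩ := (mem_powerClosure_iff p n (ZC S) (ZC_comm S) _).mp hy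
  have h2 : y = (⟨z, ZC_le S hz⟩ : S) ^ (p ^ n) := Subtype.ext hzy
  rw [h2, map_pow]
  exact (mem_powerClosure_iff p n (ZC S) (ZC_comm S) _).mpr
    ⟨_, aut_mem_ZC α ⟨z, ZC_le S hz⟩ hz, rfl⟩

/-- Maps generated by automorphisms of large Alperin–Goldschmidt subgroups preserve `W`. -/
theorem genBy_inv [Finite S] {p : ℕ} (F : FusionSystem S) (n d : ℕ)
    (ih : ∀ R : Subgroup Ω, IsAG F p R → Nat.card S - Nat.card R < d →
      ∀ α ∈ F.autGroup R, ∀ y : R, (y : Ω) ∈ powerClosure p n (ZC S) →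
        ((α y : R) : Ω) ∈ powerClosure p n (ZC S))
    {M : Subgroup Ω} {φ : M →* Ω} (h : GenBy F (IsAG F p) M φ) :
    Nat.card S - Nat.card M < d → ∀ w : M, (w : Ω) ∈ powerClosure p n (ZC S) →
      φ w ∈ powerClosure p n (ZC S) := by
  induction h with
  | @aut P R hR hRS α hα hPR =>
    intro hd w hw
    have hfinR : Finite R := finite_of_le hRS
    have hcard : Nat.card P ≤ Nat.card R := Subgroup.card_le_of_le hPR
    exact ih R hR (by omega) α hα (Subgroup.inclusion hPR w) hw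
  | @comp P Q' φ ψ hφ hψ h ih1 ih2 =>
    intro hd w hw
    have hQ'S : Q' ≤ S := hom_le F hψ.mem_hom
    have hfin : Finite Q' := finite_of_le hQ'S
    have hcard : Nat.card P ≤ Nat.card Q' := by
      let f : P → Q' := fun x => ⟨φ x, h x⟩
      have hf : Function.Injective f := by
        intro a b hab
        exact F.injective_of_mem hφ.mem_hom (congrArg Subtype.val hab)
      exact Nat.card_le_card_of_injective f hf
    exact ih2 (by omega) ⟨φ w, h w⟩ (ih1 hd w hw)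

/-- Every automorphism group of an Alperin–Goldschmidt subgroup preserves `W`. -/
theorem inv_all [Finite S] {p : ℕ} [Fact p.Prime] (hS : IsPGroup p S) (F : FusionSystem S)
    (hF : F.IsSaturated p) (n : ℕ)
    (hcl : Subgroup.lowerCentralSeries S (n * (p - 1) + 1) = ⊥) :
    ∀ d : ℕ, ∀ Q : Subgroup Ω, IsAG F p Q → Nat.card S - Nat.card Q = d →
      ∀ α ∈ F.autGroup Q, ∀ y : Q, (y : Ω) ∈ powerClosure p n (ZC S) →
        ((α y : Q) : Ω) ∈ powerClosure p n (ZC S) := by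
  intro d
  induction d using Nat.strong_induction_on with
  | _ d ih =>
    intro Q hQ hd
    by_cases hQS' : Q = S
    · subst hQS'
      intro α _ y hy
      exact inv_top p n α y hy
    · have hess : F.IsEssential p Q := by
        rcases hQ with h | h
        · exact absurd h hQS'
        · exact h
      have hQS : Q ≤ S := hess.1.1
      have hfinQ : Finite Q := finite_of_le hQS
      have hfn := hess.2.1
      have hfa := (fc_fa_of_fullyNormalized hS F hF hfn).2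
      have hrec := receptive_of_fullyNormalized hS F hF hfn
      have hcen : centralizerIn S Q ≤ Q := hess.1.2 Q (isConj_refl F hQS)
      refine inv_step hS F n hcl hfa hrec hcen hQS' ?_
      rintro α ⟨Q', hQQ', φ, hφ, hφe⟩ y hy
      have hQ'S : Q' ≤ S := hom_le F hφ
      have hG := alperin_goldschmidt hS F hF Q' φ hφ
      have hlt : Nat.card Q < Nat.card Q' := card_lt_card_of_lt' hQ'S hQQ'
      have hfinQ' : Finite Q' := finite_of_le hQ'S
      have hle : Nat.card Q' ≤ Nat.card S := Subgroup.card_le_of_le hQ'S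
      have key := genBy_inv F n d
        (fun R hR hRd α' hα' y' hy' => ih _ hRd R hR rfl α' hα' y' hy') hG (by omega)
        (Subgroup.inclusion hQQ'.le y) hy
      rw [hφe] at key
      exact key

/-- **Main theorem**: the `p^n`-th powers of `Z(S)` generate a subgroup normal in `F`. -/
theorem isNormal_powerClosure [Finite S] {p : ℕ} [Fact p.Prime] (hS : IsPGroup p S)
    (F : FusionSystem S) (hF : F.IsSaturated p) (n : ℕ)
    (hcl : Subgroup.lowerCentralSeries S (n * (p - 1) + 1) = ⊥) :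
    F.IsNormal (powerClosure p n (S ⊓ Subgroup.centralizer (S : Set Ω))) := by
  refine isNormal_of_AG_invariant hS F hF ?_ ?_
  · intro R hR
    refine (powerClosure_le p n (ZC S)).trans ?_
    rcases hR with h | h
    · rw [h]; exact ZC_le S
    · exact (ZC_le_ZC h.1.1 (h.1.2 R (isConj_refl F h.1.1))).trans (ZC_le R)
  · intro R hR α hα y hy
    exact inv_all hS F hF n hcl _ R hR rfl α hα y hy

end Cfsg.Agent.Lib.Helper85.ZP
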