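import Mathlib.GroupTheory.Nilpotent
import Mathlib.GroupTheory.QuotientGroup.Basic

set_option autoImplicit false

namespace Cfsg.Agent.Lib.Helper85.ZP

open scoped commutatorElement




theorem pow_mem_ucs {G : Type*} [Group G] (e : ℕ) (he : ∀ z ∈ Subgroup.center G, z ^ e = 1) :
    ∀ j : ℕ, ∀ x ∈ Subgroup.upperCentralSeries G (j + 1), x ^ e ∈ Subgroup.upperCentralSeries G j := by
  intro j
  induction j with
  | zero =>
    intro x hx
    rw [Subgroup.upperCentralSeries_one] at hx
    rw [he x hx]
    exact Subgroup.one_mem _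
  | succ j ih =>
    intro x hx
    rw [Subgroup.mem_upperCentralSeries_succ_iff]
    intro y
    have hxy : ⁅x, y⁆ ∈ Subgroup.upperCentralSeries G (j + 1) := Subgroup.mem_upperCentralSeries_succ_iff.mp hx y
    have h1 := ih _ hxy
    obtain ⟨N, hN⟩ : ∃ N, N = Subgroup.upperCentralSeries G j := ⟨_, rfl⟩
    rw [← hN] at h1 ⊢
    have hNn : N.Normal := by rw [hN]; infer_instance
    have hcent : ∀ w : G ⧸ N, (QuotientGroup.mk' N ⁅x, y⁆) * w = w * (QuotientGroup.mk' N ⁅x, y⁆) := by
      intro w
      obtain ⟨w, rfl⟩ := QuotientGroup.mk'_surjective N w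
      have h2 : ⁅⁅x, y⁆, w⁆ ∈ N := hN ▸ Subgroup.mem_upperCentralSeries_succ_iff.mp hxy w
      have h3 : QuotientGroup.mk' N ⁅⁅x, y⁆, w⁆ = 1 := (QuotientGroup.eq_one_iff _).mpr h2
      rw [commutatorElement_def, map_mul, map_mul, map_mul, map_inv, map_inv] at h3
      have := mul_inv_eq_one.mp h3
      exact mul_inv_eq_iff_eq_mul.mp this
    set c := QuotientGroup.mk' N ⁅x, y⁆ with hc
    have hck : ∀ k : ℕ, (QuotientGroup.mk' N x) ^ k * (QuotientGroup.mk' N y) *
        ((QuotientGroup.mk' N x) ^ k)⁻¹ = c ^ k * (QuotientGroup.mk' N y) := by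
      intro k
      induction k with
      | zero => simp
      | succ k ihk =>
        have e1 : (QuotientGroup.mk' N x) ^ (k + 1) * (QuotientGroup.mk' N y) *
            ((QuotientGroup.mk' N x) ^ (k + 1))⁻¹ =
            (QuotientGroup.mk' N x) * ((QuotientGroup.mk' N x) ^ k * (QuotientGroup.mk' N y) *
            ((QuotientGroup.mk' N x) ^ k)⁻¹) * (QuotientGroup.mk' N x)⁻¹ := by
          rw [pow_succ']; group
        rw [e1, ihk]
        have hcom : Commute (c ^ k) (QuotientGroup.mk' N x) := by
          apply Commute.pow_left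
          exact hcent _
        have e2 : QuotientGroup.mk' N x * (c ^ k * QuotientGroup.mk' N y) * (QuotientGroup.mk' N x)⁻¹
            = c ^ k * (QuotientGroup.mk' N x * QuotientGroup.mk' N y * (QuotientGroup.mk' N x)⁻¹) := by
          rw [← mul_assoc, ← hcom.eq]; group
        rw [e2]
        have e3 : QuotientGroup.mk' N x * QuotientGroup.mk' N y * (QuotientGroup.mk' N x)⁻¹ =
            c * QuotientGroup.mk' N y := by
          rw [hc, commutatorElement_def, map_mul, map_mul, map_mul, map_inv, map_inv]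
          group
        rw [e3, pow_succ, mul_assoc]
    have h4 : QuotientGroup.mk' N ⁅x ^ e, y⁆ = 1 := by
      rw [commutatorElement_def, map_mul, map_mul, map_mul, map_inv, map_inv, map_pow, hck e,
        mul_assoc, mul_inv_cancel, mul_one, hc, ← map_pow]
      exact (QuotientGroup.eq_one_iff _).mpr h1
    exact (QuotientGroup.eq_one_iff _).mp h4

theorem pow_eq_one_of_mem_ucs {G : Type*} [Group G] (e : ℕ)
    (he : ∀ z ∈ Subgroup.center G, z ^ e = 1) :
    ∀ j : ℕ, ∀ x ∈ Subgroup.upperCentralSeries G j, x ^ (e ^ j) = 1 := by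
  intro j
  induction j with
  | zero =>
    intro x hx
    rw [Subgroup.upperCentralSeries_zero, Subgroup.mem_bot] at hx
    rw [hx, one_pow]
  | succ j ih =>
    intro x hx
    have h1 := pow_mem_ucs e he j x hx
    have h2 := ih _ h1
    rw [← pow_mul, ← pow_succ'] at h2
    exact h2

end Cfsg.Agent.Lib.Helper85.ZP
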