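import Cfsg.Agent.Lib.Helper85.ZPow1
import Cfsg.Agent.Lib.Helper85.ZPow2
import Mathlib.GroupTheory.Nilpotent

set_option autoImplicit false

namespace Cfsg.Agent.Lib.Helper85.ZP

open Cfsg Cfsg.FusionSystem Cfsg.Agent.Lib.Helper87 Cfsg.Agent.Lib.Helper85

variable {Ω : Type*} [Group Ω] {S : Subgroup Ω}

theorem exponent_dvd_of_core_eq_bot [Finite S] {p : ℕ} [Fact p.Prime] (hS : IsPGroup p S)
    (F : FusionSystem S) (hF : F.IsSaturated p) (n : ℕ)
    (hcl : Subgroup.lowerCentralSeries S (n * (p - 1) + 1) = ⊥) (hcore : F.core = ⊥) :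
    Monoid.exponent S ∣ p ^ (n ^ 2 * (p - 1) + n) := by
  have hW := isNormal_powerClosure hS F hF n hcl
  have hWbot : powerClosure p n (S ⊓ Subgroup.centralizer (S : Set Ω)) = ⊥ := by
    rw [eq_bot_iff, ← hcore]
    exact le_sSup hW
  have hz : ∀ z ∈ Subgroup.center S, z ^ (p ^ n) = 1 := by
    intro z hz
    have h1 : (z : Ω) ∈ S ⊓ Subgroup.centralizer (S : Set Ω) := by
      refine ⟨z.2, ?_⟩
      intro y hy
      have := Subgroup.mem_center_iff.mp hz ⟨y, hy⟩
      exact congrArg (fun x : S => (x : Ω)) this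
    have h2 : (z : Ω) ^ (p ^ n) ∈ powerClosure p n (S ⊓ Subgroup.centralizer (S : Set Ω)) :=
      Subgroup.subset_closure ⟨_, h1, rfl⟩
    rw [hWbot, Subgroup.mem_bot] at h2
    apply Subtype.ext
    exact h2
  have hl : (⊤ : Subgroup S).lowerCentralSeries (n * (p - 1) + 1) = ⊥ := by
    have h1 := Subgroup.top_subtype_lowerCentralSeries S (n * (p - 1) + 1)
    rw [hcl] at h1
    exact (Subgroup.map_eq_bot_iff_of_injective _ S.subtype_injective).mp h1
  have hu := Subgroup.lowerCentralSeries_eq_bot_iff_upperCentralSeries_eq_top.mp hl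
  apply Monoid.exponent_dvd_of_forall_pow_eq_one
  intro x
  have hx : x ∈ Subgroup.upperCentralSeries S (n * (p - 1) + 1) := by rw [hu]; exact Subgroup.mem_top x
  have h3 := pow_eq_one_of_mem_ucs (p ^ n) hz _ x hx
  rw [← pow_mul] at h3
  have e : n * (n * (p - 1) + 1) = n ^ 2 * (p - 1) + n := by ring
  rw [← e]
  exact h3

end Cfsg.Agent.Lib.Helper85.ZP
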